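import Mathlib.GroupTheory.Sylow
import Mathlib.GroupTheory.Nilpotent
import Mathlib.Algebra.Group.Subgroup.Pointwise

/-!
Small general lemmas on conjugation and normalisers used by the local-analysis statements.
-/

namespace CfsgLib.LocalEven

open Subgroup

variable {G : Type*} [Group G]

theorem mem_map_conj {H : Subgroup G} {g x : G} :
    x ∈ H.map (MulAut.conj g).toMonoidHom ↔ g⁻¹ * x * g ∈ H := by
  constructor
  · rintro ⟨y, hy, rfl⟩
    simpa [mul_assoc] using hy
  · intro h
    exact ⟨_, h, by simp [mul_assoc]⟩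

theorem conj_mem_map_conj {H : Subgroup G} {g x : G} (hx : x ∈ H) :
    g * x * g⁻¹ ∈ H.map (MulAut.conj g).toMonoidHom :=
  ⟨x, hx, by simp⟩

theorem card_map_conj (H : Subgroup G) (g : G) :
    Nat.card ↥(H.map (MulAut.conj g).toMonoidHom) = Nat.card ↥H :=
  Subgroup.card_map_of_injective (MulAut.conj g).injective

theorem mem_normalizer_of_conj_le [Finite G] {H : Subgroup G} {g : G}
    (h : H.map (MulAut.conj g).toMonoidHom ≤ H) : g ∈ Subgroup.normalizer (H : Set G) := by
  have he : H.map (MulAut.conj g).toMonoidHom = H :=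
    Subgroup.eq_of_le_of_card_ge h (card_map_conj H g).ge
  rw [Subgroup.mem_normalizer_iff]
  intro y
  constructor
  · intro hy
    exact h (conj_mem_map_conj hy)
  · intro hy
    rw [← he] at hy
    simpa [mul_assoc] using mem_map_conj.1 hy

theorem conj_mem_of_mem_normalizer {H : Subgroup G} {g x : G}
    (hg : g ∈ Subgroup.normalizer (H : Set G)) (hx : x ∈ H) : g * x * g⁻¹ ∈ H :=
  (Subgroup.mem_normalizer_iff.1 hg x).1 hx

/-- A self-normalising subgroup of a finite `p`-group is the whole group. -/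
theorem eq_of_inf_normalizer_le [Finite G] {p : ℕ} [Fact p.Prime] {H T : Subgroup G}
    (hT : IsPGroup p ↥T) (hHT : H ≤ T) (h : T ⊓ Subgroup.normalizer (H : Set G) ≤ H) : H = T := by
  refine le_antisymm hHT ?_
  rw [← Subgroup.subgroupOf_eq_top]
  have hnc : NormalizerCondition ↥T :=
    @Group.normalizerCondition_of_isNilpotent _ _ hT.isNilpotent
  by_contra hne
  have hlt := hnc (H.subgroupOf T) (lt_top_iff_ne_top.2 hne)
  refine lt_irrefl _ (hlt.trans_le ?_)
  rw [← Subgroup.subgroupOf_normalizer_eq hHT]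
  intro x hx
  exact h ⟨x.2, hx⟩

end CfsgLib.LocalEven
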