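import Mathlib
import Cfsg.Prelude.Def_Transfer
import Cfsg.Agent.Lib.LocalEven.Basic
import Cfsg.Agent.Lib.PGroup.Basic
import Cfsg.Agent.Lib.Solvable.BurnsideBasis
import Cfsg.Agent.Lib.Solvable.CoprimeAction
import Cfsg.Agent.Lib.FGS.SmallElements
import Cfsg.Agent.Lib.Transfer.Frobenius
import Cfsg.Agent.Lib.Transfer.Tate
import Cfsg.Agent.Lib.Techniques.Functor.SectionFusion

/-!
Normal `p`-complements when all subgroups of one order in a Sylow subgroup are closed in their
normalisers (`p` the smallest prime divisor).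
-/

set_option autoImplicit false

namespace CfsgLib.LocalEven.HSub

open Subgroup Cfsg
open scoped commutatorElement Pointwise

variable {G : Type*} [Group G] [Finite G] {p : ℕ} [Fact p.Prime]

/-- `E` is closed in its normaliser. -/
def IsHSub (E : Subgroup G) : Prop :=
  ∀ g : G, E.map (MulAut.conj g).toMonoidHom ⊓ normalizer (E : Set G) ≤ E

omit [Finite G] in
theorem mem_of_isHSub {E : Subgroup G} (hE : IsHSub E) {x g : G} (hx : x ∈ E)
    (hg : g * x * g⁻¹ ∈ normalizer (E : Set G)) : g * x * g⁻¹ ∈ E :=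
  hE g ⟨⟨x, hx, rfl⟩, hg⟩

/-- In a `p`-group such a subgroup is normal. -/
theorem le_normalizer_of_isHSub {E R : Subgroup G} (hE : IsHSub E) (hR : IsPGroup p ↥R) (hle : E ≤ R) :
    R ≤ normalizer (E : Set G) := by
  have h := CfsgLib.LocalEven.eq_of_inf_normalizer_le (H := R ⊓ normalizer (E : Set G)) (T := R) hR inf_le_left ?_
  · exact h ▸ inf_le_right
  · rintro r ⟨hr, hrN⟩
    refine ⟨hr, CfsgLib.LocalEven.mem_normalizer_of_conj_le ?_⟩
    rintro _ ⟨x, hx, rfl⟩
    exact mem_of_isHSub hE hx ((mem_normalizer_iff.1 hrN x).1 ⟨hle hx, le_normalizer hx⟩).2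

/-- Weak closure. -/
theorem mem_normalizer_of_conj_le_pGroup {E R : Subgroup G} (hE : IsHSub E) (hR : IsPGroup p ↥R)
    (hle : E ≤ R) {g : G} (hg : E.map (MulAut.conj g).toMonoidHom ≤ R) :
    g ∈ normalizer (E : Set G) :=
  CfsgLib.LocalEven.mem_normalizer_of_conj_le fun y hy =>
    hE g ⟨hy, le_normalizer_of_isHSub hE hR hle (hg hy)⟩

omit [Finite G] [Fact p.Prime] in
theorem isHSub_map_conj {E : Subgroup G} (hE : IsHSub E) (c : G) :
    IsHSub (E.map (MulAut.conj c).toMonoidHom) := by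
  rintro g x ⟨⟨_, ⟨e, he, rfl⟩, rfl⟩, hx⟩
  refine ⟨c⁻¹ * (g * (c * e * c⁻¹) * g⁻¹) * c, ?_, ?_⟩
  · have h2 : c⁻¹ * g * c * e * (c⁻¹ * g * c)⁻¹ = c⁻¹ * (g * (c * e * c⁻¹) * g⁻¹) * c := by group
    rw [← h2]
    refine mem_of_isHSub hE he ?_
    rw [h2, mem_normalizer_iff]
    intro y
    have h3 := mem_normalizer_iff.1 hx (c * y * c⁻¹)
    have hconj : ∀ z : G, c * z * c⁻¹ ∈ E.map (MulAut.conj c).toMonoidHom ↔ z ∈ E := fun z =>
      ⟨fun ⟨w, hw, hwz⟩ => by
        have : w = z := (MulAut.conj c).injective hwz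
        exact this ▸ hw, fun hz => ⟨z, hz, rfl⟩⟩
    rw [hconj] at h3
    rw [h3, ← hconj]
    simp only [MulEquiv.coe_toMonoidHom, MulAut.conj_apply]
    constructor <;> intro h <;> convert h using 1 <;> group
  · simp only [MulEquiv.coe_toMonoidHom, MulAut.conj_apply]
    group

omit [Finite G] [Fact p.Prime] in
theorem zmod_eq_one {n : ℕ} [Fact p.Prime] (x : ZMod p) (hx : x ≠ 0) (hn : x ^ n = 1)
    (hcop : Nat.Coprime n (p - 1)) : x = 1 := by
  have h1 : x ^ (p - 1) = 1 := ZMod.pow_card_sub_one_eq_one hx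
  have h2 := pow_gcd_eq_one.2 ⟨hn, h1⟩
  rwa [hcop, pow_one] at h2

theorem coprime_sub_one (hsm : ∀ q : ℕ, q.Prime → q ∣ Nat.card G → p ≤ q) {n : ℕ}
    (hn : n ∣ Nat.card G) : Nat.Coprime n (p - 1) := by
  refine Nat.coprime_of_dvd fun q hq hqn hqp => ?_
  have h1 := hsm q hq (hqn.trans hn)
  have h2 := (Fact.out : p.Prime).two_le
  have h3 := Nat.le_of_dvd (by omega) hqp
  omega

omit [Finite G] in
theorem mem_zpowers_sup_frattini {D : Type*} [Group D] [Finite D] (hD : IsPGroup p D) (a b : D)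
    (h : ∀ M : Subgroup D, IsCoatom M → a ∈ M → b ∈ M) : b ∈ zpowers a ⊔ frattini D := by
  set N := zpowers a ⊔ frattini D with hN
  haveI : N.Normal := CfsgLib.Solvable.normal_of_commutator_le
    ((CfsgLib.PGroup.commutator_le_frattini hD).trans le_sup_right)
  by_contra hb
  have hfr : frattini (D ⧸ N) = ⊥ := by
    refine le_bot_iff.1 (CfsgLib.Transfer.frattini_le_of_commutator_pow (p := p) ⊥ (fun x y => ?_) fun x => ?_)
    · obtain ⟨x, rfl⟩ := QuotientGroup.mk'_surjective N x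
      obtain ⟨y, rfl⟩ := QuotientGroup.mk'_surjective N y
      rw [mem_bot, ← map_commutatorElement]
      exact (QuotientGroup.eq_one_iff _).2 (mem_sup_right (CfsgLib.PGroup.commutator_le_frattini hD
        (commutator_mem_commutator (mem_top x) (mem_top y))))
    · obtain ⟨x, rfl⟩ := QuotientGroup.mk'_surjective N x
      rw [mem_bot, ← map_pow]
      exact (QuotientGroup.eq_one_iff _).2 (mem_sup_right (CfsgLib.PGroup.pow_mem_frattini hD x))
  have hb' : QuotientGroup.mk' N b ∉ frattini (D ⧸ N) := by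
    rw [hfr, mem_bot]
    exact fun h' => hb ((QuotientGroup.eq_one_iff b).1 h')
  apply hb'
  rw [frattini, Order.radical]
  simp only [Subgroup.mem_iInf]
  intro M hM
  exact h (M.comap (QuotientGroup.mk' N))
    (Subgroup.isCoatom_comap_of_surjective (QuotientGroup.mk'_surjective N) hM)
    (by
      show QuotientGroup.mk' N a ∈ M
      rw [show QuotientGroup.mk' N a = 1 from (QuotientGroup.eq_one_iff a).2 (mem_sup_left (mem_zpowers a))]
      exact one_mem M)

/-- An element fixing the maximal subgroups is trivial on the Frattini quotient. -/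
theorem trivial_mod_frattini (hsm : ∀ q : ℕ, q.Prime → q ∣ Nat.card G → p ≤ q) {D X : Subgroup G}
    (hD : IsPGroup p ↥D) (hXD : X ≤ D) {g : G} (hg : g ∈ normalizer (X : Set G))
    (hM : ∀ M : Subgroup ↥D, IsCoatom M → ∀ a b : ↥D, (a : G) ∈ X → (b : G) = g * a * g⁻¹ → a ∈ M → b ∈ M) :
    ∀ a b : ↥D, (a : G) ∈ X → (b : G) = g * a * g⁻¹ → a⁻¹ * b ∈ frattini ↥D := by
  haveI hΦn : (frattini ↥D).Normal := inferInstance
  have hgX : ∀ a : ↥D, (a : G) ∈ X → g * a * g⁻¹ ∈ X := fun a ha => (mem_normalizer_iff.1 hg _).1 ha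
  let σ : ∀ a : ↥D, (a : G) ∈ X → ↥D := fun a ha => ⟨g * a * g⁻¹, hXD (hgX a ha)⟩
  set π := QuotientGroup.mk' (frattini ↥D) with hπ
  have hΦ : ∀ a b : ↥D, (a : G) ∈ X → (b : G) = g * a * g⁻¹ → a ∈ frattini ↥D → b ∈ frattini ↥D := by
    intro a b ha hb haΦ
    rw [frattini, Order.radical]
    simp only [Subgroup.mem_iInf]
    exact fun M hMc => hM M hMc a b ha hb (frattini_le_coatom hMc haΦ)
  intro a b ha hb
  have hline : π b ∈ zpowers (π a) := by
    have h1 := mem_zpowers_sup_frattini hD a b fun M hMc => hM M hMc a b ha hb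
    have h2 := mem_map_of_mem π h1
    rwa [Subgroup.map_sup, MonoidHom.map_zpowers, hπ, QuotientGroup.map_mk'_self, sup_bot_eq] at h2
  obtain ⟨k, hk⟩ : ∃ k : ℕ, π a ^ k = π b := by
    rw [← IsOfFinOrder.mem_powers_iff_mem_zpowers (isOfFinOrder_of_finite (π a))] at hline
    exact hline
  suffices hkey : π b = π a by
    rw [← QuotientGroup.eq_one_iff]
    show π (a⁻¹ * b) = 1
    rw [map_mul, map_inv, hkey, inv_mul_cancel]
  by_cases ha1 : π a = 1
  · rw [← hk, ha1, one_pow]
  -- iterate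
  have hiter : ∀ i : ℕ, ∀ c : ↥D, (c : G) = g ^ i * a * (g ^ i)⁻¹ → (c : G) ∈ X ∧ π c = π a ^ k ^ i := by
    intro i
    induction i with
    | zero =>
      intro c hc
      have : c = a := Subtype.ext (by simpa using hc)
      rw [this, pow_zero, pow_one]
      exact ⟨ha, rfl⟩
    | succ i ih =>
      intro c hc
      have hgi : g ^ i * a * (g ^ i)⁻¹ ∈ X := (mem_normalizer_iff.1 (pow_mem hg i) _).1 ha
      obtain ⟨hcX, hc'⟩ := ih ⟨_, hXD hgi⟩ rfl
      set c' : ↥D := ⟨_, hXD hgi⟩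
      have hcc : (c : G) = g * c' * g⁻¹ := by
        rw [hc]; show _ = g * (g ^ i * a * (g ^ i)⁻¹) * g⁻¹
        rw [pow_succ']; group
      refine ⟨hcc ▸ hgX c' hcX, ?_⟩
      set φ : ↥D := (a ^ k ^ i)⁻¹ * c' with hφ
      have hφX : (φ : G) ∈ X := by
        rw [hφ, Subgroup.coe_mul, InvMemClass.coe_inv, SubmonoidClass.coe_pow]
        exact mul_mem (inv_mem (pow_mem ha _)) hcX
      have hφΦ : φ ∈ frattini ↥D := by
        rw [← QuotientGroup.eq_one_iff]
        show π φ = 1
        rw [hφ, map_mul, map_inv, map_pow, hc', inv_mul_cancel]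
      have hce : c = b ^ k ^ i * σ φ hφX := Subtype.ext (by
        rw [Subgroup.coe_mul, SubmonoidClass.coe_pow, hb, conj_pow, hcc]
        show _ = g * (a : G) ^ k ^ i * g⁻¹ * (g * φ * g⁻¹)
        rw [hφ, Subgroup.coe_mul, InvMemClass.coe_inv, SubmonoidClass.coe_pow]
        group)
      rw [hce, map_mul, map_pow, show π (σ φ hφX) = 1 from
        (QuotientGroup.eq_one_iff _).2 (hΦ φ _ hφX rfl hφΦ), mul_one, ← hk, ← pow_mul, pow_succ']
  obtain ⟨-, hn⟩ := hiter (orderOf g) a (by rw [pow_orderOf_eq_one]; group)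
  have hord : orderOf (π a) = p := by
    refine orderOf_eq_prime ?_ ha1
    rw [← map_pow]
    exact (QuotientGroup.eq_one_iff _).2 (CfsgLib.PGroup.pow_mem_frattini hD a)
  have hmod : k ^ orderOf g ≡ 1 [MOD p] := by
    have : π a ^ k ^ orderOf g = π a ^ 1 := by rw [← hn, pow_one]
    rw [pow_eq_pow_iff_modEq, hord] at this
    exact this
  have hz : ((k : ZMod p)) ^ orderOf g = 1 := by
    rw [← Nat.cast_pow, ← Nat.cast_one, ZMod.natCast_eq_natCast_iff]
    exact hmod
  have hk0 : (k : ZMod p) ≠ 0 := by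
    intro h0
    rw [h0, zero_pow (orderOf_pos g).ne'] at hz
    exact zero_ne_one hz
  have hk1 := zmod_eq_one (k : ZMod p) hk0 hz (coprime_sub_one hsm (orderOf_dvd_natCard g))
  have hk1' : k ≡ 1 [MOD p] := (ZMod.natCast_eq_natCast_iff _ _ _).1 (by rw [hk1, Nat.cast_one])
  rw [← hk]
  conv_rhs => rw [← pow_one (π a)]
  rw [pow_eq_pow_iff_modEq, hord]
  exact hk1'

/-- A `p'`-element acting trivially on the Frattini quotient of a `p`-group centralises it. -/
theorem mem_centralizer_of_trivial_mod_frattini {D : Subgroup G}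
    (hD : IsPGroup p ↥D) {g : G} (hg : g ∈ normalizer (D : Set G)) (hc : (orderOf g).Coprime p)
    (htriv : ∀ a b : ↥D, (a : G) ∈ D → (b : G) = g * a * g⁻¹ → a⁻¹ * b ∈ frattini ↥D) :
    g ∈ centralizer (D : Set G) := by
  set Φ := (frattini ↥D).map D.subtype with hΦ
  haveI hΦn : (frattini ↥D).Normal := inferInstance
  have hgΦ : zpowers g ≤ normalizer (Φ : Set G) := by
    rw [zpowers_le]
    refine CfsgLib.LocalEven.mem_normalizer_of_conj_le ?_
    rintro _ ⟨_, ⟨f, hf, rfl⟩, rfl⟩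
    set f' : ↥D := ⟨g * f * g⁻¹, (mem_normalizer_iff.1 hg _).1 f.2⟩
    refine ⟨f', ?_, rfl⟩
    have h1 := htriv f f' f.2 rfl
    have h2 : f' = f * (f⁻¹ * f') := by group
    rw [h2]
    exact mul_mem hf h1
  have hcop : (Nat.card ↥(zpowers g)).Coprime (Nat.card ↥Φ) := by
    obtain ⟨n, hn⟩ := (hD.to_le (map_subtype_le (frattini ↥D))).exists_card_eq
    rw [Nat.card_zpowers, show Nat.card ↥Φ = p ^ n from hn]
    exact hc.pow_right n
  have hstep : ∀ (i : ℕ) (a : ↥D), ⁅g ^ i, (a : G)⁆ ∈ Φ := by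
    intro i
    induction i with
    | zero =>
      intro a
      rw [pow_zero, commutatorElement_one_left]
      exact one_mem Φ
    | succ i ih =>
      intro a
      set b : ↥D := ⟨g * a * g⁻¹, (mem_normalizer_iff.1 hg _).1 a.2⟩
      have h1 : ⁅g, (a : G)⁆ ∈ Φ := by
        refine ⟨b * a⁻¹, ?_, ?_⟩
        · have h2 := htriv a b a.2 rfl
          have := hΦn.conj_mem _ h2 a
          rwa [show a * (a⁻¹ * b) * a⁻¹ = b * a⁻¹ by group] at this
        · show g * (a : G) * g⁻¹ * (a : G)⁻¹ = _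
          rw [commutatorElement_def]
      have h3 := (mem_normalizer_iff.1 (hgΦ (mem_zpowers g)) _).1 (ih a)
      rw [show ⁅g ^ (i + 1), (a : G)⁆ = g * ⁅g ^ i, (a : G)⁆ * g⁻¹ * ⁅g, (a : G)⁆ by
        rw [commutatorElement_def, commutatorElement_def, commutatorElement_def, pow_succ']; group]
      exact mul_mem h3 h1
  set C : Subgroup ↥D := (centralizer ({g} : Set G)).subgroupOf D
  have hC : C ⊔ frattini ↥D = ⊤ := by
    refine eq_top_iff.2 fun a _ => ?_
    obtain ⟨n, hn, hnc⟩ := CfsgLib.Solvable.exists_mul_mem_centralizer (zpowers g) Φ hgΦ hcop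
      (Or.inl inferInstance) (a : G) (fun h hh => by
        rw [← (isOfFinOrder_of_finite g).mem_powers_iff_mem_zpowers] at hh
        obtain ⟨i, rfl⟩ := hh
        exact hstep i a)
    obtain ⟨f, hf, rfl⟩ := hn
    rw [show a = f⁻¹ * (f * a) by group]
    exact mul_mem (mem_sup_right (inv_mem hf)) (mem_sup_left (show (f : G) * a ∈ centralizer ({g} : Set G) from
      mem_centralizer_singleton_iff.2 (mem_centralizer_iff.1 hnc g (mem_zpowers g)).symm))
  have hCt := CfsgLib.PGroup.eq_top_of_sup_frattini hC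
  refine mem_centralizer_iff.2 fun a ha => ?_
  have : (⟨a, ha⟩ : ↥D) ∈ C := hCt ▸ mem_top _
  exact mem_centralizer_singleton_iff.1 this

/-- A `p'`-element fixing all maximal subgroups of a `p`-group centralises it. -/
theorem mem_centralizer_of_maximal (hsm : ∀ q : ℕ, q.Prime → q ∣ Nat.card G → p ≤ q) {D : Subgroup G}
    (hD : IsPGroup p ↥D) {g : G} (hg : g ∈ normalizer (D : Set G)) (hc : (orderOf g).Coprime p)
    (hM : ∀ M : Subgroup ↥D, IsCoatom M → ∀ a b : ↥D, (b : G) = g * a * g⁻¹ → a ∈ M → b ∈ M) :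
    g ∈ centralizer (D : Set G) :=
  mem_centralizer_of_trivial_mod_frattini hD hg hc
    (trivial_mod_frattini hsm hD le_rfl hg fun M hMc a b _ => hM M hMc a b)

omit [Fact p.Prime] in
theorem cyclic_subgroup_invariant {C : Type*} [Group C] [Finite C] [IsCyclic C] (e : C ≃* C)
    (M : Subgroup C) {a : C} (ha : a ∈ M) : e a ∈ M := by
  classical
  haveI := Fintype.ofFinite C
  set m := Nat.card ↥M
  have hsub : (M : Set C).toFinite.toFinset ⊆ Finset.univ.filter (fun x : C => x ^ m = 1) := by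
    intro x hx
    rw [Set.Finite.mem_toFinset] at hx
    rw [Finset.mem_filter]
    exact ⟨Finset.mem_univ _, congrArg Subtype.val (pow_card_eq_one' (x := (⟨x, hx⟩ : ↥M)))⟩
  have hm : (M : Set C).toFinite.toFinset.card = m := by
    rw [← Set.ncard_eq_toFinset_card, ← Nat.card_coe_set_eq]; rfl
  have heq := Finset.eq_of_subset_of_card_le hsub
    ((IsCyclic.card_pow_eq_one_le (Nat.card_pos (α := ↥M))).trans hm.ge)
  have : e a ∈ Finset.univ.filter (fun x : C => x ^ m = 1) := by
    rw [Finset.mem_filter]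
    refine ⟨Finset.mem_univ _, ?_⟩
    rw [← map_pow, show a ^ m = 1 from congrArg Subtype.val (pow_card_eq_one' (x := (⟨a, ha⟩ : ↥M))), map_one]
  rw [← heq, Set.Finite.mem_toFinset] at this
  exact this

/-- A `p'`-element normalising a cyclic `p`-group centralises it. -/
theorem mem_centralizer_of_cyclic (hsm : ∀ q : ℕ, q.Prime → q ∣ Nat.card G → p ≤ q) {D : Subgroup G}
    (hD : IsPGroup p ↥D) [IsCyclic ↥D] {g : G} (hg : g ∈ normalizer (D : Set G))
    (hc : (orderOf g).Coprime p) : g ∈ centralizer (D : Set G) := by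
  refine mem_centralizer_of_maximal hsm hD hg hc fun M _ a b hb ha => ?_
  have hb' : b = normalizerMonoidHom D ⟨g, hg⟩ a := Subtype.ext hb
  rw [hb']
  exact cyclic_subgroup_invariant _ M ha

/-- The hypothesis: all subgroups of order `d` (and of order `4` if `d = 2`) are closed. -/
def Hyp (G : Type*) [Group G] (p d : ℕ) : Prop :=
  ∀ E : Subgroup G, IsPGroup p ↥E → (Nat.card E = d ∨ (d = 2 ∧ Nat.card E = 4)) → IsHSub E

variable {e : ℕ}

theorem invariant_maximal {R D : Subgroup G} (hH : Hyp G p (p ^ e)) (hR : IsPGroup p ↥R) (hDR : D ≤ R)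
    (hcard : Nat.card D = p ^ (e + 1)) {g : G} (hg : g ∈ normalizer (R : Set G)) :
    ∀ M : Subgroup ↥D, IsCoatom M → ∀ a b : ↥D, (b : G) = g * a * g⁻¹ → a ∈ M → b ∈ M := by
  intro M hM a b hb ha
  have hDp : IsPGroup p ↥D := hR.to_le hDR
  have h1 := CfsgLib.PGroup.index_of_isCoatom hDp hM
  have h2 := M.card_mul_index
  rw [h1, hcard, pow_succ] at h2
  have h3 : Nat.card ↥(M.map D.subtype) = p ^ e := by
    rw [card_map_of_injective D.subtype_injective]
    exact Nat.eq_of_mul_eq_mul_right (Fact.out : p.Prime).pos h2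
  have hle : M.map D.subtype ≤ R := (map_subtype_le M).trans hDR
  have hE := hH _ (hR.to_le hle) (Or.inl h3)
  have hgE := mem_normalizer_of_conj_le_pGroup hE hR hle (g := g)
    ((map_mono hle).trans (mem_normalizer_iff_map_conj_eq.1 hg).le)
  obtain ⟨c, hc, hcb⟩ := (mem_normalizer_iff.1 hgE (a : G)).1 ⟨a, ha, rfl⟩
  have : c = b := Subtype.ext (hcb.trans hb.symm)
  exact this ▸ hc

/-- A `p'`-element normalising a `p`-group of order more than `d` centralises it. -/
theorem mem_centralizer_of_lt (hsm : ∀ q : ℕ, q.Prime → q ∣ Nat.card G → p ≤ q) (he : 1 ≤ e)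
    (hH : Hyp G p (p ^ e)) {R : Subgroup G} (hR : IsPGroup p ↥R) (hlt : p ^ e < Nat.card R)
    {g : G} (hg : g ∈ normalizer (R : Set G)) (hc : (orderOf g).Coprime p) :
    g ∈ centralizer (R : Set G) := by
  have hp := (Fact.out : p.Prime)
  obtain ⟨m, hm⟩ := IsPGroup.iff_card.1 hR
  have hem : e + 1 ≤ m := by
    rw [hm] at hlt
    exact (Nat.pow_lt_pow_iff_right hp.one_lt).1 hlt
  -- fixing of small elements
  have hfix : ∀ x ∈ R, (∃ j, j ≤ e ∧ orderOf x = p ^ j) ∨ (p ^ e = 2 ∧ orderOf x = 4) → g * x = x * g := by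
    intro x hx hcase
    rcases hcase with ⟨j, hj, hxo⟩ | ⟨hd, hxo⟩
    · obtain ⟨E', hE', hxE⟩ := Sylow.exists_subgroup_card_pow_prime_le p (G := ↥R) (n := j) (m := e)
        (by rw [hm]; exact pow_dvd_pow p (by omega)) (zpowers (⟨x, hx⟩ : ↥R))
        (by rw [Nat.card_zpowers, orderOf_mk, hxo]) hj
      obtain ⟨D', hD', hED⟩ := Sylow.exists_subgroup_card_pow_prime_le p (G := ↥R) (n := e) (m := e + 1)
        (by rw [hm]; exact pow_dvd_pow p hem) E' hE' (Nat.le_succ e)
      set E := E'.map R.subtype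
      set D := D'.map R.subtype
      have hEc : Nat.card E = p ^ e := by rw [card_map_of_injective R.subtype_injective, hE']
      have hDc : Nat.card D = p ^ (e + 1) := by rw [card_map_of_injective R.subtype_injective, hD']
      have hER : E ≤ R := map_subtype_le _
      have hDR : D ≤ R := map_subtype_le _
      have hxmem : x ∈ E := ⟨⟨x, hx⟩, hxE (mem_zpowers _), rfl⟩
      have hE := hH _ (hR.to_le hER) (Or.inl hEc)
      have hgE := mem_normalizer_of_conj_le_pGroup hE hR hER (g := g)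
        ((map_mono hER).trans (mem_normalizer_iff_map_conj_eq.1 hg).le)
      by_cases hEcyc : IsCyclic ↥E
      · exact (mem_centralizer_iff.1 (mem_centralizer_of_cyclic hsm (hR.to_le hER) hgE hc) x hxmem).symm
      -- `D` is not cyclic, hence `g`-invariant
      have hDp : IsPGroup p ↥D := hR.to_le hDR
      have hDnc : ¬ IsCyclic ↥D := fun h => hEcyc (Subgroup.isCyclic_of_le (map_mono hED))
      have hgD : g ∈ normalizer (D : Set G) := by
        refine CfsgLib.LocalEven.mem_normalizer_of_conj_le ?_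
        -- two maximal subgroups generate
        obtain ⟨M₁, hM₁, hEM⟩ : ∃ M : Subgroup ↥D, IsCoatom M ∧ (E.subgroupOf D) ≤ M := by
          rcases eq_top_or_exists_le_coatom (E.subgroupOf D) with h | h
          · exfalso
            have := card_le_of_le (subgroupOf_eq_top.1 h)
            rw [hEc, hDc] at this
            exact absurd this (not_le.2 (Nat.pow_lt_pow_right hp.one_lt (Nat.lt_succ_self e)))
          · exact h
        obtain ⟨z, hz⟩ : ∃ z : ↥D, z ∉ M₁ := by
          by_contra h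
          push Not at h
          exact hM₁.1 (eq_top_iff.2 fun z _ => h z)
        obtain ⟨M₂, hM₂, hzM⟩ : ∃ M : Subgroup ↥D, IsCoatom M ∧ zpowers z ≤ M := by
          rcases eq_top_or_exists_le_coatom (zpowers z) with h | h
          · exact absurd (⟨⟨z, fun w => (h ▸ mem_top w : w ∈ zpowers z)⟩⟩ : IsCyclic ↥D) hDnc
          · exact h
        have htop : M₁ ⊔ M₂ = ⊤ := hM₁.2 _ (lt_of_le_of_ne le_sup_left fun h =>
          hz (h ▸ mem_sup_right (hzM (mem_zpowers z))))
        have key : ∀ M : Subgroup ↥D, IsCoatom M →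
            (M.map D.subtype).map (MulAut.conj g).toMonoidHom ≤ D := by
          intro M hM
          have h1 := CfsgLib.PGroup.index_of_isCoatom hDp hM
          have h2 := M.card_mul_index
          rw [h1, hDc, pow_succ] at h2
          have h3 : Nat.card ↥(M.map D.subtype) = p ^ e := by
            rw [card_map_of_injective D.subtype_injective]
            exact Nat.eq_of_mul_eq_mul_right hp.pos h2
          have hle : M.map D.subtype ≤ R := (map_subtype_le M).trans hDR
          have hgM := mem_normalizer_of_conj_le_pGroup (hH _ (hR.to_le hle) (Or.inl h3)) hR hle (g := g)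
            ((map_mono hle).trans (mem_normalizer_iff_map_conj_eq.1 hg).le)
          exact (mem_normalizer_iff_map_conj_eq.1 hgM).le.trans (map_subtype_le M)
        have hD2 : D = M₁.map D.subtype ⊔ M₂.map D.subtype := by
          rw [← Subgroup.map_sup, htop, ← MonoidHom.range_eq_map, range_subtype]
        conv_lhs => rw [hD2, Subgroup.map_sup]
        exact sup_le (key _ hM₁) (key _ hM₂)
      have h4 := mem_centralizer_of_maximal hsm hDp hgD hc (invariant_maximal hH hR hDR hDc hg)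
      exact (mem_centralizer_iff.1 h4 x (map_mono hED hxmem)).symm
    · have hcard : Nat.card ↥(zpowers x) = 4 := by rw [Nat.card_zpowers, hxo]
      have hle : zpowers x ≤ R := zpowers_le.2 hx
      have hE := hH _ (hR.to_le hle) (Or.inr ⟨hd, hcard⟩)
      have hgE := mem_normalizer_of_conj_le_pGroup hE hR hle (g := g)
        ((map_mono hle).trans (mem_normalizer_iff_map_conj_eq.1 hg).le)
      exact (mem_centralizer_iff.1 (mem_centralizer_of_cyclic hsm (hR.to_le hle) hgE hc) x (mem_zpowers x)).symm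
  set α : MulAut ↥R := normalizerMonoidHom R ⟨g, hg⟩ with hα
  have hαone : α = 1 := by
    refine CfsgLib.FGS.aut_eq_one_of_fix_small hR α ?_ fun x hx => ?_
    · refine Nat.Coprime.coprime_dvd_left (orderOf_map_dvd _ _) ?_
      rwa [orderOf_mk]
    · refine Subtype.ext ?_
      show g * (x : G) * g⁻¹ = x
      rw [mul_inv_eq_iff_eq_mul]
      refine hfix x x.2 ?_
      rcases hx with hx | ⟨hp2, hx⟩
      · rcases (Nat.dvd_prime hp).1 (orderOf_dvd_of_pow_eq_one hx) with h | h
        · exact Or.inl ⟨0, Nat.zero_le e, by rw [orderOf_coe, h, pow_zero]⟩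
        · exact Or.inl ⟨1, he, by rw [orderOf_coe, h, pow_one]⟩
      · subst hp2
        obtain ⟨j, hj, hjo⟩ := (Nat.dvd_prime_pow hp).1 (show orderOf x ∣ 2 ^ 2 from orderOf_dvd_of_pow_eq_one hx)
        by_cases hje : j ≤ e
        · exact Or.inl ⟨j, hje, by rw [orderOf_coe, hjo]⟩
        · refine Or.inr ⟨?_, ?_⟩
          · have : e = 1 := by omega
            rw [this, pow_one]
          · have : j = 2 := by omega
            rw [orderOf_coe, hjo, this]; norm_num
  refine mem_centralizer_iff.2 fun r hr => ?_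
  have h1 : (α ⟨r, hr⟩ : G) = r := by rw [hαone]; rfl
  have h2 : g * r * g⁻¹ = r := h1
  exact (mul_inv_eq_iff_eq_mul.1 h2).symm

/-- Normalisers of cyclic subgroups of order `d` have normal `p`-complements. -/
theorem hasNormalPComplement_normalizer (hsm : ∀ q : ℕ, q.Prime → q ∣ Nat.card G → p ≤ q) (he : 1 ≤ e)
    (hH : Hyp G p (p ^ e)) {X₀ : Subgroup G} [IsCyclic ↥X₀] (hX : Nat.card X₀ = p ^ e) :
    HasNormalPComplement p ↥(normalizer (X₀ : Set G)) := by
  set N := normalizer (X₀ : Set G)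
  refine CfsgLib.Transfer.hasNormalPComplement_of_frobeniusCond fun Q hQ g hg hgc => ?_
  set Qm := Q.map N.subtype with hQm
  have hQp : IsPGroup p ↥Qm := hQ.map N.subtype
  have hX0p : IsPGroup p ↥X₀ := IsPGroup.of_card hX
  have hQN : Qm ≤ N := map_subtype_le _
  have hgQ : (g : G) ∈ normalizer (Qm : Set G) := by
    refine CfsgLib.LocalEven.mem_normalizer_of_conj_le ?_
    rintro _ ⟨_, ⟨x, hx, rfl⟩, rfl⟩
    exact ⟨g * x * g⁻¹, (mem_normalizer_iff.1 hg x).1 hx, rfl⟩
  set R := Qm ⊔ X₀ with hR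
  have hRp : IsPGroup p ↥R := hQp.to_sup_of_normal_right' hX0p hQN
  have hgR : (g : G) ∈ normalizer (R : Set G) := by
    refine CfsgLib.LocalEven.mem_normalizer_of_conj_le ?_
    rw [hR, Subgroup.map_sup]
    exact sup_le_sup (mem_normalizer_iff_map_conj_eq.1 hgQ).le (mem_normalizer_iff_map_conj_eq.1 g.2).le
  have hgc' : (orderOf (g : G)).Coprime p := by rwa [orderOf_coe]
  have hcent : (g : G) ∈ centralizer (Qm : Set G) := by
    by_cases hlt : p ^ e < Nat.card R
    · exact centralizer_le (le_sup_left : Qm ≤ R) (mem_centralizer_of_lt hsm he hH hRp hlt hgR hgc')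
    · have hRX : X₀ = R := eq_of_le_of_card_ge le_sup_right (by rw [hX]; exact not_lt.1 hlt)
      haveI : IsCyclic ↥Qm := Subgroup.isCyclic_of_le (hRX ▸ le_sup_left : Qm ≤ X₀)
      exact mem_centralizer_of_cyclic hsm hQp hgQ hgc'
  exact mem_centralizer_iff.2 fun q hq => Subtype.ext (mem_centralizer_iff.1 hcent q ⟨q, hq, rfl⟩)

/-- All maximal subgroups of a Sylow subgroup are strongly closed. -/
theorem maximal_closed (hsm : ∀ q : ℕ, q.Prime → q ∣ Nat.card G → p ≤ q) (he : 1 ≤ e)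
    (hH : Hyp G p (p ^ e)) (P : Sylow p G) (hlt : p ^ e < Nat.card (P : Subgroup G))
    (M : Subgroup ↥(P : Subgroup G)) (hM : IsCoatom M) (g : G) (a b : ↥(P : Subgroup G))
    (hb : (b : G) = g * a * g⁻¹) (ha : a ∈ M) : b ∈ M := by
  have hp := (Fact.out : p.Prime)
  obtain ⟨m, hm⟩ := IsPGroup.iff_card.1 P.2
  have hem : e + 1 ≤ m := by
    rw [hm] at hlt
    exact (Nat.pow_lt_pow_iff_right hp.one_lt).1 hlt
  obtain ⟨j, hj⟩ := IsPGroup.iff_orderOf.1 P.2 a
  by_cases hje : j ≤ e
  · have hMc : Nat.card ↥M = p ^ (m - 1) := by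
      have h2 := M.card_mul_index
      rw [CfsgLib.PGroup.index_of_isCoatom P.2 hM, hm,
        show p ^ m = p ^ (m - 1) * p by rw [← pow_succ, Nat.sub_add_cancel (by omega)]] at h2
      exact Nat.eq_of_mul_eq_mul_right hp.pos h2
    obtain ⟨E', hE', haE⟩ := Sylow.exists_subgroup_card_pow_prime_le p (G := ↥M) (n := j) (m := e)
      (by rw [hMc]; exact pow_dvd_pow p (by omega)) (zpowers (⟨a, ha⟩ : ↥M))
      (by rw [Nat.card_zpowers, orderOf_mk, hj]) hje
    set E := (E'.map M.subtype).map (P : Subgroup G).subtype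
    have hEc : Nat.card E = p ^ e := by
      rw [card_map_of_injective (P : Subgroup G).subtype_injective, card_map_of_injective M.subtype_injective, hE']
    have hEP : E ≤ (P : Subgroup G) := map_subtype_le _
    have hE := hH _ (P.2.to_le hEP) (Or.inl hEc)
    have hamem : (a : G) ∈ E := ⟨a, ⟨⟨a, ha⟩, haE (mem_zpowers _), rfl⟩, rfl⟩
    obtain ⟨c, ⟨c', -, hc'⟩, hcb⟩ := mem_of_isHSub hE hamem
      (le_normalizer_of_isHSub hE P.2 hEP (hb ▸ b.2))
    have hcb' : c = b := Subtype.ext (hcb.trans hb.symm)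
    rw [← hcb', ← hc']
    exact c'.2
  · set x₀ := (a : G) ^ p ^ (j - e) with hx₀
    have hx0o : orderOf x₀ = p ^ e := by
      rw [hx₀, orderOf_pow' _ (pow_ne_zero _ hp.ne_zero), orderOf_coe, hj,
        Nat.gcd_eq_right (pow_dvd_pow p (by omega : j - e ≤ j)), Nat.pow_div (by omega) hp.pos]
      congr 1; omega
    set X₀ := zpowers x₀
    have hX : Nat.card X₀ = p ^ e := by rw [Nat.card_zpowers, hx0o]
    have hX0P : X₀ ≤ (P : Subgroup G) := zpowers_le.2 (pow_mem a.2 _)
    have hE := hH _ (P.2.to_le hX0P) (Or.inl hX)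
    have hgN : g ∈ normalizer (X₀ : Set G) := by
      refine mem_normalizer_of_conj_le_pGroup hE P.2 hX0P ?_
      rw [MonoidHom.map_zpowers, zpowers_le]
      show g * x₀ * g⁻¹ ∈ (P : Subgroup G)
      rw [hx₀, ← conj_pow, ← hb]
      exact pow_mem b.2 _
    set N := normalizer (X₀ : Set G)
    have hPN : (P : Subgroup G) ≤ N := le_normalizer_of_isHSub hE P.2 hX0P
    obtain ⟨K, hK, hKP⟩ := (CfsgLib.Transfer.hasNormalPComplement_iff_sylow (P.subtype hPN)).1
      (hasNormalPComplement_normalizer hsm he hH hX)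
    haveI := hK
    have htop : (⟨g, hgN⟩ : ↥N) ∈ K ⊔ ((P.subtype hPN : Sylow p ↥N) : Subgroup ↥N) :=
      hKP.sup_eq_top ▸ mem_top _
    obtain ⟨k, hk, u, hu, hku⟩ := mem_sup_of_normal_left.1 htop
    have huP : (u : G) ∈ (P : Subgroup G) := hu
    set u' : ↥(P : Subgroup G) := ⟨(u : G), huP⟩
    have hb' : b = u' * a * u'⁻¹ := by
      set aN : ↥N := ⟨(a : G), hPN a.2⟩
      set bN : ↥N := ⟨(b : G), hPN b.2⟩
      have hbN : bN = k * (u * aN * u⁻¹) * k⁻¹ := by
        have : bN = (k * u) * aN * (k * u)⁻¹ := by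
          rw [show k * u = ⟨g, hgN⟩ from hku]
          exact Subtype.ext hb
        rw [this]; group
      have hmem : bN * (u * aN * u⁻¹)⁻¹ ∈ K ⊓ ((P.subtype hPN : Sylow p ↥N) : Subgroup ↥N) := by
        refine ⟨?_, ?_⟩
        · rw [hbN, show k * (u * aN * u⁻¹) * k⁻¹ * (u * aN * u⁻¹)⁻¹ =
            k * ((u * aN * u⁻¹) * k⁻¹ * (u * aN * u⁻¹)⁻¹) by group]
          exact mul_mem hk (hK.conj_mem _ (inv_mem hk) _)
        · show (b : G) * ((u : G) * a * (u : G)⁻¹)⁻¹ ∈ (P : Subgroup G)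
          exact mul_mem b.2 (inv_mem (mul_mem (mul_mem huP a.2) (inv_mem huP)))
      rw [hKP.disjoint.eq_bot, mem_bot, mul_inv_eq_one] at hmem
      exact Subtype.ext (congrArg Subtype.val hmem :)
    rw [hb']
    exact (CfsgLib.PGroup.normal_of_isCoatom P.2 hM).conj_mem a ha u'

/-- The normal `p`-complement theorem. -/
theorem hasNormalPComplement_of_hyp (hsm : ∀ q : ℕ, q.Prime → q ∣ Nat.card G → p ≤ q) (he : 1 ≤ e)
    (hH : Hyp G p (p ^ e)) (P : Sylow p G) (hlt : p ^ e < Nat.card (P : Subgroup G)) :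
    HasNormalPComplement p G := by
  set S : Subgroup G := (P : Subgroup G) with hS
  let Φr : Subgroup G → G → Prop := fun A g => CfsgLib.Fusion.conjSub g A ≤ S ∧
    ∀ a b : ↥S, (a : G) ∈ A → (b : G) = g * a * g⁻¹ → a⁻¹ * b ∈ frattini ↥S
  have halp := CfsgLib.Techniques.Functor.alperin_over P Φr ⊥
    (fun {A B g} hBA h => ⟨(CfsgLib.Fusion.conjSub_mono g hBA).trans h.1,
      fun a b ha hb => h.2 a b (hBA ha) hb⟩)
    (fun {A g k} h1 h2 => by
      obtain ⟨hgA, hr1⟩ := h1
      obtain ⟨hkA, hr2⟩ := h2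
      refine ⟨by rw [← CfsgLib.Fusion.conjSub_conjSub]; exact hkA, fun a c ha hc => ?_⟩
      set b : ↥S := ⟨g * a * g⁻¹, hgA (CfsgLib.Fusion.conj_mem_conjSub ha)⟩
      have e1 := hr1 a b ha rfl
      have e2 := hr2 b c (CfsgLib.Fusion.conj_mem_conjSub ha)
        (by rw [hc]; show _ = k * (g * a * g⁻¹) * k⁻¹; group)
      rw [show a⁻¹ * c = (a⁻¹ * b) * (b⁻¹ * c) by group]
      exact mul_mem e1 e2)
    (fun X hX _ _ x hx => ⟨(CfsgLib.Fusion.conjSub_eq_iff_mem_normalizer.2 hx).le.trans hX,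
      fun a b ha hb => trivial_mod_frattini hsm P.2 hX hx
        (fun M hM a b _ hb haM => maximal_closed hsm he hH P hlt M hM x a b hb haM) a b ha hb⟩)
  have hfocal : commutator G ⊓ S ≤ (frattini ↥S).map S.subtype := by
    rw [hS, commutator_inf_eq_focalSubgroup, focalSubgroup_def, closure_le]
    rintro _ ⟨hmem, x, hx, u, rfl⟩
    set a : ↥S := (⟨x, hx⟩ : ↥S)⁻¹
    have hbS : u * x⁻¹ * u⁻¹ ∈ S := by
      have := mul_mem (S.inv_mem hx) hmem
      rwa [commutatorElement_def, show x⁻¹ * (x * u * x⁻¹ * u⁻¹) = u * x⁻¹ * u⁻¹ by group] at this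
    set b : ↥S := ⟨u * x⁻¹ * u⁻¹, hbS⟩
    have hA : zpowers x⁻¹ ≤ S := zpowers_le.2 (inv_mem hx)
    have hgA : CfsgLib.Fusion.conjSub u (zpowers x⁻¹) ≤ S := by
      rw [CfsgLib.Fusion.conjSub, MonoidHom.map_zpowers, zpowers_le]
      exact hbS
    have h := (halp (zpowers x⁻¹) u bot_le hA hgA).2 a b (mem_zpowers _) rfl
    refine ⟨a⁻¹ * b, h, ?_⟩
    show x⁻¹⁻¹ * (u * x⁻¹ * u⁻¹) = ⁅x, u⁆
    rw [commutatorElement_def]; group
  refine CfsgLib.Transfer.hasNormalPComplement_of_le_frattini P ?_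
  rintro x ⟨hxS, hxR⟩
  refine hfocal ⟨?_, hxS⟩
  have hcopA : ∀ y : G, y ∈ pResidual p G → (orderOf (Abelianization.of y)).Coprime p := by
    intro y hy
    induction hy using closure_induction with
    | mem z hz => exact Nat.Coprime.coprime_dvd_left (orderOf_map_dvd _ z) hz
    | one => rw [map_one, orderOf_one]; exact Nat.coprime_one_left p
    | mul y z _ _ iy iz =>
      rw [map_mul]
      exact Nat.Coprime.coprime_dvd_left ((Commute.all _ _).orderOf_mul_dvd_mul_orderOf) (Nat.Coprime.mul_left iy iz)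
    | inv y _ iy => rw [map_inv, orderOf_inv]; exact iy
  obtain ⟨j, hj⟩ := IsPGroup.iff_orderOf.1 P.2 ⟨x, hxS⟩
  rw [orderOf_mk] at hj
  have h2 : orderOf (Abelianization.of x) ∣ p ^ j := hj ▸ orderOf_map_dvd _ x
  have h3 := orderOf_eq_one_iff.1 (Nat.eq_one_of_dvd_coprimes ((hcopA x hxR).pow_right j) dvd_rfl h2)
  exact (QuotientGroup.eq_one_iff x).1 h3

/-- A Sylow subgroup that is cyclic. -/
theorem hasNormalPComplement_of_cyclic (hsm : ∀ q : ℕ, q.Prime → q ∣ Nat.card G → p ≤ q)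
    (P : Sylow p G) [IsCyclic ↥(P : Subgroup G)] : HasNormalPComplement p G := by
  refine CfsgLib.Transfer.hasNormalPComplement_of_frobeniusCond fun Q hQ g hg hgc => ?_
  obtain ⟨T, hT⟩ := hQ.exists_le_sylow
  obtain ⟨c, rfl⟩ := MulAction.exists_smul_eq G P T
  haveI : IsCyclic ↥((c • P : Sylow p G) : Subgroup G) := isCyclic_of_surjective _ (P.equiv (c • P)).surjective
  haveI : IsCyclic ↥Q := Subgroup.isCyclic_of_le hT
  exact mem_centralizer_of_cyclic hsm hQ hg hgc

/-- The hypothesis on one Sylow subgroup gives it on all `p`-subgroups. -/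
theorem hyp_of_sylow (P : Sylow p G) {d : ℕ}
    (h : ∀ E : Subgroup G, E ≤ (P : Subgroup G) → (Nat.card E = d ∨ (d = 2 ∧ Nat.card E = 4)) → IsHSub E) :
    Hyp G p d := by
  intro E hE hcard
  obtain ⟨T, hT⟩ := hE.exists_le_sylow
  obtain ⟨c, rfl⟩ := MulAction.exists_smul_eq G P T
  have h1 : E.map (MulAut.conj c⁻¹).toMonoidHom ≤ (P : Subgroup G) := by
    rintro _ ⟨x, hx, rfl⟩
    have := hT hx
    rw [Sylow.coe_subgroup_smul, Subgroup.mem_pointwise_smul_iff_inv_smul_mem, ← map_inv,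
      MulAut.smul_def] at this
    exact this
  have h2 := h _ h1 (by rwa [card_map_of_injective (MulAut.conj c⁻¹).injective])
  have h3 := isHSub_map_conj h2 c
  have e : (E.map (MulAut.conj c⁻¹).toMonoidHom).map (MulAut.conj c).toMonoidHom = E := by
    rw [Subgroup.map_map]
    have : ((MulAut.conj c).toMonoidHom).comp (MulAut.conj c⁻¹).toMonoidHom = MonoidHom.id G := by
      ext; simp [mul_assoc]
    rw [this, Subgroup.map_id]
  rwa [e] at h3

end CfsgLib.LocalEven.HSub
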