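import Cfsg.Agent.Lib.Cores.Components
import Cfsg.Agent.Lib.LocalEven.Basic

/-!
Groups of characteristic `p` (`C_X(O_p(X)) ≤ O_p(X)`): the `A × B` lemma, `p`-locals, subnormal subgroups.
-/

namespace CfsgLib.LocalEven

open Subgroup Cfsg CfsgLib.Cores
open scoped commutatorElement

variable {G : Type*} [Group G] {H : Type*} [Group H] {p : ℕ}

/-- `C_G(O_p(G)) ≤ O_p(G)`. -/
abbrev HasCharP (p : ℕ) (G : Type*) [Group G] : Prop :=
  Subgroup.centralizer (Cfsg.pCore p G : Set G) ≤ Cfsg.pCore p G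

theorem eq_one_of_pow_eq_one_of_pGroup {P : Subgroup G} (hP : IsPGroup p ↥P) {d : G} (hd : d ∈ P)
    {n : ℕ} (hn : n.Coprime p) (h : d ^ n = 1) : d = 1 := by
  obtain ⟨k, hk⟩ := hP ⟨d, hd⟩
  exact orderOf_eq_one_iff.1 (Nat.eq_one_of_dvd_coprimes (hn.pow_right k) (orderOf_dvd_of_pow_eq_one h)
    (orderOf_dvd_of_pow_eq_one (congrArg Subtype.val hk :)))

/-- If conjugation by a `p'`-element `x` moves `v` by an element of a `p`-group fixed by `x`, it fixes `v`. -/
theorem commute_of_conj_eq_mul {P : Subgroup G} (hP : IsPGroup p ↥P) {x v d : G} (hd : d ∈ P)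
    (hx : (orderOf x).Coprime p) (he : x * v * x⁻¹ = v * d) (hxd : x * d = d * x) : x * v = v * x := by
  have hn : ∀ n : ℕ, x ^ n * v * (x ^ n)⁻¹ = v * d ^ n := by
    intro n
    induction n with
    | zero => simp
    | succ n ih =>
      have hc : Commute x (d ^ n) := (show Commute x d from hxd).pow_right n
      calc x ^ (n + 1) * v * (x ^ (n + 1))⁻¹ = x * (x ^ n * v * (x ^ n)⁻¹) * x⁻¹ := by
            rw [pow_succ']; group
        _ = (x * v * x⁻¹) * (x * d ^ n * x⁻¹) := by rw [ih]; group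
        _ = v * d ^ (n + 1) := by rw [he, hc.eq, pow_succ']; group
  have h := hn (orderOf x)
  rw [pow_orderOf_eq_one] at h
  simp only [one_mul, inv_one, mul_one] at h
  have h1 : d = 1 := eq_one_of_pow_eq_one_of_pGroup hP hd hx
    (mul_left_cancel (a := v) (by rw [← h, mul_one]))
  rw [h1, mul_one] at he
  exact mul_inv_eq_iff_eq_mul.1 he

/-- Thompson's `A × B` lemma. -/
theorem commute_of_commute_fixed [Finite G] [Fact p.Prime] {R P : Subgroup G} (hR : IsPGroup p ↥R)
    (hP : IsPGroup p ↥P) (hRP : R ≤ Subgroup.normalizer (P : Set G)) {x : G}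
    (hx : (orderOf x).Coprime p) (hxP : x ∈ Subgroup.normalizer (P : Set G))
    (hxR : ∀ r ∈ R, x * r = r * x) (hfix : ∀ v ∈ P, (∀ r ∈ R, r * v = v * r) → x * v = v * x) :
    ∀ v ∈ P, x * v = v * x := by
  set S := R ⊔ P with hS
  have hSp : IsPGroup p ↥S := IsPGroup.to_sup_of_normal_right' hR hP hRP
  have hnil : Group.IsNilpotent ↥S := hSp.isNilpotent
  obtain ⟨m, hm⟩ := hnil.nilpotent'
  suffices h : ∀ (i : ℕ) (v : ↥S), v ∈ Subgroup.upperCentralSeries ↥S i → (v : G) ∈ P →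
      x * v = v * x from
    fun v hv => h m ⟨v, Subgroup.mem_sup_right hv⟩ (hm ▸ Subgroup.mem_top _) hv
  intro i
  induction i with
  | zero =>
    intro v hv _
    rw [Subgroup.upperCentralSeries_zero, Subgroup.mem_bot] at hv
    simp [hv]
  | succ i ih =>
    rintro ⟨v, hvS⟩ hv hvP
    change v ∈ P at hvP
    have hd : v⁻¹ * (x * v * x⁻¹) ∈ P := P.mul_mem (P.inv_mem hvP) (conj_mem_of_mem_normalizer hxP hvP)
    refine commute_of_conj_eq_mul hP hd hx (by group) (hfix _ hd ?_)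
    intro r hr
    have hcP : v * (r * v⁻¹ * r⁻¹) ∈ P :=
      P.mul_mem hvP (conj_mem_of_mem_normalizer (hRP hr) (P.inv_mem hvP))
    have hc : x * (v * (r * v⁻¹ * r⁻¹)) = v * (r * v⁻¹ * r⁻¹) * x := by
      have := ih ⁅(⟨v, hvS⟩ : ↥S), ⟨r, Subgroup.mem_sup_left hr⟩⁆
        (Subgroup.mem_upperCentralSeries_succ_iff.1 hv _)
        (by simpa [commutatorElement_def, mul_assoc] using hcP)
      simpa [commutatorElement_def, mul_assoc] using this
    set c := v * (r * v⁻¹ * r⁻¹) with hcdef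
    have h1 : r * v * r⁻¹ = c⁻¹ * v := by rw [hcdef]; group
    have h2 : r * v⁻¹ * r⁻¹ = v⁻¹ * c := by rw [hcdef]; group
    have h3 : x * c⁻¹ * x⁻¹ = c⁻¹ := by
      rw [(show Commute x c from hc).inv_right.eq]; group
    have hrx : Commute r x := (hxR r hr).symm
    have key : r * (v⁻¹ * (x * v * x⁻¹)) * r⁻¹ = v⁻¹ * (x * v * x⁻¹) := by
      calc r * (v⁻¹ * (x * v * x⁻¹)) * r⁻¹
          = (r * v⁻¹ * r⁻¹) * (r * x) * v * (x⁻¹ * r⁻¹) := by group
        _ = (r * v⁻¹ * r⁻¹) * x * (r * v * r⁻¹) * x⁻¹ := by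
            rw [hrx.eq, show x⁻¹ * r⁻¹ = r⁻¹ * x⁻¹ from hrx.inv_inv.symm.eq]; group
        _ = v⁻¹ * c * (x * c⁻¹ * x⁻¹) * (x * v * x⁻¹) := by rw [h1, h2]; group
        _ = v⁻¹ * (x * v * x⁻¹) := by rw [h3]; group
    exact mul_inv_eq_iff_eq_mul.1 key

theorem isPGroup_of_forall_coprime [Finite G] [hp : Fact p.Prime] {M : Subgroup G}
    (h : ∀ x ∈ M, (orderOf x).Coprime p → x = 1) : IsPGroup p ↥M := by
  rintro ⟨g, hg⟩
  refine ⟨(orderOf g).factorization p, Subtype.ext ?_⟩
  rw [SubmonoidClass.coe_pow, Subgroup.coe_one]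
  refine h _ (M.pow_mem hg _) ?_
  rw [orderOf_pow_of_dvd (pow_ne_zero _ hp.out.ne_zero) (Nat.ordProj_dvd _ _)]
  exact (Nat.coprime_ordCompl hp.out (orderOf_pos g).ne').symm

theorem hasCharP_of_pPrime [Finite G] [Fact p.Prime]
    (h : ∀ x : G, (orderOf x).Coprime p → (∀ v ∈ Cfsg.pCore p G, x * v = v * x) → x = 1) :
    HasCharP p G := by
  refine le_pCore (isPGroup_of_forall_coprime fun x hx hxo => h x hxo fun v hv => ?_)
  exact ((Subgroup.mem_centralizer_iff.1 hx) v hv).symm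

theorem HasCharP.eq_one [Finite G] (hG : HasCharP p G) {x : G}
    (hx : (orderOf x).Coprime p) (hc : ∀ v ∈ Cfsg.pCore p G, x * v = v * x) : x = 1 :=
  eq_one_of_pow_eq_one_of_pGroup (isPGroup_pCore p)
    (hG (Subgroup.mem_centralizer_iff.2 fun v hv => (hc v hv).symm)) hx (pow_orderOf_eq_one x)

theorem hasCharP_congr (e : G ≃* H) (hG : HasCharP p G) : HasCharP p H := by
  intro x hx
  rw [← map_pCore_equiv e] at hx ⊢
  refine ⟨e.symm x, hG (Subgroup.mem_centralizer_iff.2 fun v hv => e.injective ?_), e.apply_symm_apply x⟩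
  simpa using Subgroup.mem_centralizer_iff.1 hx _ ⟨v, hv, rfl⟩

theorem hasCharP_subgroupOf_iff {K L : Subgroup G} (h : K ≤ L) :
    HasCharP p ↥(K.subgroupOf L) ↔ HasCharP p ↥K :=
  ⟨hasCharP_congr (Subgroup.subgroupOfEquivOfLe h), hasCharP_congr (Subgroup.subgroupOfEquivOfLe h).symm⟩

theorem mem_pCore_of_mem_pCore_inf [Finite G] {K : Subgroup G} {v : G}
    (hv : v ∈ Cfsg.pCore p G) (hvK : v ∈ K) : (⟨v, hvK⟩ : ↥K) ∈ Cfsg.pCore p ↥K :=
  pCore_subgroupOf_le p K hv

/-- A subgroup normalised by `O_p` inherits characteristic `p`. -/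
theorem HasCharP.of_pCore_le_normalizer [Finite G] [Fact p.Prime] (hG : HasCharP p G) {L : Subgroup G}
    (hL : Cfsg.pCore p G ≤ Subgroup.normalizer (L : Set G)) : HasCharP p ↥L := by
  refine hasCharP_of_pPrime fun x hx hxc => Subtype.ext (hG.eq_one (by rwa [Subgroup.orderOf_coe]) ?_)
  intro v hv
  have hd : v⁻¹ * ((x : G) * v * (x : G)⁻¹) ∈ Cfsg.pCore p G :=
    mul_mem (inv_mem hv) (Subgroup.Normal.conj_mem inferInstance v hv _)
  have hdL : v⁻¹ * ((x : G) * v * (x : G)⁻¹) ∈ L := by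
    have h1 := conj_mem_of_mem_normalizer (hL (inv_mem hv)) x.2
    simpa [mul_assoc] using L.mul_mem h1 (L.inv_mem x.2)
  exact commute_of_conj_eq_mul (isPGroup_pCore p) hd (by rwa [Subgroup.orderOf_coe]) (by group)
    (congrArg Subtype.val (hxc _ (mem_pCore_of_mem_pCore_inf hd hdL)))

theorem HasCharP.of_normal [Finite G] [Fact p.Prime] (hG : HasCharP p G) (N : Subgroup G) [N.Normal] :
    HasCharP p ↥N :=
  hG.of_pCore_le_normalizer (by rw [Subgroup.normalizer_eq_top _]; exact le_top)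

theorem HasCharP.of_isSubnormal [Finite G] [Fact p.Prime] (hG : HasCharP p G) {Y : Subgroup G}
    (hY : Y.IsSubnormal) : HasCharP p ↥Y := by
  induction hY with
  | top => exact hasCharP_congr Subgroup.topEquiv.symm hG
  | step A B hAB _ hN ih =>
    exact (hasCharP_subgroupOf_iff hAB).1 (HasCharP.of_normal ih (A.subgroupOf B))

/-- Characteristic `p` passes to `p`-locals. -/
theorem HasCharP.of_local [Finite G] [Fact p.Prime] (hG : HasCharP p G) {R L : Subgroup G}
    (hR : IsPGroup p ↥R)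
    (hRx : ∀ x : ↥L, (∀ v ∈ Cfsg.pCore p ↥L, x * v = v * x) → (x : G) ∈ Subgroup.centralizer (R : Set G))
    (hPL : Cfsg.pCore p G ⊓ Subgroup.centralizer (R : Set G) ≤ L) : HasCharP p ↥L := by
  refine hasCharP_of_pPrime fun x hx hxc => Subtype.ext (hG.eq_one (by rwa [Subgroup.orderOf_coe]) ?_)
  have hn : Subgroup.normalizer (Cfsg.pCore p G : Set G) = ⊤ := Subgroup.normalizer_eq_top _
  refine commute_of_commute_fixed hR (isPGroup_pCore p) (by rw [hn]; exact le_top)
    (by rwa [Subgroup.orderOf_coe]) (by rw [hn]; trivial)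
    (fun r hr => (Subgroup.mem_centralizer_iff.1 (hRx x hxc) r hr).symm) fun v hv hvr => ?_
  have hvL : v ∈ L := hPL ⟨hv, Subgroup.mem_centralizer_iff.2 hvr⟩
  exact congrArg Subtype.val (hxc _ (mem_pCore_of_mem_pCore_inf hv hvL))

theorem HasCharP.centralizer [Finite G] [Fact p.Prime] (hG : HasCharP p G) {R : Subgroup G}
    (hR : IsPGroup p ↥R) : HasCharP p ↥(Subgroup.centralizer (R : Set G)) :=
  hG.of_local hR (fun x _ => x.2) inf_le_right

theorem HasCharP.normalizer [Finite G] [Fact p.Prime] (hG : HasCharP p G) {R : Subgroup G}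
    (hR : IsPGroup p ↥R) : HasCharP p ↥(Subgroup.normalizer (R : Set G)) := by
  refine hG.of_local hR (fun x hxc => Subgroup.mem_centralizer_iff.2 fun r hr => ?_)
    (inf_le_right.trans (Subgroup.centralizer_le_normalizer _))
  have hn : (R.subgroupOf (Subgroup.normalizer (R : Set G))).Normal :=
    (Subgroup.normal_subgroupOf_iff_le_normalizer Subgroup.le_normalizer).2 le_rfl
  have hle : R.subgroupOf (Subgroup.normalizer (R : Set G)) ≤
      Cfsg.pCore p ↥(Subgroup.normalizer (R : Set G)) :=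
    le_pCore (hR.of_equiv (Subgroup.subgroupOfEquivOfLe Subgroup.le_normalizer).symm)
  exact (congrArg Subtype.val (hxc ⟨r, Subgroup.le_normalizer hr⟩ (hle hr))).symm

theorem HasCharP.centralizer_inf [Finite G] [Fact p.Prime] {X R : Subgroup G} (hX : HasCharP p ↥X)
    (hR : IsPGroup p ↥R) (hRX : R ≤ X) :
    HasCharP p ↥(X ⊓ Subgroup.centralizer (R : Set G)) := by
  have h := hX.centralizer (hR.of_equiv (Subgroup.subgroupOfEquivOfLe hRX).symm)
  have he : Subgroup.centralizer (R.subgroupOf X : Set ↥X) =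
      (X ⊓ Subgroup.centralizer (R : Set G)).subgroupOf X := by
    ext y
    simp only [Subgroup.mem_centralizer_iff, Subgroup.mem_subgroupOf, Subgroup.mem_inf, SetLike.mem_coe,
      y.2, true_and]
    exact ⟨fun h r hr => congrArg Subtype.val (h ⟨r, hRX hr⟩ hr), fun h r hr => Subtype.ext (h r hr)⟩
  rw [he] at h
  exact (hasCharP_subgroupOf_iff inf_le_left).1 h

theorem HasCharP.not_isComponent [Finite G] [Fact p.Prime] (hG : HasCharP p G) (L : Subgroup G) :
    ¬ Cfsg.IsComponent L := fun hL => by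
  refine component_not_le_of_isSolvable hL ?_
    ((le_centralizer_iff.1 ((pCore_le_fittingSubgroup p).trans
      (le_centralizer_iff.1 (Subgroup.commutator_eq_bot_iff_le_centralizer.1
        (component_commutator_fittingSubgroup hL))))).trans hG)
  have := (isPGroup_pCore (G := G) p).isNilpotent
  infer_instance

theorem HasCharP.layer_eq_bot [Finite G] [Fact p.Prime] (hG : HasCharP p G) : Cfsg.layer G = ⊥ :=
  layer_eq_bot_iff.2 hG.not_isComponent

theorem HasCharP.pPrimeCore_eq_bot [Finite G] [Fact p.Prime] (hG : HasCharP p G) :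
    Cfsg.pPrimeCore p G = ⊥ := by
  rw [eq_bot_iff]
  intro x hx
  refine Subgroup.mem_bot.2 (hG.eq_one ?_ fun v hv => ?_)
  · exact (coprime_card_pPrimeCore p).coprime_dvd_left (Subgroup.orderOf_dvd_natCard _ hx)
  · have h := Subgroup.commutator_eq_bot_iff_le_centralizer.1 (commutator_pCore_pPrimeCore (G := G) p) hv
    exact Subgroup.mem_centralizer_iff.1 h x hx

theorem fittingSubgroup_eq_pCore_of_forall [Finite G] [Fact p.Prime]
    (h : ∀ q : ℕ, q.Prime → q ≠ p → Cfsg.pCore q G = ⊥) :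
    Cfsg.fittingSubgroup G = Cfsg.pCore p G := by
  refine le_antisymm ?_ (pCore_le_fittingSubgroup p)
  rw [fittingSubgroup_eq_iSup_pCore]
  refine iSup_le fun q => ?_
  rcases eq_or_ne (q : ℕ) p with h1 | h1
  · rw [h1]
  · rw [h q (Nat.prime_of_mem_primeFactors q.2) h1]; exact bot_le

theorem HasCharP.generalizedFittingSubgroup_eq [Finite G] [hp : Fact p.Prime] (hG : HasCharP p G) :
    Cfsg.generalizedFittingSubgroup G = Cfsg.pCore p G := by
  rw [Cfsg.generalizedFittingSubgroup, hG.layer_eq_bot, bot_sup_eq]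
  refine fittingSubgroup_eq_pCore_of_forall fun q hq hne => ?_
  have : Fact q.Prime := ⟨hq⟩
  rw [eq_bot_iff, ← hG.pPrimeCore_eq_bot]
  obtain ⟨n, hn⟩ := card_pCore_eq_pow (G := G) q
  exact le_pPrimeCore (hn ▸ ((Nat.coprime_primes hq hp.out).2 hne).pow_left n)

theorem hasCharP_iff [Finite G] [Fact p.Prime] :
    HasCharP p G ↔ Cfsg.generalizedFittingSubgroup G = Cfsg.pCore p G :=
  ⟨fun h => h.generalizedFittingSubgroup_eq, fun h => by
    have := centralizer_generalizedFittingSubgroup_le (G := G)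
    rwa [h] at this⟩

end CfsgLib.LocalEven
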