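import Cfsg.Agent.Lib.LocalEven.Isolated

/-!
Elementary coprime-action facts for one acting element.
-/

namespace CfsgLib.LocalEven

open Subgroup

variable {G : Type*} [Group G] {p : ℕ}

theorem centralizer_zpowers' (x : G) :
    Subgroup.centralizer (Subgroup.zpowers x : Set G) = Subgroup.centralizer ({x} : Set G) := by
  ext y
  simp only [Subgroup.mem_centralizer_iff, Set.mem_singleton_iff, forall_eq, SetLike.mem_coe]
  refine ⟨fun h => h x (Subgroup.mem_zpowers x), fun h z hz => ?_⟩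
  obtain ⟨i, rfl⟩ := Subgroup.mem_zpowers_iff.1 hz
  exact ((show Commute x y from h).zpow_left i).eq

/-- Fixed points of a `p`-element on `G / A`, `A` a normal `p'`-subgroup, lift to fixed points. -/
theorem exists_mul_commute [Finite G] [Fact p.Prime] {A : Subgroup G} [A.Normal]
    (hA : (Nat.card A).Coprime p) {x h : G} (hx : ∃ k : ℕ, orderOf x = p ^ k)
    (hh : h * x * h⁻¹ * x⁻¹ ∈ A) : ∃ a ∈ A, a * h * x = x * (a * h) := by
  have hdisj : ∀ y ∈ A, ∀ R : Subgroup G, IsPGroup p ↥R → y ∈ R → y = 1 := by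
    intro y hy R hR hyR
    obtain ⟨k, hk⟩ := IsPGroup.iff_orderOf.1 hR ⟨y, hyR⟩
    rw [Subgroup.orderOf_mk] at hk
    exact orderOf_eq_one_iff.1 (Nat.eq_one_of_dvd_coprimes (hA.pow_right k)
      (Subgroup.orderOf_dvd_natCard _ hy) (hk ▸ dvd_refl _))
  set X := A ⊔ Subgroup.zpowers x with hX
  have hyX : h * x * h⁻¹ ∈ X := by
    have : h * x * h⁻¹ = h * x * h⁻¹ * x⁻¹ * x := by group
    rw [this]
    exact X.mul_mem (Subgroup.mem_sup_left hh) (Subgroup.mem_sup_right (Subgroup.mem_zpowers x))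
  obtain ⟨c, hc, R, hR, hRX, h1, h2⟩ := exists_conj_common_pGroup (p := p)
    (le_sup_right : Subgroup.zpowers x ≤ X) (Subgroup.zpowers_le.2 hyX) (isPGroup_zpowers hx)
    (by rw [← conj_zpowers]; exact (isPGroup_zpowers hx).map _)
  rw [conj_zpowers, Subgroup.zpowers_le] at h2
  rw [Subgroup.zpowers_le] at h1
  obtain ⟨a, ha, s, hs, rfl⟩ := Subgroup.mem_sup_of_normal_left.1 hc
  have hsx : Commute s x := by
    obtain ⟨i, rfl⟩ := Subgroup.mem_zpowers_iff.1 hs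
    exact (Commute.refl x).zpow_left i
  refine ⟨s⁻¹ * a * s, by simpa using (inferInstance : A.Normal).conj_mem a ha s⁻¹, ?_⟩
  set y := h * x * h⁻¹ with hy
  have hd : (a * s) * y * (a * s)⁻¹ * x⁻¹ ∈ A := by
    have e : (a * s) * y * (a * s)⁻¹ * x⁻¹ = a * (s * (y * x⁻¹) * s⁻¹) * (x * a⁻¹ * x⁻¹) := by
      calc (a * s) * y * (a * s)⁻¹ * x⁻¹
          = a * (s * (y * x⁻¹) * s⁻¹) * (s * x * s⁻¹) * a⁻¹ * x⁻¹ := by group
        _ = a * (s * (y * x⁻¹) * s⁻¹) * (x * a⁻¹ * x⁻¹) := by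
            rw [show s * x * s⁻¹ = x by rw [hsx.eq]; group]; group
    rw [e]
    exact A.mul_mem (A.mul_mem ha ((inferInstance : A.Normal).conj_mem _ hh s))
      ((inferInstance : A.Normal).conj_mem _ (A.inv_mem ha) x)
  have hone := hdisj _ hd R hR (R.mul_mem h2 (R.inv_mem h1))
  have hcx : a * s * h * x = x * (a * s * h) := by
    have : a * s * y * (a * s)⁻¹ = x := mul_inv_eq_one.1 hone
    calc a * s * h * x = a * s * y * (a * s)⁻¹ * (a * s * h) := by rw [hy]; group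
      _ = x * (a * s * h) := by rw [this]
  calc s⁻¹ * a * s * h * x = s⁻¹ * (a * s * h * x) := by group
    _ = s⁻¹ * x * (a * s * h) := by rw [hcx]; group
    _ = x * (s⁻¹ * a * s * h) := by rw [hsx.inv_left.eq]; group

/-- A fixed-point-free involutory action inverts every element. -/
theorem inverts_of_fixedPointFree [Finite G] {A : Subgroup G} {z : G} (hz : z * z = 1)
    (hzA : z ∈ Subgroup.normalizer (A : Set G)) (hfix : ∀ a ∈ A, z * a = a * z → a = 1) :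
    ∀ a ∈ A, z * a * z⁻¹ = a⁻¹ := by
  let f : ↥A → ↥A := fun a =>
    ⟨(a : G)⁻¹ * (z * a * z⁻¹), A.mul_mem (A.inv_mem a.2) (conj_mem_of_mem_normalizer hzA a.2)⟩
  have hinj : Function.Injective f := by
    rintro ⟨a, ha⟩ ⟨b, hb⟩ hab
    have h : a⁻¹ * (z * a * z⁻¹) = b⁻¹ * (z * b * z⁻¹) := congrArg Subtype.val hab
    have h2 : z * (a * b⁻¹) * z⁻¹ = a * b⁻¹ := by
      calc z * (a * b⁻¹) * z⁻¹ = a * (a⁻¹ * (z * a * z⁻¹)) * (z * b * z⁻¹)⁻¹ := by group
        _ = a * (b⁻¹ * (z * b * z⁻¹)) * (z * b * z⁻¹)⁻¹ := by rw [h]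
        _ = a * b⁻¹ := by group
    exact Subtype.ext (mul_inv_eq_one.1 (hfix _ (A.mul_mem ha (A.inv_mem hb))
      (mul_inv_eq_iff_eq_mul.1 h2)))
  intro a ha
  obtain ⟨⟨b, hb⟩, hfb⟩ := (Finite.injective_iff_surjective.1 hinj) ⟨a, ha⟩
  rw [show a = b⁻¹ * (z * b * z⁻¹) from (congrArg Subtype.val hfb).symm]
  have hzi : z⁻¹ = z := inv_eq_of_mul_eq_one_right hz
  calc z * (b⁻¹ * (z * b * z⁻¹)) * z⁻¹ = (z * b⁻¹ * z⁻¹) * (z * z) * b * (z * z)⁻¹ := by group
    _ = (b⁻¹ * (z * b * z⁻¹))⁻¹ := by rw [hz]; group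

theorem commute_of_inverted {A : Subgroup G} {z : G} (h : ∀ a ∈ A, z * a * z⁻¹ = a⁻¹) :
    ∀ a ∈ A, ∀ b ∈ A, a * b = b * a := by
  intro a ha b hb
  have : (a * b)⁻¹ = a⁻¹ * b⁻¹ := by
    rw [← h _ (A.mul_mem ha hb), ← h a ha, ← h b hb]; group
  exact mul_inv_eq_one.1 (by
    calc a * b * (b * a)⁻¹ = (a * b) * (a⁻¹ * b⁻¹) := by group
      _ = 1 := by rw [← this]; group)

end CfsgLib.LocalEven
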