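import Cfsg.Prelude.Def_EvenType
import Mathlib.GroupTheory.Sylow

/-!
Basic facts about strongly p-embedded subgroups (`Cfsg.IsStronglyPEmbedded`).
-/

namespace CfsgLib.LocalEven

open Subgroup Cfsg

variable {G : Type*} [Group G] {p : ℕ}

theorem exists_orderOf_eq_prime [Finite G] [hp : Fact p.Prime] {Q : Subgroup G} (hQ : IsPGroup p Q)
    (hQ1 : Q ≠ ⊥) : ∃ x ∈ Q, orderOf x = p := by
  obtain ⟨n, hn⟩ := IsPGroup.iff_card.mp hQ
  have hn0 : n ≠ 0 := by
    rintro rfl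
    exact hQ1 (Subgroup.card_eq_one.mp (by simpa using hn))
  obtain ⟨x, hx⟩ := exists_prime_orderOf_dvd_card' (G := Q) p (hn ▸ dvd_pow_self p hn0)
  exact ⟨x, x.2, by rw [Subgroup.orderOf_coe, hx]⟩

theorem not_pRankLE_zero_iff [Finite G] [hp : Fact p.Prime] {Q : Subgroup G} (hQ : IsPGroup p Q) :
    ¬ PRankLE p 0 Q ↔ Q ≠ ⊥ := by
  constructor
  · rintro h rfl
    refine h fun A _ _ => ?_
    simp
  · intro hQ1 h
    obtain ⟨x, hx, hxp⟩ := exists_orderOf_eq_prime hQ hQ1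
    have hpow : ∀ a ∈ Subgroup.zpowers (⟨x, hx⟩ : Q), a ^ p = 1 := by
      intro a ha
      refine orderOf_dvd_iff_pow_eq_one.mp ?_
      refine (orderOf_dvd_of_mem_zpowers ha).trans ?_
      rw [Subgroup.orderOf_mk, hxp]
    have hle := h (Subgroup.zpowers (⟨x, hx⟩ : Q)) inferInstance hpow
    rw [Nat.card_zpowers, Subgroup.orderOf_mk, hxp, pow_zero] at hle
    exact absurd hp.out.one_lt (not_lt.mpr hle)

theorem centralizer_singleton_le_normalizer (x : G) :
    Subgroup.centralizer ({x} : Set G) ≤ Subgroup.normalizer (Subgroup.zpowers x : Set G) := by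
  intro g hg
  have hgx : x * g = g * x := Subgroup.mem_centralizer_iff.mp hg x rfl
  rw [Subgroup.mem_normalizer_iff]
  intro y
  constructor
  · intro hy
    obtain ⟨k, rfl⟩ := Subgroup.mem_zpowers_iff.mp hy
    have : g * x ^ k * g⁻¹ = x ^ k := by
      rw [← ((Commute.zpow_left (show Commute x g from hgx) k).eq), mul_inv_cancel_right]
    rw [this]
    exact Subgroup.zpow_mem_zpowers x k
  · intro hy
    obtain ⟨k, hk⟩ := Subgroup.mem_zpowers_iff.mp hy
    have hc : Commute (x ^ k) g := Commute.zpow_left (show Commute x g from hgx) k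
    have : y = x ^ k := by
      rw [← mul_right_inj g, ← mul_left_inj g⁻¹, ← hk, ← hc.eq, mul_inv_cancel_right]
    rw [this]
    exact Subgroup.zpow_mem_zpowers x k

theorem isPGroup_zpowers_of_orderOf [Finite G] {x : G} {k : ℕ} (hx : orderOf x = p ^ k) :
    IsPGroup p (Subgroup.zpowers x) :=
  IsPGroup.of_card (n := k) (by rw [Nat.card_zpowers, hx])

theorem map_conj_mem_iff {g x : G} {K : Subgroup G} :
    x ∈ K.map (MulAut.conj g).toMonoidHom ↔ g⁻¹ * x * g ∈ K := by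
  rw [Subgroup.mem_map_equiv, MulAut.conj_symm_apply]

/-- The key criterion: if `H` contains the centralizers of its elements of order `p` and the
normalizer of a nontrivial Sylow `p`-subgroup `P`, then `g x g⁻¹ ∈ H` forces `g ∈ H`. -/
theorem mem_of_conj_mem_of_centralizer_le [Finite G] [hp : Fact p.Prime] {H : Subgroup G}
    (P : Sylow p G) (hPH : Subgroup.normalizer ((P : Subgroup G) : Set G) ≤ H)
    (hC : ∀ x ∈ H, orderOf x = p → Subgroup.centralizer ({x} : Set G) ≤ H)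
    {x g : G} (hx : x ∈ H) (hxp : orderOf x = p) (hg : g * x * g⁻¹ ∈ H) : g ∈ H := by
  have hPle : (P : Subgroup G) ≤ H := Subgroup.le_normalizer.trans hPH
  -- move `x` into `P` by an element of `H`
  obtain ⟨h, hh, hxP⟩ : ∃ h ∈ H, h * x * h⁻¹ ∈ (P : Subgroup G) := by
    have hz : IsPGroup p (Subgroup.zpowers (⟨x, hx⟩ : H)) :=
      isPGroup_zpowers_of_orderOf (k := 1) (by rw [Subgroup.orderOf_mk, hxp, pow_one])
    obtain ⟨T, hT⟩ := hz.exists_le_sylow
    obtain ⟨h, hhT⟩ := MulAction.exists_smul_eq H T (P.subtype hPle)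
    refine ⟨h, h.2, ?_⟩
    have hmem : (MulAut.conj h) (⟨x, hx⟩ : H) ∈ (h • T : Sylow p H) := by
      rw [← SetLike.mem_coe, Sylow.smul_def]
      exact Set.smul_mem_smul_set (hT (Subgroup.mem_zpowers _))
    rw [hhT] at hmem
    exact hmem
  set g' := g * h⁻¹ with hg'
  set x' := h * x * h⁻¹ with hx'
  have hy : g' * x' * g'⁻¹ = g * x * g⁻¹ := by rw [hg', hx']; group
  have hyp : orderOf (g * x * g⁻¹) = p := by
    rw [← hxp, ← MulAut.conj_apply]; exact MulEquiv.orderOf_eq _ _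
  suffices hg'H : g' ∈ H by
    simpa [hg'] using H.mul_mem hg'H hh
  have hP1 : (P : Subgroup G) ≠ ⊥ := by
    intro hbot
    rw [hbot, Subgroup.mem_bot] at hxP
    rw [hx', conj_eq_one_iff] at hxP
    have hx1 : x = 1 := hxP
    rw [hx1, orderOf_one] at hxp
    exact hp.out.ne_one hxp.symm
  obtain ⟨z0, hz0, hz0p⟩ : ∃ z : G, (z ∈ (P : Subgroup G) ∧ ∀ s ∈ (P : Subgroup G), s * z = z * s) ∧
      orderOf z = p := by
    have : Nontrivial (P : Subgroup G) := (Subgroup.nontrivial_iff_ne_bot _).mpr hP1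
    have hZ : Subgroup.center (P : Subgroup G) ≠ ⊥ :=
      (Subgroup.nontrivial_iff_ne_bot _).mp P.2.center_nontrivial
    obtain ⟨z, hz, hzp⟩ := exists_orderOf_eq_prime (P.2.to_subgroup _) hZ
    exact ⟨(z : G), ⟨z.2, fun s hs => congrArg Subtype.val (Subgroup.mem_center_iff.mp hz ⟨s, hs⟩)⟩,
      by rw [Subgroup.orderOf_coe, hzp]⟩
  have hzy : g' * z0 * g'⁻¹ ∈ H := by
    refine hC _ hg hyp ?_
    rw [Subgroup.mem_centralizer_iff]
    intro a ha
    rw [Set.mem_singleton_iff] at ha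
    rw [ha, ← hy]
    have := hz0.2 x' hxP
    calc g' * x' * g'⁻¹ * (g' * z0 * g'⁻¹) = g' * (x' * z0) * g'⁻¹ := by group
      _ = g' * (z0 * x') * g'⁻¹ := by rw [this]
      _ = g' * z0 * g'⁻¹ * (g' * x' * g'⁻¹) := by group
  have hPg : ∀ s ∈ (P : Subgroup G), g' * s * g'⁻¹ ∈ H := by
    intro s hs
    refine hC _ hzy (by rw [← hz0p, ← MulAut.conj_apply]; exact MulEquiv.orderOf_eq _ _) ?_
    rw [Subgroup.mem_centralizer_iff]
    intro a ha
    rw [Set.mem_singleton_iff] at ha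
    rw [ha]
    have := hz0.2 s hs
    calc g' * z0 * g'⁻¹ * (g' * s * g'⁻¹) = g' * (z0 * s) * g'⁻¹ := by group
      _ = g' * (s * z0) * g'⁻¹ := by rw [this]
      _ = g' * s * g'⁻¹ * (g' * z0 * g'⁻¹) := by group
  have hle : ((g' • P : Sylow p G) : Subgroup G) ≤ H := by
    rw [Sylow.smul_def]
    rintro u hu
    obtain ⟨s, hs, rfl⟩ := hu
    exact hPg s hs
  obtain ⟨k, hk⟩ := MulAction.exists_smul_eq H ((g' • P : Sylow p G).subtype hle) (P.subtype hPle)
  rw [Sylow.smul_subtype] at hk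
  have hkP := Sylow.subtype_injective hk
  have hkN : (k : G) * g' ∈ Subgroup.normalizer ((P : Subgroup G) : Set G) := by
    refine (Sylow.smul_eq_iff_mem_normalizer (P := P)).mp ?_
    rw [mul_smul]
    exact hkP
  have := H.mul_mem (H.inv_mem k.2) (hPH hkN)
  simpa using this

theorem normalizer_le_of_centralizer_le [Finite G] [hp : Fact p.Prime] {H : Subgroup G}
    (P : Sylow p G) (hPH : Subgroup.normalizer ((P : Subgroup G) : Set G) ≤ H)
    (hC : ∀ x ∈ H, orderOf x = p → Subgroup.centralizer ({x} : Set G) ≤ H)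
    {Q : Subgroup G} (hQH : Q ≤ H) (hQ : IsPGroup p Q) (hQ1 : Q ≠ ⊥) :
    Subgroup.normalizer (Q : Set G) ≤ H := by
  intro g hg
  obtain ⟨x, hx, hxp⟩ := exists_orderOf_eq_prime hQ hQ1
  exact mem_of_conj_mem_of_centralizer_le P hPH hC (hQH hx) hxp
    (hQH ((Subgroup.mem_normalizer_iff.mp hg x).mp hx))

theorem isStronglyPEmbedded_of_centralizer_le [Finite G] [hp : Fact p.Prime] {H : Subgroup G}
    (hdvd : p ∣ Nat.card G) (hne : H ≠ ⊤)
    (P : Sylow p G) (hPH : Subgroup.normalizer ((P : Subgroup G) : Set G) ≤ H)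
    (hC : ∀ x ∈ H, orderOf x = p → Subgroup.centralizer ({x} : Set G) ≤ H) :
    IsStronglyPEmbedded p H := by
  refine ⟨hdvd, hne, P, iSup_le fun Q => ?_⟩
  obtain ⟨Q, hQP, hQr⟩ := Q
  have hQ : IsPGroup p Q := P.2.to_le hQP
  exact normalizer_le_of_centralizer_le P hPH hC (hQP.trans (Subgroup.le_normalizer.trans hPH)) hQ
    ((not_pRankLE_zero_iff hQ).mp hQr)

section spe

variable [Finite G] [hp : Fact p.Prime] {H : Subgroup G}

theorem IsStronglyPEmbedded.exists_sylow (hH : IsStronglyPEmbedded p H) :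
    ∃ P : Sylow p G, (P : Subgroup G) ≠ ⊥ ∧ (P : Subgroup G) ≤ H ∧
      ∀ Q : Subgroup G, Q ≤ (P : Subgroup G) → Q ≠ ⊥ → Subgroup.normalizer (Q : Set G) ≤ H := by
  obtain ⟨hd, _, P, hP⟩ := hH
  have hN : ∀ Q : Subgroup G, Q ≤ (P : Subgroup G) → Q ≠ ⊥ → Subgroup.normalizer (Q : Set G) ≤ H := by
    intro Q hQP hQ1
    refine le_trans ?_ hP
    exact le_iSup (fun Q : {Q : Subgroup G // Q ≤ (P : Subgroup G) ∧ ¬ PRankLE p (1 - 1) Q} =>
      Subgroup.normalizer ((Q : Subgroup G) : Set G))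
      ⟨Q, hQP, by simpa using (not_pRankLE_zero_iff (P.2.to_le hQP)).mpr hQ1⟩
  have hP1 := P.ne_bot_of_dvd_card hd
  exact ⟨P, hP1, Subgroup.le_normalizer.trans (hN _ le_rfl hP1), hN⟩

theorem IsStronglyPEmbedded.normalizer_le (hH : IsStronglyPEmbedded p H) {Q : Subgroup G}
    (hQH : Q ≤ H) (hQ : IsPGroup p Q) (hQ1 : Q ≠ ⊥) : Subgroup.normalizer (Q : Set G) ≤ H := by
  obtain ⟨P, hP1, hPle, hN⟩ := IsStronglyPEmbedded.exists_sylow hH
  refine normalizer_le_of_centralizer_le P (hN _ le_rfl hP1) ?_ hQH hQ hQ1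
  intro x hx hxp
  have hz : IsPGroup p (Subgroup.zpowers (⟨x, hx⟩ : H)) :=
    isPGroup_zpowers_of_orderOf (k := 1) (by rw [Subgroup.orderOf_mk, hxp, pow_one])
  obtain ⟨T, hT⟩ := hz.exists_le_sylow
  obtain ⟨h, hhT⟩ := MulAction.exists_smul_eq H T (P.subtype hPle)
  have hxP : (h : G) * x * (h : G)⁻¹ ∈ (P : Subgroup G) := by
    have hmem : (MulAut.conj h) (⟨x, hx⟩ : H) ∈ (h • T : Sylow p H) := by
      rw [← SetLike.mem_coe, Sylow.smul_def]
      exact Set.smul_mem_smul_set (hT (Subgroup.mem_zpowers _))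
    rw [hhT] at hmem
    exact hmem
  intro c hc
  have hcx : x * c = c * x := Subgroup.mem_centralizer_iff.mp hc x rfl
  have hne : Subgroup.zpowers ((h : G) * x * (h : G)⁻¹) ≠ ⊥ := by
    rw [Ne, Subgroup.zpowers_eq_bot]
    intro h1
    rw [conj_eq_one_iff] at h1
    rw [h1, orderOf_one] at hxp
    exact hp.out.ne_one hxp.symm
  have hmem : (h : G) * c * (h : G)⁻¹ ∈ H := by
    refine hN _ (Subgroup.zpowers_le.mpr hxP) hne (centralizer_singleton_le_normalizer _ ?_)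
    rw [Subgroup.mem_centralizer_iff]
    intro a ha
    rw [Set.mem_singleton_iff] at ha
    subst ha
    calc (h : G) * x * (h : G)⁻¹ * ((h : G) * c * (h : G)⁻¹) = (h : G) * (x * c) * (h : G)⁻¹ := by group
      _ = (h : G) * (c * x) * (h : G)⁻¹ := by rw [hcx]
      _ = (h : G) * c * (h : G)⁻¹ * ((h : G) * x * (h : G)⁻¹) := by group
  have := H.mul_mem (H.mul_mem (H.inv_mem h.2) hmem) h.2
  simpa [mul_assoc] using this

theorem IsStronglyPEmbedded.centralizer_le (hH : IsStronglyPEmbedded p H) {x : G} (hx : x ∈ H)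
    {k : ℕ} (hxk : orderOf x = p ^ k) (hx1 : x ≠ 1) : Subgroup.centralizer ({x} : Set G) ≤ H :=
  (centralizer_singleton_le_normalizer x).trans
    (IsStronglyPEmbedded.normalizer_le hH (Subgroup.zpowers_le.mpr hx) (isPGroup_zpowers_of_orderOf hxk)
      (Subgroup.zpowers_ne_bot.mpr hx1))

/-- `H` meets its conjugates in `p'`-subgroups. -/
theorem IsStronglyPEmbedded.mem_of_conj_mem (hH : IsStronglyPEmbedded p H) {x g : G} (hx : x ∈ H)
    {k : ℕ} (hxk : orderOf x = p ^ k) (hx1 : x ≠ 1) (hg : g * x * g⁻¹ ∈ H) : g ∈ H := by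
  obtain ⟨P, hP1, hPle, hN⟩ := IsStronglyPEmbedded.exists_sylow hH
  obtain ⟨y, hy, hyp⟩ := exists_orderOf_eq_prime (isPGroup_zpowers_of_orderOf hxk)
    (Subgroup.zpowers_ne_bot.mpr hx1)
  have hyH : y ∈ H := Subgroup.zpowers_le.mpr hx hy
  have hgy : g * y * g⁻¹ ∈ H := by
    obtain ⟨n, rfl⟩ := Subgroup.mem_zpowers_iff.mp hy
    rw [← conj_zpow]
    exact H.zpow_mem hg n
  refine mem_of_conj_mem_of_centralizer_le P (hN _ le_rfl hP1) ?_ hyH hyp hgy
  intro z hz hzp
  refine IsStronglyPEmbedded.centralizer_le hH hz (k := 1) (by rw [pow_one, hzp]) ?_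
  rintro rfl
  rw [orderOf_one] at hzp
  exact hp.out.ne_one hzp.symm

/-- A `p`-subgroup meeting `H` nontrivially lies in `H`. -/
theorem IsStronglyPEmbedded.pgroup_le (hH : IsStronglyPEmbedded p H) {R : Subgroup G}
    (hR : IsPGroup p R) (hne : R ⊓ H ≠ ⊥) : R ≤ H := by
  obtain ⟨x, hx, hxp⟩ := exists_orderOf_eq_prime (hR.to_le inf_le_left) hne
  have hx1 : x ≠ 1 := by
    rintro rfl
    rw [orderOf_one] at hxp
    exact hp.out.ne_one hxp.symm
  have hRn : R ≠ ⊥ := fun h => hne (by rw [h, bot_inf_eq])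
  have : Nontrivial R := (Subgroup.nontrivial_iff_ne_bot _).mpr hRn
  obtain ⟨z, hz, hzp⟩ := exists_orderOf_eq_prime (hR.to_subgroup (Subgroup.center R))
    ((Subgroup.nontrivial_iff_ne_bot _).mp hR.center_nontrivial)
  have hzH : (z : G) ∈ H := by
    refine IsStronglyPEmbedded.centralizer_le hH hx.2 (k := 1) (by rw [pow_one, hxp]) hx1 ?_
    rw [Subgroup.mem_centralizer_iff]
    intro a ha
    rw [Set.mem_singleton_iff] at ha
    subst ha
    exact congrArg Subtype.val (Subgroup.mem_center_iff.mp hz ⟨a, hx.1⟩)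
  intro r hr
  refine IsStronglyPEmbedded.centralizer_le hH hzH (k := 1) (by rw [pow_one, Subgroup.orderOf_coe, hzp]) ?_ ?_
  · intro h1
    rw [← Subgroup.orderOf_coe, h1, orderOf_one] at hzp
    exact hp.out.ne_one hzp.symm
  · rw [Subgroup.mem_centralizer_iff]
    intro a ha
    rw [Set.mem_singleton_iff] at ha
    subst ha
    exact (congrArg Subtype.val (Subgroup.mem_center_iff.mp hz ⟨r, hr⟩)).symm

theorem IsStronglyPEmbedded.dvd_card (hH : IsStronglyPEmbedded p H) : p ∣ Nat.card H := by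
  obtain ⟨P, hP1, hPle, -⟩ := IsStronglyPEmbedded.exists_sylow hH
  obtain ⟨x, hx, hxp⟩ := exists_orderOf_eq_prime P.2 hP1
  rw [← hxp]
  exact (Subgroup.orderOf_mk x (hPle hx)) ▸ orderOf_dvd_natCard _

end spe

end CfsgLib.LocalEven
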