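import Cfsg.Agent.Lib.Solvable.CoprimeAction
import Cfsg.Agent.Lib.PGroup.ElemAbelian

/-!
Coprime action of a noncyclic elementary abelian group: generation by centralizers.
-/

set_option autoImplicit false

namespace CfsgLib.LocalEven.CopGen

open Subgroup Cfsg
open scoped commutatorElement

variable {G : Type*} [Group G] {p : ℕ}

theorem mem_of_pow_mem_of_coprime {A : Type*} [Group A] [Finite A] {K : Subgroup A} {x : A}
    (hc : (Nat.card A).Coprime p) (hx : x ^ p ∈ K) : x ∈ K := by
  obtain ⟨m, hm⟩ := exists_pow_eq_self_of_coprime (x := x) (n := p)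
    ((hc.coprime_dvd_left (orderOf_dvd_natCard x)).symm)
  exact hm ▸ pow_mem hx m

theorem pow_mod_of_pow_eq_one {M : Type*} [Monoid M] {g : M} (h : g ^ p = 1) {n : ℕ} :
    g ^ n = g ^ (n % p) := by
  conv_lhs => rw [← Nat.mod_add_div n p, pow_add, pow_mul, h, one_pow, mul_one]

/-- The abelian step: `R ≤ H` when `R' ≤ H` and `H` contains the fixed points in `R` of `a`, `b`. -/
theorem le_of_commutator_le [Finite G] [hp : Fact p.Prime] {R H : Subgroup G} {a b : G}
    (hab : a * b = b * a) (hap : a ^ p = 1) (hbp : b ^ p = 1)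
    (haR : a ∈ normalizer (R : Set G)) (hbR : b ∈ normalizer (R : Set G))
    (hR : ¬ p ∣ Nat.card R) (hsol : ⁅R, R⁆ ≤ H)
    (hb : ∀ r ∈ R, b * r = r * b → r ∈ H)
    (hu : ∀ i : ℕ, ∀ r ∈ R, (a * b ^ i) * r = r * (a * b ^ i) → r ∈ H) : R ≤ H := by
  classical
  have hcR : (Nat.card R).Coprime p := Nat.coprime_comm.1 (hp.out.coprime_iff_not_dvd.2 hR)
  let cj : ↥(normalizer (R : Set G)) → (↥R →* ↥R) := fun g =>
    MonoidHom.mk' (fun r => ⟨(g : G) * r * (g : G)⁻¹, (Subgroup.mem_normalizer_iff.1 g.2 r).1 r.2⟩)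
      (fun r s => Subtype.ext (by simp only [Subgroup.coe_mul]; group))
  let act : ↥(normalizer (R : Set G)) → (Abelianization ↥R →* Abelianization ↥R) := fun g =>
    Abelianization.map (cj g)
  have hact : ∀ g h x, act (g * h) x = act g (act h x) := by
    intro g h x
    induction x using QuotientGroup.induction_on with
    | _ r =>
      show Abelianization.of (cj (g * h) r) = Abelianization.of (cj g (cj h r))
      congr 1
      apply Subtype.ext
      show (((g * h : normalizer (R : Set G)) : G)) * r * (((g * h : normalizer (R : Set G)) : G))⁻¹ =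
        (g : G) * ((h : G) * r * (h : G)⁻¹) * (g : G)⁻¹
      simp only [Subgroup.coe_mul]
      group
  have hact1 : ∀ x, act 1 x = x := by
    intro x
    induction x using QuotientGroup.induction_on with
    | _ r => exact congrArg Abelianization.of (Subtype.ext (by show (1 : G) * r * 1⁻¹ = r; simp))
  -- the image of `H`
  set Hb : Subgroup (Abelianization ↥R) := (H.subgroupOf R).map Abelianization.of with hHb
  have hcommR : ∀ r : R, r ∈ commutator ↥R → (r : G) ∈ H := by
    intro r hr
    apply hsol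
    rw [← Subgroup.map_subtype_commutator]
    exact ⟨r, hr, rfl⟩
  have hback : ∀ r : R, Abelianization.of r ∈ Hb → (r : G) ∈ H := by
    rintro r ⟨s, hs, hsr⟩
    have h1 : s⁻¹ * r ∈ commutator ↥R := by
      rw [← Abelianization.ker_of, MonoidHom.mem_ker, map_mul, map_inv, hsr, inv_mul_cancel]
    have h2 := mul_mem (show (s : G) ∈ H from hs) (hcommR _ h1)
    simpa using h2
  -- fixed points lift
  have hfix : ∀ g : ↥(normalizer (R : Set G)), (g : G) ^ p = 1 →
      (∀ r ∈ R, (g : G) * r = r * g → r ∈ H) → ∀ x, act g x = x → x ∈ Hb := by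
    intro g hgp hg x hx
    induction x using QuotientGroup.induction_on with
    | _ r =>
      have hN : zpowers (g : G) ≤ normalizer ((⁅R, R⁆ : Subgroup G) : Set G) := by
        rw [Subgroup.zpowers_le, Subgroup.mem_normalizer_iff_map_conj_eq, Subgroup.map_commutator,
          Subgroup.mem_normalizer_iff_map_conj_eq.1 g.2]
      have hcardg : (Nat.card (zpowers (g : G))).Coprime (Nat.card ↥⁅R, R⁆) := by
        rw [Nat.card_zpowers]
        refine Nat.Coprime.coprime_dvd_left (orderOf_dvd_of_pow_eq_one hgp) ?_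
        exact (hcR.coprime_dvd_left (Subgroup.card_dvd_of_le (Subgroup.commutator_le_self R))).symm
      have hstep : ∀ n : ℕ, act (g ^ n) (Abelianization.of r) = Abelianization.of r := by
        intro n
        induction n with
        | zero => rw [pow_zero]; exact hact1 _
        | succ n ih => rw [pow_succ, hact, show act g (Abelianization.of r) = _ from hx]; exact ih
      obtain ⟨n, hn, hc⟩ := CfsgLib.Solvable.exists_mul_mem_centralizer (zpowers (g : G)) ⁅R, R⁆ hN
        hcardg (Or.inl inferInstance) r (by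
          intro y hy
          obtain ⟨k, rfl⟩ := mem_powers_iff_mem_zpowers.2 hy
          have h3 := QuotientGroup.eq.1 (hstep k).symm
          have h4 : r⁻¹ * cj (g ^ k) r ∈ commutator ↥R := h3
          have h5 : (r : G) * ((r⁻¹ * cj (g ^ k) r : R) : G) * (r : G)⁻¹ ∈ ⁅R, R⁆ := by
            have h6 := (inferInstance : (commutator ↥R).Normal).conj_mem _ h4 r
            rw [← Subgroup.map_subtype_commutator]
            exact ⟨_, h6, rfl⟩
          have e : ⁅(g : G) ^ k, (r : G)⁆ = (r : G) * ((r⁻¹ * cj (g ^ k) r : R) : G) * (r : G)⁻¹ := by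
            rw [commutatorElement_def, Subgroup.coe_mul, Subgroup.coe_inv]
            show (g : G) ^ k * r * ((g : G) ^ k)⁻¹ * (r : G)⁻¹ =
              (r : G) * ((r : G)⁻¹ * (((g ^ k : normalizer (R : Set G)) : G) * r *
                (((g ^ k : normalizer (R : Set G)) : G))⁻¹)) * (r : G)⁻¹
            rw [SubgroupClass.coe_pow]
            group
          rw [e]
          exact h5)
      have hnr : n * (r : G) ∈ R := mul_mem (Subgroup.commutator_le_self R hn) r.2
      have h7 : n * (r : G) ∈ H :=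
        hg _ hnr (Subgroup.mem_centralizer_iff.1 hc g (mem_zpowers _))
      have h8 : (r : G) ∈ H := by
        have := mul_mem (inv_mem (hsol hn)) h7
        rwa [inv_mul_cancel_left] at this
      exact ⟨r, h8, rfl⟩
  -- the norm identity
  intro v hv
  set x : Abelianization ↥R := Abelianization.of ⟨v, hv⟩ with hx
  let A : ↥(normalizer (R : Set G)) := ⟨a, haR⟩
  let B : ↥(normalizer (R : Set G)) := ⟨b, hbR⟩
  have hAB : Commute A B := Subtype.ext hab
  have hAp : A ^ p = 1 := Subtype.ext hap
  have hBp : B ^ p = 1 := Subtype.ext hbp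
  let F : ↥(normalizer (R : Set G)) → Abelianization ↥R := fun g => ∏ k : ZMod p, act (g ^ k.val) x
  have hF : ∀ g : ↥(normalizer (R : Set G)), g ^ p = 1 → act g (F g) = F g := by
    intro g hg
    rw [map_prod]
    refine Fintype.prod_equiv (Equiv.addRight 1) _ _ fun k => ?_
    rw [← hact, ← pow_succ']
    congr 2
    rw [Equiv.coe_addRight, ZMod.val_add, ZMod.val_one p, ← pow_mod_of_pow_eq_one hg]
  have hFm : ∀ i : ZMod p, F (A * B ^ i.val) ∈ Hb := by
    intro i
    have hp' : (A * B ^ i.val) ^ p = 1 := by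
      rw [(hAB.pow_right _).mul_pow, hAp, one_mul, ← pow_mul, mul_comm, pow_mul, hBp, one_pow]
    exact hfix _ (by simpa using congrArg Subtype.val hp')
      (fun r hr h => hu i.val r hr (by simpa [A, B] using h)) _ (hF _ hp')
  have hFB : ∀ j : ℕ, act (A ^ j) (F B) ∈ Hb := by
    intro j
    refine hfix B hbp hb _ ?_
    rw [← hact, ((hAB.pow_left j).symm).eq, hact, hF B hBp]
  have hkey : ∏ i : ZMod p, F (A * B ^ i.val) =
      x ^ p * ∏ j ∈ Finset.univ.erase (0 : ZMod p), act (A ^ j.val) (F B) := by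
    show ∏ i : ZMod p, ∏ j : ZMod p, act ((A * B ^ i.val) ^ j.val) x = _
    rw [Finset.prod_comm, ← Finset.mul_prod_erase _ _ (Finset.mem_univ (0 : ZMod p))]
    congr 1
    · simp only [ZMod.val_zero, pow_zero, hact1]
      rw [Finset.prod_const, Finset.card_univ, ZMod.card]
    · refine Finset.prod_congr rfl fun j hj => ?_
      rw [map_prod]
      refine Fintype.prod_equiv (Equiv.mulRight₀ j (Finset.ne_of_mem_erase hj)) _ _ fun i => ?_
      rw [← hact]
      congr 2
      rw [(hAB.pow_right _).mul_pow, ← pow_mul]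
      congr 1
      show B ^ (i.val * j.val) = B ^ (i * j).val
      rw [ZMod.val_mul, ← pow_mod_of_pow_eq_one hBp]
  have hxp : x ^ p ∈ Hb := by
    have h1 : ∏ j ∈ Finset.univ.erase (0 : ZMod p), act (A ^ j.val) (F B) ∈ Hb :=
      Subgroup.prod_mem _ fun j _ => hFB _
    have h2 : ∏ i : ZMod p, F (A * B ^ i.val) ∈ Hb := Subgroup.prod_mem _ fun i _ => hFm i
    rw [hkey] at h2
    exact (Subgroup.mul_mem_cancel_right _ h1).1 h2
  exact hback ⟨v, hv⟩ (mem_of_pow_mem_of_coprime
    (hcR.coprime_dvd_left (Subgroup.card_quotient_dvd_card _)) hxp)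

/-- `R` is generated by the centralizers in `R` of the nontrivial elements of `U`. -/
theorem le_of_fixed [Finite G] [hp : Fact p.Prime] {U R H : Subgroup G}
    (hU : IsElementaryAbelian p U) (hnc : ¬ IsCyclic ↥U) (hUR : U ≤ normalizer (R : Set G))
    (hR : ¬ p ∣ Nat.card R) (hfix : ∀ u ∈ U, u ≠ 1 → ∀ r ∈ R, u * r = r * u → r ∈ H) : R ≤ H := by
  classical
  obtain ⟨a, ha, ha1⟩ : ∃ a ∈ U, a ≠ 1 := by
    by_contra h
    push Not at h
    haveI : Subsingleton U := ⟨fun x y => Subtype.ext ((h x x.2).trans (h y y.2).symm)⟩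
    exact hnc inferInstance
  obtain ⟨b, hb, hba⟩ : ∃ b ∈ U, b ∉ zpowers a := by
    by_contra h
    push Not at h
    apply hnc
    have : U = zpowers a := le_antisymm h (Subgroup.zpowers_le.2 ha)
    rw [this]
    infer_instance
  have hb1 : b ≠ 1 := fun h => hba (h ▸ one_mem _)
  have habi : ∀ i : ℕ, a * b ^ i ≠ 1 := by
    intro i h
    have hba' : b ^ i = a⁻¹ := eq_inv_of_mul_eq_one_right h
    by_cases hdi : p ∣ i
    · obtain ⟨c, rfl⟩ := hdi
      rw [pow_mul, hU.2 b hb, one_pow] at hba'
      exact ha1 (inv_eq_one.1 hba'.symm)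
    · obtain ⟨m, hm⟩ := exists_pow_eq_self_of_coprime (x := b) (n := i)
        ((Nat.coprime_comm.1 (hp.out.coprime_iff_not_dvd.2 hdi)).coprime_dvd_right
          (orderOf_dvd_of_pow_eq_one (hU.2 b hb)))
      apply hba
      rw [← hm, hba']
      exact pow_mem (inv_mem (mem_zpowers a)) m
  -- prime power case
  have hq : ∀ (q : ℕ) (n : ℕ) (S : Subgroup G), q.Prime → Nat.card S ≤ n → IsPGroup q S → S ≤ R →
      U ≤ normalizer (S : Set G) → S ≤ H := by
    intro q n
    induction n with
    | zero => intro S _ hn; exact absurd hn (by have := Nat.card_pos (α := S); omega)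
    | succ n ih =>
      intro S hq' hn hS hSR hUS
      haveI : Fact q.Prime := ⟨hq'⟩
      by_cases hbot : S = ⊥
      · rw [hbot]; exact bot_le
      haveI : Nontrivial S := (Subgroup.nontrivial_iff_ne_bot S).2 hbot
      haveI : Group.IsNilpotent S := hS.isNilpotent
      have hlt : commutator ↥S < ⊤ := Group.IsSolvable.commutator_lt_top_of_nontrivial ↥S
      have hlt' : ⁅S, S⁆ < S := by
        refine lt_of_le_of_ne (Subgroup.commutator_le_self S) fun h => hlt.ne ?_
        apply Subgroup.map_injective S.subtype_injective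
        rw [Subgroup.map_subtype_commutator, h, ← MonoidHom.range_eq_map, Subgroup.range_subtype]
      have hcard : Nat.card ↥⁅S, S⁆ < Nat.card S := by
        refine lt_of_le_of_ne (Subgroup.card_le_of_le hlt'.le) fun h => hlt'.ne ?_
        exact Subgroup.eq_of_le_of_card_ge hlt'.le h.ge
      have hUS' : U ≤ normalizer ((⁅S, S⁆ : Subgroup G) : Set G) := fun u hu => by
        rw [Subgroup.mem_normalizer_iff_map_conj_eq, Subgroup.map_commutator,
          Subgroup.mem_normalizer_iff_map_conj_eq.1 (hUS hu)]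
      refine le_of_commutator_le (a := a) (b := b) (CfsgLib.PGroup.elemAb_comm hU ha hb) (hU.2 a ha)
        (hU.2 b hb) (hUS ha) (hUS hb) (fun h => hR (h.trans (Subgroup.card_dvd_of_le hSR)))
        (ih ⁅S, S⁆ hq' (by omega) (hS.to_le hlt'.le) (hlt'.le.trans hSR) hUS')
        (fun r hr h => hfix b hb hb1 r (hSR hr) h)
        (fun i r hr h => hfix _ (mul_mem ha (pow_mem hb i)) (habi i) r (hSR hr) h)
  -- invariant Sylow subgroups
  have hcop : (Nat.card U).Coprime (Nat.card R) := by
    obtain ⟨k, hk⟩ := CfsgLib.PGroup.elemAb_card hU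
    rw [hk]
    exact (hp.out.coprime_iff_not_dvd.2 hR).pow_left k
  haveI : Group.IsSolvable U :=
    haveI := (CfsgLib.PGroup.elemAb_isPGroup hU).isNilpotent
    inferInstance
  have hdvd : Nat.card R ∣ Nat.card ↥(R ⊓ H) := by
    rw [Nat.dvd_iff_prime_pow_dvd_dvd]
    intro q k hq' hqk
    haveI : Fact q.Prime := ⟨hq'⟩
    obtain ⟨P, hP⟩ := CfsgLib.Solvable.exists_invariant_sylow U R hUR hcop (Or.inl ‹_›) q
    have hle : (P : Subgroup ↥R).map R.subtype ≤ R ⊓ H :=
      le_inf (Subgroup.map_subtype_le _) (hq q _ _ hq' le_rfl (P.2.map _) (Subgroup.map_subtype_le _) hP)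
    refine dvd_trans ?_ (Subgroup.card_dvd_of_le hle)
    rw [CfsgLib.Solvable.card_sylow_map, P.card_eq_multiplicity]
    exact pow_dvd_pow q ((hq'.pow_dvd_iff_le_factorization Nat.card_pos.ne').1 hqk)
  have := Subgroup.eq_of_le_of_card_ge (inf_le_left : R ⊓ H ≤ R) (Nat.le_of_dvd Nat.card_pos hdvd)
  exact inf_eq_left.1 this

end CfsgLib.LocalEven.CopGen
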