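import Cfsg.Agent.Lib.LocalEven.CharP
import Cfsg.Agent.Lib.Local.Residual

/-!
Stability groups of chains, `p'`-elements and subnormal subgroups of `p`-power index.
-/

set_option autoImplicit false

namespace CfsgLib.LocalEven.Chain

open Subgroup Cfsg
open scoped commutatorElement

variable {G : Type*} [Group G] {p : ℕ}

/-- A `p'`-element stabilizing a chain in a `p`-group centralizes it. -/
theorem commute_of_chain {P : Subgroup G} (hP : IsPGroup p ↥P) {x : G}
    (hx : (orderOf x).Coprime p) (n : ℕ) (A : ℕ → Subgroup G) (hle : ∀ i, A i ≤ P) (hn : A n = ⊥)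
    (hstep : ∀ i < n, ∀ v ∈ A i, v⁻¹ * (x * v * x⁻¹) ∈ A (i + 1)) :
    ∀ v ∈ A 0, x * v = v * x := by
  induction n generalizing A with
  | zero =>
    intro v hv
    rw [hn, Subgroup.mem_bot] at hv
    rw [hv, mul_one, one_mul]
  | succ n ih =>
    intro v hv
    have h1 := ih (fun i => A (i + 1)) (fun i => hle _) hn
      (fun i hi => hstep (i + 1) (by omega))
    have hd := hstep 0 (by omega) v hv
    exact commute_of_conj_eq_mul hP (hle 1 hd) hx (by group) (h1 _ hd)

theorem orderOf_conj_eq (v x : G) : orderOf (v * x * v⁻¹) = orderOf x := by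
  rw [← MulAut.conj_apply, MulEquiv.orderOf_eq]

/-- A `p`-subgroup `V` normalised by the subnormal subgroup `B` maps the `p'`-elements of `B` into `B`. -/
theorem conj_mem_of_pGroup [Finite G] [hp : Fact p.Prime] {V B : Subgroup G} (hB : B.IsSubnormal)
    (hV : IsPGroup p V) (hBV : B ≤ normalizer (V : Set G)) {v x : G} (hv : v ∈ V) (hx : x ∈ B)
    (hxo : (orderOf x).Coprime p) : v * x * v⁻¹ ∈ B := by
  obtain ⟨a, ha⟩ := IsPGroup.iff_card.1 hV
  haveI : (V.subgroupOf (V ⊔ B)).Normal :=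
    Subgroup.normal_subgroupOf_of_le_normalizer (sup_le Subgroup.le_normalizer hBV)
  have hidx : (B.subgroupOf (V ⊔ B)).index ∣ p ^ a := by
    have hcard := CfsgLib.Cores.card_sup_dvd_mul (V.subgroupOf (V ⊔ B)) (B.subgroupOf (V ⊔ B))
    rw [← Subgroup.subgroupOf_sup (le_sup_left : V ≤ V ⊔ B) le_sup_right, Subgroup.subgroupOf_self,
      Subgroup.card_top, ← Subgroup.card_mul_index (B.subgroupOf (V ⊔ B)),
      Nat.card_congr (Subgroup.subgroupOfEquivOfLe (le_sup_left : V ≤ V ⊔ B)).toEquiv, ha,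
      mul_comm (p ^ a)] at hcard
    exact Nat.dvd_of_mul_dvd_mul_left Nat.card_pos hcard
  exact CfsgLib.Local.mem_of_isSubnormal_of_index_dvd (hB.subgroupOf (K := V ⊔ B)) hidx
    (x := ⟨v * x * v⁻¹, mul_mem (mul_mem (Subgroup.mem_sup_left hv) (Subgroup.mem_sup_right hx))
      (inv_mem (Subgroup.mem_sup_left hv))⟩) (by rw [Subgroup.orderOf_mk, orderOf_conj_eq]; exact hxo)

theorem isPGroup_of_coprime_eq_one [Finite G] [hp : Fact p.Prime] {M : Subgroup G}
    (h : ∀ x ∈ M, (orderOf x).Coprime p → x = 1) : IsPGroup p M := by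
  intro x
  refine ⟨(orderOf x).factorization p, ?_⟩
  have h1 : ((x : G) ^ p ^ (orderOf x).factorization p) = 1 := by
    refine h _ (pow_mem x.2 _) ?_
    rw [← Subgroup.orderOf_coe x, orderOf_pow_of_dvd (pow_ne_zero _ hp.out.ne_zero) (Nat.ordProj_dvd _ _)]
    exact (Nat.coprime_ordCompl hp.out (orderOf_pos (x : G)).ne').symm
  exact Subtype.ext h1

theorem commutator_swap_mem {A B D : Subgroup G} (h : ⁅A, B⁆ ≤ D) {a b : G} (ha : a ∈ A) (hb : b ∈ B) :
    ⁅b, a⁆ ∈ D := by
  rw [Subgroup.commutator_comm] at h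
  exact h (Subgroup.commutator_mem_commutator hb ha)

end CfsgLib.LocalEven.Chain
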