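import Cfsg.Agent.Lib.LocalEven.Offender

/-!
An offender yields a transvection.
-/

set_option autoImplicit false

namespace CfsgLib.LocalEven.Offender

open Subgroup Cfsg
open scoped commutatorElement

universe u

variable {G : Type u} [Group G] [Finite G] {p : ℕ} [hp : Fact p.Prime]

theorem mem_centralizer_map {G' : Type*} [Group G'] {f : G →* G'} {S : Subgroup G} {r : G'}
    (h : ∀ s ∈ S, f s * r = r * f s) : r ∈ centralizer ((S.map f : Subgroup G') : Set G') :=
  Subgroup.mem_centralizer_iff.2 (by rintro _ ⟨s, hs, rfl⟩; exact h s hs)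

theorem exists_transvection_aux {V H K : Subgroup G} [V.Normal] [H.Normal] [K.Normal]
    (hV : IsElementaryAbelian p V) (hCV : centralizer (V : Set G) = H)
    (hK : (H.relIndex K).Coprime p)
    (hfaith : ∀ y : G, IsPGroup p (zpowers y) → (∀ k ∈ K, ⁅y, k⁆ ∈ H) → y ∈ H) (n : ℕ) :
    ∀ A : Subgroup G, Nat.card A ≤ n → IsPGroup p A → (∀ a ∈ A, ∀ b ∈ A, a * b = b * a) → ¬ A ≤ H →
      Nat.card V * Nat.card ↥(A ⊓ H) ≤ Nat.card A * Nat.card ↥(V ⊓ centralizer (A : Set G)) →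
      ∃ a : G, IsPGroup p (zpowers a) ∧ a ∉ H ∧ a ^ p ∈ H ∧
        Nat.card V ≤ p * Nat.card ↥(V ⊓ centralizer (zpowers a : Set G)) := by
  induction n with
  | zero => intro A hn; exact absurd hn (not_le.2 Nat.card_pos)
  | succ n ih =>
  intro A hn hA hAc hAH hoff
  set D := A ⊓ H with hD
  by_cases hsmall : ∃ B : Subgroup G, B ≤ A ∧ D ≤ B ∧ ¬ B ≤ H ∧ B ≠ A ∧
      Nat.card V * Nat.card ↥D ≤ Nat.card B * Nat.card ↥(V ⊓ centralizer (B : Set G))
  · obtain ⟨B, hBA, hDB, hBH, hne, hB⟩ := hsmall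
    have hlt : Nat.card B < Nat.card A :=
      lt_of_le_of_ne (Subgroup.card_le_of_le hBA) fun e => hne (Subgroup.eq_of_le_of_card_ge hBA e.ge)
    have he : B ⊓ H = D := le_antisymm (inf_le_inf_right H hBA) (le_inf hDB inf_le_right)
    exact ih B (by omega) (hA.to_le hBA) (fun a ha b hb => hAc a (hBA ha) b (hBA hb)) hBH (he ▸ hB)
  push Not at hsmall
  set π := QuotientGroup.mk' H with hπ
  set Kb := K.map π with hKb
  haveI : Kb.Normal := Subgroup.Normal.map inferInstance π (QuotientGroup.mk'_surjective H)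
  have hKbcard : (Nat.card Kb).Coprime p := by
    rw [hKb, ← Subgroup.relIndex_ker, QuotientGroup.ker_mk']; exact hK
  have hπH : ∀ x : G, π x = 1 ↔ x ∈ H := fun x => QuotientGroup.eq_one_iff x
  have hKbdisj : ∀ (S : Subgroup G), IsPGroup p S → ∀ x ∈ S.map π, x ∈ Kb → x = 1 := fun S hS x hx hxK =>
    CfsgLib.LocalEven.eq_one_of_pow_eq_one_of_pGroup (hS.map π) hx
      (hKbcard.coprime_dvd_left (Subgroup.orderOf_dvd_natCard _ hxK)) (pow_orderOf_eq_one x)
  -- a largest `B` with fixed points in `K / H` not fixed by `A`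
  set Good : Subgroup G → Prop := fun B => D ≤ B ∧ B ≤ A ∧
    ¬ Kb ⊓ centralizer ((B.map π : Subgroup (G ⧸ H)) : Set (G ⧸ H)) ≤
      centralizer ((A.map π : Subgroup (G ⧸ H)) : Set (G ⧸ H)) with hGood
  have hD0 : Good D := by
    refine ⟨le_rfl, inf_le_left, fun hle => hAH fun a ha => ?_⟩
    refine hfaith _ (hA.to_le (Subgroup.zpowers_le.2 ha)) fun k hk => ?_
    have h1 : π k ∈ centralizer ((D.map π : Subgroup (G ⧸ H)) : Set (G ⧸ H)) :=
      mem_centralizer_map fun d hd => by rw [(hπH d).2 hd.2, one_mul, mul_one]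
    have h2 := Subgroup.mem_centralizer_iff.1 (hle ⟨⟨k, hk, rfl⟩, h1⟩) (π a) ⟨a, ha, rfl⟩
    rw [← hπH, map_commutatorElement, commutatorElement_eq_one_iff_mul_comm]
    exact h2
  obtain ⟨B, -, ⟨hDB, hBA, hBgood⟩, hBmax⟩ := Finite.exists_le_maximal (p := Good) hD0
  set Rb := Kb ⊓ centralizer ((B.map π : Subgroup (G ⧸ H)) : Set (G ⧸ H)) with hRb
  -- `A / B` is cyclic
  have hcyc : ∃ a ∈ A, A ≤ B ⊔ zpowers a := by
    by_contra hnc
    push Not at hnc
    have hne : ¬ A ≤ B := fun h => hBgood (inf_le_right.trans (Subgroup.centralizer_le (Subgroup.map_mono h)))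
    obtain ⟨u, v, hu, hv, hup, hvp, huB, hvB⟩ := exists_pair hA hAc hBA hne hnc
    set E := Rb ⊔ A.map π with hE
    have hEB : E ≤ centralizer ((B.map π : Subgroup (G ⧸ H)) : Set (G ⧸ H)) := sup_le inf_le_right (by
      rintro _ ⟨a, ha, rfl⟩
      exact mem_centralizer_map fun b hb => by rw [← map_mul, ← map_mul, hAc _ (hBA hb) _ ha])
    haveI : ((B.map π).subgroupOf E).Normal := ⟨fun x hx y => by
      have h1 := Subgroup.mem_centralizer_iff.1 (hEB y.2) _ hx
      show ((y * x * y⁻¹ : E) : G ⧸ H) ∈ B.map π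
      rw [Subgroup.coe_mul, Subgroup.coe_mul, Subgroup.coe_inv]
      simp only [Subgroup.coe_subtype] at h1
      rw [← h1, mul_inv_cancel_right]
      exact hx⟩
    set π₂ := QuotientGroup.mk' ((B.map π).subgroupOf E) with hπ₂
    set U := zpowers u ⊔ zpowers v with hU
    have hUA : U ≤ A := sup_le (Subgroup.zpowers_le.2 hu) (Subgroup.zpowers_le.2 hv)
    have hUp : ∀ x ∈ U, x ^ p ∈ B := by
      let T : Subgroup G :=
        { carrier := {x | x ∈ A ∧ x ^ p ∈ B}
          one_mem' := ⟨one_mem _, by rw [one_pow]; exact one_mem _⟩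
          mul_mem' := fun {x y} hx hy => ⟨mul_mem hx.1 hy.1, by
            rw [Commute.mul_pow (hAc x hx.1 y hy.1)]; exact mul_mem hx.2 hy.2⟩
          inv_mem' := fun {x} hx => ⟨inv_mem hx.1, by rw [inv_pow]; exact inv_mem hx.2⟩ }
      have hT : U ≤ T := sup_le (Subgroup.zpowers_le.2 ⟨hu, hup⟩) (Subgroup.zpowers_le.2 ⟨hv, hvp⟩)
      exact fun x hx => (hT hx).2
    set U' := ((U.map π).subgroupOf E).map π₂ with hU'
    set R' := (Rb.subgroupOf E).map π₂ with hR'
    set H' := ((centralizer ((A.map π : Subgroup (G ⧸ H)) : Set (G ⧸ H))).subgroupOf E).map π₂ with hH'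
    have hone : ∀ e : E, π₂ e = 1 ↔ (e : G ⧸ H) ∈ B.map π := fun e => QuotientGroup.eq_one_iff e
    have hUE : ∀ x ∈ U, π x ∈ E := fun x hx => Subgroup.mem_sup_right ⟨x, hUA hx, rfl⟩
    have hBback : ∀ x ∈ A, π x ∈ B.map π → x ∈ B := by
      rintro x hx ⟨b, hb, hbx⟩
      have h1 : b⁻¹ * x ∈ D := Subgroup.mem_inf.2 ⟨mul_mem (inv_mem (hBA hb)) hx, QuotientGroup.eq.1 hbx⟩
      simpa using mul_mem hb (hDB h1)
    have hU'e : IsElementaryAbelian p U' := by
      refine ⟨⟨⟨?_⟩⟩, ?_⟩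
      · rintro ⟨_, ⟨e₁, he₁, rfl⟩⟩ ⟨_, ⟨e₂, he₂, rfl⟩⟩
        obtain ⟨x₁, hx₁, he₁'⟩ := he₁
        obtain ⟨x₂, hx₂, he₂'⟩ := he₂
        change π x₁ = (e₁ : G ⧸ H) at he₁'
        change π x₂ = (e₂ : G ⧸ H) at he₂'
        apply Subtype.ext
        show π₂ e₁ * π₂ e₂ = π₂ e₂ * π₂ e₁
        rw [← map_mul, ← map_mul]
        congr 1
        apply Subtype.ext
        rw [Subgroup.coe_mul, Subgroup.coe_mul, ← he₁', ← he₂', ← map_mul, ← map_mul,
          hAc _ (hUA hx₁) _ (hUA hx₂)]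
      · rintro _ ⟨e, ⟨x, hx, hxe⟩, rfl⟩
        change π x = (e : G ⧸ H) at hxe
        rw [← map_pow, hone, Subgroup.coe_pow, ← hxe, ← map_pow]
        exact ⟨_, hUp x hx, rfl⟩
    have hU'nc : ¬ IsCyclic ↥U' := by
      intro hcy
      obtain ⟨⟨g, hg⟩, hgen⟩ := hcy.exists_generator
      have hu' : π₂ ⟨π u, hUE u (Subgroup.mem_sup_left (mem_zpowers u))⟩ ∈ U' :=
        ⟨_, ⟨u, Subgroup.mem_sup_left (mem_zpowers u), rfl⟩, rfl⟩
      have hv' : π₂ ⟨π v, hUE v (Subgroup.mem_sup_right (mem_zpowers v))⟩ ∈ U' :=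
        ⟨_, ⟨v, Subgroup.mem_sup_right (mem_zpowers v), rfl⟩, rfl⟩
      set u' := π₂ ⟨π u, hUE u (Subgroup.mem_sup_left (mem_zpowers u))⟩ with hu'd
      have hu1 : u' ≠ 1 := fun h => huB (hBback u hu ((hone _).1 h))
      have hUle : U' ≤ zpowers g := fun x hx => by
        obtain ⟨i, hi⟩ := Subgroup.mem_zpowers_iff.1 (hgen ⟨x, hx⟩)
        exact ⟨i, by simpa using congrArg Subtype.val hi⟩
      have hgp : orderOf g ∣ p := orderOf_dvd_of_pow_eq_one (hU'e.2 g hg)
      have heq : zpowers u' = zpowers g := by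
        refine Subgroup.eq_of_le_of_card_ge (Subgroup.zpowers_le.2 (hUle hu')) ?_
        rw [Nat.card_zpowers, Nat.card_zpowers, orderOf_eq_prime (hU'e.2 u' hu') hu1]
        exact Nat.le_of_dvd hp.out.pos hgp
      obtain ⟨i, hi⟩ := Subgroup.mem_zpowers_iff.1 (heq.ge (hUle hv'))
      apply hvB
      rw [hu'd, ← map_zpow] at hi
      have h1 := QuotientGroup.eq.1 hi
      have h2 : (u ^ i)⁻¹ * v ∈ B := hBback _ (mul_mem (inv_mem (zpow_mem hu i)) hv) (by
        rw [map_mul, map_inv, map_zpow]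
        have h4 := Subgroup.mem_subgroupOf.1 h1
        simpa using h4)
      have h3 := mul_mem (Subgroup.mem_sup_right (S := B) (zpow_mem (mem_zpowers u) i)) (Subgroup.mem_sup_left h2)
      rwa [mul_inv_cancel_left] at h3
    have hUR : U' ≤ normalizer (R' : Set (E ⧸ (B.map π).subgroupOf E)) := by
      rintro _ ⟨e, ⟨x, hx, hxe⟩, rfl⟩
      change π x = (e : G ⧸ H) at hxe
      refine CfsgLib.LocalEven.mem_normalizer_of_conj_le ?_
      rintro _ ⟨_, ⟨r, hr, rfl⟩, rfl⟩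
      refine ⟨e * r * e⁻¹, ?_, by simp⟩
      have hr' : (r : G ⧸ H) ∈ Rb := hr
      show ((e * r * e⁻¹ : E) : G ⧸ H) ∈ Rb
      rw [Subgroup.coe_mul, Subgroup.coe_mul, Subgroup.coe_inv]
      refine Subgroup.mem_inf.2 ⟨(inferInstance : Kb.Normal).conj_mem _ hr'.1 _, ?_⟩
      have hc1 : (e : G ⧸ H) ∈ centralizer ((B.map π : Subgroup (G ⧸ H)) : Set (G ⧸ H)) := hEB e.2
      exact mul_mem (mul_mem hc1 hr'.2) (inv_mem hc1)
    have hRcard : ¬ p ∣ Nat.card R' := by
      intro hd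
      have h1 : Nat.card R' ∣ Nat.card Kb := by
        refine ((Rb.subgroupOf E).card_map_dvd π₂).trans ?_
        rw [Nat.card_congr (Subgroup.subgroupOfEquivOfLe (le_sup_left : Rb ≤ E)).toEquiv]
        exact Subgroup.card_dvd_of_le inf_le_left
      exact (hp.out.coprime_iff_not_dvd.1 hKbcard.symm) (hd.trans h1)
    have hle := CfsgLib.LocalEven.CopGen.le_of_fixed (H := H') hU'e hU'nc hUR hRcard (by
      rintro _ ⟨e, ⟨x, hx, hxe⟩, rfl⟩ hz1 _ ⟨r, hr, rfl⟩ hcomm
      change π x = (e : G ⧸ H) at hxe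
      have hr' : (r : G ⧸ H) ∈ Rb := hr
      refine ⟨r, ?_, rfl⟩
      have hxB : x ∉ B := fun h => hz1 ((hone e).2 (hxe ▸ ⟨x, h, rfl⟩))
      have hc : π x * (r : G ⧸ H) = r * π x := by
        rw [← map_mul, ← map_mul] at hcomm
        have h1 : π₂ ⁅e, r⁆ = 1 := by
          rw [map_commutatorElement, commutatorElement_eq_one_iff_mul_comm, ← map_mul, ← map_mul]
          exact hcomm
        rw [hone] at h1
        have h2 : ((⁅e, r⁆ : E) : G ⧸ H) ∈ Kb := by
          simp only [commutatorElement_def, Subgroup.coe_mul, Subgroup.coe_inv]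
          exact mul_mem ((inferInstance : Kb.Normal).conj_mem _ hr'.1 _) (inv_mem hr'.1)
        have h3 := hKbdisj B (hA.to_le hBA) _ h1 h2
        have h4 : e * r = r * e := commutatorElement_eq_one_iff_mul_comm.1 (Subtype.ext h3)
        rw [hxe]
        exact congrArg Subtype.val h4
      set B₁ := B ⊔ zpowers x with hB₁
      have hB₁A : B₁ ≤ A := sup_le hBA (Subgroup.zpowers_le.2 (hUA hx))
      have hng : ¬ Good B₁ := fun hg => hxB (hBmax hg le_sup_left (Subgroup.mem_sup_right (mem_zpowers x)))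
      simp only [hGood, not_and, not_not] at hng
      refine hng (hDB.trans le_sup_left) hB₁A ⟨hr'.1, ?_⟩
      rw [hB₁, Subgroup.map_sup, MonoidHom.map_zpowers]
      have h5 : B.map π ⊔ zpowers (π x) ≤ centralizer (zpowers (r : G ⧸ H) : Set (G ⧸ H)) := by
        refine sup_le (Subgroup.le_centralizer_iff.1 (Subgroup.zpowers_le.2 hr'.2)) (Subgroup.zpowers_le.2 ?_)
        rw [Subgroup.zpowers_eq_closure, Subgroup.centralizer_closure, Subgroup.mem_centralizer_singleton_iff]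
        exact hc
      exact Subgroup.le_centralizer_iff.1 h5 (mem_zpowers _))
    apply hBgood
    intro r hr
    obtain ⟨h, hh, hhe⟩ := hle (x := π₂ ⟨r, Subgroup.mem_sup_left hr⟩) ⟨_, hr, rfl⟩
    have h1 := QuotientGroup.eq.1 hhe
    have h2 : (h : G ⧸ H)⁻¹ * r ∈ centralizer ((A.map π : Subgroup (G ⧸ H)) : Set (G ⧸ H)) := by
      obtain ⟨b, hb, hbe⟩ := h1
      change π b = (h : G ⧸ H)⁻¹ * r at hbe
      rw [← hbe]
      exact mem_centralizer_map fun a ha => by rw [← map_mul, ← map_mul, hAc _ ha _ (hBA hb)]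
    simpa using mul_mem (show (h : G ⧸ H) ∈ _ from hh) h2
  obtain ⟨a, haA, hAa⟩ := hcyc
  set B₁ := B ⊔ zpowers (a ^ p) with hB₁
  have hB₁A : B₁ ≤ A := sup_le hBA (Subgroup.zpowers_le.2 (pow_mem haA p))
  have hdec : ∀ x ∈ A, ∃ b ∈ B, ∃ j : ℤ, x = b * a ^ j := by
    intro x hx
    have hx' : x ∈ ((B ⊔ zpowers a : Subgroup G) : Set G) := hAa hx
    rw [Subgroup.coe_mul_of_right_le_normalizer_left B (zpowers a) (Subgroup.zpowers_le.2
      (CfsgLib.LocalEven.mem_normalizer_of_conj_le (by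
        rintro _ ⟨b, hb, rfl⟩
        show a * b * a⁻¹ ∈ B
        rwa [hAc a haA b (hBA hb), mul_inv_cancel_right])))] at hx'
    obtain ⟨b, hb, y, ⟨j, rfl⟩, rfl⟩ := hx'
    exact ⟨b, hb, j, rfl⟩
  have hcardA : Nat.card A ≤ p * Nat.card B₁ := by
    let f : Fin p × B₁ → A := fun w => ⟨(w.2 : G) * a ^ (w.1 : ℕ), mul_mem (hB₁A w.2.2) (pow_mem haA _)⟩
    have hf : Function.Surjective f := by
      rintro ⟨x, hx⟩
      obtain ⟨b, hb, j, rfl⟩ := hdec x hx
      have hp0 : (p : ℤ) ≠ 0 := by exact_mod_cast hp.out.ne_zero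
      have hlt : (j % (p : ℤ)).toNat < p := by
        have h1 := Int.emod_nonneg j hp0
        have h2 := Int.emod_lt_of_pos j (show (0 : ℤ) < p by exact_mod_cast hp.out.pos)
        omega
      refine ⟨(⟨_, hlt⟩, ⟨b * (a ^ p) ^ (j / (p : ℤ)),
        mul_mem (Subgroup.mem_sup_left hb) (Subgroup.mem_sup_right (zpow_mem (mem_zpowers _) _))⟩), Subtype.ext ?_⟩
      show b * (a ^ p) ^ (j / (p : ℤ)) * a ^ (j % (p : ℤ)).toNat = b * a ^ j
      rw [mul_assoc, ← zpow_natCast a p, ← zpow_mul, ← zpow_natCast a ((j % (p : ℤ)).toNat),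
        Int.toNat_of_nonneg (Int.emod_nonneg j hp0), ← zpow_add, Int.mul_ediv_add_emod]
    have := Nat.card_le_card_of_surjective f hf
    rwa [Nat.card_prod, Nat.card_fin] at this
  have hB₁ne : B₁ ≠ A := by
    intro he
    apply hBgood
    suffices hAB : A ≤ B from inf_le_right.trans (Subgroup.centralizer_le (Subgroup.map_mono hAB))
    have ha1 : a ∈ ((B ⊔ zpowers (a ^ p) : Subgroup G) : Set G) := hB₁ ▸ he.ge haA
    rw [Subgroup.coe_mul_of_right_le_normalizer_left B (zpowers (a ^ p)) (Subgroup.zpowers_le.2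
      (CfsgLib.LocalEven.mem_normalizer_of_conj_le (by
        rintro _ ⟨b, hb, rfl⟩
        show a ^ p * b * (a ^ p)⁻¹ ∈ B
        rwa [hAc _ (pow_mem haA p) b (hBA hb), mul_inv_cancel_right])))] at ha1
    obtain ⟨b, hb, y, ⟨j, rfl⟩, hab⟩ := ha1
    change b * (a ^ p) ^ j = a at hab
    have hpow : ∀ m : ℕ, ∃ c ∈ B, a = c * a ^ (((p : ℤ) * j) ^ m) := by
      intro m
      induction m with
      | zero => exact ⟨1, one_mem _, by simp⟩
      | succ m ih2 =>
        obtain ⟨c, hc, hce⟩ := ih2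
        refine ⟨c * b ^ (((p : ℤ) * j) ^ m), mul_mem hc (zpow_mem hb _), ?_⟩
        have hcm : Commute b ((a ^ p) ^ j) := hAc b (hBA hb) _ (zpow_mem (pow_mem haA p) j)
        conv_lhs => rw [hce]
        conv_lhs => rw [← hab]
        rw [hcm.mul_zpow, mul_assoc, ← zpow_natCast a p, ← zpow_mul, ← zpow_mul, pow_succ', mul_assoc (p : ℤ) j]
    obtain ⟨k, hk⟩ := hA ⟨a, haA⟩
    obtain ⟨c, hc, hce⟩ := hpow k
    have hak : a ^ (((p : ℤ) * j) ^ k) = 1 := by
      rw [mul_pow, zpow_mul, ← Nat.cast_pow, zpow_natCast,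
        show a ^ p ^ k = 1 from congrArg Subtype.val hk, one_zpow]
    rw [hak, mul_one] at hce
    exact fun x hx => by
      obtain ⟨b', hb', i, rfl⟩ := hdec x hx
      exact mul_mem hb' (zpow_mem (hce ▸ hc) i)
  have hcC : V ⊓ centralizer (A : Set G) ≤ V ⊓ centralizer (B₁ : Set G) :=
    inf_le_inf_left _ (Subgroup.centralizer_le hB₁A)
  by_cases hcase : B₁ ≤ H
  · refine ⟨a, hA.to_le (Subgroup.zpowers_le.2 haA), fun haH => hAH fun x hx => ?_,
      hcase (Subgroup.mem_sup_right (mem_zpowers _)), ?_⟩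
    · obtain ⟨b, hb, j, rfl⟩ := hdec x hx
      exact mul_mem (hcase (Subgroup.mem_sup_left hb)) (zpow_mem haH j)
    have h1 : V ⊓ centralizer (zpowers a : Set G) ≤ V ⊓ centralizer (A : Set G) := fun w hw => by
      refine Subgroup.mem_inf.2 ⟨hw.1, Subgroup.mem_centralizer_iff.2 fun x hx => ?_⟩
      obtain ⟨b, hb, j, rfl⟩ := hdec x hx
      have hb1 : Commute b w := by
        have := hcase (Subgroup.mem_sup_left hb)
        rw [← hCV] at this
        exact (Subgroup.mem_centralizer_iff.1 this w hw.1).symm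
      have hb2 : Commute (a ^ j) w := Subgroup.mem_centralizer_iff.1 hw.2 _ (zpow_mem (mem_zpowers a) j)
      exact (hb1.mul_left hb2).eq
    have h2 : Nat.card ↥(V ⊓ centralizer (A : Set G)) = Nat.card ↥(V ⊓ centralizer (zpowers a : Set G)) :=
      congrArg (fun S : Subgroup G => Nat.card ↥S) (le_antisymm
        (inf_le_inf_left _ (Subgroup.centralizer_le (Subgroup.zpowers_le.2 haA))) h1)
    have h3 : Nat.card A ≤ p * Nat.card D :=
      hcardA.trans (Nat.mul_le_mul_left p (Subgroup.card_le_of_le (le_inf hB₁A hcase)))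
    have h4 := hoff.trans (Nat.mul_le_mul_right _ h3)
    rw [h2, mul_comm p (Nat.card D), mul_assoc, mul_comm (Nat.card D) _] at h4
    exact Nat.le_of_mul_le_mul_right h4 Nat.card_pos
  exfalso
  have hlt := hsmall B₁ hB₁A (hDB.trans le_sup_left) hcase hB₁ne
  have heq : V ⊓ centralizer (B₁ : Set G) = V ⊓ centralizer (A : Set G) := by
    refine (Subgroup.eq_of_le_of_card_ge hcC ?_).symm
    obtain ⟨i, hi⟩ := IsPGroup.iff_card.1 ((CfsgLib.PGroup.elemAb_isPGroup hV).to_le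
      (inf_le_left : V ⊓ centralizer (B₁ : Set G) ≤ V))
    obtain ⟨j, hj⟩ := IsPGroup.iff_card.1 ((CfsgLib.PGroup.elemAb_isPGroup hV).to_le
      (inf_le_left : V ⊓ centralizer (A : Set G) ≤ V))
    have h1 : Nat.card B₁ * p ^ i < Nat.card B₁ * p ^ (j + 1) := by
      calc Nat.card B₁ * p ^ i = Nat.card B₁ * Nat.card ↥(V ⊓ centralizer (B₁ : Set G)) := by rw [hi]
        _ < Nat.card V * Nat.card ↥D := hlt
        _ ≤ Nat.card A * Nat.card ↥(V ⊓ centralizer (A : Set G)) := hoff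
        _ ≤ p * Nat.card B₁ * p ^ j := by rw [hj]; exact Nat.mul_le_mul_right _ hcardA
        _ = Nat.card B₁ * p ^ (j + 1) := by ring
    rw [hi, hj]
    exact Nat.pow_le_pow_right hp.out.pos
      (by have := (Nat.pow_lt_pow_iff_right hp.out.one_lt).1 (Nat.lt_of_mul_lt_mul_left h1); omega)
  set W := V ⊓ centralizer (B : Set G) with hW
  have haW : a ∈ normalizer (W : Set G) := CfsgLib.LocalEven.mem_normalizer_of_conj_le (by
    rintro _ ⟨w, hw, rfl⟩
    have hw' : w ∈ V ⊓ centralizer (B : Set G) := hw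
    refine Subgroup.mem_inf.2 ⟨(inferInstance : V.Normal).conj_mem w hw'.1 a, ?_⟩
    have haB : a ∈ centralizer (B : Set G) := Subgroup.mem_centralizer_iff.2 fun b hb => hAc b (hBA hb) a haA
    exact mul_mem (mul_mem haB hw'.2) (inv_mem haB))
  have haw : ∀ w ∈ W, a * w = w * a := by
    refine commute_of_fixed_pow (CfsgLib.PGroup.elemAb_mono hV inf_le_left) haW
      (hA.to_le (Subgroup.zpowers_le.2 haA)) fun w hw hwp => ?_
    have h1 : w ∈ V ⊓ centralizer (B₁ : Set G) := by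
      refine Subgroup.mem_inf.2 ⟨hw.1, ?_⟩
      have h5 : B₁ ≤ centralizer (zpowers w : Set G) := by
        refine sup_le (Subgroup.le_centralizer_iff.1 (Subgroup.zpowers_le.2 hw.2)) (Subgroup.zpowers_le.2 ?_)
        rw [Subgroup.zpowers_eq_closure, Subgroup.centralizer_closure, Subgroup.mem_centralizer_singleton_iff]
        exact hwp
      exact Subgroup.le_centralizer_iff.1 h5 (mem_zpowers _)
    rw [heq] at h1
    exact Subgroup.mem_centralizer_iff.1 h1.2 a haA
  -- a contradiction from the `A × B` lemma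
  apply hBgood
  intro r hr
  refine mem_centralizer_map fun x hx => ?_
  obtain ⟨b, hb, j, rfl⟩ := hdec x hx
  have hrb : ∀ b ∈ B, π b * r = r * π b := fun b hb => Subgroup.mem_centralizer_iff.1 hr.2 _ ⟨b, hb, rfl⟩
  suffices hra : Commute (π a) r by
    rw [map_mul, map_zpow]
    exact ((show Commute (π b) r from hrb b hb).mul_left (hra.zpow_left j)).eq
  obtain ⟨r₀, hr₀, hr₀r⟩ := hr.1
  have hbr : ∀ b ∈ B, ⁅b, r₀⁆ ∈ centralizer (V : Set G) := fun b hb => by
    rw [hCV, ← hπH, map_commutatorElement, commutatorElement_eq_one_iff_mul_comm, hr₀r]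
    exact hrb b hb
  have hr₀W : ∀ w ∈ W, ∀ g : G, (∀ b ∈ B, ⁅b, g⁆ ∈ centralizer (V : Set G)) → g * w * g⁻¹ ∈ W := by
    intro w hw g hg
    refine Subgroup.mem_inf.2 ⟨(inferInstance : V.Normal).conj_mem w hw.1 g, Subgroup.mem_centralizer_iff.2 fun b hb => ?_⟩
    have hbw : b * w * b⁻¹ = w := mul_inv_eq_iff_eq_mul.2 (Subgroup.mem_centralizer_iff.1 hw.2 b hb)
    have h1 := Subgroup.mem_centralizer_iff.1 (hg b hb) _
      ((inferInstance : V.Normal).conj_mem _ hw.1 g)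
    have h2 : b * (g * w * g⁻¹) * b⁻¹ = g * w * g⁻¹ := by
      calc b * (g * w * g⁻¹) * b⁻¹ = ⁅b, g⁆ * (g * (b * w * b⁻¹) * g⁻¹) * ⁅b, g⁆⁻¹ := by
            rw [commutatorElement_def]; group
        _ = g * w * g⁻¹ := by rw [hbw, ← h1, mul_inv_cancel_right]
    exact mul_inv_eq_iff_eq_mul.1 h2
  set c := ⁅r₀, a⁆ with hc
  have hcK : π c ∈ Kb := by
    refine ⟨c, ?_, rfl⟩
    rw [hc, show ⁅r₀, a⁆ = r₀ * (a * r₀⁻¹ * a⁻¹) by rw [commutatorElement_def]; group]
    exact mul_mem hr₀ ((inferInstance : K.Normal).conj_mem _ (inv_mem hr₀) a)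
  obtain ⟨m, hm, hmo⟩ := exists_coprime_lift (p := p) π c
    (hKbcard.coprime_dvd_left (Subgroup.orderOf_dvd_natCard _ hcK))
  set y := c ^ m with hy
  have hyV : y ∈ centralizer (V : Set G) := by
    refine mem_centralizer_of_fixed hV (hA.to_le hBA) hmo (fun b hb => ?_) fun v hv hvB => ?_
    · rw [hCV, ← hπH, map_commutatorElement, hm, commutatorElement_eq_one_iff_mul_comm, hc, map_commutatorElement, hr₀r]
      have h1 : Commute (π b) r := hrb b hb
      have h2 : Commute (π b) (π a) := (show Commute b a from hAc b (hBA hb) a haA).map π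
      rw [commutatorElement_def]
      exact (((h1.mul_right h2).mul_right h1.inv_right).mul_right h2.inv_right).eq
    · refine ((Commute.pow_left ?_ m : Commute y v)).eq
      have hvW : v ∈ W := Subgroup.mem_inf.2 ⟨hv, Subgroup.mem_centralizer_iff.2 hvB⟩
      have h1 : r₀⁻¹ * v * r₀ ∈ W := by
        have := hr₀W v hvW r₀⁻¹ (fun b hb => by
          rw [hCV, ← hπH, map_commutatorElement, map_inv, commutatorElement_eq_one_iff_mul_comm, hr₀r]
          exact ((show Commute (π b) r from hrb b hb).inv_right).eq)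
        rwa [inv_inv] at this
      have e1 : a⁻¹ * v * a = v := by rw [mul_assoc, ← haw v hvW, inv_mul_cancel_left]
      have e2 : a * (r₀⁻¹ * v * r₀) * a⁻¹ = r₀⁻¹ * v * r₀ := by rw [haw _ h1, mul_inv_cancel_right]
      refine mul_inv_eq_iff_eq_mul.1 ?_
      calc c * v * c⁻¹ = r₀ * (a * (r₀⁻¹ * (a⁻¹ * v * a) * r₀) * a⁻¹) * r₀⁻¹ := by
            rw [hc, commutatorElement_def]; group
        _ = v := by rw [e1, e2]; group
  rw [hCV, ← hπH, hm, hc, map_commutatorElement, commutatorElement_eq_one_iff_mul_comm, hr₀r] at hyV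
  exact hyV.symm

theorem exists_transvection {V H K : Subgroup G} [V.Normal] [H.Normal] [K.Normal]
    (hV : IsElementaryAbelian p V) (hCV : centralizer (V : Set G) = H)
    (hK : (H.relIndex K).Coprime p)
    (hfaith : ∀ y : G, IsPGroup p (zpowers y) → (∀ k ∈ K, ⁅y, k⁆ ∈ H) → y ∈ H) {A : Subgroup G} (hA : IsPGroup p A)
    (hAc : ∀ a ∈ A, ∀ b ∈ A, a * b = b * a) (hAH : ¬ A ≤ H)
    (hoff : Nat.card V * Nat.card ↥(A ⊓ H) ≤ Nat.card A * Nat.card ↥(V ⊓ centralizer (A : Set G))) :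
    ∃ a : G, IsPGroup p (zpowers a) ∧ a ∉ H ∧ a ^ p ∈ H ∧
      Nat.card V ≤ p * Nat.card ↥(V ⊓ centralizer (zpowers a : Set G)) :=
  exists_transvection_aux hV hCV hK hfaith _ A le_rfl hA hAc hAH hoff

end CfsgLib.LocalEven.Offender
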