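import Cfsg.Prelude.Def_LocalEven
import Cfsg.Agent.Lib.LocalEven.Transvection

/-!
A transvection in characteristic two yields a section isomorphic to the symmetric group of degree four;
inheritance of `Involves` by subgroups and quotients.
-/

set_option autoImplicit false

namespace CfsgLib.LocalEven.Offender

open Subgroup Cfsg
open scoped commutatorElement

universe u v w

theorem involves_of_hom {H : Type w} [Group H] {G : Type u} [Group G] (X : Subgroup G)
    (f : X →* H) (hf : Function.Surjective f) : Involves H G := by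
  have h0 : (f.ker.map X.subtype).subgroupOf X = f.ker :=
    Subgroup.comap_map_eq_self_of_injective X.subtype_injective _
  have hn : ((f.ker.map X.subtype).subgroupOf X).Normal := by rw [h0]; infer_instance
  exact ⟨X, f.ker.map X.subtype, hn, ⟨(QuotientGroup.quotientMulEquivOfEq h0).trans
    (QuotientGroup.quotientKerEquivOfSurjective f hf)⟩⟩

theorem exists_hom_of_involves {H : Type w} [Group H] {G : Type u} [Group G] (h : Involves H G) :
    ∃ (X : Subgroup G) (f : X →* H), Function.Surjective f := by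
  obtain ⟨X, R, hn, ⟨e⟩⟩ := h
  exact ⟨X, e.toMonoidHom.comp (QuotientGroup.mk' (R.subgroupOf X)),
    e.surjective.comp (QuotientGroup.mk'_surjective _)⟩

/-- `Involves` passes up along injective homomorphisms. -/
theorem involves_of_injective {H : Type w} [Group H] {G : Type u} [Group G] {G' : Type v} [Group G']
    (φ : G' →* G) (hφ : Function.Injective φ) (h : Involves H G') : Involves H G := by
  obtain ⟨X, f, hf⟩ := exists_hom_of_involves h
  set e := X.equivMapOfInjective φ hφ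
  exact involves_of_hom (X.map φ) (f.comp e.symm.toMonoidHom) (hf.comp e.symm.surjective)

/-- `Involves` lifts through surjective homomorphisms. -/
theorem involves_of_surjective {H : Type w} [Group H] {G : Type u} [Group G] {G' : Type v} [Group G']
    (φ : G →* G') (hφ : Function.Surjective φ) (h : Involves H G') : Involves H G := by
  obtain ⟨X, f, hf⟩ := exists_hom_of_involves h
  exact involves_of_hom (X.comap φ) (f.comp (φ.subgroupComap X))
    (hf.comp (MonoidHom.subgroupComap_surjective_of_surjective φ X hφ))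

variable {G : Type u} [Group G] [Finite G]

/-- A transvection on a faithful module of an odd-by-2 group gives a section `S₄`. -/
theorem involves_perm_four {V H K : Subgroup G} [V.Normal] [H.Normal] [K.Normal]
    (hV : IsElementaryAbelian 2 V) (hCV : centralizer (V : Set G) = H) (hH : IsPGroup 2 H)
    (hK : (H.relIndex K).Coprime 2)
    (hfaith : ∀ y : G, IsPGroup 2 (zpowers y) → (∀ k ∈ K, ⁅y, k⁆ ∈ H) → y ∈ H)
    {a : G} (ha : IsPGroup 2 (zpowers a)) (haH : a ∉ H) (ha2 : a ^ 2 ∈ H)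
    (hcard : Nat.card V ≤ 2 * Nat.card ↥(V ⊓ centralizer (zpowers a : Set G))) :
    Involves (Equiv.Perm (Fin 4)) G := by
  haveI : Fact (Nat.Prime 2) := ⟨Nat.prime_two⟩
  haveI : Fact (Nat.Prime 3) := ⟨Nat.prime_three⟩
  set π := QuotientGroup.mk' H with hπ
  have hπH : ∀ x : G, π x = 1 ↔ x ∈ H := fun x => QuotientGroup.eq_one_iff x
  have ha2' : π a * π a = 1 := by rw [← map_mul, hπH, ← pow_two]; exact ha2
  obtain ⟨k, hk, hak⟩ : ∃ k ∈ K, ⁅a, k⁆ ∉ H := by
    by_contra hall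
    push Not at hall
    exact haH (hfaith _ ha hall)
  set c := π ⁅a, k⁆ with hc
  have hc1 : c ≠ 1 := fun h => hak ((hπH _).1 h)
  have hinv : π a * c * (π a)⁻¹ = c⁻¹ := by
    have hai : (π a)⁻¹ = π a := inv_eq_of_mul_eq_one_right ha2'
    rw [hc, map_commutatorElement, commutatorElement_def]
    simp only [mul_inv_rev, inv_inv, hai]
    calc π a * (π a * π k * π a * (π k)⁻¹) * π a
        = π a * π a * (π k * π a * (π k)⁻¹ * π a) := by group
      _ = π k * π a * (π k)⁻¹ * π a := by rw [ha2', one_mul]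
      _ = π k * (π a * ((π k)⁻¹ * π a)) := by group
  have hcK : c ∈ K.map π := ⟨⁅a, k⁆, by
    rw [show ⁅a, k⁆ = (a * k * a⁻¹) * k⁻¹ from commutatorElement_def _ _]
    exact mul_mem ((inferInstance : K.Normal).conj_mem _ hk a) (inv_mem hk), rfl⟩
  have hcodd : (orderOf c).Coprime 2 := by
    refine Nat.Coprime.coprime_dvd_left (Subgroup.orderOf_dvd_natCard _ hcK) ?_
    rw [← Subgroup.relIndex_ker, QuotientGroup.ker_mk']
    exact hK
  obtain ⟨m, hm, hmo⟩ := exists_coprime_lift (p := 2) π ⁅a, k⁆ hcodd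
  set y := ⁅a, k⁆ ^ m with hy
  have hπy : π y = c := hm
  have hyH : y ∉ H := fun h => hc1 (hπy ▸ (hπH y).2 h)
  -- `y` fixes a subgroup of index at most `4`
  set U := V ⊓ centralizer (zpowers a : Set G) with hU
  set U' := U.map (MulAut.conj k).toMonoidHom with hU'
  have hUV : U ≤ V := inf_le_left
  have hU'V : U' ≤ V := by
    rintro _ ⟨u, hu, rfl⟩
    exact (inferInstance : V.Normal).conj_mem u (hUV hu) k
  have hfix : ∀ v ∈ U ⊓ U', y * v = v * y := by
    intro v hv
    have hv' : v ∈ U ∧ v ∈ U' := Subgroup.mem_inf.1 hv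
    refine ((Commute.pow_left ?_ m : Commute y v)).eq
    have h1 : Commute a v := Subgroup.mem_centralizer_iff.1 (Subgroup.mem_inf.1 hv'.1).2 a (mem_zpowers a)
    obtain ⟨u, hu, huv⟩ := hv'.2
    have h2 : Commute a u := Subgroup.mem_centralizer_iff.1 (Subgroup.mem_inf.1 hu).2 a (mem_zpowers a)
    have h3 : Commute (k * a⁻¹ * k⁻¹) v := by
      change k * u * k⁻¹ = v at huv
      rw [← huv]
      show k * a⁻¹ * k⁻¹ * (k * u * k⁻¹) = k * u * k⁻¹ * (k * a⁻¹ * k⁻¹)
      calc k * a⁻¹ * k⁻¹ * (k * u * k⁻¹) = k * (a⁻¹ * u) * k⁻¹ := by group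
        _ = k * (u * a⁻¹) * k⁻¹ := by rw [h2.inv_left.eq]
        _ = k * u * k⁻¹ * (k * a⁻¹ * k⁻¹) := by group
    have e : ⁅a, k⁆ = a * (k * a⁻¹ * k⁻¹) := by rw [commutatorElement_def]; group
    rw [e]
    exact h1.mul_left h3
  have hVe : ∀ {S : Subgroup G}, S ≤ V → ∃ i, Nat.card S = 2 ^ i := fun {S} hS =>
    IsPGroup.iff_card.1 ((CfsgLib.PGroup.elemAb_isPGroup hV).to_le hS)
  haveI : IsMulCommutative V := hV.1
  have hidx : Nat.card V ≤ 4 * Nat.card ↥(U ⊓ U') := by
    have h1 : U.relIndex V ≤ 2 := by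
      have h := Subgroup.relIndex_mul_relIndex ⊥ U V bot_le hUV
      rw [Subgroup.relIndex_bot_left, Subgroup.relIndex_bot_left] at h
      exact Nat.le_of_mul_le_mul_left (h.le.trans (hcard.trans_eq (mul_comm _ _))) Nat.card_pos
    have h2 : U'.relIndex V ≤ 2 := by
      have h := Subgroup.relIndex_mul_relIndex ⊥ U' V bot_le hU'V
      rw [Subgroup.relIndex_bot_left, Subgroup.relIndex_bot_left] at h
      have hcU : Nat.card U' = Nat.card U := Subgroup.card_map_of_injective (MulAut.conj k).injective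
      rw [hcU] at h
      exact Nat.le_of_mul_le_mul_left (h.le.trans (hcard.trans_eq (mul_comm _ _))) Nat.card_pos
    have h3 := (Subgroup.relIndex_inf_le (H := U) (K := U') (L := V)).trans (Nat.mul_le_mul h1 h2)
    have h := Subgroup.relIndex_mul_relIndex ⊥ (U ⊓ U') V bot_le (inf_le_left.trans hUV)
    rw [Subgroup.relIndex_bot_left, Subgroup.relIndex_bot_left] at h
    rw [← h, mul_comm 4]
    exact Nat.mul_le_mul_left _ h3
  have hcopy : (Nat.card (zpowers y)).Coprime (Nat.card V) := by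
    obtain ⟨i, hi⟩ := hVe (le_refl V)
    rw [Nat.card_zpowers, hi]
    exact hmo.pow_right i
  have hyV : zpowers y ≤ normalizer (V : Set G) := by rw [Subgroup.normalizer_eq_top]; exact le_top
  set C₀ := V ⊓ centralizer (zpowers y : Set G) with hC₀
  set V₀ := ⁅V, zpowers y⁆ with hV₀
  have hV₀V : V₀ ≤ V := CfsgLib.Solvable.commutator_le_of_le_normalizer hyV
  have hdisj : C₀ ⊓ V₀ = ⊥ := CfsgLib.Solvable.inf_centralizer_inf_commutator (zpowers y) V hyV hcopy
  have hsup : V₀ ⊔ C₀ = V :=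
    CfsgLib.Solvable.commutator_sup_centralizer hyV hcopy (Or.inl inferInstance)
  have hcomm0 : ∀ s ∈ U ⊓ U', s ∈ C₀ := fun s hs => by
    refine Subgroup.mem_inf.2 ⟨hUV (Subgroup.mem_inf.1 hs).1, ?_⟩
    rw [Subgroup.zpowers_eq_closure, Subgroup.centralizer_closure, Subgroup.mem_centralizer_singleton_iff]
    exact (hfix s hs).symm
  have hV₀4 : Nat.card V₀ ≤ 4 := by
    have hprod : Nat.card C₀ * Nat.card V₀ ≤ Nat.card V := by
      rw [← Nat.card_prod]
      exact Nat.card_le_card_of_injective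
        (fun w => (⟨(w.1 : G) * w.2, mul_mem ((inf_le_left : C₀ ≤ V) w.1.2) (hV₀V w.2.2)⟩ : V))
        (fun w w' h => Subgroup.mul_injective_of_disjoint (disjoint_iff.2 hdisj) (congrArg Subtype.val h))
    have h1 : Nat.card C₀ * Nat.card V₀ ≤ Nat.card C₀ * 4 :=
      hprod.trans (hidx.trans (by rw [mul_comm (Nat.card C₀)]; exact Nat.mul_le_mul_left 4 (Subgroup.card_le_of_le hcomm0)))
    exact Nat.le_of_mul_le_mul_left h1 Nat.card_pos
  have hynV₀ : ∀ v ∈ V₀, y * v * y⁻¹ ∈ V₀ := fun v hv =>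
    (Subgroup.mem_normalizer_iff.1 (CfsgLib.Solvable.le_normalizer_commutator_right hyV (mem_zpowers y)) v).1 hv
  have hfree : ∀ v ∈ V₀, v ≠ 1 → y * v * y⁻¹ ≠ v := by
    intro v hv hv1 h
    apply hv1
    have hvC : v ∈ C₀ := by
      refine Subgroup.mem_inf.2 ⟨hV₀V hv, ?_⟩
      rw [Subgroup.zpowers_eq_closure, Subgroup.centralizer_closure, Subgroup.mem_centralizer_singleton_iff]
      exact (mul_inv_eq_iff_eq_mul.1 h).symm
    exact Subgroup.mem_bot.1 (hdisj.le (Subgroup.mem_inf.2 ⟨hvC, hv⟩))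
  obtain ⟨w, hw, hw1⟩ : ∃ w ∈ V₀, w ≠ 1 := by
    by_contra hall
    push Not at hall
    apply hyH
    rw [← hCV]
    refine Subgroup.mem_centralizer_iff.2 fun v hv => ?_
    have hv' : v ∈ V₀ ⊔ C₀ := hsup.ge hv
    rw [(Subgroup.eq_bot_iff_forall _).2 hall, bot_sup_eq] at hv'
    exact (Subgroup.mem_centralizer_iff.1 (Subgroup.mem_inf.1 hv').2 y (mem_zpowers y)).symm
  set w₂ := y * w * y⁻¹ with hw₂
  have hw₂V : w₂ ∈ V₀ := hynV₀ w hw
  have hsq : ∀ v ∈ V₀, v * v = 1 := fun v hv => by rw [← pow_two]; exact hV.2 v (hV₀V hv)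
  have hw21 : w₂ ≠ 1 := fun h => hw1 (by rwa [hw₂, conj_eq_one_iff] at h)
  have hne : w ≠ w₂ := (hfree w hw hw1).symm
  have h31 : w * w₂ ≠ 1 := fun h => hne ((mul_left_cancel ((hsq w hw).trans h.symm)))
  have h3w : w * w₂ ≠ w := fun h => hw21 (mul_left_cancel (h.trans (mul_one w).symm))
  have h3w₂ : w * w₂ ≠ w₂ := fun h => hw1 (mul_right_cancel (h.trans (one_mul w₂).symm))
  haveI : Fintype V₀ := Fintype.ofFinite _
  classical
  set T : Finset V₀ := {1, ⟨w, hw⟩, ⟨w₂, hw₂V⟩, ⟨w * w₂, mul_mem hw hw₂V⟩} with hT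
  have hT4 : T.card = 4 := by
    rw [hT, Finset.card_insert_of_notMem, Finset.card_insert_of_notMem, Finset.card_insert_of_notMem,
      Finset.card_singleton]
    · simp [Subtype.ext_iff, h3w₂.symm]
    · simp [Subtype.ext_iff, hne, h3w.symm]
    · simp [Subtype.ext_iff, Ne.symm hw1, Ne.symm hw21, Ne.symm h31]
  have hV₀eq : Nat.card V₀ = 4 := by
    refine le_antisymm hV₀4 ?_
    rw [Nat.card_eq_fintype_card, ← hT4]
    exact Finset.card_le_univ T
  have hall4 : ∀ v ∈ V₀, v = 1 ∨ v = w ∨ v = w₂ ∨ v = w * w₂ := by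
    intro v hv
    have hTu : T = Finset.univ :=
      Finset.eq_univ_of_card T (by rw [hT4, ← hV₀eq, Nat.card_eq_fintype_card])
    have := Finset.mem_univ (⟨v, hv⟩ : V₀)
    rw [← hTu, hT] at this
    simpa [Subtype.ext_iff] using this
  have hw₃ : y * w₂ * y⁻¹ = w * w₂ := by
    rcases hall4 _ (hynV₀ w₂ hw₂V) with h | h | h | h
    · exact absurd (conj_eq_one_iff.1 h) hw21
    · refine absurd ?_ (hfree _ (mul_mem hw hw₂V) h31)
      calc y * (w * w₂) * y⁻¹ = (y * w * y⁻¹) * (y * w₂ * y⁻¹) := by group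
        _ = w₂ * w := by rw [h, ← hw₂]
        _ = w * w₂ := congrArg Subtype.val (hV.1.is_comm.comm ⟨w₂, hV₀V hw₂V⟩ ⟨w, hV₀V hw⟩)
    · exact absurd h (hfree w₂ hw₂V hw21)
    · exact h
  have hy3V₀ : ∀ v ∈ V₀, y ^ 3 * v = v * y ^ 3 := by
    have hw₄ : y * (w * w₂) * y⁻¹ = w := by
      calc y * (w * w₂) * y⁻¹ = (y * w * y⁻¹) * (y * w₂ * y⁻¹) := by group
        _ = w₂ * (w * w₂) := by rw [hw₃, ← hw₂]
        _ = w₂ * (w₂ * w) := by
            rw [show w * w₂ = w₂ * w from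
              congrArg Subtype.val (hV.1.is_comm.comm ⟨w, hV₀V hw⟩ ⟨w₂, hV₀V hw₂V⟩)]
        _ = w := by rw [← mul_assoc, hsq w₂ hw₂V, one_mul]
    have hy3w : y ^ 3 * w * (y ^ 3)⁻¹ = w := by
      calc y ^ 3 * w * (y ^ 3)⁻¹ = y * (y * (y * w * y⁻¹) * y⁻¹) * y⁻¹ := by simp [pow_succ, mul_assoc]
        _ = w := by rw [← hw₂, hw₃, hw₄]
    have hc1' : Commute (y ^ 3) w := mul_inv_eq_iff_eq_mul.1 hy3w
    have hc2' : Commute (y ^ 3) w₂ := by
      rw [hw₂]
      have hcy : Commute (y ^ 3) y := (Commute.refl y).pow_left 3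
      exact (hcy.mul_right hc1').mul_right hcy.inv_right
    intro v hv
    rcases hall4 v hv with rfl | rfl | rfl | rfl
    · exact (Commute.one_right _).eq
    · exact hc1'.eq
    · exact hc2'.eq
    · exact (hc1'.mul_right hc2').eq
  have hy3 : y ^ 3 = 1 := by
    have h1 : y ^ 3 ∈ H := by
      rw [← hCV]
      refine Subgroup.mem_centralizer_iff.2 fun v hv => ?_
      have hv' : v ∈ V₀ ⊔ C₀ := hsup.ge hv
      have hle : V₀ ⊔ C₀ ≤ centralizer (zpowers (y ^ 3) : Set G) := by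
        refine sup_le (fun x hx => ?_) fun x hx => ?_
        · rw [Subgroup.zpowers_eq_closure, Subgroup.centralizer_closure, Subgroup.mem_centralizer_singleton_iff]
          exact (hy3V₀ x hx).symm
        · exact Subgroup.centralizer_le (Subgroup.zpowers_le.2 (pow_mem (mem_zpowers y) 3)) (Subgroup.mem_inf.1 hx).2
      exact (Subgroup.mem_centralizer_iff.1 (hle hv') _ (mem_zpowers _)).symm
    exact CfsgLib.LocalEven.eq_one_of_pow_eq_one_of_pGroup hH h1
      (hmo.coprime_dvd_left (orderOf_pow_dvd 3)) (pow_orderOf_eq_one _)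
  have hyo : orderOf y = 3 := orderOf_eq_prime hy3 fun h => hyH (h ▸ one_mem H)
  have hπinj : ∀ z ∈ zpowers y, π z = 1 → z = 1 := by
    intro z hz h
    exact CfsgLib.LocalEven.eq_one_of_pow_eq_one_of_pGroup hH ((hπH z).1 h)
      (hmo.coprime_dvd_left (orderOf_dvd_of_mem_zpowers hz)) (pow_orderOf_eq_one _)
  -- an element inverting `y`
  set M := H ⊔ zpowers y with hM
  have haM : a * y * a⁻¹ ∈ M := by
    have h1 : π (a * y * a⁻¹ * y) = 1 := by rw [map_mul, map_mul, map_mul, map_inv, hπy, hinv, inv_mul_cancel]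
    have h2 := mul_mem (Subgroup.mem_sup_left ((hπH _).1 h1) : _ ∈ M)
      (inv_mem (Subgroup.mem_sup_right (mem_zpowers y) : y ∈ M))
    rwa [mul_inv_cancel_right] at h2
  have hyM : zpowers y ≤ M := le_sup_right
  have hidx3 : ¬ 3 ∣ ((zpowers y).subgroupOf M).index := by
    intro hd
    have h1 := Subgroup.card_mul_index ((zpowers y).subgroupOf M)
    rw [Nat.card_congr (Subgroup.subgroupOfEquivOfLe hyM).toEquiv] at h1
    have h2 : ((zpowers y).subgroupOf M).index ∣ Nat.card H := by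
      refine Nat.dvd_of_mul_dvd_mul_left (Nat.card_pos (α := zpowers y)) ?_
      rw [h1, mul_comm]
      exact CfsgLib.Cores.card_sup_dvd_mul H (zpowers y)
    obtain ⟨i, hi⟩ := IsPGroup.iff_card.1 hH
    rw [hi] at h2
    exact absurd (Nat.prime_three.dvd_of_dvd_pow (hd.trans h2)) (by decide)
  have hy3g : IsPGroup 3 ((zpowers y).subgroupOf M) := by
    refine IsPGroup.of_card (n := 1) ?_
    rw [Nat.card_congr (Subgroup.subgroupOfEquivOfLe hyM).toEquiv, Nat.card_zpowers, hyo, pow_one]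
  let P₃ : Sylow 3 M := hy3g.toSylow hidx3
  have hy3g' : IsPGroup 3 (zpowers (⟨a * y * a⁻¹, haM⟩ : M)) := by
    refine IsPGroup.of_card (n := 1) ?_
    rw [Nat.card_zpowers, Subgroup.orderOf_mk, ← MulAut.conj_apply, MulEquiv.orderOf_eq, hyo, pow_one]
  obtain ⟨Q₃, hQ₃⟩ := hy3g'.exists_le_sylow
  obtain ⟨g, hg⟩ := MulAction.exists_smul_eq M Q₃ P₃
  set x := (g : G) * a with hx
  have hxy : x * y * x⁻¹ ∈ zpowers y := by
    have h1 : (g * ⟨a * y * a⁻¹, haM⟩ * g⁻¹ : M) ∈ (P₃ : Subgroup M) := by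
      rw [← hg, Sylow.coe_subgroup_smul]
      exact ⟨_, hQ₃ (mem_zpowers _), rfl⟩
    have h2 : ((g * ⟨a * y * a⁻¹, haM⟩ * g⁻¹ : M) : G) ∈ zpowers y := h1
    rw [show x * y * x⁻¹ = (g : G) * (a * y * a⁻¹) * (g : G)⁻¹ by rw [hx]; group]
    exact h2
  have hgc : ∃ i : ℤ, π g = c ^ i := by
    have h1 : M.map π ≤ zpowers c := by
      rw [hM, Subgroup.map_sup, QuotientGroup.map_mk'_self, bot_sup_eq, MonoidHom.map_zpowers, hπy]
    obtain ⟨i, hi⟩ := Subgroup.mem_zpowers_iff.1 (h1 ⟨g, g.2, rfl⟩)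
    exact ⟨i, hi.symm⟩
  obtain ⟨i, hi⟩ := hgc
  have hxinv : x * y * x⁻¹ = y⁻¹ := by
    have h1 : π (x * y * x⁻¹ * y) = 1 := by
      simp only [hx, map_mul, map_inv, mul_inv_rev, hπy, hi]
      calc c ^ i * π a * c * ((π a)⁻¹ * (c ^ i)⁻¹) * c = c ^ i * (π a * c * (π a)⁻¹) * (c ^ i)⁻¹ * c := by group
        _ = 1 := by rw [hinv]; group
    exact eq_inv_of_mul_eq_one_left (hπinj _ (mul_mem hxy (mem_zpowers y)) h1)
  have hx2 : x * x ∈ H := by
    rw [← hπH]
    simp only [hx, map_mul, hi]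
    have h1 : π a * c ^ i = (c ^ i)⁻¹ * π a := by
      have h2 : π a * c ^ i * (π a)⁻¹ = (c ^ i)⁻¹ := by rw [← conj_zpow, hinv, inv_zpow]
      rw [← h2, inv_mul_cancel_right]
    calc c ^ i * π a * (c ^ i * π a) = c ^ i * (π a * c ^ i) * π a := by group
      _ = π a * π a := by rw [h1]; group
      _ = 1 := ha2'
  -- the complement of `V₀`
  set N := zpowers y ⊔ zpowers x with hN
  have hxny : x ∈ normalizer (zpowers y : Set G) := by
    refine CfsgLib.LocalEven.mem_normalizer_of_conj_le ?_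
    rw [MonoidHom.map_zpowers]
    show zpowers (x * y * x⁻¹) ≤ zpowers y
    exact Subgroup.zpowers_le.2 hxy
  have hNy : N ≤ normalizer (zpowers y : Set G) :=
    sup_le Subgroup.le_normalizer (Subgroup.zpowers_le.2 hxny)
  have hNV₀ : N ≤ normalizer (V₀ : Set G) := fun n hn => by
    have h1 : V.map (MulAut.conj n).toMonoidHom = V :=
      Subgroup.mem_normalizer_iff_map_conj_eq.1 (by rw [Subgroup.normalizer_eq_top]; trivial)
    rw [Subgroup.mem_normalizer_iff_map_conj_eq, hV₀]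
    exact (Subgroup.map_commutator _ _ _).trans
      (congrArg₂ (fun A B : Subgroup G => ⁅A, B⁆) h1 (Subgroup.mem_normalizer_iff_map_conj_eq.1 (hNy hn)))
  have hNV : ∀ v ∈ V₀, v ∈ N → v = 1 := by
    intro v hv hvN
    by_contra hv1
    apply hfree v hv hv1
    have h1 : ⁅v, y⁆ ∈ zpowers y := by
      rw [commutatorElement_def]
      exact mul_mem ((Subgroup.mem_normalizer_iff.1 (hNy hvN) y).1 (mem_zpowers y)) (inv_mem (mem_zpowers y))
    have h2 : ⁅v, y⁆ ∈ V := by
      rw [commutatorElement_def, mul_assoc, mul_assoc]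
      refine mul_mem (hV₀V hv) ?_
      rw [← mul_assoc]
      exact (inferInstance : V.Normal).conj_mem _ (inv_mem (hV₀V hv)) y
    have h3 : ⁅v, y⁆ = 1 := CfsgLib.LocalEven.eq_one_of_pow_eq_one_of_pGroup (CfsgLib.PGroup.elemAb_isPGroup hV) h2
      (hmo.coprime_dvd_left (orderOf_dvd_of_mem_zpowers h1)) (pow_orderOf_eq_one _)
    rw [commutatorElement_eq_one_iff_mul_comm] at h3
    rw [← h3, mul_inv_cancel_right]
  set X := V₀ ⊔ N with hX
  set N' := N.subgroupOf X with hN'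
  have hcardX : Nat.card X = 4 * Nat.card N := by
    rw [← hV₀eq, ← Nat.card_prod]
    refine (Nat.card_congr (Equiv.ofBijective (fun w => (⟨(w.1 : G) * w.2, Subgroup.mul_mem_sup w.1.2 w.2.2⟩ : X))
      ⟨fun w w' h => Subgroup.mul_injective_of_disjoint
        (Subgroup.disjoint_def.2 fun hv hn => hNV _ hv hn) (congrArg Subtype.val h), ?_⟩)).symm
    rintro ⟨z, hz⟩
    have hz' : z ∈ ((V₀ ⊔ N : Subgroup G) : Set G) := hz
    rw [Subgroup.coe_mul_of_right_le_normalizer_left V₀ N hNV₀] at hz'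
    obtain ⟨v, hv, n, hn, rfl⟩ := hz'
    exact ⟨(⟨v, hv⟩, ⟨n, hn⟩), rfl⟩
  have hcos : Nat.card (X ⧸ N') = 4 := by
    have h1 := Subgroup.card_mul_index N'
    rw [Nat.card_congr (Subgroup.subgroupOfEquivOfLe (le_sup_right : N ≤ X)).toEquiv, hcardX] at h1
    rw [← Subgroup.index_eq_card]
    exact Nat.eq_of_mul_eq_mul_left (Nat.card_pos (α := N)) (by rw [h1, mul_comm])
  set φ := MulAction.toPermHom X (X ⧸ N') with hφ
  have hker : φ.ker = N'.normalCore := (Subgroup.normalCore_eq_ker N').symm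
  have hkerle : ∀ z : X, z ∈ φ.ker → (z : G) ∈ N ∧ ∀ v ∈ V₀, (z : G) * v = v * z := by
    intro z hz
    rw [hker] at hz
    have hzN : (z : G) ∈ N := Subgroup.normalCore_le N' hz
    refine ⟨hzN, fun v hv => ?_⟩
    have h1 : v * (z : G) * v⁻¹ ∈ N :=
      Subgroup.normalCore_le N' ((inferInstance : N'.normalCore.Normal).conj_mem z hz ⟨v, Subgroup.mem_sup_left hv⟩)
    have h2 : ⁅v, (z : G)⁆ ∈ N := by rw [commutatorElement_def]; exact mul_mem h1 (inv_mem hzN)
    have h3 : ⁅v, (z : G)⁆ ∈ V₀ := by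
      rw [commutatorElement_def, mul_assoc, mul_assoc]
      refine mul_mem hv ?_
      rw [← mul_assoc]
      exact (Subgroup.mem_normalizer_iff.1 (hNV₀ hzN) _).1 (inv_mem hv)
    exact (commutatorElement_eq_one_iff_mul_comm.1 (hNV _ h3 h2)).symm
  -- six cosets of the kernel inside `N'`
  have hy_mem : y ∈ X := Subgroup.mem_sup_right (Subgroup.mem_sup_left (mem_zpowers y))
  have hx_mem : x ∈ X := Subgroup.mem_sup_right (Subgroup.mem_sup_right (mem_zpowers x))
  have hyk : (⟨y, hy_mem⟩ : X) ∉ φ.ker := fun h => hfree w hw hw1 (by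
    show y * w * y⁻¹ = w
    rw [(hkerle _ h).2 w hw, mul_inv_cancel_right])
  have hyφ : orderOf (φ ⟨y, hy_mem⟩) = 3 :=
    orderOf_eq_prime (by
      rw [← map_pow, show (⟨y, hy_mem⟩ : X) ^ 3 = 1 from Subtype.ext (by simpa using hy3), map_one])
      (fun h => hyk (MonoidHom.mem_ker.2 h))
  have hxφ : φ ⟨x, hx_mem⟩ * φ ⟨y, hy_mem⟩ * (φ ⟨x, hx_mem⟩)⁻¹ = (φ ⟨y, hy_mem⟩)⁻¹ := by
    rw [← map_inv, ← map_inv, ← map_mul, ← map_mul]
    exact congrArg φ (Subtype.ext hxinv)
  set R := φ.range with hR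
  have hR6 : 6 ≤ Nat.card (N'.map φ) := by
    set ys := φ ⟨y, hy_mem⟩ with hys
    set xs := φ ⟨x, hx_mem⟩ with hxs
    have hyN' : ys ∈ N'.map φ :=
      ⟨_, Subgroup.mem_subgroupOf.2 (show y ∈ N from Subgroup.mem_sup_left (mem_zpowers y)), rfl⟩
    have hxN' : xs ∈ N'.map φ :=
      ⟨_, Subgroup.mem_subgroupOf.2 (show x ∈ N from Subgroup.mem_sup_right (mem_zpowers x)), rfl⟩
    have hnot : xs ∉ zpowers ys := by
      intro hin
      obtain ⟨j, hj⟩ := Subgroup.mem_zpowers_iff.1 hin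
      rw [← hj] at hxφ
      have h1 : ys = ys⁻¹ := by
        rw [← hxφ, ((Commute.refl ys).zpow_left j).eq, mul_inv_cancel_right]
      have h2 : orderOf ys ∣ 2 := orderOf_dvd_of_pow_eq_one (by rw [pow_two]; nth_rewrite 2 [h1]; rw [mul_inv_cancel])
      rw [hyφ] at h2
      exact absurd h2 (by decide)
    have hylt : zpowers ys < N'.map φ :=
      lt_of_le_of_ne (Subgroup.zpowers_le.2 hyN') fun h => hnot (h.ge hxN')
    have h3 : 3 ∣ Nat.card (N'.map φ) := by
      rw [← hyφ, ← Nat.card_zpowers]; exact Subgroup.card_dvd_of_le hylt.le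
    have h4 : 3 < Nat.card (N'.map φ) := by
      rw [← hyφ, ← Nat.card_zpowers]
      exact lt_of_le_of_ne (Subgroup.card_le_of_le hylt.le) fun h => hylt.ne (Subgroup.eq_of_le_of_card_ge hylt.le h.ge)
    omega
  haveI : Fintype (X ⧸ N') := Fintype.ofFinite _
  have hsurj : Function.Surjective φ := by
    rw [← MonoidHom.range_eq_top]
    refine Subgroup.eq_top_of_le_card _ ?_
    have h1 : Nat.card φ.range = 4 * Nat.card (N'.map φ) := by
      have hk : φ.ker ≤ N' := hker ▸ Subgroup.normalCore_le N'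
      have e1 := Subgroup.relIndex_mul_index hk
      rw [Subgroup.relIndex_ker, Subgroup.index_ker, ← hR, Subgroup.index_eq_card, hcos, mul_comm] at e1
      exact e1.symm
    rw [h1, Nat.card_perm, hcos]
    calc Nat.factorial 4 = 4 * 6 := rfl
      _ ≤ 4 * Nat.card (N'.map φ) := Nat.mul_le_mul_left 4 hR6
  have e : X ⧸ N' ≃ Fin 4 := (Finite.equivFinOfCardEq hcos)
  exact involves_of_hom X (e.permCongrHom.toMonoidHom.comp φ) (e.permCongrHom.surjective.comp hsurj)

end CfsgLib.LocalEven.Offender
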