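import Cfsg.Prelude.Def_LocalEven
import Cfsg.Agent.Lib.LocalEven.S4Section
import Mathlib.GroupTheory.SpecificGroups.Dihedral

/-!
Inverted elements and dihedral sections.
-/

set_option autoImplicit false

namespace CfsgLib.LocalEven.DihedralCrit

open Subgroup Cfsg

variable {G : Type*} [Group G] {p : ℕ}

theorem pow_val_add [NeZero p] {c : G} (hc : c ^ p = 1) (i j : ZMod p) :
    c ^ (i + j).val = c ^ i.val * c ^ j.val := by
  rw [ZMod.val_add, ← pow_add]
  exact (pow_eq_pow_mod _ hc).symm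

theorem pow_val_sub [NeZero p] {c : G} (hc : c ^ p = 1) (i j : ZMod p) :
    c ^ (j - i).val = (c ^ i.val)⁻¹ * c ^ j.val := by
  rw [eq_inv_mul_iff_mul_eq, ← pow_val_add hc, add_sub_cancel]

/-- The homomorphism from a dihedral group given by an involution inverting an element. -/
def toGroup [NeZero p] (t c : G) (ht : t * t = 1) (hc : c ^ p = 1) (h : t * c * t⁻¹ = c⁻¹) :
    DihedralGroup p →* G :=
  MonoidHom.mk'
    (fun z => match z with
      | DihedralGroup.r i => c ^ i.val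
      | DihedralGroup.sr i => t * c ^ i.val)
    (by
      have hn : ∀ n : ℕ, c ^ n * t = t * (c ^ n)⁻¹ := by
        intro n
        have h1 : t * c ^ n * t⁻¹ = (c ^ n)⁻¹ := by rw [← conj_pow, h, inv_pow]
        have h2 : (c ^ n)⁻¹ * t = t * c ^ n := by rw [← h1, inv_mul_cancel_right]
        calc c ^ n * t = c ^ n * (t * c ^ n) * (c ^ n)⁻¹ := by rw [← mul_assoc, mul_inv_cancel_right]
          _ = c ^ n * ((c ^ n)⁻¹ * t) * (c ^ n)⁻¹ := by rw [h2]
          _ = t * (c ^ n)⁻¹ := by rw [mul_inv_cancel_left]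
      rintro (i | i) (j | j)
      · simp only [DihedralGroup.r_mul_r]; exact pow_val_add hc i j
      · simp only [DihedralGroup.r_mul_sr]
        rw [pow_val_sub hc, ← mul_assoc, ← mul_assoc, hn]
      · simp only [DihedralGroup.sr_mul_r]; rw [pow_val_add hc, ← mul_assoc]
      · simp only [DihedralGroup.sr_mul_sr]
        rw [pow_val_sub hc, mul_assoc t, ← mul_assoc (c ^ i.val), hn, ← mul_assoc, ← mul_assoc, ht,
          one_mul])

@[simp] theorem toGroup_r [NeZero p] (t c : G) (ht : t * t = 1) (hc : c ^ p = 1)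
    (h : t * c * t⁻¹ = c⁻¹) (i : ZMod p) : toGroup t c ht hc h (DihedralGroup.r i) = c ^ i.val := rfl

@[simp] theorem toGroup_sr [NeZero p] (t c : G) (ht : t * t = 1) (hc : c ^ p = 1)
    (h : t * c * t⁻¹ = c⁻¹) (i : ZMod p) :
    toGroup t c ht hc h (DihedralGroup.sr i) = t * c ^ i.val := rfl

theorem toGroup_injective [NeZero p] {t c : G} (ht : t * t = 1) (hc : c ^ p = 1)
    (h : t * c * t⁻¹ = c⁻¹) (ho : orderOf c = p) (htc : t ∉ zpowers c) :
    Function.Injective (toGroup t c ht hc h) := by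
  rw [injective_iff_map_eq_one]
  rintro (i | i) hi
  · rw [toGroup_r, ← orderOf_dvd_iff_pow_eq_one, ho] at hi
    have := Nat.eq_zero_of_dvd_of_lt hi (ZMod.val_lt i)
    rw [ZMod.val_eq_zero] at this
    rw [this, DihedralGroup.one_def]
  · rw [toGroup_sr] at hi
    refine absurd ?_ htc
    rw [eq_inv_of_mul_eq_one_left hi]
    exact inv_mem (pow_mem (mem_zpowers c) _)

variable [Finite G] [hp : Fact p.Prime]

/-- An automorphism-like element of `2`-power order that inverts a coset fixes an inverted element of it. -/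
theorem exists_inverted_in_coset (hp2 : p ≠ 2) {P C : Subgroup G} (hP : IsPGroup p ↥P) {τ c : G}
    (hτ : ∃ k : ℕ, orderOf τ = 2 ^ k) (hτP : τ ∈ normalizer (P : Set G))
    (hτC : τ ∈ normalizer (C : Set G)) (hPC : P ≤ normalizer (C : Set G))
    (hc : c ∈ P) (hinv : τ * c * τ⁻¹ * c ∈ C) :
    ∃ z ∈ P, c⁻¹ * z ∈ C ∧ τ * z * τ⁻¹ = z⁻¹ := by
  classical
  have : Fact (Nat.Prime 2) := ⟨Nat.prime_two⟩
  set D := P ⊓ C with hD
  let Ω := {z : G // c⁻¹ * z ∈ D}
  have key : ∀ (g : G), g ∈ D → ∀ x ∈ P, x * g * x⁻¹ ∈ C := fun g hg x hx =>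
    (Subgroup.mem_normalizer_iff.1 (hPC hx) g).1 hg.2
  have hmem : ∀ z : G, c⁻¹ * z ∈ D → c⁻¹ * (τ * z⁻¹ * τ⁻¹) ∈ D := by
    intro z hz
    have hzP : z ∈ P := by simpa using P.mul_mem hc hz.1
    refine ⟨P.mul_mem (P.inv_mem hc) ((Subgroup.mem_normalizer_iff.1 hτP _).1 (P.inv_mem hzP)), ?_⟩
    have e : c⁻¹ * (τ * z⁻¹ * τ⁻¹) =
        c⁻¹ * (τ * (z⁻¹ * c) * τ⁻¹) * c * (τ * c * τ⁻¹ * c)⁻¹ := by group
    have h1 : τ * (z⁻¹ * c) * τ⁻¹ ∈ C := (Subgroup.mem_normalizer_iff.1 hτC _).1 (by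
      have := C.inv_mem hz.2; simpa using this)
    have hcn : ∀ g ∈ C, c⁻¹ * g * c ∈ C := fun g hg => by
      simpa using (Subgroup.mem_normalizer_iff.1 (hPC (P.inv_mem hc)) g).1 hg
    rw [e]
    exact C.mul_mem (hcn _ h1) (C.inv_mem hinv)
  let σ : Equiv.Perm Ω := Equiv.ofBijective
    (fun z => ⟨τ * z.1⁻¹ * τ⁻¹, hmem z.1 z.2⟩)
    (Finite.injective_iff_bijective.1 fun a b h => Subtype.ext (by
      simpa using congrArg Subtype.val h))
  obtain ⟨k, hk⟩ := hτ
  have hσ2 : ∀ (n : ℕ) (z : Ω), ((σ ^ (2 * n)) z).1 = τ ^ (2 * n) * z.1 * (τ ^ (2 * n))⁻¹ := by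
    intro n
    induction n with
    | zero => simp
    | succ n ih =>
      intro z
      rw [show 2 * (n + 1) = 1 + (1 + 2 * n) by ring, pow_add σ, pow_add σ, pow_one]
      show τ * (τ * ((σ ^ (2 * n)) z).1⁻¹ * τ⁻¹)⁻¹ * τ⁻¹ = _
      rw [ih]
      simp only [pow_add, pow_one]
      group
  have hσ : σ ^ (2 ^ (k + 1)) = 1 := by
    refine Equiv.ext fun z => Subtype.ext ?_
    rw [pow_succ', hσ2, pow_mul', ← hk, pow_orderOf_eq_one]
    simp
  have : Fintype Ω := Fintype.ofFinite _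
  have hcard : ¬ 2 ∣ Fintype.card Ω := by
    rw [← Nat.card_eq_fintype_card, Nat.card_congr (Equiv.subtypeEquiv (Equiv.mulLeft c⁻¹)
      (fun z => Iff.rfl) : Ω ≃ D)]
    obtain ⟨m, hm⟩ := (hP.to_le (inf_le_left : D ≤ P)).exists_card_eq
    rw [hm]
    intro hd
    exact hp2 ((Nat.prime_dvd_prime_iff_eq Nat.prime_two hp.out).1 (Nat.prime_two.dvd_of_dvd_pow hd)).symm
  obtain ⟨z, hz⟩ := Equiv.Perm.exists_fixed_point_of_prime hcard hσ
  refine ⟨z.1, by simpa using P.mul_mem hc z.2.1, z.2.2, ?_⟩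
  have h1 : τ * z.1⁻¹ * τ⁻¹ = z.1 := congrArg Subtype.val hz
  calc τ * z.1 * τ⁻¹ = (τ * z.1⁻¹ * τ⁻¹)⁻¹ := by group
    _ = z.1⁻¹ := by rw [h1]

/-- A `2`-element acting nontrivially on a `p`-group modulo `C` yields an exactly inverted element. -/
theorem exists_inverted (hp2 : p ≠ 2) {P C : Subgroup G} (hP : IsPGroup p ↥P) {t : G}
    (ht : ∃ k : ℕ, orderOf t = 2 ^ k) (htP : t ∈ normalizer (P : Set G))
    (htC : t ∈ normalizer (C : Set G)) (hPC : P ≤ normalizer (C : Set G))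
    (hact : ∃ q ∈ P, t * q * t⁻¹ * q⁻¹ ∉ C) :
    ∃ τ z : G, τ ∈ zpowers t ∧ (∃ k : ℕ, orderOf τ = 2 ^ k) ∧ z ∈ P ∧ z ∉ C ∧ τ * z * τ⁻¹ = z⁻¹ := by
  classical
  obtain ⟨k, hk⟩ := ht
  let Triv : ℕ → Prop := fun i => ∀ q ∈ P, t ^ 2 ^ i * q * (t ^ 2 ^ i)⁻¹ * q⁻¹ ∈ C
  have hex : ∃ i, Triv i := ⟨k, fun q _ => by rw [← hk, pow_orderOf_eq_one]; simp⟩
  have h0 : Nat.find hex ≠ 0 := by
    intro h
    have h0 := Nat.find_spec hex
    rw [h] at h0
    obtain ⟨q, hq, hqC⟩ := hact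
    exact hqC (by simpa using h0 q hq)
  obtain ⟨i, hi⟩ := Nat.exists_eq_succ_of_ne_zero h0
  have hsucc : Triv (i + 1) := by simpa [hi] using Nat.find_spec hex
  have hnot : ¬ Triv i := Nat.find_min hex (by omega)
  simp only [Triv, not_forall] at hnot
  obtain ⟨q, hq, hqC⟩ := hnot
  set τ := t ^ 2 ^ i with hτdef
  have hτ : τ ∈ zpowers t := pow_mem (mem_zpowers t) _
  have hτk : ∃ l : ℕ, orderOf τ = 2 ^ l := by
    obtain ⟨l, -, hl⟩ := (Nat.dvd_prime_pow Nat.prime_two).1 (hk ▸ orderOf_pow_dvd (x := t) (2 ^ i))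
    exact ⟨l, hl⟩
  have hτP : τ ∈ normalizer (P : Set G) := pow_mem htP _
  have hτC : τ ∈ normalizer (C : Set G) := pow_mem htC _
  set c := τ * q * τ⁻¹ * q⁻¹ with hcdef
  have hcP : c ∈ P := P.mul_mem ((Subgroup.mem_normalizer_iff.1 hτP q).1 hq) (P.inv_mem hq)
  have hinv : τ * c * τ⁻¹ * c ∈ C := by
    have h1 := hsucc q hq
    rw [pow_succ, pow_mul, ← hτdef, pow_two] at h1
    have e : τ * c * τ⁻¹ * c = τ * τ * q * (τ * τ)⁻¹ * q⁻¹ := by rw [hcdef]; group
    rwa [e]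
  obtain ⟨z, hzP, hz, hτz⟩ := exists_inverted_in_coset hp2 hP hτk hτP hτC hPC hcP hinv
  refine ⟨τ, z, hτ, hτk, hzP, fun hzC => hqC ?_, hτz⟩
  have := C.mul_mem hzC (C.inv_mem hz)
  simpa using this

omit hp in
/-- The `2`-part of an element has the same image as the element, if that image has order two. -/
theorem exists_two_part {H : Type*} [Group H] (f : G →* H) (g : G) (hg : f g * f g = 1) :
    ∃ m : ℕ, Odd m ∧ f (g ^ m) = f g ∧ ∃ k : ℕ, orderOf (g ^ m) = 2 ^ k := by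
  obtain ⟨k, m, hm, he⟩ := Nat.exists_eq_two_pow_mul_odd (orderOf_pos g).ne'
  refine ⟨m, hm, ?_, k, ?_⟩
  · obtain ⟨j, rfl⟩ := hm
    rw [map_pow, pow_add, pow_mul, pow_two, hg, one_pow, one_mul, pow_one]
  · rw [orderOf_pow' g (Nat.pos_iff_ne_zero.1 hm.pos), he,
      Nat.gcd_eq_right (dvd_mul_left m _), Nat.mul_div_cancel _ hm.pos]

/-- A dihedral image gives an element inverting a `p`-element outside a given normal subgroup of the
kernel. -/
theorem exists_inverted_of_surjective (hp2 : p ≠ 2) (f : G →* DihedralGroup p)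
    (hf : Function.Surjective f) (C : Subgroup G) [C.Normal] (hC : C ≤ f.ker) :
    ∃ x y : G, (∃ k : ℕ, orderOf x = 2 ^ k) ∧ (∃ k : ℕ, orderOf y = p ^ k) ∧ y ∉ C ∧
      x * y * x⁻¹ = y⁻¹ := by
  have hpo : Odd p := hp.out.odd_of_ne_two hp2
  set R := zpowers (DihedralGroup.r (1 : ZMod p)) with hR
  have hRindex : R.index = 2 := by
    have h := Subgroup.card_mul_index R
    rw [hR, Nat.card_zpowers, DihedralGroup.orderOf_r_one, DihedralGroup.nat_card, mul_comm 2] at h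
    exact Nat.eq_of_mul_eq_mul_left hp.out.pos h
  have : R.Normal := Subgroup.normal_of_index_eq_two hRindex
  set A := R.comap f with hA
  have : A.Normal := (inferInstance : R.Normal).comap f
  set P : Sylow p A := default with hP
  set P' := (P : Subgroup A).map A.subtype with hP'
  have htop := Sylow.normalizer_sup_eq_top P
  obtain ⟨g, hg⟩ := hf (DihedralGroup.sr 0)
  have hgmem : g ∈ normalizer ((P' : Subgroup G) : Set G) ⊔ A := htop ▸ mem_top g
  rw [Subgroup.mem_sup_of_normal_right] at hgmem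
  obtain ⟨n, hn, a, ha, hna⟩ := hgmem
  have hfn : f n * f n = 1 ∧ f n ∉ R := by
    have hfa : f a ∈ R := ha
    obtain ⟨i, hi⟩ := Subgroup.mem_zpowers_iff.1 hfa
    rw [DihedralGroup.r_one_zpow] at hi
    have h1 : f n = DihedralGroup.sr (-(i : ZMod p)) := by
      rw [← eq_mul_inv_iff_mul_eq] at hna
      rw [hna, map_mul, map_inv, hg, ← hi, DihedralGroup.inv_r, DihedralGroup.sr_mul_r, zero_add]
    refine ⟨by rw [h1, DihedralGroup.sr_mul_self], fun h => ?_⟩
    obtain ⟨j, hj⟩ := Subgroup.mem_zpowers_iff.1 h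
    rw [DihedralGroup.r_one_zpow, h1] at hj
    exact absurd hj (by simp)
  obtain ⟨m, -, hm, ht⟩ := exists_two_part f n hfn.1
  set t := n ^ m with htdef
  have hPp : IsPGroup p ↥P' := P.2.map _
  -- the image of `P'` is all of `R`
  have hPR : (P : Subgroup A).map ((f.comp A.subtype).codRestrict R fun a => a.2) = ⊤ := by
    have hsur : Function.Surjective ((f.comp A.subtype).codRestrict R fun a => a.2) := by
      rintro ⟨r, hr⟩
      obtain ⟨a, rfl⟩ := hf r
      exact ⟨⟨a, hr⟩, rfl⟩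
    have hSyl := P.mapSurjective hsur
    have hRp : IsPGroup p ↥R := IsPGroup.of_card (n := 1) (by
      rw [hR, Nat.card_zpowers, DihedralGroup.orderOf_r_one, pow_one])
    exact top_unique ((P.mapSurjective hsur).3 (hRp.to_subgroup ⊤) le_top).le
  have hact : ∃ q ∈ P', t * q * t⁻¹ * q⁻¹ ∉ C := by
    by_contra hall
    push Not at hall
    obtain ⟨q, hq, hqr⟩ := hPR.ge (Subgroup.mem_top (⟨DihedralGroup.r 1, mem_zpowers _⟩ : R))
    have hfq : f (q : G) = DihedralGroup.r 1 := congrArg Subtype.val hqr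
    have h1 := MonoidHom.mem_ker.1 (hC (hall _ ⟨q, hq, rfl⟩))
    rw [map_mul, map_mul, map_mul, map_inv, map_inv, hm, mul_inv_eq_one] at h1
    rw [show ((A.subtype q : G)) = (q : G) from rfl, hfq] at h1
    rcases hfnc : f n with i | i
    · apply hfn.2
      rw [hfnc]
      exact ⟨(i.val : ℤ), by simp⟩
    · rw [hfnc, DihedralGroup.inv_sr, DihedralGroup.sr_mul_r, DihedralGroup.sr_mul_sr,
        DihedralGroup.r.injEq] at h1
      have h2 : ((2 : ℕ) : ZMod p) = 0 := by push_cast; linear_combination -h1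
      rw [ZMod.natCast_eq_zero_iff] at h2
      exact hp2 ((Nat.prime_dvd_prime_iff_eq hp.out Nat.prime_two).1 h2)
  obtain ⟨τ, z, -, hτ, hzP, hzC, hinv⟩ := exists_inverted hp2 hPp ht (pow_mem hn m)
    (Subgroup.normalizer_eq_top C ▸ mem_top t) (by rw [Subgroup.normalizer_eq_top]; exact le_top) hact
  obtain ⟨k, hk⟩ := IsPGroup.iff_orderOf.1 hPp ⟨z, hzP⟩
  exact ⟨τ, z, hτ, ⟨k, by rwa [Subgroup.orderOf_mk] at hk⟩, hzC, hinv⟩

/-- An inverted nontrivial `p`-element gives a dihedral section. -/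
theorem involves_of_inverted (hp2 : p ≠ 2) {x y : G} (hy : ∃ k : ℕ, orderOf y = p ^ k)
    (hy1 : y ≠ 1) (hinv : x * y * x⁻¹ = y⁻¹) (hx : ∃ k : ℕ, orderOf x = 2 ^ k) :
    Involves (DihedralGroup p) G := by
  obtain ⟨_ | k, hk⟩ := hy
  · exact absurd (orderOf_eq_one_iff.1 (by rw [hk, pow_zero])) hy1
  set c := y ^ p ^ k with hc
  have hco : orderOf c = p := by
    rw [hc, orderOf_pow' y (pow_ne_zero _ hp.out.ne_zero), hk,
      Nat.gcd_eq_right (pow_dvd_pow p k.le_succ), pow_succ',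
      Nat.mul_div_cancel _ (pow_pos hp.out.pos k)]
  have hxc : x * c * x⁻¹ = c⁻¹ := by rw [hc, ← conj_pow, hinv, inv_pow]
  have hx2 : Commute (x * x) c := by
    refine mul_inv_eq_iff_eq_mul.1 ?_
    calc x * x * c * (x * x)⁻¹ = x * (x * c * x⁻¹) * x⁻¹ := by group
      _ = x * c⁻¹ * x⁻¹ := by rw [hxc]
      _ = (x * c * x⁻¹)⁻¹ := by group
      _ = c := by rw [hxc, inv_inv]
  set K : Subgroup G := Subgroup.closure {x, c} with hK
  let x' : K := ⟨x, Subgroup.subset_closure (by simp)⟩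
  let c' : K := ⟨c, Subgroup.subset_closure (by simp)⟩
  set Z : Subgroup K := zpowers (x' * x') with hZ
  have hgen : Subgroup.closure ({x', c'} : Set K) = ⊤ := by
    apply Subgroup.map_injective K.subtype_injective
    rw [MonoidHom.map_closure, Set.image_pair, ← MonoidHom.range_eq_map, Subgroup.range_subtype]
    rfl
  have hZc : Z ≤ Subgroup.center K := by
    rw [hZ, Subgroup.zpowers_le, ← Subgroup.centralizer_univ, ← Subgroup.coe_top, ← hgen,
      Subgroup.centralizer_closure, Subgroup.mem_centralizer_iff]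
    rintro g (rfl | rfl)
    · exact (mul_assoc _ _ _).symm
    · exact Subtype.ext hx2.eq.symm
  have : Z.Normal := ⟨fun n hn g => by
    rw [Subgroup.mem_center_iff.1 (hZc hn) g, mul_inv_cancel_right]; exact hn⟩
  set π := QuotientGroup.mk' Z with hπ
  have ht2 : π x' * π x' = 1 := by
    rw [← map_mul]; exact (QuotientGroup.eq_one_iff _).2 (mem_zpowers _)
  have hcp : π c' ^ p = 1 := by
    rw [← map_pow, show c' ^ p = 1 from Subtype.ext (by
      rw [Subgroup.coe_pow, Subgroup.coe_one, ← hco]; exact pow_orderOf_eq_one c), map_one]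
  have hinv' : π x' * π c' * (π x')⁻¹ = (π c')⁻¹ := by
    rw [← map_inv, ← map_mul, ← map_mul, ← map_inv]; exact congrArg π (Subtype.ext hxc)
  have hcs : ∀ u : G, u ∈ zpowers (x * x) → Commute u c := by
    rintro _ ⟨j, rfl⟩
    exact hx2.zpow_left j
  have hco' : orderOf (π c') = p := by
    refine orderOf_eq_prime hcp fun h => ?_
    obtain ⟨j, hj⟩ := Subgroup.mem_zpowers_iff.1 ((QuotientGroup.eq_one_iff c').1 h)
    have hj' : (x * x) ^ j = c := congrArg Subtype.val hj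
    obtain ⟨l, hl⟩ := hx
    have h1 : orderOf c ∣ 2 ^ l := hl ▸
      (orderOf_dvd_of_mem_zpowers (show c ∈ zpowers x from
        hj' ▸ zpow_mem (mul_mem (mem_zpowers x) (mem_zpowers x)) j))
    rw [hco] at h1
    exact hp2 ((Nat.prime_dvd_prime_iff_eq hp.out Nat.prime_two).1 (hp.out.dvd_of_dvd_pow h1))
  have htc : π x' ∉ zpowers (π c') := by
    intro h
    obtain ⟨j, hj⟩ := Subgroup.mem_zpowers_iff.1 h
    rw [← map_zpow, hπ, QuotientGroup.mk'_eq_mk'] at hj
    obtain ⟨z, hz, hzx⟩ := hj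
    obtain ⟨l, rfl⟩ := Subgroup.mem_zpowers_iff.1 hz
    have e : x = c ^ j * (x * x) ^ l := (congrArg Subtype.val hzx).symm
    have hcx : Commute x c := by
      rw [e]
      exact (((Commute.refl c).zpow_left j).mul_left (hx2.zpow_left l))
    have h2 : c = c⁻¹ := by rwa [hcx.eq, mul_inv_cancel_right] at hxc
    have h3 : orderOf c ∣ 2 := orderOf_dvd_of_pow_eq_one (by rw [pow_two]; nth_rewrite 2 [h2]; simp)
    rw [hco] at h3
    exact hp2 ((Nat.prime_dvd_prime_iff_eq hp.out Nat.prime_two).1 h3)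
  let φ := toGroup (p := p) (π x') (π c') ht2 hcp hinv'
  have hsurj : Function.Surjective φ := by
    rw [← MonoidHom.range_eq_top, eq_top_iff,
      ← Subgroup.map_top_of_surjective π (QuotientGroup.mk'_surjective Z), ← hgen,
      MonoidHom.map_closure, Subgroup.closure_le, Set.image_pair]
    rintro g (rfl | rfl)
    · exact ⟨DihedralGroup.sr 0, by simp [φ]⟩
    · exact ⟨DihedralGroup.r 1, by
        rw [show φ (DihedralGroup.r 1) = π c' ^ ((1 : ZMod p)).val from rfl,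
          ZMod.val_one p, pow_one]⟩
  have e : DihedralGroup p ≃* K ⧸ Z := MulEquiv.ofBijective φ
    ⟨toGroup_injective ht2 hcp hinv' hco' htc, hsurj⟩
  exact CfsgLib.LocalEven.Offender.involves_of_hom K (e.symm.toMonoidHom.comp π)
    (e.symm.surjective.comp (QuotientGroup.mk'_surjective Z))

end CfsgLib.LocalEven.DihedralCrit
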