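import Cfsg.Agent.Lib.Solvable.CoprimeAction
import Cfsg.Agent.Lib.LocalEven.Basic
import Mathlib.GroupTheory.Abelianization.Defs
import Mathlib.Data.ZMod.Basic
import Mathlib.GroupTheory.SpecificGroups.Cyclic

/-!
Generation of a coprime `p'`-subgroup by the centralizers of the lines of a `p × p` group acting on it.
-/

namespace CfsgLib.LocalEven

open Subgroup
open scoped commutatorElement

variable {G : Type*} [Group G] {p : ℕ}

theorem zpowers_pow_prime_isPGroup [Fact p.Prime] {x : G} (hx : x ^ p = 1) :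
    IsPGroup p ↥(Subgroup.zpowers x) := by
  rintro ⟨g, hg⟩
  obtain ⟨i, rfl⟩ := Subgroup.mem_zpowers_iff.1 hg
  refine ⟨1, Subtype.ext ?_⟩
  show (x ^ i) ^ (p ^ 1) = 1
  rw [pow_one, ← zpow_natCast, zpow_comm, zpow_natCast, hx, one_zpow]

/-- The `q`-group case. -/
theorem qGroup_le_of_line_centralizers [Finite G] [hp : Fact p.Prime] {x y : G} (hx : x ^ p = 1)
    (hy : y ^ p = 1) (hxy : Commute x y) {H : Subgroup G}
    {q : ℕ} [Fact q.Prime] (hqp : q ≠ p) :
    ∀ (Q : Subgroup G), IsPGroup q ↥Q → x ∈ Subgroup.normalizer (Q : Set G) →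
      y ∈ Subgroup.normalizer (Q : Set G) → (Q ⊓ Subgroup.centralizer ({x} : Set G) ≤ H) →
      (∀ i : ℕ, Q ⊓ Subgroup.centralizer ({y * x ^ i} : Set G) ≤ H) → Q ≤ H := by
  classical
  intro Q
  induction hn : Nat.card ↥Q using Nat.strong_induction_on generalizing Q with
  | _ n ih =>
  intro hQ hxQ hyQ hCx hCy
  by_cases hQ1 : Q = ⊥
  · rw [hQ1]; exact bot_le
  set D := ⁅Q, Q⁆ with hD
  have hDQ : D ≤ Q := Subgroup.commutator_le.2 fun a ha b hb =>
    Q.mul_mem (Q.mul_mem (Q.mul_mem ha hb) (Q.inv_mem ha)) (Q.inv_mem hb)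
  have hND : ∀ g ∈ Subgroup.normalizer (Q : Set G), g ∈ Subgroup.normalizer (D : Set G) := by
    intro g hg
    refine mem_normalizer_of_conj_le ?_
    rw [hD, Subgroup.map_commutator]
    have hle : Q.map (MulAut.conj g).toMonoidHom ≤ Q := by
      rintro _ ⟨u, hu, rfl⟩
      exact conj_mem_of_mem_normalizer hg hu
    exact Subgroup.commutator_mono hle hle
  have hDne : D ≠ Q := by
    intro h
    haveI : Group.IsSolvable ↥Q := by
      haveI := hQ.isNilpotent
      infer_instance
    haveI : Nontrivial ↥Q := (Subgroup.nontrivial_iff_ne_bot Q).2 hQ1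
    have := Group.IsSolvable.commutator_lt_top_of_nontrivial ↥Q
    refine this.ne (Subgroup.map_injective Q.subtype_injective ?_)
    rw [commutator_def, Subgroup.map_commutator, ← MonoidHom.range_eq_map, Subgroup.range_subtype]
    exact h
  have hDH : D ≤ H := by
    refine ih _ ?_ D rfl (hQ.to_le hDQ) (hND x hxQ) (hND y hyQ) ((inf_le_inf_right _ hDQ).trans hCx)
      (fun i => (inf_le_inf_right _ hDQ).trans (hCy i))
    rw [← hn]
    exact lt_of_le_of_ne (Subgroup.card_le_of_le hDQ) fun h =>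
      hDne (Subgroup.eq_of_le_of_card_ge hDQ h.ge)
  -- the action on the abelianization
  let g : ZMod p → ZMod p → G := fun a b => x ^ a.val * y ^ b.val
  have hval : ∀ (z : G), z ^ p = 1 → ∀ a a' : ZMod p, z ^ (a + a').val = z ^ a.val * z ^ a'.val := by
    intro z hz a a'
    rw [ZMod.val_add, ← pow_eq_pow_mod _ hz, pow_add]
  have hg : ∀ a a' b b' : ZMod p, g (a + a') (b + b') = g a b * g a' b' := by
    intro a a' b b'
    simp only [g, hval x hx, hval y hy]
    rw [mul_assoc, mul_assoc, ← mul_assoc (x ^ a'.val), (hxy.pow_pow a'.val b.val).eq, mul_assoc]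
  have hgN : ∀ a b : ZMod p, g a b ∈ Subgroup.normalizer (Q : Set G) := fun a b =>
    Subgroup.mul_mem _ (Subgroup.pow_mem _ hxQ _) (Subgroup.pow_mem _ hyQ _)
  let c : ZMod p → ZMod p → ↥Q → ↥Q := fun a b v =>
    ⟨g a b * v * (g a b)⁻¹, conj_mem_of_mem_normalizer (hgN a b) v.2⟩
  let f : ↥Q → ZMod p → ZMod p → Abelianization ↥Q := fun v a b => Abelianization.of (c a b v)
  set Hb : Subgroup (Abelianization ↥Q) := (H.subgroupOf Q).map Abelianization.of with hHb
  have hker : ∀ u : ↥Q, Abelianization.of u = 1 → (u : G) ∈ D := by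
    intro u hu
    have h1 : u ∈ commutator ↥Q := (Abelianization.ker_of ↥Q) ▸ (MonoidHom.mem_ker.2 hu)
    have h2 : (u : G) ∈ (commutator ↥Q).map Q.subtype := ⟨u, h1, rfl⟩
    rwa [commutator_def, Subgroup.map_commutator, ← MonoidHom.range_eq_map, Subgroup.range_subtype] at h2
  have hpre : ∀ u : ↥Q, Abelianization.of u ∈ Hb → (u : G) ∈ H := by
    rintro u ⟨w, hw, hwu⟩
    have h1 := hker (w⁻¹ * u) (by rw [map_mul, map_inv, hwu, inv_mul_cancel])
    simpa using H.mul_mem (Subgroup.mem_subgroupOf.1 hw) (hDH h1)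
  -- a point fixed by one line lies in `Hb`
  have hfix : ∀ a b : ZMod p, Q ⊓ Subgroup.centralizer ({g a b} : Set G) ≤ H → ∀ u : ↥Q,
      Abelianization.of (c a b u) = Abelianization.of u → Abelianization.of u ∈ Hb := by
    intro a b hC u hu
    have hgp : (g a b) ^ p = 1 := by
      simp only [g]
      rw [(hxy.pow_pow _ _).mul_pow, ← pow_mul, mul_comm, pow_mul, hx, one_pow, ← pow_mul, mul_comm,
        pow_mul, hy, one_pow, one_mul]
    have hgD : (g a b * (u : G) * (g a b)⁻¹) * (u : G)⁻¹ ∈ D := by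
      have := hker (c a b u * u⁻¹) (by rw [map_mul, map_inv, hu, mul_inv_cancel])
      exact this
    have hall : ∀ z ∈ Subgroup.zpowers (g a b), ⁅z, (u : G)⁆ ∈ D := by
      intro z hz
      let K : Subgroup G :=
        { carrier := {z | z ∈ Subgroup.normalizer (D : Set G) ∧ ⁅z, (u : G)⁆ ∈ D}
          mul_mem' := fun {z₁ z₂} h1 h2 => ⟨Subgroup.mul_mem _ h1.1 h2.1, by
            have e : ⁅z₁ * z₂, (u : G)⁆ = z₁ * ⁅z₂, (u : G)⁆ * z₁⁻¹ * ⁅z₁, (u : G)⁆ := by
              simp only [commutatorElement_def]; group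
            rw [e]; exact D.mul_mem (conj_mem_of_mem_normalizer h1.1 h2.2) h1.2⟩
          one_mem' := ⟨Subgroup.one_mem _, by simp⟩
          inv_mem' := fun {z₁} h1 => ⟨Subgroup.inv_mem _ h1.1, by
            have e : ⁅z₁⁻¹, (u : G)⁆ = z₁⁻¹ * ⁅z₁, (u : G)⁆⁻¹ * z₁ := by
              simp only [commutatorElement_def]; group
            rw [e]
            simpa using conj_mem_of_mem_normalizer (Subgroup.inv_mem _ h1.1) (D.inv_mem h1.2)⟩ }
      exact (Subgroup.zpowers_le (H := K)).2 ⟨hND _ (hgN a b), by rw [commutatorElement_def]; exact hgD⟩ hz |>.2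
    have hco : (Nat.card ↥(Subgroup.zpowers (g a b))).Coprime (Nat.card ↥D) :=
      IsPGroup.coprime_card_of_ne p q hqp.symm _ _ (zpowers_pow_prime_isPGroup hgp) (hQ.to_le hDQ)
    obtain ⟨d, hd, hdu⟩ := CfsgLib.Solvable.exists_mul_mem_centralizer (Subgroup.zpowers (g a b)) D
      (Subgroup.zpowers_le.2 (hND _ (hgN a b))) hco (Or.inl inferInstance) (u : G) hall
    have hduH : d * (u : G) ∈ H := hC ⟨Q.mul_mem (hDQ hd) u.2, Subgroup.mem_centralizer_singleton_iff.2
      (Subgroup.mem_centralizer_iff.1 hdu _ (Subgroup.mem_zpowers _)).symm⟩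
    refine ⟨u, Subgroup.mem_subgroupOf.2 ?_, rfl⟩
    simpa using H.mul_mem (H.inv_mem (hDH hd)) hduH
  have hcc : ∀ a a' b b' v, c a b (c a' b' v) = c (a + a') (b + b') v := by
    intro a a' b b' v
    apply Subtype.ext
    simp only [c, hg]
    group
  have hCmap : ∀ a b, ∀ s : ↥Q, ∀ t : ↥Q, c a b (s * t) = c a b s * c a b t := by
    intro a b s t
    apply Subtype.ext
    simp [c, mul_assoc]
  have hprod : ∀ a b (s : Finset (ZMod p)) (F : ZMod p → ↥Q) ,
      Abelianization.of (c a b (s.toList.map F).prod) = ∏ i ∈ s, Abelianization.of (c a b (F i)) := by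
    intro a b s F
    let ψ : ↥Q →* Abelianization ↥Q := Abelianization.of.comp (MonoidHom.mk' (c a b) (hCmap a b))
    have e : ∀ l : List (ZMod p), ψ (l.map F).prod = (l.map fun i => ψ (F i)).prod := fun l => by
      rw [map_list_prod, List.map_map]; rfl
    exact (e s.toList).trans (Finset.prod_map_toList s _)
  have hid : ∀ u, c 0 0 u = u := fun u => by
    apply Subtype.ext
    simp [c, g]
  intro v hv
  set v' : ↥Q := ⟨v, hv⟩ with hv'
  -- norms
  have hNx : ∀ w : ↥Q, (∏ a : ZMod p, f w a 0) ∈ Hb := by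
    intro w
    have e1 : g 1 0 = x := by simp [g, ZMod.val_one]
    have e0 := hprod 0 0 Finset.univ (fun a => c a 0 w)
    rw [hid] at e0
    simp only [hid] at e0
    rw [show (∏ a : ZMod p, f w a 0) = _ from e0.symm]
    refine hfix 1 0 (by rw [e1]; exact hCx) _ ?_
    rw [hprod, e0]
    refine Fintype.prod_equiv (Equiv.addLeft (1 : ZMod p)) _ _ fun a => ?_
    simp [hcc]
  have hNi : ∀ i : ZMod p, (∏ b : ZMod p, f v' (i * b) b) ∈ Hb := by
    intro i
    have e1 : g i 1 = y * x ^ i.val := by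
      simp only [g, ZMod.val_one, pow_one]
      exact (hxy.pow_left i.val).eq
    have e0 := hprod 0 0 Finset.univ (fun b => c (i * b) b v')
    rw [hid] at e0
    simp only [hid] at e0
    rw [show (∏ b : ZMod p, f v' (i * b) b) = _ from e0.symm]
    refine hfix i 1 (by rw [e1]; exact hCy _) _ ?_
    rw [hprod, e0]
    refine Fintype.prod_equiv (Equiv.addLeft (1 : ZMod p)) _ _ fun b => ?_
    simp [hcc, mul_add]
  have hNE : (∏ b : ZMod p, ∏ a : ZMod p, f v' a b) ∈ Hb := by
    refine Subgroup.prod_mem _ fun b _ => ?_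
    have h1 : ∀ a, f v' a b = f (c 0 b v') a 0 := fun a => by simp [f, hcc]
    simp only [h1]
    exact hNx _
  have hkey : f v' 0 0 ^ p * ∏ b : ZMod p, ∏ a : ZMod p, f v' a b =
      (∏ a : ZMod p, f v' a 0) * ∏ i : ZMod p, ∏ b : ZMod p, f v' (i * b) b := by
    rw [Finset.prod_comm (s := (Finset.univ : Finset (ZMod p))) (f := fun i b => f v' (i * b) b),
      ← Finset.mul_prod_erase Finset.univ _ (Finset.mem_univ (0 : ZMod p)),
      ← Finset.mul_prod_erase Finset.univ (fun b => ∏ i : ZMod p, f v' (i * b) b) (Finset.mem_univ (0 : ZMod p))]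
    simp only [mul_zero, Finset.prod_const, Finset.card_univ, ZMod.card]
    have hb : ∀ b ∈ Finset.univ.erase (0 : ZMod p), ∏ i : ZMod p, f v' (i * b) b = ∏ a : ZMod p, f v' a b := by
      intro b hb
      exact Fintype.prod_equiv (Equiv.mulRight₀ b (Finset.ne_of_mem_erase hb)) _ _ fun i => rfl
    rw [Finset.prod_congr rfl hb]
    exact mul_left_comm _ _ _
  have hvp : f v' 0 0 ^ p ∈ Hb := by
    rw [eq_mul_inv_of_mul_eq hkey]
    exact Hb.mul_mem (Hb.mul_mem (hNx _) (Subgroup.prod_mem _ fun i _ => hNi i)) (Hb.inv_mem hNE)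
  have hvpH : ((v' ^ p : ↥Q) : G) ∈ H := by
    refine hpre _ ?_
    rw [map_pow]
    simpa [f, hid] using hvp
  obtain ⟨k, hk⟩ := IsPGroup.iff_orderOf.1 hQ v'
  have hcop : p.Coprime (orderOf v') := by
    rw [hk]; exact ((Nat.coprime_primes hp.out Fact.out).2 hqp.symm).pow_right k
  obtain ⟨m, hm⟩ := exists_pow_eq_self_of_coprime hcop
  have := H.pow_mem hvpH m
  rwa [← SubmonoidClass.coe_pow, hm] at this

/-- If `H` contains the fixed points in the `p'`-group `K` of each line of `⟨x, y⟩`, it contains `K`. -/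
theorem le_of_line_centralizers [Finite G] [hp : Fact p.Prime] {x y : G} (hx : x ^ p = 1)
    (hy : y ^ p = 1) (hxy : Commute x y) {K H : Subgroup G} (hK : (Nat.card ↥K).Coprime p)
    (hxK : x ∈ Subgroup.normalizer (K : Set G)) (hyK : y ∈ Subgroup.normalizer (K : Set G))
    (hCx : K ⊓ Subgroup.centralizer ({x} : Set G) ≤ H)
    (hCy : ∀ i : ℕ, K ⊓ Subgroup.centralizer ({y * x ^ i} : Set G) ≤ H) : K ≤ H := by
  set A := Subgroup.zpowers x ⊔ Subgroup.zpowers y with hA
  have hAK : A ≤ Subgroup.normalizer (K : Set G) :=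
    sup_le (Subgroup.zpowers_le.2 hxK) (Subgroup.zpowers_le.2 hyK)
  have hAp : IsPGroup p ↥A := by
    refine IsPGroup.to_sup_of_normal_right' (zpowers_pow_prime_isPGroup hx) (zpowers_pow_prime_isPGroup hy) ?_
    rw [Subgroup.zpowers_le]
    refine mem_normalizer_of_conj_le ?_
    rw [MonoidHom.map_zpowers, Subgroup.zpowers_le]
    show x * y * x⁻¹ ∈ Subgroup.zpowers y
    rw [hxy.eq, mul_inv_cancel_right]
    exact Subgroup.mem_zpowers y
  have hcop : (Nat.card ↥A).Coprime (Nat.card ↥K) := by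
    obtain ⟨n, hn⟩ := IsPGroup.iff_card.1 hAp
    rw [hn]; exact (hK.symm).pow_left n
  haveI : Group.IsSolvable ↥A := by
    haveI := hAp.isNilpotent
    infer_instance
  rw [← inf_eq_left]
  refine Subgroup.eq_of_le_of_card_ge inf_le_left (Nat.le_of_dvd Nat.card_pos ?_)
  refine (Nat.dvd_iff_prime_pow_dvd_dvd _ _).2 ?_
  intro q k hq hdvd
  haveI : Fact q.Prime := ⟨hq⟩
  rcases Nat.eq_zero_or_pos k with rfl | hk
  · simp
  have hqp : q ≠ p := by
    rintro rfl
    exact (Nat.Prime.coprime_iff_not_dvd hq).1 hK.symm ((dvd_pow_self q hk.ne').trans hdvd)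
  obtain ⟨P, hP⟩ := CfsgLib.Solvable.exists_invariant_sylow A K hAK hcop (Or.inl inferInstance) q
  have hle : (P : Subgroup ↥K).map K.subtype ≤ K ⊓ H := by
    refine le_inf (Subgroup.map_subtype_le _) ?_
    exact qGroup_le_of_line_centralizers hx hy hxy hqp _ (P.2.map _)
      (hP (Subgroup.mem_sup_left (Subgroup.mem_zpowers x))) (hP (Subgroup.mem_sup_right (Subgroup.mem_zpowers y)))
      ((inf_le_inf_right _ (Subgroup.map_subtype_le _)).trans hCx)
      (fun i => (inf_le_inf_right _ (Subgroup.map_subtype_le _)).trans (hCy i))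
  refine dvd_trans ?_ (Subgroup.card_dvd_of_le hle)
  rw [Subgroup.card_map_of_injective K.subtype_injective, P.card_eq_multiplicity]
  exact Nat.pow_dvd_pow _ ((hq.pow_dvd_iff_le_factorization Nat.card_pos.ne').1 hdvd)

end CfsgLib.LocalEven
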