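import Cfsg.Agent.Lib.LocalEven.QdOver
import Cfsg.Agent.Lib.LocalEven.Basic
import Cfsg.Prelude.Def_TwoFusion

/-!
Coordinates for a faithful natural `SL₂(F)`-module in which a given Sylow subgroup is upper unitriangular.
-/

set_option autoImplicit false

namespace CfsgLib.LocalEven.NatFrame

open Matrix CfsgLib.LocalEven.QdOver

variable {G : Type*} [Group G] {F : Type*} [Field F]

local notation "SL2" => Matrix.SpecialLinearGroup (Fin 2) F

/-- Coordinates: `vec` identifies `F²` with `V`, `mat` identifies `SL₂(F)` with `L`, and `T` is the image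
of the upper unitriangular matrices. -/
structure Frame (F : Type*) [Field F] (V L T : Subgroup G) where
  vec : (Fin 2 → F) → G
  mat : Matrix.SpecialLinearGroup (Fin 2) F →* G
  vec_inj : Function.Injective vec
  mat_inj : Function.Injective mat
  vec_range : ∀ x, x ∈ V ↔ ∃ v, vec v = x
  mat_range : ∀ x, x ∈ L ↔ ∃ A, mat A = x
  vec_add : ∀ v w, vec (v + w) = vec v * vec w
  act : ∀ A v, mat A * vec v * (mat A)⁻¹ = vec (A.1.mulVec v)
  mem_T : ∀ x, x ∈ T ↔ ∃ a, mat (upSL a) = x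

theorem upSL_zero : upSL (0 : F) = 1 := by
  apply Subtype.ext; ext i j; fin_cases i <;> fin_cases j <;> simp

theorem upSL_inv (a : F) : (upSL a)⁻¹ = upSL (-a) := by
  apply inv_eq_of_mul_eq_one_right
  rw [← upSL_add, add_neg_cancel, upSL_zero]

theorem upSL_mulVec (a x y : F) : (upSL a).1.mulVec ![x, y] = ![x + a * y, y] := by
  ext i; fin_cases i <;> simp [Matrix.mulVec, dotProduct, Fin.sum_univ_two]

theorem diagSL_mulVec (a : F) (ha : a ≠ 0) (x y : F) :
    (diagSL a ha).1.mulVec ![x, y] = ![a * x, y / a] := by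
  ext i; fin_cases i <;> simp [Matrix.mulVec, dotProduct, Fin.sum_univ_two, div_eq_inv_mul]

theorem eq_pair (v : Fin 2 → F) : v = ![v 0, v 1] := by
  ext i; fin_cases i <;> rfl

/-- The upper unitriangular matrices as a subgroup. -/
def upRange : Subgroup SL2 where
  carrier := {A | ∃ a, upSL a = A}
  one_mem' := ⟨0, upSL_zero⟩
  mul_mem' := by rintro _ _ ⟨a, rfl⟩ ⟨b, rfl⟩; exact ⟨a + b, upSL_add a b⟩
  inv_mem' := by rintro _ ⟨a, rfl⟩; exact ⟨-a, (upSL_inv a).symm⟩

theorem upSL_pow (a : F) (n : ℕ) : upSL a ^ n = upSL ((n : F) * a) := by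
  induction n with
  | zero => simp [upSL_zero]
  | succ n ih => rw [pow_succ, ih, ← upSL_add]; push_cast; ring_nf

theorem isPGroup_upRange {p : ℕ} [CharP F p] : IsPGroup p ↥(upRange : Subgroup SL2) := by
  rintro ⟨_, a, rfl⟩
  exact ⟨1, Subtype.ext (by rw [Subgroup.coe_pow, pow_one, upSL_pow, CharP.cast_eq_zero, zero_mul,
    upSL_zero, Subgroup.coe_one])⟩

theorem exists_sylow_upRange {p : ℕ} [Fact p.Prime] [CharP F p] [Finite F] :
    ∃ S : Sylow p SL2, (S : Subgroup SL2) = upRange := by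
  obtain ⟨U, hU⟩ := exists_sylow_eq_unip (p := p) (F := F)
  refine ⟨U.mapSurjective lin_surjective, ?_⟩
  rw [Sylow.coe_mapSurjective, hU]
  ext A
  constructor
  · rintro ⟨M, ⟨a, ha⟩, rfl⟩; exact ⟨a, ha.symm⟩
  · rintro ⟨a, rfl⟩; exact ⟨aff (upSL a) 0, ⟨a, lin_aff _ _⟩, lin_aff _ _⟩

theorem exists_frame [Finite G] {p : ℕ} [Fact p.Prime] [CharP F p] [Finite F] {V L : Subgroup G}
    (hnat : Cfsg.IsNaturalSL2Module F V L) (hf : L ⊓ Subgroup.centralizer (V : Set G) = ⊥)
    (S : Sylow p ↥L) : Nonempty (Frame F V L ((S : Subgroup ↥L).map L.subtype)) := by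
  obtain ⟨-, ρ, ψ, hρ, hker, hact⟩ := hnat
  have hinj : Function.Injective ρ := by
    rw [← MonoidHom.ker_eq_bot_iff, hker, ← Subgroup.inf_subgroupOf_left, hf, Subgroup.bot_subgroupOf]
  let ρe : ↥L ≃* SL2 := MulEquiv.ofBijective ρ ⟨hinj, hρ⟩
  obtain ⟨U, hU⟩ := exists_sylow_upRange (p := p) (F := F)
  obtain ⟨g, hg⟩ := MulAction.exists_smul_eq SL2 U (S.mapSurjective hρ)
  have hS : (S : Subgroup ↥L).map ρ = (upRange : Subgroup SL2).map (MulAut.conj g).toMonoidHom := by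
    rw [← Sylow.coe_mapSurjective hρ, ← hg, ← hU]; rfl
  refine ⟨{
    vec := fun v => ((Additive.toMul (ψ.symm (g.1.mulVec v)) : ↥V) : G)
    mat := (L.subtype.comp ρe.symm.toMonoidHom).comp (MulAut.conj g).toMonoidHom
    vec_inj := ?_
    mat_inj := fun A B h => (MulAut.conj g).injective (ρe.symm.injective (L.subtype_injective h))
    vec_range := ?_
    mat_range := ?_
    vec_add := fun v w => by rw [Matrix.mulVec_add, map_add, toMul_add, Subgroup.coe_mul]
    act := ?_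
    mem_T := ?_ }⟩
  · intro v w h
    have h1 : g.1.mulVec v = g.1.mulVec w := ψ.symm.injective (Additive.toMul.injective (Subtype.ext h))
    have h2 := congrArg (g⁻¹).1.mulVec h1
    rwa [Matrix.mulVec_mulVec, Matrix.mulVec_mulVec, ← Matrix.SpecialLinearGroup.coe_mul,
      inv_mul_cancel, Matrix.SpecialLinearGroup.coe_one, Matrix.one_mulVec, Matrix.one_mulVec] at h2
  · intro x
    constructor
    · intro hx
      refine ⟨(g⁻¹).1.mulVec (ψ (Additive.ofMul ⟨x, hx⟩)), ?_⟩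
      rw [Matrix.mulVec_mulVec, ← Matrix.SpecialLinearGroup.coe_mul, mul_inv_cancel,
        Matrix.SpecialLinearGroup.coe_one, Matrix.one_mulVec, AddEquiv.symm_apply_apply, toMul_ofMul]
    · rintro ⟨v, rfl⟩; exact SetLike.coe_mem _
  · intro x
    constructor
    · intro hx
      exact ⟨(MulAut.conj g).symm (ρe ⟨x, hx⟩), by simp [mul_assoc]⟩
    · rintro ⟨A, rfl⟩; exact SetLike.coe_mem _
  · intro A v
    obtain ⟨w, hw, hψ⟩ := hact (ρe.symm (MulAut.conj g A)) (Additive.toMul (ψ.symm (g.1.mulVec v)))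
    rw [show ρ (ρe.symm (MulAut.conj g A)) = MulAut.conj g A from ρe.apply_symm_apply _,
      ofMul_toMul, AddEquiv.apply_symm_apply] at hψ
    have h2 : ψ (Additive.ofMul w) = g.1.mulVec (A.1.mulVec v) := by
      rw [hψ, MulAut.conj_apply, Matrix.mulVec_mulVec, Matrix.mulVec_mulVec,
        ← Matrix.SpecialLinearGroup.coe_mul, ← Matrix.SpecialLinearGroup.coe_mul, inv_mul_cancel_right]
    refine Eq.trans hw.symm ?_
    rw [← h2, AddEquiv.symm_apply_apply, toMul_ofMul]
  · intro x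
    constructor
    · rintro ⟨s, hs, rfl⟩
      obtain ⟨_, ⟨a, rfl⟩, ha⟩ := hS.le ⟨s, hs, rfl⟩
      refine ⟨a, ?_⟩
      show ((ρe.symm (MulAut.conj g (upSL a)) : ↥L) : G) = (s : G)
      rw [show MulAut.conj g (upSL a) = ρe s from ha, MulEquiv.symm_apply_apply]
    · rintro ⟨a, rfl⟩
      obtain ⟨s, hs, hsa⟩ := hS.ge ⟨upSL a, ⟨a, rfl⟩, rfl⟩
      refine ⟨s, hs, ?_⟩
      show (s : G) = ((ρe.symm (MulAut.conj g (upSL a)) : ↥L) : G)
      rw [show MulAut.conj g (upSL a) = ρe s from hsa.symm, MulEquiv.symm_apply_apply]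

theorem upSL_fixed {a : F} (ha : a ≠ 0) {v : Fin 2 → F}
    (h : (upSL a).1.mulVec v = v) : v 1 = 0 := by
  rw [eq_pair v, upSL_mulVec] at h
  simpa [ha] using congrFun h 0

theorem mulVec_eq_self_imp {p : ℕ} [Fact p.Prime] [CharP F p] {A : SL2} {v : Fin 2 → F}
    (hv : v ≠ 0) (h : A.1.mulVec v = v) : A ^ p = 1 := by
  have hd := A.2
  rw [Matrix.det_fin_two] at hd
  have h0 := congrFun h 0
  have h1 := congrFun h 1
  simp only [Matrix.mulVec, dotProduct, Fin.sum_univ_two] at h0 h1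
  have htr : A.1 0 0 + A.1 1 1 = 2 := by
    by_cases hx : v 0 = 0
    · have hy : v 1 ≠ 0 := fun hy => hv (by ext i; fin_cases i <;> assumption)
      have e1 : A.1 0 1 = 0 := by simpa [hx, hy] using h0
      have e2 : A.1 1 1 = 1 := by simpa [hx, hy] using h1
      rw [e1, e2] at hd
      linear_combination hd + e2
    · have key : (A.1 0 0 + A.1 1 1 - 2) * v 0 = 0 := by
        linear_combination -(A.1 1 1 - 1) * h0 + A.1 0 1 * h1 + v 0 * hd
      rcases mul_eq_zero.1 key with hz | hz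
      · linear_combination hz
      · exact absurd hz hx
  have hsq : (A.1 - 1) ^ 2 = 0 := by
    have e11 : A.1 1 1 = 2 - A.1 0 0 := by linear_combination htr
    rw [pow_two]
    ext i j
    fin_cases i <;> fin_cases j <;> simp [Matrix.mul_apply, Fin.sum_univ_two] <;>
      first
        | linear_combination (A.1 0 0) * htr - hd
        | linear_combination (A.1 1 1) * htr - hd
        | linear_combination (A.1 0 1) * htr
        | linear_combination (A.1 1 0) * htr
  have hp2 : 2 ≤ p := (Fact.out : p.Prime).two_le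
  have hM : (A.1 - 1) ^ p = 0 := by
    rw [← Nat.sub_add_cancel hp2, pow_add, hsq, mul_zero]
  have h2 := sub_pow_char_pow_of_commute p 1 (Commute.one_right A.1)
  rw [pow_one, hM, one_pow] at h2
  apply Subtype.ext
  rw [Matrix.SpecialLinearGroup.coe_pow, Matrix.SpecialLinearGroup.coe_one]
  exact sub_eq_zero.1 h2.symm

namespace Frame

variable {V L T : Subgroup G} (f : Frame F V L T)
include f

theorem vec_zero : f.vec 0 = 1 := by
  have h := f.vec_add 0 0
  rw [add_zero] at h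
  exact left_eq_mul.mp h

theorem vec_neg (v : Fin 2 → F) : f.vec (-v) = (f.vec v)⁻¹ := by
  refine (inv_eq_of_mul_eq_one_right ?_).symm
  rw [← f.vec_add, add_neg_cancel, f.vec_zero]

theorem vec_comm (v w : Fin 2 → F) : f.vec v * f.vec w = f.vec w * f.vec v := by
  rw [← f.vec_add, ← f.vec_add, add_comm]

theorem vec_mem (v : Fin 2 → F) : f.vec v ∈ V := (f.vec_range _).2 ⟨v, rfl⟩

theorem mat_mem (A : SL2) : f.mat A ∈ L := (f.mat_range _).2 ⟨A, rfl⟩

theorem comm_iff (A : SL2) (v : Fin 2 → F) :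
    f.mat A * f.vec v = f.vec v * f.mat A ↔ A.1.mulVec v = v := by
  rw [← mul_inv_eq_iff_eq_mul, f.act, f.vec_inj.eq_iff]

theorem card_V : Nat.card V = Nat.card F ^ 2 := by
  let e : (Fin 2 → F) ≃ V := Equiv.ofBijective (fun v => ⟨f.vec v, f.vec_mem v⟩)
    ⟨fun v w h => f.vec_inj (congrArg Subtype.val h),
      fun x => (f.vec_range x.1).1 x.2 |>.imp fun v hv => Subtype.ext hv⟩
  rw [← Nat.card_congr e, Nat.card_fun, Nat.card_eq_fintype_card (α := Fin 2), Fintype.card_fin]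

theorem mem_centralizer_T {x : G} :
    x ∈ V ⊓ Subgroup.centralizer (T : Set G) ↔ ∃ a, f.vec ![a, 0] = x := by
  rw [Subgroup.mem_inf, Subgroup.mem_centralizer_iff]
  constructor
  · rintro ⟨hx, hc⟩
    obtain ⟨v, rfl⟩ := (f.vec_range x).1 hx
    have h1 := (f.comm_iff (upSL 1) v).1 (hc _ ((f.mem_T _).2 ⟨1, rfl⟩))
    rw [eq_pair v, upSL_mulVec] at h1
    have h2 : v 1 = 0 := by simpa using congrFun h1 0
    exact ⟨v 0, by rw [← h2, ← eq_pair]⟩
  · rintro ⟨a, rfl⟩
    refine ⟨f.vec_mem _, fun t ht => ?_⟩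
    obtain ⟨b, rfl⟩ := (f.mem_T t).1 ht
    rw [f.comm_iff, upSL_mulVec, mul_zero, add_zero]

theorem card_centralizer_T : Nat.card ↥(V ⊓ Subgroup.centralizer (T : Set G)) = Nat.card F :=
  (Nat.card_congr (Equiv.ofBijective
    (fun a : F => (⟨f.vec ![a, 0], (f.mem_centralizer_T).2 ⟨a, rfl⟩⟩ :
      ↥(V ⊓ Subgroup.centralizer (T : Set G))))
    ⟨fun a b h => by simpa using congrFun (f.vec_inj (congrArg Subtype.val h)) 0,
      fun x => ((f.mem_centralizer_T).1 x.2).imp fun a ha => Subtype.ext ha⟩)).symm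

theorem commutator_eq (v : Fin 2 → F) (a : F) :
    f.vec v * f.mat (upSL a) * (f.vec v)⁻¹ * (f.mat (upSL a))⁻¹ = f.vec ![-(a * v 1), 0] := by
  rw [show f.vec v * f.mat (upSL a) * (f.vec v)⁻¹ * (f.mat (upSL a))⁻¹ =
    f.vec v * (f.mat (upSL a) * f.vec v * (f.mat (upSL a))⁻¹)⁻¹ by group, f.act, ← f.vec_neg,
    ← f.vec_add]
  congr 1
  rw [eq_pair v, upSL_mulVec]
  ext i; fin_cases i <;> simp

theorem commutator_V_T_le : ⁅V, T⁆ ≤ V ⊓ Subgroup.centralizer (T : Set G) := by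
  rw [Subgroup.commutator_le]
  intro x hx t ht
  obtain ⟨v, rfl⟩ := (f.vec_range x).1 hx
  obtain ⟨a, rfl⟩ := (f.mem_T t).1 ht
  rw [commutatorElement_def, f.commutator_eq]
  exact (f.mem_centralizer_T).2 ⟨_, rfl⟩

/-- The axis is all commutators of one fixed element outside it with `T`. -/
theorem exists_commutator {v : Fin 2 → F} (hv : v 1 ≠ 0) (x : F) :
    ∃ a : F, f.vec v * f.mat (upSL a) * (f.vec v)⁻¹ * (f.mat (upSL a))⁻¹ = f.vec ![x, 0] :=
  ⟨-(x / v 1), by rw [f.commutator_eq]; congr 1; ext i; fin_cases i <;> simp [hv]⟩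

theorem mat_normalizes [Finite G] {A : SL2} (hA : A.1 1 0 = 0) :
    f.mat A ∈ Subgroup.normalizer (T : Set G) := by
  refine CfsgLib.LocalEven.mem_normalizer_of_conj_le ?_
  rintro _ ⟨t, ht, rfl⟩
  obtain ⟨a, rfl⟩ := (f.mem_T t).1 ht
  refine (f.mem_T _).2 ⟨A.1 0 0 ^ 2 * a, ?_⟩
  show f.mat (upSL _) = f.mat A * f.mat (upSL a) * (f.mat A)⁻¹
  rw [← map_inv, ← map_mul, ← map_mul]
  congr 1
  rw [eq_mul_inv_iff_mul_eq]
  have hd := A.2
  rw [Matrix.det_fin_two, hA, mul_zero, sub_zero] at hd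
  apply Subtype.ext
  ext i j
  fin_cases i <;> fin_cases j <;> simp [Matrix.mul_apply, Fin.sum_univ_two, hA]
  linear_combination A.1 0 0 * a * hd

end Frame

end CfsgLib.LocalEven.NatFrame
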