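import Mathlib
import Cfsg.Agent.Lib.LocalEven.NaturalFrame

/-!
An irreducible nontrivial module for `SL₂(F)` in the defining characteristic on which the upper
unitriangular group either acts quadratically or has fixed points of at least half the dimension is
the natural module.
-/

set_option autoImplicit false

namespace CfsgLib.LocalEven.SL2Natural

open Matrix CfsgLib.LocalEven.QdOver CfsgLib.LocalEven.NatFrame

variable {F : Type*} [Field F]

local notation "SL2" => Matrix.SpecialLinearGroup (Fin 2) F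

/-- `antiSL 1`. -/
def ww : SL2 := antiSL (1 : F) one_ne_zero

theorem ww_up (a : F) : (ww : SL2) * upSL a = lowSL (-a) * ww := by
  apply Subtype.ext
  ext i j
  fin_cases i <;> fin_cases j <;> simp [ww, Matrix.mul_apply, Fin.sum_univ_two]

theorem ww_low (a : F) : (ww : SL2) * lowSL a = upSL (-a) * ww := by
  apply Subtype.ext
  ext i j
  fin_cases i <;> fin_cases j <;> simp [ww, Matrix.mul_apply, Fin.sum_univ_two]

theorem anti_eq (c : F) (hc : c ≠ 0) : antiSL c hc = (ww : SL2) * diagSL c hc := by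
  apply Subtype.ext
  ext i j
  fin_cases i <;> fin_cases j <;> simp [ww, Matrix.mul_apply, Fin.sum_univ_two, neg_div]

theorem ww_sq : (ww : SL2) * ww = diagSL (-1) (neg_ne_zero.2 one_ne_zero) := by
  apply Subtype.ext
  ext i j
  fin_cases i <;> fin_cases j <;> simp [ww, Matrix.mul_apply, Fin.sum_univ_two]

theorem up_low_up (a : F) (ha : a ≠ 0) :
    upSL a * lowSL (-1 / a) * upSL a = antiSL (-1 / a) (div_ne_zero (neg_ne_zero.2 one_ne_zero) ha) := by
  apply Subtype.ext
  ext i j
  fin_cases i <;> fin_cases j <;> simp [Matrix.mul_apply, Fin.sum_univ_two, ha] <;> field_simp <;> simp [ha] <;> ring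

theorem diag_up (c : F) (hc : c ≠ 0) (a : F) : upSL a * diagSL c hc = diagSL c hc * upSL (a / c ^ 2) := by
  apply Subtype.ext
  ext i j
  fin_cases i <;> fin_cases j <;> simp [Matrix.mul_apply, Fin.sum_univ_two]
  field_simp

theorem diag_low (c : F) (hc : c ≠ 0) (a : F) : lowSL a * diagSL c hc = diagSL c hc * lowSL (a * c ^ 2) := by
  apply Subtype.ext
  ext i j
  fin_cases i <;> fin_cases j <;> simp [Matrix.mul_apply, Fin.sum_univ_two]
  field_simp

theorem up_ww_mulVec (c : F) (v : Fin 2 → F) :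
    (upSL c).1.mulVec v = ![v 0 + c * v 1, v 1] ∧ (ww : SL2).1.mulVec v = ![-v 1, v 0] := by
  constructor <;> (ext i; fin_cases i <;> simp [ww, Matrix.mulVec, dotProduct, Fin.sum_univ_two])

/-- The subgroup generated by the upper transvections and `ww` is everything. -/
theorem eq_top_of_up_ww (H : Subgroup SL2) (hu : ∀ a, upSL a ∈ H) (hw : (ww : SL2) ∈ H) : H = ⊤ :=
  eq_top_of_up_mem H hu hw (by simp [ww])

variable {A : Type*} [AddCommGroup A]

/-- The setting: an `SL₂(F)`-module without nonzero fixed element. -/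
structure Setting (F : Type*) [Field F] (A : Type*) [AddCommGroup A] where
  act : Matrix.SpecialLinearGroup (Fin 2) F →* AddMonoid.End A
  fix0 : ∀ x, (∀ g, act g x = x) → x = 0

variable (s : Setting F A)

theorem act_mul (g h : SL2) (x : A) : s.act (g * h) x = s.act g (s.act h x) := by
  rw [map_mul]; rfl

theorem act_one (x : A) : s.act 1 x = x := by rw [map_one]; rfl

theorem act_inv_act (g : SL2) (x : A) : s.act g⁻¹ (s.act g x) = x := by
  rw [← act_mul, inv_mul_cancel, act_one]

theorem act_act_inv (g : SL2) (x : A) : s.act g (s.act g⁻¹ x) = x := by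
  rw [← act_mul, mul_inv_cancel, act_one]

/-- Irreducibility. -/
def Irred : Prop := ∀ U : AddSubgroup A, (∀ g, ∀ x ∈ U, s.act g x ∈ U) → U = ⊥ ∨ U = ⊤

/-- Stabiliser of an additive subgroup. -/
def stab [Finite A] (M : AddSubgroup A) : Subgroup SL2 where
  carrier := {g | ∀ x, x ∈ M ↔ s.act g x ∈ M}
  one_mem' x := by rw [act_one]
  mul_mem' {g h} hg hh x := by rw [act_mul, ← hg, ← hh]
  inv_mem' {g} hg x := by rw [hg (s.act g⁻¹ x), act_act_inv]

theorem mem_stab [Finite A] {M : AddSubgroup A} {g : SL2} (h : ∀ x ∈ M, s.act g x ∈ M) : g ∈ stab s M := by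
  intro x
  refine ⟨h x, fun hx => ?_⟩
  let f : ↥M → ↥M := fun y => ⟨s.act g y, h _ y.2⟩
  have hf : Function.Injective f := fun y z e => Subtype.ext <| by
    have := congrArg (fun t : ↥M => s.act g⁻¹ (t : A)) e
    simpa [f, act_inv_act] using this
  obtain ⟨y, hy⟩ := Finite.surjective_of_injective hf ⟨_, hx⟩
  have := congrArg (fun t : ↥M => s.act g⁻¹ (t : A)) hy
  simp only [f, act_inv_act] at this
  exact this ▸ y.2

/-- A nonzero subgroup invariant under the upper transvections and `ww` is everything. -/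
theorem eq_top_of_inv [Finite A] (hirr : Irred s) (M : AddSubgroup A) (hM : M ≠ ⊥) (hu : ∀ a, ∀ x ∈ M, s.act (upSL a) x ∈ M)
    (hw : ∀ x ∈ M, s.act ww x ∈ M) : M = ⊤ := by
  have h := eq_top_of_up_ww (stab s M) (fun a => mem_stab s (hu a)) (mem_stab s hw)
  refine (hirr M fun g x hx => ?_).resolve_left hM
  exact ((show g ∈ stab s M by rw [h]; trivial) x).1 hx

/-- Fixed points of the upper unitriangular group. -/
def V0 : AddSubgroup A where
  carrier := {x | ∀ a, s.act (upSL a) x = x}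
  zero_mem' a := map_zero _
  add_mem' hx hy a := by rw [map_add, hx a, hy a]
  neg_mem' hx a := by rw [map_neg, hx a]

/-- Fixed points of the lower unitriangular group. -/
def W : AddSubgroup A where
  carrier := {x | ∀ a, s.act (lowSL a) x = x}
  zero_mem' a := map_zero _
  add_mem' hx hy a := by rw [map_add, hx a, hy a]
  neg_mem' hx a := by rw [map_neg, hx a]

/-- Elements of `W` fixed modulo `V0`. -/
def W1 : AddSubgroup A where
  carrier := {x | x ∈ W s ∧ ∀ a, s.act (upSL a) x - x ∈ V0 s}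
  zero_mem' := ⟨(W s).zero_mem, fun a => by simp⟩
  add_mem' {x y} hx hy := ⟨(W s).add_mem hx.1 hy.1, fun a => by
    rw [map_add, add_sub_add_comm]; exact (V0 s).add_mem (hx.2 a) (hy.2 a)⟩
  neg_mem' {x} hx := ⟨(W s).neg_mem hx.1, fun a => by
    rw [map_neg, ← neg_sub', ]; exact (V0 s).neg_mem (hx.2 a)⟩

theorem ww_W {x : A} (hx : x ∈ W s) : s.act ww x ∈ V0 s := fun a => by
  rw [← act_mul]
  have := ww_low (F := F) (-a)
  rw [neg_neg] at this
  rw [← this, act_mul, hx (-a)]

theorem ww_V0 {x : A} (hx : x ∈ V0 s) : s.act ww x ∈ W s := fun a => by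
  rw [← act_mul]
  have := ww_up (F := F) (-a)
  rw [neg_neg] at this
  rw [← this, act_mul, hx (-a)]

theorem diag_W {c : F} (hc : c ≠ 0) {x : A} (hx : x ∈ W s) : s.act (diagSL c hc) x ∈ W s := fun a => by
  rw [← act_mul, diag_low, act_mul, hx]

theorem diag_V0 {c : F} (hc : c ≠ 0) {x : A} (hx : x ∈ V0 s) : s.act (diagSL c hc) x ∈ V0 s := fun a => by
  rw [← act_mul, diag_up, act_mul, hx]

theorem diag_W1 {c : F} (hc : c ≠ 0) {x : A} (hx : x ∈ W1 s) : s.act (diagSL c hc) x ∈ W1 s :=
  ⟨diag_W s hc hx.1, fun a => by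
    rw [← act_mul, diag_up, act_mul, ← map_sub]
    exact diag_V0 s hc (hx.2 _)⟩

/-- `ww` carries `W1` to elements of `V0` fixed modulo `W`. -/
theorem ww_W1 {x : A} (hx : x ∈ W1 s) (b : F) : s.act (lowSL b) (s.act ww x) - s.act ww x ∈ W s := by
  rw [← act_mul]
  have := ww_up (F := F) (-b)
  rw [neg_neg] at this
  rw [← this, act_mul, ← map_sub]
  exact ww_V0 s (hx.2 _)

theorem anti_W1 {c : F} (hc : c ≠ 0) {x : A} (hx : x ∈ W1 s) :
    s.act (antiSL c hc) x ∈ V0 s ∧ ∀ b, s.act (lowSL b) (s.act (antiSL c hc) x) - s.act (antiSL c hc) x ∈ W s := by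
  rw [anti_eq, act_mul]
  exact ⟨ww_W s (diag_W s hc hx.1), fun b => ww_W1 s (diag_W1 s hc hx) b⟩

theorem inf_eq_bot [Finite A] : V0 s ⊓ W s = ⊥ := by
  refine (AddSubgroup.eq_bot_iff_forall _).2 fun x hx => ?_
  obtain ⟨hx0, hxW⟩ := AddSubgroup.mem_inf.1 hx
  let H : Subgroup SL2 :=
    { carrier := {g | s.act g x = x}
      one_mem' := act_one s x
      mul_mem' := fun {g h} (hg : s.act g x = x) (hh : s.act h x = x) => by
        show s.act (g * h) x = x
        rw [act_mul, hh, hg]
      inv_mem' := fun {g} (hg : s.act g x = x) => by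
        show s.act g⁻¹ x = x
        conv_lhs => rw [← hg]
        exact act_inv_act s g x }
  have hH : H = ⊤ := eq_top_of_up_mem H hx0 (g := lowSL 1) (hxW 1) (by simp)
  have hfix : ∀ g, s.act g x = x := fun g => (show g ∈ H by rw [hH]; trivial)
  exact s.fix0 x hfix

theorem eq_of_add_eq [Finite A] {y z y' z' : A} (hy : y ∈ V0 s) (hz : z ∈ W s) (hy' : y' ∈ V0 s)
    (hz' : z' ∈ W s) (h : y + z = y' + z') : y = y' ∧ z = z' := by
  have h1 : y - y' = z' - z := by
    rw [sub_eq_sub_iff_add_eq_add, h, add_comm]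
  have h2 : y - y' ∈ V0 s ⊓ W s :=
    AddSubgroup.mem_inf.2 ⟨(V0 s).sub_mem hy hy', h1 ▸ (W s).sub_mem hz' hz⟩
  rw [inf_eq_bot, AddSubgroup.mem_bot] at h2
  refine ⟨sub_eq_zero.1 h2, ?_⟩
  rw [h2] at h1
  exact (sub_eq_zero.1 h1.symm).symm

/-- The key identity: on `W1` the upper transvection adds the image under the anti-diagonal element. -/
theorem up_W1 [Finite A] {a : F} (ha : a ≠ 0) {x : A} (hx : x ∈ W1 s) :
    s.act (upSL a) x = x + s.act (antiSL (-1 / a) (div_ne_zero (neg_ne_zero.2 one_ne_zero) ha)) x := by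
  set c : F := -1 / a
  have hc : c ≠ 0 := div_ne_zero (neg_ne_zero.2 one_ne_zero) ha
  set f := s.act (upSL a) x - x with hf
  set y := s.act (antiSL c hc) x with hy
  obtain ⟨hy0, hyb⟩ := anti_W1 s hc hx
  rw [← hy] at hy0 hyb
  have hu : s.act (upSL a) x = x + f := by rw [hf]; abel
  have h1 : y = s.act (upSL a) (x + s.act (lowSL c) f) := by
    rw [hy, ← up_low_up a ha, act_mul, act_mul, hu, map_add (s.act (lowSL c)), hx.1 c]
  have h2 : y = x + s.act (lowSL c) f := by
    have := congrArg (s.act (upSL a)⁻¹) h1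
    rwa [act_inv_act, upSL_inv, hy0 (-a)] at this
  have h3 : f = s.act (lowSL (-c)) y - x := by
    have h4 : s.act (lowSL c) f = y - x := by rw [h2]; abel
    have h5 : lowSL (-c) * lowSL c = (1 : SL2) := by
      apply Subtype.ext
      ext i j
      fin_cases i <;> fin_cases j <;> simp [Matrix.mul_apply, Fin.sum_univ_two]
    have h6 := congrArg (s.act (lowSL (-c))) h4
    rwa [← act_mul, h5, act_one, map_sub, hx.1 (-c)] at h6
  have h7 : f + 0 = y + (s.act (lowSL (-c)) y - y - x) := by rw [h3]; abel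
  have := (eq_of_add_eq s (hx.2 a) (W s).zero_mem hy0 ((W s).sub_mem (hyb (-c)) hx.1) h7).1
  rw [← this]
  abel

variable [Finite A]

/-- In a module decomposed as the sum of the two fixed point groups, all of `W` is fixed modulo `V0`. -/
theorem W_le_W1 (hirr : Irred s) (hsum : ∀ z : A, ∃ y ∈ V0 s, ∃ x ∈ W s, z = y + x) (hne : W1 s ≠ ⊥) : W s ≤ W1 s := by
  let M : AddSubgroup A := W1 s ⊔ (W1 s).map (s.act ww)
  have hw2 : ∀ x ∈ W1 s, s.act ww (s.act ww x) ∈ W1 s := fun x hx => by
    rw [← act_mul, ww_sq]; exact diag_W1 s _ hx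
  have hM : M = ⊤ := by
    refine eq_top_of_inv s hirr M (fun h => hne (le_bot_iff.1 (h ▸ le_sup_left))) (fun a z hz => ?_) (fun z hz => ?_)
    · obtain ⟨x, hx, y, hy, rfl⟩ := AddSubgroup.mem_sup.1 hz
      obtain ⟨x', hx', e⟩ := AddSubgroup.mem_map.1 hy
      change s.act ww x' = y at e
      subst e
      rw [map_add, ww_W s hx'.1 a]
      refine M.add_mem ?_ (AddSubgroup.mem_sup_right hy)
      by_cases ha : a = 0
      · rw [ha, upSL_zero, act_one]; exact AddSubgroup.mem_sup_left hx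
      · rw [up_W1 s ha hx, anti_eq, act_mul]
        exact M.add_mem (AddSubgroup.mem_sup_left hx)
          (AddSubgroup.mem_sup_right (AddSubgroup.mem_map_of_mem _ (diag_W1 s _ hx)))
    · obtain ⟨x, hx, y, hy, rfl⟩ := AddSubgroup.mem_sup.1 hz
      obtain ⟨x', hx', e⟩ := AddSubgroup.mem_map.1 hy
      change s.act ww x' = y at e
      subst e
      rw [map_add]
      exact M.add_mem (AddSubgroup.mem_sup_right (AddSubgroup.mem_map_of_mem _ hx))
        (AddSubgroup.mem_sup_left (hw2 x' hx'))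
  intro z hz
  have hzM : z ∈ M := by rw [hM]; trivial
  obtain ⟨x, hx, y, hy, rfl⟩ := AddSubgroup.mem_sup.1 hzM
  obtain ⟨x', hx', e⟩ := AddSubgroup.mem_map.1 hy
  change s.act ww x' = y at e
  subst e
  have h2 : s.act ww x' ∈ W s := by
    have := (W s).sub_mem hz hx.1
    rwa [add_sub_cancel_left] at this
  have h3 : s.act ww x' ∈ V0 s ⊓ W s := AddSubgroup.mem_inf.2 ⟨ww_W s hx'.1, h2⟩
  rw [inf_eq_bot, AddSubgroup.mem_bot] at h3
  rwa [h3, add_zero]

/-- A finite `p`-group acting on a nonzero finite module of exponent `p` fixes a nonzero element. -/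
theorem exists_fixed {p : ℕ} [Fact p.Prime] [CharP F p] [Finite F] {B : Type*} [AddCommGroup B] [Finite B]
    [Nontrivial B] (hB : ∀ x : B, p • x = 0) (φ : SL2 →* AddMonoid.End B)
    (φ' : upRange (F := F) →* AddMonoid.End B := φ.comp (upRange (F := F)).subtype) :
    ∃ x : B, x ≠ 0 ∧ ∀ g, φ' g x = x := by
  letI : MulAction ↥(upRange (F := F)) B :=
    { smul := fun g x => φ' g x
      one_smul := fun x => by show φ' 1 x = x; rw [map_one]; rfl
      mul_smul := fun g h x => by show φ' (g * h) x = φ' g (φ' h x); rw [map_mul]; rfl }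
  have hdvd : p ∣ Nat.card B := by
    obtain ⟨x, hx⟩ := exists_ne (0 : B)
    have h1 : addOrderOf x = p := addOrderOf_eq_prime (hB x) hx
    exact h1 ▸ addOrderOf_dvd_natCard x
  obtain ⟨x, hx, hx0⟩ := (isPGroup_upRange (F := F) (p := p)).exists_fixed_point_of_prime_dvd_card_of_fixed_point
    B hdvd (a := 0) (fun g => map_zero (φ' g))
  exact ⟨x, hx0.symm, fun g => hx g⟩

theorem upRange_mem (a : F) : upSL a ∈ (upRange (F := F) : Subgroup SL2) := ⟨a, rfl⟩

/-- The decomposition of the module and the triviality of `W` modulo `V0`. -/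
theorem decomposition {p : ℕ} [Fact p.Prime] [CharP F p] [Finite F] (hirr : Irred s) [Nontrivial A] (hp : ∀ x : A, p • x = 0)
    (hyp : (∀ a b x, s.act (upSL b) (s.act (upSL a) x - x) = s.act (upSL a) x - x) ∨
      Nat.card A ≤ Nat.card ↥(V0 s) ^ 2) :
    (∀ z : A, ∃ y ∈ V0 s, ∃ x ∈ W s, z = y + x) ∧ W s ≤ W1 s := by
  obtain ⟨v, hv0, hv⟩ := exists_fixed (F := F) hp s.act
  have hv' : v ∈ V0 s := fun a => hv ⟨upSL a, upRange_mem a⟩
  rcases hyp with hq | hc
  · have hle : W s ≤ W1 s := fun x hx => ⟨hx, fun a b => hq a b x⟩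
    refine ⟨?_, hle⟩
    have hM : V0 s ⊔ W s = ⊤ := by
      refine eq_top_of_inv s hirr _ (fun h => hv0 ?_) (fun a z hz => ?_) (fun z hz => ?_)
      · have h1 : v ∈ V0 s ⊔ W s := AddSubgroup.mem_sup_left hv'
        rwa [h, AddSubgroup.mem_bot] at h1
      · obtain ⟨y, hy, x, hx, rfl⟩ := AddSubgroup.mem_sup.1 hz
        have : s.act (upSL a) (y + x) = (y + (s.act (upSL a) x - x)) + x := by
          rw [map_add, hy a]; abel
        rw [this]
        exact (V0 s ⊔ W s).add_mem (AddSubgroup.mem_sup_left ((V0 s).add_mem hy (hle hx |>.2 a)))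
          (AddSubgroup.mem_sup_right hx)
      · obtain ⟨y, hy, x, hx, rfl⟩ := AddSubgroup.mem_sup.1 hz
        rw [map_add]
        exact (V0 s ⊔ W s).add_mem (AddSubgroup.mem_sup_right (ww_V0 s hy))
          (AddSubgroup.mem_sup_left (ww_W s hx))
    intro z
    obtain ⟨y, hy, x, hx, e⟩ := AddSubgroup.mem_sup.1 (show z ∈ V0 s ⊔ W s by rw [hM]; trivial)
    exact ⟨y, hy, x, hx, e.symm⟩
  · let m : ↥(V0 s) × ↥(W s) → A := fun q => (q.1 : A) + (q.2 : A)
    have hm : Function.Injective m := fun q q' e => by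
      obtain ⟨e1, e2⟩ := eq_of_add_eq s q.1.2 q.2.2 q'.1.2 q'.2.2 e
      exact Prod.ext (Subtype.ext e1) (Subtype.ext e2)
    have hW : Nat.card ↥(V0 s) ≤ Nat.card ↥(W s) :=
      Nat.card_le_card_of_injective (fun y => (⟨s.act ww y, ww_V0 s y.2⟩ : ↥(W s))) fun y z e => by
        have := congrArg (fun t : ↥(W s) => s.act ww⁻¹ (t : A)) e
        simp only [act_inv_act] at this
        exact Subtype.ext this
    have hs : Function.Surjective m := (hm.bijective_of_nat_card_le (by
      rw [Nat.card_prod]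
      exact hc.trans (by rw [sq]; exact Nat.mul_le_mul_left _ hW))).2
    have hsum : ∀ z : A, ∃ y ∈ V0 s, ∃ x ∈ W s, z = y + x := fun z => by
      obtain ⟨q, hq⟩ := hs z
      exact ⟨q.1, q.1.2, q.2, q.2.2, hq.symm⟩
    refine ⟨hsum, W_le_W1 s hirr hsum ?_⟩
    -- a fixed point on the quotient by `V0`
    have hne : V0 s ≠ ⊤ := fun h => hv0 (by
      have h1 : s.act ww v ∈ V0 s ⊓ W s := AddSubgroup.mem_inf.2 ⟨by rw [h]; trivial, ww_V0 s hv'⟩
      rw [inf_eq_bot, AddSubgroup.mem_bot] at h1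
      rw [← act_inv_act s ww v, h1, map_zero])
    haveI : Nontrivial (A ⧸ V0 s) := by
      obtain ⟨z, hz⟩ : ∃ z, z ∉ V0 s := by
        by_contra h
        push_neg at h
        exact hne (eq_top_iff.2 fun z _ => h z)
      exact nontrivial_of_ne (z : A ⧸ V0 s) 0 (by rwa [Ne, QuotientAddGroup.eq_zero_iff])
    let φ' : ↥(upRange (F := F)) →* AddMonoid.End (A ⧸ V0 s) :=
      { toFun := fun g => QuotientAddGroup.map (V0 s) (V0 s) (s.act g.1) (by
          intro x hx
          obtain ⟨a, ha⟩ := g.2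
          show s.act g.1 x ∈ V0 s
          rw [← ha, hx a]
          exact hx)
        map_one' := by
          refine AddMonoidHom.ext fun q => ?_
          obtain ⟨x, rfl⟩ := QuotientAddGroup.mk_surjective q
          show ((s.act 1 x : A) : A ⧸ V0 s) = x
          rw [act_one]
        map_mul' := fun g h => by
          refine AddMonoidHom.ext fun q => ?_
          obtain ⟨x, rfl⟩ := QuotientAddGroup.mk_surjective q
          show ((s.act (g.1 * h.1) x : A) : A ⧸ V0 s) = _
          rw [act_mul]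
          rfl }
    obtain ⟨q, hq0, hq⟩ := exists_fixed (F := F) (p := p) (B := A ⧸ V0 s)
      (fun x => by induction x using QuotientAddGroup.induction_on with
        | H x => rw [← QuotientAddGroup.mk_nsmul, hp, QuotientAddGroup.mk_zero]) 1 φ'
    obtain ⟨z, rfl⟩ := QuotientAddGroup.mk_surjective q
    obtain ⟨y, hy, x, hx, rfl⟩ := hsum z
    intro hbot
    apply hq0
    have hx1 : x ∈ W1 s := ⟨hx, fun a => by
      have h1 : ((s.act (upSL a) (y + x) : A) : A ⧸ V0 s) = ((y + x : A) : A ⧸ V0 s) :=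
        hq ⟨upSL a, upRange_mem a⟩
      rw [QuotientAddGroup.eq, map_add, hy a] at h1
      have := (V0 s).neg_mem h1
      convert this using 1
      abel⟩
    rw [hbot, AddSubgroup.mem_bot] at hx1
    rw [hx1, add_zero]
    exact (QuotientAddGroup.eq_zero_iff _).2 hy

/-- The transvection part `x ↦ u(a) x - x` is additive in `a` on `W`. -/
theorem tv_add (hW : W s ≤ W1 s) (a b : F) {x : A} (hx : x ∈ W s) :
    s.act (upSL (a + b)) x - x = (s.act (upSL a) x - x) + (s.act (upSL b) x - x) := by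
  have h : s.act (upSL a) (s.act (upSL b) x - x) = s.act (upSL b) x - x := (hW hx).2 b a
  rw [map_sub] at h
  rw [upSL_add, act_mul]
  linear_combination (norm := abel) h

/-- Each nonzero element of `W` generates a copy of the natural module. -/
theorem embed (hW : W s ≤ W1 s) {x0 : A} (hx0 : x0 ∈ W s) (hx0ne : x0 ≠ 0) :
    ∃ φ : (Fin 2 → F) →+ A, Function.Injective φ ∧ (∀ (g : SL2) v, φ (g.1.mulVec v) = s.act g (φ v)) ∧
      φ ![0, 1] = x0 := by
  let T : F → A := fun a => s.act (upSL a) x0 - x0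
  have hTV : ∀ a, T a ∈ V0 s := fun a => (hW hx0).2 a
  have hTadd : ∀ a b, T (a + b) = T a + T b := fun a b => tv_add s hW a b hx0
  have hTzero : T 0 = 0 := by simp [T, upSL_zero, act_one]
  have hTanti : ∀ a (ha : a ≠ 0),
      T a = s.act (antiSL (-1 / a) (div_ne_zero (neg_ne_zero.2 one_ne_zero) ha)) x0 := fun a ha => by
    show s.act (upSL a) x0 - x0 = _
    rw [up_W1 s ha (hW hx0)]
    abel
  have hTne : ∀ a, T a = 0 → a = 0 := fun a h => by
    by_contra ha
    rw [hTanti a ha] at h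
    apply hx0ne
    rw [← act_inv_act s (antiSL (-1 / a) (div_ne_zero (neg_ne_zero.2 one_ne_zero) ha)) x0, h, map_zero]
  have hTmul : ∀ c b, s.act (upSL c) (s.act ww (T b)) = T (c * b) + s.act ww (T b) := by
    intro c b
    by_cases hc : c = 0
    · rw [hc, upSL_zero, act_one, zero_mul, hTzero, zero_add]
    by_cases hb : b = 0
    · rw [hb, mul_zero, hTzero, map_zero, map_zero, zero_add]
    have hcb : c * b ≠ 0 := mul_ne_zero hc hb
    rw [up_W1 s hc (hW (ww_V0 s (hTV b))), hTanti (c * b) hcb, hTanti b hb, ← act_mul, ← act_mul,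
      add_comm]
    congr 3
    apply Subtype.ext
    ext i j
    fin_cases i <;> fin_cases j <;> simp [ww, Matrix.mul_apply, Fin.sum_univ_two] <;> field_simp
  have hT2 : ∀ b, s.act ww (s.act ww (T b)) = T (-b) := by
    intro b
    by_cases hb : b = 0
    · rw [hb, neg_zero, hTzero, map_zero, map_zero]
    rw [hTanti b hb, hTanti (-b) (neg_ne_zero.2 hb), ← act_mul, ← act_mul]
    congr 2
    apply Subtype.ext
    ext i j
    fin_cases i <;> fin_cases j <;> simp [ww, Matrix.mul_apply, Fin.sum_univ_two, neg_div] <;> field_simp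
  let φ : (Fin 2 → F) →+ A :=
    AddMonoidHom.mk' (fun v => T (v 0) + s.act ww (T (v 1))) fun v w => by
      simp only [Pi.add_apply, hTadd, map_add]
      abel
  let E : Subgroup SL2 :=
    { carrier := {g | ∀ v, φ (g.1.mulVec v) = s.act g (φ v)}
      one_mem' := fun v => by rw [Matrix.SpecialLinearGroup.coe_one, Matrix.one_mulVec, act_one]
      mul_mem' := fun {g h} (hg : ∀ v, φ (g.1.mulVec v) = s.act g (φ v)) (hh : ∀ v, φ (h.1.mulVec v) = s.act h (φ v)) v => by
        rw [Matrix.SpecialLinearGroup.coe_mul, ← Matrix.mulVec_mulVec, hg, hh, act_mul]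
      inv_mem' := fun {g} (hg : ∀ v, φ (g.1.mulVec v) = s.act g (φ v)) v => by
        have h1 := congrArg (s.act g⁻¹) (hg ((g⁻¹).1.mulVec v))
        rw [act_inv_act, Matrix.mulVec_mulVec, ← Matrix.SpecialLinearGroup.coe_mul, mul_inv_cancel,
          Matrix.SpecialLinearGroup.coe_one, Matrix.one_mulVec] at h1
        exact h1.symm }
  have hE : E = ⊤ := by
    refine eq_top_of_up_ww E (fun c v => ?_) (fun v => ?_)
    · rw [(up_ww_mulVec c v).1]
      show T (v 0 + c * v 1) + s.act ww (T (v 1)) = s.act (upSL c) (T (v 0) + s.act ww (T (v 1)))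
      rw [map_add, hTV (v 0) c, hTmul, hTadd]
      abel
    · rw [(up_ww_mulVec 0 v).2]
      show T (-v 1) + s.act ww (T (v 0)) = s.act ww (T (v 0) + s.act ww (T (v 1)))
      rw [map_add, hT2, add_comm]
  have heq : ∀ g v, φ (g.1.mulVec v) = s.act g (φ v) := fun g => (show g ∈ E by rw [hE]; trivial)
  have hinj : Function.Injective φ := by
    refine (injective_iff_map_eq_zero φ).2 fun v hv => ?_
    have h1 : T (v 0) + s.act ww (T (v 1)) = 0 + 0 := by simpa [φ] using hv
    obtain ⟨e0, e1⟩ := eq_of_add_eq s (hTV _) (ww_V0 s (hTV _)) (V0 s).zero_mem (W s).zero_mem h1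
    have e1' : T (v 1) = 0 := by rw [← act_inv_act s ww (T (v 1)), e1, map_zero]
    ext i
    fin_cases i
    · exact hTne _ e0
    · exact hTne _ e1'
  refine ⟨φ, hinj, heq, ?_⟩
  show T 0 + s.act ww (T 1) = x0
  rw [hTzero, zero_add, hTanti 1 one_ne_zero, ← act_mul]
  have h1 : (ww : SL2) * antiSL (-1 / 1) (div_ne_zero (neg_ne_zero.2 one_ne_zero) one_ne_zero) = 1 := by
    apply Subtype.ext
    ext i j
    fin_cases i <;> fin_cases j <;> simp [ww, Matrix.mul_apply, Fin.sum_univ_two]
  rw [h1, act_one]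

/-- The natural module. -/
theorem natural {p : ℕ} [Fact p.Prime] [CharP F p] [Finite F] (hirr : Irred s) [Nontrivial A] (hp : ∀ x : A, p • x = 0)
    (hyp : (∀ a b x, s.act (upSL b) (s.act (upSL a) x - x) = s.act (upSL a) x - x) ∨
      Nat.card A ≤ Nat.card ↥(V0 s) ^ 2) :
    ∃ Φ : (Fin 2 → F) ≃+ A, ∀ (g : SL2) v, Φ (g.1.mulVec v) = s.act g (Φ v) := by
  obtain ⟨hsum, hW⟩ := decomposition s hirr hp hyp
  have hWne : ∃ x ∈ W s, x ≠ (0 : A) := by
    obtain ⟨z, hz⟩ := exists_ne (0 : A)
    by_contra h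
    push Not at h
    apply hz
    obtain ⟨y, hy, x, hx, rfl⟩ := hsum z
    have h1 := h _ (ww_V0 s hy)
    rw [h x hx, add_zero, ← act_inv_act s ww y, h1, map_zero]
  obtain ⟨x0, hx0, hx0ne⟩ := hWne
  obtain ⟨φ, hinj, heq, -⟩ := embed s hW hx0 hx0ne
  have hsurj : Function.Surjective φ := by
    have h1 : φ.range = ⊤ := by
      refine eq_top_of_inv s hirr _ (fun h => ?_) ?_ ?_
      · have h2 : φ ![1, 0] = 0 := AddSubgroup.mem_bot.1 (h ▸ ⟨_, rfl⟩)
        have h3 := congrFun (hinj (h2.trans (map_zero φ).symm)) 0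
        simp at h3
      all_goals (intro; intros; rename_i hx; obtain ⟨v, rfl⟩ := hx; exact ⟨_, heq _ v⟩)
    exact fun z => (show z ∈ φ.range by rw [h1]; trivial)
  exact ⟨AddEquiv.ofBijective φ ⟨hinj, hsurj⟩, heq⟩

end CfsgLib.LocalEven.SL2Natural
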