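import Mathlib
import Cfsg.Agent.Lib.LocalEven.SL2Natural

/-!
Higman's theorem on modules for `SL₂(2ⁿ)` in which an element of order three fixes only zero, in
ring form: the upper transvections act quadratically, equivariant symmetric pairings between two such
modules vanish, and a module of exponent four cannot exist.
-/

set_option autoImplicit false

namespace CfsgLib.LocalEven.SL2Cube

open Matrix CfsgLib.LocalEven.QdOver CfsgLib.LocalEven.NatFrame CfsgLib.LocalEven.SL2Natural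

variable {F : Type*} [Field F] [CharP F 2]

local notation "SL2" => Matrix.SpecialLinearGroup (Fin 2) F

theorem neg_eq_self (a : F) : -a = a := CharTwo.neg_eq a

theorem add_self (a : F) : a + a = 0 := CharTwo.add_self_eq_zero a

/-- The standard element of trace one. -/
def cc : SL2 := ⟨!![0, 1; 1, 1], by simp [Matrix.det_fin_two, neg_eq_self]⟩

theorem exists_conj_cc [Finite F] (g : SL2) (hg : g.1 0 0 + g.1 1 1 = 1) :
    ∃ k : SL2, g * k = k * cc := by
  have hd := g.2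
  rw [Matrix.det_fin_two] at hd
  obtain ⟨a, b, hab⟩ : ∃ a b : F, a * (g.1 1 0 * a + g.1 1 1 * b) - b * (g.1 0 0 * a + g.1 0 1 * b) ≠ 0 := by
    by_cases h10 : g.1 1 0 = 0
    · by_cases h01 : g.1 0 1 = 0
      · refine ⟨1, 1, ?_⟩
        have : g.1 1 0 * 1 + g.1 1 1 * 1 - 1 * (g.1 0 0 * 1 + g.1 0 1 * 1) = 1 := by
          rw [h10, h01, CharTwo.sub_eq_add]
          linear_combination hg
        rw [one_mul, this]
        exact one_ne_zero
      · exact ⟨0, 1, by simpa using h01⟩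
    · exact ⟨1, 0, by simpa using h10⟩
  obtain ⟨s, hs⟩ := FiniteField.isSquare_of_char_two (ringChar.eq F 2 ▸ rfl)
    (a * (g.1 1 0 * a + g.1 1 1 * b) - b * (g.1 0 0 * a + g.1 0 1 * b))
  have hs0 : s ≠ 0 := by
    rintro rfl
    exact hab (by simpa using hs)
  refine ⟨⟨!![a / s, (g.1 0 0 * a + g.1 0 1 * b) / s; b / s, (g.1 1 0 * a + g.1 1 1 * b) / s], ?_⟩, ?_⟩
  · rw [Matrix.det_fin_two_of]
    field_simp
    linear_combination hs
  · apply Subtype.ext
    change g.1 * !![a / s, (g.1 0 0 * a + g.1 0 1 * b) / s; b / s, (g.1 1 0 * a + g.1 1 1 * b) / s] =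
      !![a / s, (g.1 0 0 * a + g.1 0 1 * b) / s; b / s, (g.1 1 0 * a + g.1 1 1 * b) / s] * !![(0 : F), 1; 1, 1]
    ext i j
    fin_cases i <;> fin_cases j <;> simp [Matrix.mul_apply, Fin.sum_univ_two] <;> field_simp <;>
      first
        | ring1
        | linear_combination (g.1 0 0 * a + g.1 0 1 * b) * hg - a * hd - a * CharTwo.two_eq_zero (R := F)
        | linear_combination (g.1 1 0 * a + g.1 1 1 * b) * hg - b * hd - b * CharTwo.two_eq_zero (R := F)

theorem exists_conj [Finite F] {g h : SL2} (hg : g.1 0 0 + g.1 1 1 = 1) (hh : h.1 0 0 + h.1 1 1 = 1) :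
    ∃ k : SL2, g * k = k * h := by
  obtain ⟨a, ha⟩ := exists_conj_cc g hg
  obtain ⟨b, hb⟩ := exists_conj_cc h hh
  refine ⟨a * b⁻¹, ?_⟩
  have e : h = b * cc * b⁻¹ := by rw [← hb, mul_inv_cancel_right]
  rw [e, ← mul_assoc, ha]
  group

theorem upSL_sq (a : F) : upSL a * upSL a = (1 : SL2) := by rw [← upSL_add, add_self, upSL_zero]

theorem lowSL_sq (a : F) : lowSL a * lowSL a = (1 : SL2) := by
  apply Subtype.ext
  ext i j
  fin_cases i <;> fin_cases j <;> simp [Matrix.mul_apply, Fin.sum_univ_two, add_self]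

theorem ww_ww : (ww : SL2) * ww = 1 := by
  rw [ww_sq]
  apply Subtype.ext
  ext i j
  fin_cases i <;> fin_cases j <;> simp [neg_eq_self]

theorem ww_eq : (ww : SL2) = upSL 1 * lowSL 1 * upSL 1 := by
  apply Subtype.ext
  ext i j
  fin_cases i <;> fin_cases j <;> simp [ww, Matrix.mul_apply, Fin.sum_univ_two, neg_eq_self, add_self]

theorem low_eq_ww_up (a : F) : lowSL a = (ww : SL2) * upSL a * ww := by
  apply Subtype.ext
  ext i j
  fin_cases i <;> fin_cases j <;> simp [ww, Matrix.mul_apply, Fin.sum_univ_two, neg_eq_self]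

theorem torus_conj (c : F) (hc : c ≠ 0) :
    (upSL c * lowSL c⁻¹ * upSL c) * lowSL 1 * (upSL c * lowSL c⁻¹ * upSL c) = upSL (c * c) := by
  have h : upSL c * lowSL c⁻¹ * upSL c = antiSL c⁻¹ (inv_ne_zero hc) := by
    apply Subtype.ext
    ext i j
    fin_cases i <;> fin_cases j <;> simp [Matrix.mul_apply, Fin.sum_univ_two, neg_eq_self, hc, add_self]
  rw [h]
  apply Subtype.ext
  ext i j
  fin_cases i <;> fin_cases j <;> simp [Matrix.mul_apply, Fin.sum_univ_two, neg_eq_self, hc]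

theorem trace_up_low {a b : F} (h : a * b = 1) :
    (upSL a * lowSL b : SL2).1 0 0 + (upSL a * lowSL b : SL2).1 1 1 = 1 := by
  simp [Matrix.mul_apply, Fin.sum_univ_two, h, add_self]

section Ring

variable {R : Type*} [Ring R] (ρ : Matrix.SpecialLinearGroup (Fin 2) F →* R)

/-- All elements of trace one satisfy `g² + g + 1 = 0`. -/
def Cube : Prop := ∀ g : SL2, g.1 0 0 + g.1 1 1 = 1 → ρ g * ρ g + ρ g + 1 = 0

/-- An upper transvection minus one. -/
def P (c : F) : R := ρ (upSL c) - 1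

/-- A lower transvection minus one. -/
def Q (c : F) : R := ρ (lowSL c) - 1

theorem rho_up (c : F) : ρ (upSL c) = 1 + P ρ c := by simp [P]

theorem rho_low (c : F) : ρ (lowSL c) = 1 + Q ρ c := by simp [Q]

theorem P_sq (c : F) : P ρ c * P ρ c = -(2 * P ρ c) := by
  have h : ρ (upSL c) * ρ (upSL c) = 1 := by rw [← map_mul, upSL_sq, map_one]
  rw [rho_up] at h
  linear_combination (norm := noncomm_ring) h

theorem Q_sq (c : F) : Q ρ c * Q ρ c = -(2 * Q ρ c) := by
  have h : ρ (lowSL c) * ρ (lowSL c) = 1 := by rw [← map_mul, lowSL_sq, map_one]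
  rw [rho_low] at h
  linear_combination (norm := noncomm_ring) h

theorem P_comm (a b : F) : P ρ a * P ρ b = P ρ b * P ρ a := by
  have h : ρ (upSL a) * ρ (upSL b) = ρ (upSL b) * ρ (upSL a) := by
    rw [← map_mul, ← map_mul, ← upSL_add, ← upSL_add, add_comm]
  rw [rho_up, rho_up] at h
  linear_combination (norm := noncomm_ring) h

theorem P_add (a b : F) : P ρ (a + b) = P ρ a + P ρ b + P ρ a * P ρ b := by
  simp only [P, upSL_add, map_mul]
  noncomm_ring

theorem P_zero : P ρ 0 = 0 := by simp [P, upSL_zero]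

/-- `U L`. -/
def E : R := P ρ 1 * Q ρ 1

/-- The diagonal corner of a transvection. -/
def N (c : F) : R := P ρ 1 * P ρ c * Q ρ 1

/-- The off-diagonal corner of a transvection. -/
def B (c : F) : R := P ρ 1 * Q ρ 1 * P ρ c * Q ρ 1

variable {ρ}

theorem pair_rel (hρ : Cube ρ) {a b : F} (h : a * b = 1) :
    P ρ a * Q ρ b + Q ρ b * P ρ a + 2 * P ρ a + 2 * Q ρ b + 3 = 0 := by
  have h1 := hρ _ (trace_up_low h)
  have h2 : ρ (upSL a * lowSL b) * ρ (lowSL b * upSL a) = 1 := by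
    rw [← map_mul, mul_assoc, ← mul_assoc (lowSL b), lowSL_sq, one_mul, upSL_sq, map_one]
  have h3 : ρ (upSL a * lowSL b) + 1 + ρ (lowSL b * upSL a) = 0 := by
    have := congrArg (· * ρ (lowSL b * upSL a)) h1
    simp only [add_mul, zero_mul, mul_assoc, one_mul, h2, mul_one] at this
    exact this
  rw [map_mul, map_mul, rho_up, rho_low] at h3
  linear_combination (norm := (noncomm_ring; norm_num)) h3

section Two

variable (hρ : Cube ρ) (two : ∀ r : R, r + r = 0)

theorem neg_two (two : ∀ r : R, r + r = 0) (r : R) : -r = r := neg_eq_of_add_eq_zero_right (two r)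

theorem two_mul_zero (two : ∀ r : R, r + r = 0) (r : R) : 2 * r = 0 := by rw [two_mul, two]

include two in
theorem P_mul_self (c : F) : P ρ c * P ρ c = 0 := by rw [P_sq, two_mul_zero two, neg_zero]

include two in
theorem Q_mul_self (c : F) : Q ρ c * Q ρ c = 0 := by rw [Q_sq, two_mul_zero two, neg_zero]

include hρ two in
theorem pair_one {a b : F} (h : a * b = 1) : P ρ a * Q ρ b + Q ρ b * P ρ a = 1 := by
  have h1 := pair_rel hρ h
  rw [two_mul_zero two, two_mul_zero two, show (3 : R) = 2 * 1 + 1 by norm_num, two_mul_zero two] at h1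
  simp only [add_zero, zero_add] at h1
  rw [eq_neg_of_add_eq_zero_left h1, neg_two two]

include hρ two in
theorem ULU : P ρ 1 * Q ρ 1 * P ρ 1 = P ρ 1 := by
  have := congrArg (P ρ 1 * ·) (pair_one hρ two (mul_one (1 : F)))
  simpa only [mul_add, ← mul_assoc, P_mul_self two, zero_mul, zero_add, mul_one] using this

include hρ two in
theorem LUL : Q ρ 1 * P ρ 1 * Q ρ 1 = Q ρ 1 := by
  have := congrArg (Q ρ 1 * ·) (pair_one hρ two (mul_one (1 : F)))
  simpa only [mul_add, ← mul_assoc, Q_mul_self two, zero_mul, add_zero, mul_one] using this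

include hρ two in
/-- Splitting `1 = E + LU` between two factors. -/
theorem split (x y : R) : x * y = x * (P ρ 1 * Q ρ 1) * y + x * (Q ρ 1 * P ρ 1) * y := by
  rw [← add_mul, ← mul_add, pair_one hρ two (mul_one (1 : F)), mul_one]

include hρ two in
theorem rho_ww : ρ ww = P ρ 1 + Q ρ 1 := by
  rw [ww_eq, map_mul, map_mul, rho_up, rho_low]
  have h := pair_one hρ two (mul_one (1 : F))
  have h2 := ULU hρ two
  have h3 := P_mul_self two (ρ := ρ) (1 : F)
  linear_combination (norm := noncomm_ring) h + h2 + h3 + two (P ρ 1) + two 1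

include hρ two in
theorem rho_anti {c : F} (hc : c ≠ 0) :
    ρ (upSL c * lowSL c⁻¹ * upSL c) = P ρ c + Q ρ c⁻¹ := by
  rw [map_mul, map_mul, rho_up, rho_low]
  have h := pair_one hρ two (mul_inv_cancel₀ hc)
  have h3 := P_mul_self two (ρ := ρ) c
  have h2 : P ρ c * Q ρ c⁻¹ * P ρ c = P ρ c := by
    have := congrArg (P ρ c * ·) h
    simpa only [mul_add, ← mul_assoc, h3, zero_mul, zero_add, mul_one] using this
  linear_combination (norm := noncomm_ring) h + h2 + h3 + two (P ρ c) + two 1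

include hρ two in
theorem Q_eq (c : F) : Q ρ c = (P ρ 1 + Q ρ 1) * P ρ c * (P ρ 1 + Q ρ 1) := by
  have h : ρ (lowSL c) = ρ ww * ρ (upSL c) * ρ ww := by rw [low_eq_ww_up, map_mul, map_mul]
  have h2 : ρ (ww : SL2) * ρ ww = 1 := by rw [← map_mul, ww_ww, map_one]
  rw [rho_low, rho_up, rho_ww hρ two] at h
  rw [rho_ww hρ two] at h2
  linear_combination (norm := noncomm_ring) h + h2

include two in
theorem P_sq_eq {c : F} (hρ : Cube ρ) (hc : c ≠ 0) :
    P ρ (c * c) = (P ρ c + Q ρ c⁻¹) * Q ρ 1 * (P ρ c + Q ρ c⁻¹) := by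
  have h : ρ (upSL (c * c)) = (P ρ c + Q ρ c⁻¹) * ρ (lowSL 1) * (P ρ c + Q ρ c⁻¹) := by
    rw [← rho_anti hρ two hc, ← map_mul, ← map_mul, torus_conj c hc]
  have h2 : (P ρ c + Q ρ c⁻¹) * (P ρ c + Q ρ c⁻¹) = 1 := by
    rw [← rho_anti hρ two hc, ← map_mul]
    have e : (upSL c * lowSL c⁻¹ * upSL c : SL2) * (upSL c * lowSL c⁻¹ * upSL c) =
        upSL c * (lowSL c⁻¹ * (upSL c * upSL c) * lowSL c⁻¹) * upSL c := by group
    rw [e, upSL_sq, mul_one, lowSL_sq, mul_one, upSL_sq, map_one]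
  rw [rho_up, rho_low] at h
  linear_combination (norm := noncomm_ring) h + h2

include hρ two

theorem E_mul_N (c : F) : E ρ * N ρ c = N ρ c := by
  simp only [E, N, ← mul_assoc, ULU hρ two]

theorem N_mul_E (c : F) : N ρ c * E ρ = N ρ c := by
  simp only [E, N, mul_assoc]
  rw [← mul_assoc (Q ρ 1) (P ρ 1), LUL hρ two]

theorem E_mul_B (c : F) : E ρ * B ρ c = B ρ c := by
  simp only [E, B, ← mul_assoc, ULU hρ two]

theorem B_mul_E (c : F) : B ρ c * E ρ = B ρ c := by
  simp only [E, B, mul_assoc]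
  rw [← mul_assoc (Q ρ 1) (P ρ 1), LUL hρ two]

theorem B_one : B ρ (1 : F) = E ρ := by
  simp only [B, E, ULU hρ two]

theorem P_E (c : F) : P ρ c * P ρ 1 * Q ρ 1 = N ρ c := by rw [N, P_comm ρ c 1]

theorem EPE (c : F) : P ρ 1 * Q ρ 1 * P ρ c * (P ρ 1 * Q ρ 1) = N ρ c := by
  rw [mul_assoc (P ρ 1 * Q ρ 1), ← mul_assoc (P ρ c), P_E hρ two]
  exact E_mul_N hρ two c

theorem UPE (c : F) : P ρ 1 * P ρ c * (P ρ 1 * Q ρ 1) = 0 := by
  rw [P_comm ρ 1 c, ← mul_assoc, mul_assoc (P ρ c), P_mul_self two, mul_zero, zero_mul]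

theorem EQE (c : F) : P ρ 1 * Q ρ 1 * Q ρ c * (P ρ 1 * Q ρ 1) = N ρ c := by
  rw [Q_eq hρ two c, N]
  have h1 : P ρ 1 * Q ρ 1 * (P ρ 1 + Q ρ 1) = P ρ 1 := by
    rw [mul_add, ULU hρ two, mul_assoc, Q_mul_self two, mul_zero, add_zero]
  have h2 : (P ρ 1 + Q ρ 1) * (P ρ 1 * Q ρ 1) = Q ρ 1 := by
    rw [add_mul, ← mul_assoc, P_mul_self two, zero_mul, zero_add, ← mul_assoc, LUL hρ two]
  calc _ = (P ρ 1 * Q ρ 1 * (P ρ 1 + Q ρ 1)) * P ρ c * ((P ρ 1 + Q ρ 1) * (P ρ 1 * Q ρ 1)) := by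
        simp only [mul_assoc]
    _ = _ := by rw [h1, h2]

theorem EQL (c : F) : P ρ 1 * Q ρ 1 * Q ρ c * Q ρ 1 = 0 := by
  rw [Q_eq hρ two c]
  have h1 : P ρ 1 * Q ρ 1 * (P ρ 1 + Q ρ 1) = P ρ 1 := by
    rw [mul_add, ULU hρ two, mul_assoc, Q_mul_self two, mul_zero, add_zero]
  have h2 : (P ρ 1 + Q ρ 1) * Q ρ 1 = P ρ 1 * Q ρ 1 := by
    rw [add_mul, Q_mul_self two, add_zero]
  calc _ = (P ρ 1 * Q ρ 1 * (P ρ 1 + Q ρ 1)) * P ρ c * ((P ρ 1 + Q ρ 1) * Q ρ 1) := by
        simp only [mul_assoc]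
    _ = _ := by rw [h1, h2, UPE hρ two]

theorem UQE (c : F) : P ρ 1 * Q ρ c * (P ρ 1 * Q ρ 1) = B ρ c := by
  rw [Q_eq hρ two c, B]
  have h1 : P ρ 1 * (P ρ 1 + Q ρ 1) = P ρ 1 * Q ρ 1 := by rw [mul_add, P_mul_self two, zero_add]
  have h2 : (P ρ 1 + Q ρ 1) * (P ρ 1 * Q ρ 1) = Q ρ 1 := by
    rw [add_mul, ← mul_assoc, P_mul_self two, zero_mul, zero_add, ← mul_assoc, LUL hρ two]
  calc _ = (P ρ 1 * (P ρ 1 + Q ρ 1)) * P ρ c * ((P ρ 1 + Q ρ 1) * (P ρ 1 * Q ρ 1)) := by
        simp only [mul_assoc]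
    _ = _ := by rw [h1, h2]

theorem UQL (c : F) : P ρ 1 * Q ρ c * Q ρ 1 = N ρ c := by
  rw [Q_eq hρ two c]
  have h1 : P ρ 1 * (P ρ 1 + Q ρ 1) = P ρ 1 * Q ρ 1 := by rw [mul_add, P_mul_self two, zero_add]
  have h2 : (P ρ 1 + Q ρ 1) * Q ρ 1 = P ρ 1 * Q ρ 1 := by
    rw [add_mul, Q_mul_self two, add_zero]
  calc _ = (P ρ 1 * (P ρ 1 + Q ρ 1)) * P ρ c * ((P ρ 1 + Q ρ 1) * Q ρ 1) := by
        simp only [mul_assoc]
    _ = _ := by rw [h1, h2, EPE hρ two]

/-- Corner of a product. -/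
theorem corner (a x y b : R) :
    a * (x * y) * b = (a * x * (P ρ 1 * Q ρ 1)) * ((P ρ 1 * Q ρ 1) * y * b) +
      (a * x * Q ρ 1) * (P ρ 1 * y * b) := by
  have h : (P ρ 1 * Q ρ 1) * (P ρ 1 * Q ρ 1) = P ρ 1 * Q ρ 1 := by rw [← mul_assoc, ULU hρ two]
  calc a * (x * y) * b = (a * x) * (y * b) := by simp only [mul_assoc]
    _ = (a * x) * (P ρ 1 * Q ρ 1) * (y * b) + (a * x) * (Q ρ 1 * P ρ 1) * (y * b) := split hρ two _ _
    _ = (a * x) * ((P ρ 1 * Q ρ 1) * (P ρ 1 * Q ρ 1)) * (y * b) + (a * x) * (Q ρ 1 * P ρ 1) * (y * b) := by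
        rw [h]
    _ = _ := by simp only [mul_assoc]

theorem NB (c : F) : N ρ c * B ρ c = B ρ c * N ρ c := by
  have h := corner hρ two (P ρ 1 * Q ρ 1) (P ρ c) (P ρ c) (Q ρ 1)
  rw [P_mul_self two, mul_zero, zero_mul, EPE hρ two, ← B, ← N] at h
  rw [eq_neg_of_add_eq_zero_left h.symm, neg_two two]

theorem NN (a b : F) : N ρ a * N ρ b = N ρ b * N ρ a := by
  have h := corner hρ two (P ρ 1 * Q ρ 1) (P ρ a) (P ρ b) (P ρ 1 * Q ρ 1)
  have h' := corner hρ two (P ρ 1 * Q ρ 1) (P ρ b) (P ρ a) (P ρ 1 * Q ρ 1)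
  rw [EPE hρ two, EPE hρ two, UPE hρ two, mul_zero, add_zero] at h h'
  rw [← h, ← h', P_comm ρ a b]

theorem N_sq (c : F) : N ρ c * N ρ c = 0 := by
  have h := corner hρ two (P ρ 1 * Q ρ 1) (P ρ c) (P ρ c) (P ρ 1 * Q ρ 1)
  rw [P_mul_self two, mul_zero, zero_mul, EPE hρ two, UPE hρ two, mul_zero, add_zero] at h
  exact h.symm

theorem inverse_facts {c d : F} (h : c * d = 1) :
    B ρ c * B ρ d = E ρ ∧ B ρ d * B ρ c = E ρ ∧
      B ρ c * N ρ d = N ρ d * B ρ c := by
  have hp := pair_one hρ two h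
  have k : ∀ a b : R, a * (P ρ c * Q ρ d) * b + a * (Q ρ d * P ρ c) * b = a * b := fun a b => by
    rw [← add_mul, ← mul_add, hp, mul_one]
  refine ⟨?_, ?_, ?_⟩
  · have h1 := k (P ρ 1 * Q ρ 1) (P ρ 1 * Q ρ 1)
    rw [corner hρ two _ (P ρ c) (Q ρ d) _, corner hρ two _ (Q ρ d) (P ρ c) _, EPE hρ two, EQE hρ two,
      EQL hρ two, UQE hρ two, UPE hρ two, ← B, mul_zero, add_zero, ← mul_assoc (P ρ 1 * Q ρ 1),
      ULU hρ two, ← E, NN hρ two d c] at h1
    rw [← h1, add_right_comm, two, zero_add]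
  · have h1 := k (P ρ 1) (Q ρ 1)
    rw [corner hρ two _ (P ρ c) (Q ρ d) _, corner hρ two _ (Q ρ d) (P ρ c) _, UPE hρ two, EQL hρ two,
      UQE hρ two, UQL hρ two, ← N, ← B, zero_mul, zero_add, ← E, NN hρ two d c] at h1
    rw [← h1, ← add_assoc, add_right_comm, two, zero_add]
  · have h1 := k (P ρ 1 * Q ρ 1) (Q ρ 1)
    rw [corner hρ two _ (P ρ c) (Q ρ d) _, corner hρ two _ (Q ρ d) (P ρ c) _, EPE hρ two, EQE hρ two,
      EQL hρ two, UQL hρ two, ← B, mul_zero, zero_mul, zero_add, add_zero, mul_assoc (P ρ 1) (Q ρ 1),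
      Q_mul_self two, mul_zero] at h1
    rw [eq_neg_of_add_eq_zero_left h1, neg_two two]

theorem sq_facts {c : F} (hc : c ≠ 0) :
    B ρ (c * c) = B ρ c * B ρ c ∧ N ρ (c * c) = B ρ c * (N ρ c + N ρ c⁻¹) := by
  have hL : Q ρ 1 = Q ρ 1 * (P ρ 1 * Q ρ 1) := by rw [← mul_assoc, LUL hρ two]
  have h1 : P ρ 1 * Q ρ 1 * (P ρ c + Q ρ c⁻¹) * Q ρ 1 = B ρ c := by
    rw [mul_add, add_mul, EQL hρ two, add_zero, B]
  have h2 : P ρ 1 * Q ρ 1 * (P ρ c + Q ρ c⁻¹) * (P ρ 1 * Q ρ 1) = N ρ c + N ρ c⁻¹ := by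
    rw [mul_add, add_mul, EPE hρ two, EQE hρ two]
  constructor
  · calc B ρ (c * c)
        = P ρ 1 * Q ρ 1 * ((P ρ c + Q ρ c⁻¹) * Q ρ 1 * (P ρ c + Q ρ c⁻¹)) * Q ρ 1 := by
          rw [B, P_sq_eq two hρ hc]
      _ = P ρ 1 * Q ρ 1 * ((P ρ c + Q ρ c⁻¹) * (Q ρ 1 * (P ρ 1 * Q ρ 1)) * (P ρ c + Q ρ c⁻¹)) * Q ρ 1 := by
          rw [← hL]
      _ = (P ρ 1 * Q ρ 1 * (P ρ c + Q ρ c⁻¹) * Q ρ 1) * (P ρ 1 * Q ρ 1 * (P ρ c + Q ρ c⁻¹) * Q ρ 1) := by
          simp only [mul_assoc]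
      _ = _ := by rw [h1]
  · calc N ρ (c * c)
        = P ρ 1 * Q ρ 1 * P ρ (c * c) * (P ρ 1 * Q ρ 1) := (EPE hρ two _).symm
      _ = P ρ 1 * Q ρ 1 * ((P ρ c + Q ρ c⁻¹) * (Q ρ 1 * (P ρ 1 * Q ρ 1)) * (P ρ c + Q ρ c⁻¹)) *
            (P ρ 1 * Q ρ 1) := by rw [← hL, P_sq_eq two hρ hc]
      _ = (P ρ 1 * Q ρ 1 * (P ρ c + Q ρ c⁻¹) * Q ρ 1) *
            (P ρ 1 * Q ρ 1 * (P ρ c + Q ρ c⁻¹) * (P ρ 1 * Q ρ 1)) := by simp only [mul_assoc]
      _ = _ := by rw [h1, h2]

theorem succ_facts (c : F) :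
    N ρ (c + 1) = N ρ c ∧ B ρ (c + 1) = B ρ c + E ρ + N ρ c := by
  have hU : P ρ 1 * (P ρ c * P ρ 1) = 0 := by
    rw [← mul_assoc, P_comm ρ 1 c, mul_assoc, P_mul_self two, mul_zero]
  constructor
  · rw [N, P_add, mul_add, mul_add, P_mul_self two, hU, add_zero, add_zero, N]
  · rw [B, P_add]
    simp only [mul_add, add_mul]
    rw [← B, ULU hρ two, ← E, ← mul_assoc]
    congr 1
    simp only [mul_assoc]
    rw [← mul_assoc (P ρ c), P_E hρ two, E_mul_N hρ two]

variable [Finite F]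

theorem N_inv {c : F} (hc : c ≠ 0) : N ρ c⁻¹ = B ρ c⁻¹ * N ρ c := by
  obtain ⟨e, rfl⟩ := FiniteField.isSquare_of_char_two (ringChar.eq F 2 ▸ rfl) c
  have he : e ≠ 0 := fun h => hc (by rw [h, mul_zero])
  rw [mul_inv, (sq_facts hρ two (inv_ne_zero he)).2, (sq_facts hρ two he).2,
    (sq_facts hρ two (inv_ne_zero he)).1, inv_inv, mul_assoc, ← mul_assoc (B ρ e⁻¹) (B ρ e),
    (inverse_facts hρ two (mul_inv_cancel₀ he)).2.1, mul_add (E ρ), E_mul_N hρ two, E_mul_N hρ two,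
    add_comm]

theorem N_eq_zero (c : F) : N ρ c = 0 := by
  by_cases hc : c = 0
  · rw [hc, N, P_zero, mul_zero, zero_mul]
  by_cases hc1 : c + 1 = 0
  · have : c = 1 := by rw [eq_neg_of_add_eq_zero_left hc1, neg_eq_self]
    rw [this, N, P_mul_self two, zero_mul]
  have key : ∀ d : F, d ≠ 0 → N ρ (d * d) = B ρ d * N ρ d + N ρ d := fun d hd => by
    rw [(sq_facts hρ two hd).2, N_inv hρ two hd, mul_add, ← mul_assoc,
      (inverse_facts hρ two (mul_inv_cancel₀ hd)).1, E_mul_N hρ two]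
  have h1 := key _ hc1
  rw [(succ_facts hρ two c).1, (succ_facts hρ two c).2,
    show (c + 1) * (c + 1) = c * c + 1 by linear_combination c * CharTwo.two_eq_zero (R := F),
    (succ_facts hρ two _).1, key c hc, add_mul, add_mul, E_mul_N hρ two, N_sq hρ two, add_zero,
    add_assoc] at h1
  have h2 := add_left_cancel h1
  rwa [two] at h2

theorem UP_zero (c : F) : P ρ 1 * P ρ c = 0 := by
  have := split hρ two (P ρ 1 * P ρ c) 1
  rw [mul_one, mul_one, mul_one, UPE hρ two, zero_add, ← mul_assoc, ← N, N_eq_zero hρ two,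
    zero_mul] at this
  exact this

theorem PP_zero (a b : F) : P ρ a * P ρ b = 0 := by
  by_cases ha : a = 0
  · rw [ha, P_zero, zero_mul]
  obtain ⟨t, ht⟩ := FiniteField.isSquare_of_char_two (ringChar.eq F 2 ▸ rfl) a
  have ht0 : t ≠ 0 := fun h => ha (by rw [ht, h, mul_zero])
  have key : ∀ x : F, P ρ (t * t * x) = ρ (diagSL t ht0) * P ρ x * ρ (diagSL t ht0)⁻¹ := fun x => by
    have e : upSL (t * t * x) = diagSL t ht0 * upSL x * (diagSL t ht0)⁻¹ := by
      rw [eq_mul_inv_iff_mul_eq, diag_up]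
      congr 2
      field_simp
    simp only [P, e, map_mul, mul_sub, sub_mul, mul_one]
    rw [← map_mul ρ (diagSL t ht0) (diagSL t ht0)⁻¹, mul_inv_cancel, map_one]
  have hb : b = t * t * (b / (t * t)) := by field_simp
  have ha' := key 1
  rw [mul_one] at ha'
  have hb' := key (b / (t * t))
  rw [← hb] at hb'
  rw [ht, ha', hb']
  calc _ = ρ (diagSL t ht0) * (P ρ 1 * (ρ (diagSL t ht0)⁻¹ * ρ (diagSL t ht0)) * P ρ (b / (t * t))) *
        ρ (diagSL t ht0)⁻¹ := by simp only [mul_assoc]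
    _ = 0 := by rw [← map_mul, inv_mul_cancel, map_one, mul_one, UP_zero hρ two, mul_zero, zero_mul]

theorem B_succ (c : F) : B ρ (c + 1) = B ρ c + E ρ := by
  rw [(succ_facts hρ two c).2, N_eq_zero hρ two, add_zero]

theorem B_pow {c : F} (hc : c ≠ 0) (k : ℕ) : B ρ (c ^ 2 ^ k) = B ρ c ^ 2 ^ k := by
  induction k with
  | zero => simp
  | succ k ih =>
    rw [pow_succ, pow_mul, pow_mul, sq, sq, (sq_facts hρ two (pow_ne_zero _ hc)).1, ih]

theorem B_order {n : ℕ} (hn : Nat.card F = 2 ^ n) {c : F} (hc : c ≠ 0) :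
    B ρ c ^ (2 ^ n - 1) = E ρ := by
  haveI := Fintype.ofFinite F
  have h2 : 2 ≤ 2 ^ n := hn ▸ Finite.one_lt_card
  have h : c ^ 2 ^ n = c := by rw [← hn, Nat.card_eq_fintype_card, FiniteField.pow_card]
  have h1 := B_pow hρ two hc n
  rw [h, show 2 ^ n = (2 ^ n - 1 - 1) + 1 + 1 by omega, pow_succ] at h1
  have h3 := congrArg (· * B ρ c⁻¹) h1
  simp only [mul_assoc, (inverse_facts hρ two (mul_inv_cancel₀ hc)).1] at h3
  rw [show 2 ^ n - 1 = (2 ^ n - 1 - 1) + 1 by omega, h3, pow_succ, mul_assoc, B_mul_E hρ two]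

end Two

end Ring

/-! ### Modules -/

section Module

variable {A : Type*} [AddCommGroup A] (ρ : Matrix.SpecialLinearGroup (Fin 2) F →* AddMonoid.End A)

theorem act_mul' (g h : SL2) (z : A) : ρ (g * h) z = ρ g (ρ h z) := by rw [map_mul]; rfl

theorem act_one' (z : A) : ρ 1 z = z := by rw [map_one]; rfl

/-- Some element of trace one fixes only zero. -/
def Free : Prop := ∃ g : SL2, g.1 0 0 + g.1 1 1 = 1 ∧ ∀ z, ρ g z = z → z = 0

variable {ρ}

theorem fix_trace [Finite F] (hf : Free ρ) {g : SL2} (hg : g.1 0 0 + g.1 1 1 = 1) {z : A}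
    (hz : ρ g z = z) : z = 0 := by
  obtain ⟨g0, h0, hfix⟩ := hf
  obtain ⟨k, hk⟩ := exists_conj h0 hg
  have h1 : ρ k z = 0 := hfix _ (by rw [← act_mul', hk, act_mul', hz])
  rw [← act_one' ρ z, ← inv_mul_cancel k, act_mul', h1, map_zero]

theorem cube_of_free [Finite F] (hf : Free ρ) : Cube ρ := by
  intro g hg
  refine AddMonoidHom.ext fun z => ?_
  show ρ g (ρ g z) + ρ g z + z = 0
  refine fix_trace hf hg ?_
  have h3 : g * g * g = 1 := by
    have hd := g.2
    rw [Matrix.det_fin_two] at hd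
    have e : (g * g).1 = g.1 - 1 := by
      ext i j
      fin_cases i <;> fin_cases j <;> simp [Matrix.mul_apply, Fin.sum_univ_two]
      · linear_combination g.1 0 0 * hg - hd
      · linear_combination g.1 0 1 * hg
      · linear_combination g.1 1 0 * hg
      · linear_combination g.1 1 1 * hg - hd
    apply Subtype.ext
    rw [Matrix.SpecialLinearGroup.coe_mul, e, sub_mul, one_mul, ← Matrix.SpecialLinearGroup.coe_mul, e,
      Matrix.SpecialLinearGroup.coe_one]
    ext i j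
    fin_cases i <;> fin_cases j <;> simp [neg_eq_self]
  have h4 : ρ g (ρ g (ρ g z)) = z := by rw [← act_mul', ← act_mul', h3, act_one']
  rw [map_add, map_add, h4]
  abel

theorem fix0_of_free (hf : Free ρ) (z : A) (hz : ∀ g, ρ g z = z) : z = 0 := by
  obtain ⟨g0, -, hfix⟩ := hf
  exact hfix z (hz g0)

/-- The module as a setting of the natural module criterion. -/
def setting (hf : Free ρ) : Setting F A := { act := ρ, fix0 := fix0_of_free hf }

theorem two_end (h2 : ∀ z : A, z + z = 0) (r : AddMonoid.End A) : r + r = 0 :=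
  AddMonoidHom.ext fun z => h2 (r z)

variable [Finite F]

theorem decompose (hf : Free ρ) (h2 : ∀ z : A, z + z = 0) (z : A) :
    P ρ 1 (Q ρ 1 z) ∈ V0 (setting hf) ∧ Q ρ 1 (P ρ 1 z) ∈ W (setting hf) ∧
      P ρ 1 (Q ρ 1 z) + Q ρ 1 (P ρ 1 z) = z := by
  have hρ := cube_of_free hf
  have two := two_end h2
  refine ⟨fun a => ?_, fun a => ?_, ?_⟩
  · show ρ (upSL a) _ = _
    rw [rho_up]
    show P ρ 1 (Q ρ 1 z) + (P ρ a * P ρ 1) (Q ρ 1 z) = _
    rw [PP_zero hρ two]
    exact add_zero _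
  · show ρ (lowSL a) _ = _
    rw [rho_low]
    show Q ρ 1 (P ρ 1 z) + (Q ρ a * Q ρ 1) (P ρ 1 z) = _
    have : Q ρ a * Q ρ 1 = 0 := by
      have e : (P ρ 1 + Q ρ 1) * Q ρ 1 = P ρ 1 * Q ρ 1 := by rw [add_mul, Q_mul_self two, add_zero]
      rw [Q_eq hρ two a, mul_assoc, e, mul_assoc, ← mul_assoc (P ρ a), PP_zero hρ two, zero_mul, mul_zero]
    rw [this]
    exact add_zero _
  · exact DFunLike.congr_fun (pair_one hρ two (mul_one (1 : F))) z

theorem W_le (hf : Free ρ) (h2 : ∀ z : A, z + z = 0) : W (setting hf) ≤ W1 (setting hf) := fun x hx =>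
  ⟨hx, fun a b => by
    show ρ (upSL b) (ρ (upSL a) x - x) = ρ (upSL a) x - x
    rw [rho_up, rho_up]
    show (x + P ρ a x - x) + P ρ b (x + P ρ a x - x) = x + P ρ a x - x
    rw [add_sub_cancel_left]
    have h : (P ρ b * P ρ a) x = 0 := by rw [PP_zero (cube_of_free hf) (two_end h2)]; rfl
    rw [show P ρ b (P ρ a x) = 0 from h, add_zero]⟩

theorem P_V0 (hf : Free ρ) {a : A} (ha : a ∈ V0 (setting hf)) (c : F) : P ρ c a = 0 :=
  sub_eq_zero.2 (ha c)

theorem E_V0 (hf : Free ρ) (h2 : ∀ z : A, z + z = 0) {a : A} (ha : a ∈ V0 (setting hf)) :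
    P ρ 1 (Q ρ 1 a) = a := by
  have := (decompose hf h2 a).2.2
  rwa [P_V0 hf ha, map_zero, add_zero] at this

/-- On the fixed points of the upper group the corner is `x ↦ (u - 1) L x`. -/
theorem B_apply (hf : Free ρ) (h2 : ∀ z : A, z + z = 0) (c : F) (z : A) :
    B ρ c z = P ρ c (Q ρ 1 z) := by
  show P ρ 1 (Q ρ 1 (P ρ c (Q ρ 1 z))) = _
  refine E_V0 hf h2 (fun a => ?_)
  show ρ (upSL a) _ = _
  rw [rho_up]
  show P ρ c (Q ρ 1 z) + (P ρ a * P ρ c) (Q ρ 1 z) = _
  rw [PP_zero (cube_of_free hf) (two_end h2)]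
  exact add_zero _

theorem torus_apply (hf : Free ρ) (h2 : ∀ z : A, z + z = 0) {c : F} (hc : c ≠ 0) {a : A}
    (ha : a ∈ V0 (setting hf)) : ρ (upSL c * lowSL c⁻¹ * upSL c * ww) a = B ρ c a := by
  have hρ := cube_of_free hf
  have two := two_end h2
  rw [map_mul, rho_anti hρ two hc, rho_ww hρ two]
  show (P ρ c + Q ρ c⁻¹) ((P ρ 1 + Q ρ 1) a) = _
  have e1 : (P ρ 1 + Q ρ 1) a = Q ρ 1 a := by
    show P ρ 1 a + Q ρ 1 a = _
    rw [P_V0 hf ha, zero_add]
  rw [e1, B_apply hf h2]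
  show P ρ c (Q ρ 1 a) + (Q ρ c⁻¹ * Q ρ 1) a = _
  have e2 : Q ρ c⁻¹ * Q ρ 1 = 0 := by
    have e : (P ρ 1 + Q ρ 1) * Q ρ 1 = P ρ 1 * Q ρ 1 := by rw [add_mul, Q_mul_self two, add_zero]
    rw [Q_eq hρ two, mul_assoc, e, mul_assoc, ← mul_assoc (P ρ c⁻¹), PP_zero hρ two, zero_mul, mul_zero]
  rw [e2]
  exact add_zero _

end Module

/-- An equivariant symmetric biadditive pairing of two such modules is zero. -/
theorem pairing_zero [Finite F] {A A' : Type*} [AddCommGroup A] [AddCommGroup A']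
    {ρ : SL2 →* AddMonoid.End A} {ρ' : SL2 →* AddMonoid.End A'}
    (hf : Free ρ) (h2 : ∀ z : A, z + z = 0) (hf' : Free ρ') (h2' : ∀ z : A', z + z = 0)
    (β : A → A → A') (hadd : ∀ x y z, β (x + y) z = β x z + β y z) (hsymm : ∀ x y, β x y = β y x)
    (heq : ∀ g x y, β (ρ g x) (ρ g y) = ρ' g (β x y)) {t : F} (ht0 : t ≠ 0) (ht1 : t ≠ 1) (x y : A) :
    β x y = 0 := by
  have hρ' := cube_of_free hf'
  have two' := two_end h2'
  have hadd' : ∀ x y z, β x (y + z) = β x y + β x z := fun x y z => by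
    rw [hsymm, hadd, hsymm y, hsymm z]
  have hzero : ∀ x, β x 0 = 0 := fun x => by
    have := hadd' x 0 0
    rw [add_zero] at this
    exact left_eq_add.1 this
  have hfixed : ∀ a ∈ V0 (setting hf), ∀ b ∈ V0 (setting hf), β a b ∈ V0 (setting hf') := by
    intro a ha b hb c
    show ρ' _ _ = _
    rw [← heq, show ρ (upSL c) a = a from ha c, show ρ (upSL c) b = b from hb c]
  have hP : ∀ a ∈ V0 (setting hf), ∀ c y, β a (P ρ c y) = P ρ' c (β a y) := by
    intro a ha c y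
    have h := heq (upSL c) a y
    rw [show ρ (upSL c) a = a from ha c, rho_up, rho_up] at h
    change β a (y + P ρ c y) = β a y + P ρ' c (β a y) at h
    rw [hadd'] at h
    exact add_left_cancel h
  have hlin : ∀ a ∈ V0 (setting hf), ∀ b ∈ V0 (setting hf), ∀ c,
      β a (B ρ c b) = B ρ' c (β a b) := by
    intro a ha b hb c
    rw [B_apply hf h2, hP a ha]
    have h1 : β a b = P ρ' 1 (β a (Q ρ 1 b)) := by rw [← hP a ha, E_V0 hf h2 hb]
    rw [h1]
    have h3 := (decompose hf' h2' (β a (Q ρ 1 b))).1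
    conv_lhs => rw [← (decompose hf' h2' (β a (Q ρ 1 b))).2.2]
    rw [map_add, P_V0 hf' h3, zero_add, B_apply hf' h2']
  have hBV : ∀ a ∈ V0 (setting hf), ∀ c, B ρ c a ∈ V0 (setting hf) := fun a _ c d => by
    show ρ (upSL d) _ = _
    rw [B_apply hf h2, rho_up]
    show P ρ c (Q ρ 1 a) + (P ρ d * P ρ c) (Q ρ 1 a) = _
    rw [PP_zero (cube_of_free hf) (two_end h2)]
    exact add_zero _
  have h00 : ∀ a ∈ V0 (setting hf), ∀ b ∈ V0 (setting hf), β a b = 0 := by
    intro a ha b hb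
    have h := heq (upSL t * lowSL t⁻¹ * upSL t * ww) a b
    rw [torus_apply hf h2 ht0 ha, torus_apply hf h2 ht0 hb, torus_apply hf' h2' ht0 (hfixed a ha b hb),
      hlin _ (hBV a ha t) b hb, hsymm (B ρ t a) b, hlin b hb a ha, hsymm b a] at h
    set z := β a b with hz
    have hEz : E ρ' z = z := E_V0 hf' h2' (hfixed a ha b hb)
    have h1 : B ρ' t z = z := by
      have := congrArg (fun x => B ρ' t⁻¹ x) h
      change (B ρ' t⁻¹ * B ρ' t) (B ρ' t z) = (B ρ' t⁻¹ * B ρ' t) z at this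
      rw [(inverse_facts hρ' two' (mul_inv_cancel₀ ht0)).2.1] at this
      change (E ρ' * B ρ' t) z = E ρ' z at this
      rwa [E_mul_B hρ' two', hEz] at this
    have ht : t + 1 ≠ 0 := fun h => ht1 (by rw [eq_neg_of_add_eq_zero_left h, neg_eq_self])
    have h4 : B ρ' (t + 1) z = 0 := by
      rw [B_succ hρ' two']
      show B ρ' t z + E ρ' z = 0
      rw [h1, hEz, h2']
    have := congrArg (fun x => B ρ' (t + 1)⁻¹ x) h4
    change (B ρ' (t + 1)⁻¹ * B ρ' (t + 1)) z = _ at this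
    rwa [(inverse_facts hρ' two' (mul_inv_cancel₀ ht)).2.1, hEz, map_zero] at this
  have hwW : ∀ b ∈ W (setting hf), ρ ww b ∈ V0 (setting hf) := fun b hb => ww_W (setting hf) hb
  have h11 : ∀ a ∈ W (setting hf), ∀ b ∈ W (setting hf), β a b = 0 := by
    intro a ha b hb
    have h := h00 _ (hwW a ha) _ (hwW b hb)
    rw [heq] at h
    rw [← act_one' ρ' (β a b), ← ww_ww, act_mul', h, map_zero]
  have h01 : ∀ a ∈ V0 (setting hf), ∀ b ∈ W (setting hf), β a b = 0 := by
    intro a ha b hb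
    set z := β a b with hz
    have hU : P ρ' 1 z = 0 := by
      rw [hz, ← hP a ha]
      have : P ρ 1 b ∈ V0 (setting hf) := (W_le hf h2 hb).2 1
      exact h00 a ha _ this
    have hL : Q ρ' 1 z = 0 := by
      have h := heq (lowSL 1) a b
      rw [show ρ (lowSL 1) b = b from hb 1, rho_low, rho_low] at h
      change β (a + Q ρ 1 a) b = z + Q ρ' 1 z at h
      have hqa : Q ρ 1 a ∈ W (setting hf) := by
        have := (decompose hf h2 (Q ρ 1 a)).2.1
        have e : Q ρ 1 (P ρ 1 (Q ρ 1 a)) = Q ρ 1 a := by rw [E_V0 hf h2 ha]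
        rwa [e] at this
      rw [hadd, h11 _ hqa b hb, add_zero] at h
      exact left_eq_add.1 h
    rw [← (decompose hf' h2' z).2.2, hL, hU, map_zero, map_zero, add_zero]
  rw [← (decompose hf h2 x).2.2, ← (decompose hf h2 y).2.2, hadd, hadd', hadd',
    h00 _ (decompose hf h2 x).1 _ (decompose hf h2 y).1, h01 _ (decompose hf h2 x).1 _ (decompose hf h2 y).2.1,
    hsymm (Q ρ 1 (P ρ 1 x)), h01 _ (decompose hf h2 y).1 _ (decompose hf h2 x).2.1,
    h11 _ (decompose hf h2 x).2.1 _ (decompose hf h2 y).2.1]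
  simp

section Four

variable {A : Type*} [AddCommGroup A] {ρ : Matrix.SpecialLinearGroup (Fin 2) F →* AddMonoid.End A}

/-- Restriction to an invariant subgroup. -/
def restrict (ρ : SL2 →* AddMonoid.End A) (K : AddSubgroup A) (hK : ∀ g, ∀ z ∈ K, ρ g z ∈ K) :
    SL2 →* AddMonoid.End ↥K where
  toFun g := AddMonoidHom.mk' (fun z => (⟨ρ g z, hK g _ z.2⟩ : ↥K)) fun x y =>
    Subtype.ext (by simp)
  map_one' := AddMonoidHom.ext fun z => Subtype.ext (act_one' ρ (z : A))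
  map_mul' g h := AddMonoidHom.ext fun z => Subtype.ext (act_mul' ρ g h (z : A))

theorem free_restrict (hf : Free ρ) (K : AddSubgroup A) (hK : ∀ g, ∀ z ∈ K, ρ g z ∈ K) :
    Free (restrict ρ K hK) := by
  obtain ⟨g, hg, hfix⟩ := hf
  exact ⟨g, hg, fun z hz => Subtype.ext (hfix _ (congrArg Subtype.val hz))⟩

/-- A module of exponent four has exponent two. -/
theorem two_of_four [Finite F] {n : ℕ} (hn : Nat.card F = 2 ^ n) (hn2 : 2 ≤ n) (hf : Free ρ)
    (h4 : ∀ z : A, 4 • z = 0) (z : A) : z + z = 0 := by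
  obtain ⟨t, ht0, ht1⟩ : ∃ t : F, t ≠ 0 ∧ t ≠ 1 := by
    haveI := Fintype.ofFinite F
    by_contra h
    push Not at h
    have h2 : Nat.card F ≤ 2 := by
      classical
      rw [Nat.card_eq_fintype_card, ← Finset.card_univ]
      refine (Finset.card_le_card (t := {0, 1}) fun x _ => ?_).trans Finset.card_le_two
      by_cases hx : x = 0
      · simp [hx]
      · simp [h x hx]
    have : 2 ^ 2 ≤ 2 ^ n := Nat.pow_le_pow_right (by norm_num) hn2
    omega
  let K : AddSubgroup A :=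
    { carrier := {z | z + z = 0}
      zero_mem' := add_zero 0
      add_mem' := fun {a b} (ha : a + a = 0) (hb : b + b = 0) => by
        show a + b + (a + b) = 0
        rw [add_add_add_comm, ha, hb, add_zero]
      neg_mem' := fun {a} (ha : a + a = 0) => by
        show -a + -a = 0
        rw [← neg_add, ha, neg_zero] }
  have hK : ∀ g, ∀ z ∈ K, ρ g z ∈ K := fun g z (hz : z + z = 0) => by
    show ρ g z + ρ g z = 0
    rw [← map_add, hz, map_zero]
  have hzK : ∀ y : A, y + y ∈ K := fun y => by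
    show y + y + (y + y) = 0
    rw [← h4 y]
    abel
  set σK := restrict ρ K hK
  have hfK : Free σK := free_restrict hf K hK
  have h2K : ∀ z : ↥K, z + z = 0 := fun z => Subtype.ext z.2
  have hρK := cube_of_free hfK
  have twoK := two_end h2K
  have hρ := cube_of_free hf
  -- comparison of the operators
  let Rel : AddMonoid.End ↥K → AddMonoid.End A → Prop := fun r r' => ∀ k : ↥K, r' (k : A) = ((r k : ↥K) : A)
  have rP : ∀ c, Rel (P σK c) (P ρ c) := fun c k => rfl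
  have rQ : ∀ c, Rel (Q σK c) (Q ρ c) := fun c k => rfl
  have rmul : ∀ {r r' s s'}, Rel r r' → Rel s s' → Rel (r * s) (r' * s') := fun {r r' s s'} hr hs k => by
    show r' (s' (k : A)) = _
    rw [hs k, hr (s k)]
    rfl
  have rB : ∀ c, Rel (B σK c) (B ρ c) := fun c =>
    rmul (rmul (rmul (rP 1) (rQ 1)) (rP c)) (rQ 1)
  set U := P ρ (1 : F) with hU
  set L := Q ρ (1 : F) with hL
  set X := P ρ t with hX
  set S := X * U with hS
  have hcomm : U * X = S := P_comm ρ 1 t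
  -- `S` kills `K` and has image in `K`
  have hSK : ∀ k : ↥K, S (k : A) = 0 := fun k => by
    rw [hS, rmul (rP t) (rP 1) k, PP_zero hρK twoK]
    rfl
  have hS2 : S + S = 0 := AddMonoidHom.ext fun y => by
    show S y + S y = 0
    rw [← map_add]
    exact hSK ⟨_, hzK y⟩
  have four : (4 : AddMonoid.End A) = 0 := by
    rw [show (4 : AddMonoid.End A) = ((4 : ℕ) : AddMonoid.End A) by norm_num]
    exact AddMonoidHom.ext h4
  have hUU : U * U = -(2 * U) := P_sq ρ 1
  have hLL : L * L = -(2 * L) := Q_sq ρ 1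
  have hXX : X * X = -(2 * X) := P_sq ρ t
  have hpair : U * L + L * U = 1 - 2 * U - 2 * L := by
    have := pair_rel hρ (mul_one (1 : F))
    rw [← hU, ← hL] at this
    linear_combination (norm := (noncomm_ring; norm_num)) this - four
  have hXUX : X * U * X = 0 := by
    rw [mul_assoc, hcomm, hS, ← mul_assoc, hXX, neg_mul, mul_assoc, ← hS, two_mul, hS2, neg_zero]
  -- the identity
  have key : S * L * X + X * L * S = 2 * X + 2 * (X * L * X) := by
    have e1 : X * (U * L + L * U) * X = X * (1 - 2 * U - 2 * L) * X := by rw [hpair]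
    have e2 : X * L * (U * X) = X * L * S := by rw [hcomm]
    rw [hS] at *
    linear_combination (norm := noncomm_ring)
      e1 + hXX - 2 * hXUX - e2 - four * (X + X * L * X)
  set Bt := B ρ t with hBt
  set σ := U * L * S * L with hσ
  have hσ2 : σ + σ = 0 := by
    rw [hσ, ← add_mul, ← mul_add, hS2, mul_zero, zero_mul]
  have hES : U * L * S = S := by
    have e1 : (U * L + L * U) * S = S := by
      rw [hpair]
      linear_combination (norm := noncomm_ring) -(U * hS2) - L * hS2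
    have e2 : U * S = 0 := by
      rw [hS] at hS2 hcomm ⊢
      linear_combination (norm := noncomm_ring) hcomm * U + X * hUU - hS2
    rwa [add_mul, mul_assoc L U, e2, mul_zero, add_zero] at e1
  have hSLU : S * L * U = S := by
    have e1 : S * (U * L + L * U) = S := by
      rw [hpair]
      linear_combination (norm := noncomm_ring) -(hS2 * U) - hS2 * L
    have e2 : S * U = 0 := by
      rw [hS] at hS2 ⊢
      linear_combination (norm := noncomm_ring) X * hUU - hS2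
    rwa [mul_add, ← mul_assoc, e2, zero_mul, zero_add, ← mul_assoc] at e1
  have hLUL : 2 * (L * U * L) = 2 * L := by
    have e1 : L * (U * L + L * U) = L * (1 - 2 * U - 2 * L) := by rw [hpair]
    linear_combination (norm := noncomm_ring) 2 * e1 - 2 * hLL * U - four * (L * L) - four * (L * U) +
      four * (L * U)
  have hder : σ * Bt + Bt * σ = 2 * (Bt + Bt * Bt) := by
    have e1 : σ * Bt = U * L * (S * L * X) * L := by
      rw [hσ, hBt, B, ← hU, ← hL, ← hX]
      calc U * L * S * L * (U * L * X * L) = U * L * (S * L * U) * L * X * L := by simp only [mul_assoc]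
        _ = _ := by rw [hSLU]; simp only [mul_assoc]
    have e2 : Bt * σ = U * L * (X * L * S) * L := by
      rw [hσ, hBt, B, ← hU, ← hL, ← hX]
      calc U * L * X * L * (U * L * S * L) = U * L * X * L * (U * L * S) * L := by simp only [mul_assoc]
        _ = _ := by rw [hES]; simp only [mul_assoc]
    have e3 : Bt = U * L * X * L := rfl
    have e4 : 2 * (Bt * Bt) = U * L * (2 * (X * L * X)) * L := by
      rw [e3]
      linear_combination (norm := noncomm_ring) U * L * X * hLUL * X * L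
    rw [e1, e2, ← add_mul, ← mul_add, key, mul_add, add_mul, mul_add 2, e4]
    rw [e3]
    noncomm_ring
  have hpow : ∀ k : ℕ, σ * Bt ^ k + Bt ^ k * σ = (2 * k : AddMonoid.End A) * (Bt ^ k + Bt ^ (k + 1)) := by
    intro k
    induction k with
    | zero => simp [hσ2]
    | succ k ih =>
      have e : σ * Bt ^ (k + 1) + Bt ^ (k + 1) * σ =
          (σ * Bt ^ k + Bt ^ k * σ) * Bt + Bt ^ k * (σ * Bt + Bt * σ) := by
        have e0 : Bt ^ k * σ * Bt + Bt ^ k * σ * Bt = 0 := by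
          rw [← add_mul, ← mul_add, hσ2, mul_zero, zero_mul]
        rw [pow_succ]
        linear_combination (norm := noncomm_ring) -e0
      rw [e, ih, hder, pow_succ _ (k + 1), pow_succ _ k, Nat.cast_succ]
      noncomm_ring
  obtain ⟨m, hm⟩ : ∃ m, 2 ^ n - 1 = 2 * m + 1 := by
    refine ⟨2 ^ (n - 1) - 1, ?_⟩
    have : 2 ^ n = 2 * 2 ^ (n - 1) := by rw [← pow_succ']; congr 1; omega
    have : 1 ≤ 2 ^ (n - 1) := Nat.one_le_two_pow
    omega
  set M := 2 ^ n - 1 with hM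
  have hBK : ∀ k : ↥K, (Bt ^ M) (k : A) = U (L (k : A)) := by
    intro k
    have hr : ∀ j, Rel (B σK t ^ (j + 1)) (Bt ^ (j + 1)) := by
      intro j
      induction j with
      | zero => rw [zero_add, pow_one, pow_one]; exact rB t
      | succ j ih => rw [pow_succ _ (j + 1), pow_succ _ (j + 1)]; exact rmul ih (rB t)
    rw [hm, hr (2 * m) k, ← hm, B_order hρK twoK hn ht0]
    exact (rmul (rP 1) (rQ 1) k).symm
  -- `σ` sees only the restriction to `K`
  have hσK : ∀ k : ↥K, σ (k : A) = 0 := fun k => by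
    show (U * L * S) (L (k : A)) = 0
    rw [hES, rQ 1 k]
    exact hSK _
  have hσim : ∀ y, σ y + σ y = 0 := fun y => DFunLike.congr_fun hσ2 y
  have hσE : ∀ y, σ (U (L y)) = σ y := by
    have : σ * (U * L) = σ := by
      rw [hσ]
      calc U * L * S * L * (U * L) = U * L * (S * L * U) * L := by simp only [mul_assoc]
        _ = _ := by rw [hSLU]
    exact fun y => DFunLike.congr_fun this y
  have hEσ : ∀ y, U (L (σ y)) = σ y := by
    have : U * L * σ = σ := by
      rw [hσ]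
      calc U * L * (U * L * S * L) = U * L * (U * L * S) * L := by simp only [mul_assoc]
        _ = _ := by rw [hES, hES]
    exact fun y => DFunLike.congr_fun this y
  have hzero : σ * Bt ^ M + Bt ^ M * σ = 0 := AddMonoidHom.ext fun y => by
    show σ ((Bt ^ M) y) + (Bt ^ M) (σ y) = 0
    have hd : (Bt ^ M) y - U (L y) ∈ K := by
      show _ + _ = (0 : A)
      have h1 := hBK ⟨_, hzK y⟩
      simp only [map_add] at h1
      calc (Bt ^ M) y - U (L y) + ((Bt ^ M) y - U (L y))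
          = ((Bt ^ M) y + (Bt ^ M) y) - (U (L y) + U (L y)) := by abel
        _ = 0 := by rw [h1, sub_self]
    have h2 : σ ((Bt ^ M) y) = σ y := by
      have := hσK ⟨_, hd⟩
      rw [map_sub, sub_eq_zero] at this
      rw [this, hσE]
    rw [h2, hBK ⟨_, hσim y⟩, hEσ, hσim]
  have hfin := hpow M
  rw [hzero] at hfin
  -- evaluate at the doubled element
  have hall : ∀ y : A, U (L (y + y)) + Bt (y + y) = 0 := by
    intro y
    have h1 : (2 * (M : AddMonoid.End A)) * (Bt ^ M + Bt ^ (M + 1)) = 2 * (Bt ^ M + Bt ^ (M + 1)) := by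
      rw [hm]
      push_cast
      linear_combination (norm := noncomm_ring) four * ((m : AddMonoid.End A) * (Bt ^ (2 * m + 1) + Bt ^ (2 * m + 1 + 1)))
    rw [h1, two_mul] at hfin
    have h2 : (Bt ^ M + Bt ^ (M + 1)) (y + y) = 0 := by
      rw [map_add]
      exact (DFunLike.congr_fun hfin y).symm
    change (Bt ^ M) (y + y) + (Bt ^ (M + 1)) (y + y) = 0 at h2
    rw [hBK ⟨_, hzK y⟩, pow_succ] at h2
    change U (L (y + y)) + (Bt ^ M) (Bt (y + y)) = 0 at h2
    have h3 : Bt (y + y) = ((B σK t ⟨_, hzK y⟩ : ↥K) : A) := rB t ⟨_, hzK y⟩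
    rw [h3, hBK, ← h3] at h2
    have h4 : U (L (Bt (y + y))) = Bt (y + y) := by
      rw [h3]
      have := DFunLike.congr_fun (E_mul_B hρK twoK t) ⟨_, hzK y⟩
      exact (rmul (rP 1) (rQ 1) _).trans (congrArg Subtype.val this)
    rwa [h4] at h2
  have ht : t + 1 ≠ 0 := fun h => ht1 (by rw [eq_neg_of_add_eq_zero_left h, neg_eq_self])
  have hE0 : ∀ y : A, P σK (1 : F) (Q σK (1 : F) ⟨_, hzK y⟩) = 0 := by
    intro y
    have h1 : B σK (t + 1) ⟨_, hzK y⟩ = 0 := by
      rw [B_succ hρK twoK]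
      apply Subtype.ext
      show ((B σK t ⟨_, hzK y⟩ : ↥K) : A) + ((P σK 1 (Q σK 1 ⟨_, hzK y⟩) : ↥K) : A) = 0
      rw [← rB t ⟨_, hzK y⟩, ← rP 1, ← rQ 1, add_comm]
      exact hall y
    have := congrArg (fun x => B σK (t + 1)⁻¹ x) h1
    change (B σK (t + 1)⁻¹ * B σK (t + 1)) _ = _ at this
    rwa [(inverse_facts hρK twoK (mul_inv_cancel₀ ht)).2.1, map_zero] at this
  have h1 := hE0 z
  have h2 : Q σK (1 : F) (P σK (1 : F) ⟨_, hzK z⟩) = 0 := by
    have h3 := hE0 (ρ ww z)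
    have h4 : (⟨_, hzK (ρ ww z)⟩ : ↥K) = σK ww ⟨_, hzK z⟩ :=
      Subtype.ext (map_add (ρ ww) z z).symm
    rw [h4, rho_ww hρK twoK] at h3
    change ((P σK 1 * Q σK 1) * (P σK 1 + Q σK 1)) ⟨_, hzK z⟩ = 0 at h3
    rw [mul_add, ULU hρK twoK, mul_assoc, Q_mul_self twoK, mul_zero, add_zero] at h3
    rw [h3, map_zero]
  have h5 := (decompose hfK h2K ⟨_, hzK z⟩).2.2
  rw [h1, h2, add_zero] at h5
  exact congrArg Subtype.val h5.symm

/-- A module of two-power exponent has exponent two. -/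
theorem exponent_two [Finite F] {n : ℕ} (hn : Nat.card F = 2 ^ n) (hn2 : 2 ≤ n) (hf : Free ρ)
    (hA : ∀ z : A, ∃ k : ℕ, 2 ^ k • z = 0) (z : A) : z + z = 0 := by
  let A4 : AddSubgroup A :=
    { carrier := {z | 4 • z = 0}
      zero_mem' := smul_zero 4
      add_mem' := fun {a b} (ha : 4 • a = 0) (hb : 4 • b = 0) => by
        show 4 • (a + b) = 0
        rw [smul_add, ha, hb, add_zero]
      neg_mem' := fun {a} (ha : 4 • a = 0) => by
        show 4 • (-a) = 0
        rw [smul_neg, ha, neg_zero] }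
  have hA4 : ∀ g, ∀ z ∈ A4, ρ g z ∈ A4 := fun g z (hz : 4 • z = 0) => by
    show 4 • ρ g z = 0
    rw [← map_nsmul, hz, map_zero]
  have h := two_of_four hn hn2 (free_restrict hf A4 hA4) fun y => Subtype.ext (by rw [AddSubgroup.coe_nsmul]; exact y.2)
  suffices ∀ k (y : A), 2 ^ k • y = 0 → y + y = 0 by
    obtain ⟨k, hk⟩ := hA z
    exact this k z hk
  intro k
  induction k with
  | zero => intro y hy; rw [pow_zero, one_smul] at hy; rw [hy, add_zero]
  | succ k ih =>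
    intro y hy
    cases k with
    | zero => rw [← two_nsmul]; simpa using hy
    | succ k =>
      have h4 : 4 • (2 ^ k • y) = 0 := by
        rw [smul_smul, show 4 * 2 ^ k = 2 ^ (k + 1 + 1) by ring, hy]
      apply ih
      rw [pow_succ', mul_smul, two_nsmul]
      exact congrArg Subtype.val (h ⟨_, h4⟩)

end Four

end CfsgLib.LocalEven.SL2Cube
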