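import Mathlib
import Cfsg.Prelude.Def_BaumannBlocks
import Cfsg.Agent.Lib.LocalEven.SL2Cube

/-!
Higman's theorem: a normal two-subgroup with quotient `SL₂(2ⁿ)` on which an element of order three
acts without fixed points is a direct product of natural modules.
-/

set_option autoImplicit false

namespace CfsgLib.LocalEven.SL2Higman

open Matrix CfsgLib.LocalEven.QdOver CfsgLib.LocalEven.NatFrame CfsgLib.LocalEven.SL2Natural
  CfsgLib.LocalEven.SL2Cube
open scoped commutatorElement

variable {K : Type*} [Field K] [CharP K 2] [Finite K]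

local notation "SL2" => Matrix.SpecialLinearGroup (Fin 2) K

theorem trace_one_of_cube {g : SL2} (h : g * g * g = 1) (hne : g ≠ 1) : g.1 0 0 + g.1 1 1 = 1 := by
  have hd := g.2
  rw [Matrix.det_fin_two] at hd
  have e := congrArg Subtype.val h
  simp only [Matrix.SpecialLinearGroup.coe_mul, Matrix.SpecialLinearGroup.coe_one] at e
  have e2 : ∀ i j, (g.1 * g.1 * g.1) i j = (1 : Matrix (Fin 2) (Fin 2) K) i j := fun i j => by rw [e]
  have h00 := e2 0 0
  have h01 := e2 0 1
  have h10 := e2 1 0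
  have h11 := e2 1 1
  simp [Matrix.mul_apply, Fin.sum_univ_two] at h00 h01 h10 h11
  set t := g.1 0 0 + g.1 1 1 with ht
  have f00 : (t * t - 1) * g.1 0 0 = 1 + t := by linear_combination h00 + (g.1 0 0 + t) * hd
  have f01 : (t * t - 1) * g.1 0 1 = 0 := by linear_combination h01 + g.1 0 1 * hd
  have f10 : (t * t - 1) * g.1 1 0 = 0 := by linear_combination h10 + g.1 1 0 * hd
  have f11 : (t * t - 1) * g.1 1 1 = 1 + t := by linear_combination h11 + (g.1 1 1 + t) * hd
  by_contra hne1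
  have h1 : t * t - 1 ≠ 0 := fun h0 => hne1 (by
    rcases mul_self_eq_one_iff.1 (sub_eq_zero.1 h0) with h | h
    · exact h
    · rw [h, CharTwo.neg_eq])
  apply hne
  have a01 := (mul_eq_zero.1 f01).resolve_left h1
  have a10 := (mul_eq_zero.1 f10).resolve_left h1
  have a11 : g.1 1 1 = g.1 0 0 := mul_left_cancel₀ h1 (f11.trans f00.symm)
  rw [a01, a11] at hd
  have a00 : g.1 0 0 = 1 := by
    rcases mul_self_eq_one_iff.1 (by linear_combination hd : g.1 0 0 * g.1 0 0 = 1) with h | h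
    · exact h
    · rw [h, CharTwo.neg_eq]
  apply Subtype.ext
  ext i j
  fin_cases i <;> fin_cases j <;> simp [a01, a10, a11, a00]

section Decomp

variable {A : Type*} [AddCommGroup A] [Finite A] {ρ : Matrix.SpecialLinearGroup (Fin 2) K →* AddMonoid.End A}

/-- A free module of exponent two is a direct sum of natural modules. -/
theorem exists_decomp (hf : Free ρ) (h2 : ∀ z : A, z + z = 0) :
    ∃ (k : ℕ) (Ψ : (Fin k → Fin 2 → K) ≃+ A),
      ∀ (g : SL2) v, Ψ (fun i => g.1.mulVec (v i)) = ρ g (Ψ v) := by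
  let S : Set ℕ := {k | ∃ Ψ : (Fin k → Fin 2 → K) →+ A, Function.Injective Ψ ∧
    ∀ (g : SL2) v, Ψ (fun i => g.1.mulVec (v i)) = ρ g (Ψ v)}
  have hS : S.Finite := by
    refine (Set.finite_le_nat (Nat.card A)).subset fun k hk => ?_
    obtain ⟨Ψ, hΨ, -⟩ := hk
    have := Nat.card_le_card_of_injective Ψ hΨ
    rw [Nat.card_fun, Nat.card_fin, Nat.card_fun, Nat.card_fin] at this
    have h1 : k ≤ (Nat.card K ^ 2) ^ k :=
      (Nat.lt_pow_self (one_lt_pow₀ Finite.one_lt_card two_ne_zero)).le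
    exact h1.trans this
  obtain ⟨k, hk, hmax⟩ := Set.exists_max_image S id hS
    ⟨0, 0, fun a b _ => Subsingleton.elim a b, fun g v => by simp⟩
  obtain ⟨Ψ, hinj, heq⟩ := hk
  by_cases hsurj : Function.Surjective Ψ
  · exact ⟨k, AddEquiv.ofBijective Ψ ⟨hinj, hsurj⟩, heq⟩
  exfalso
  have hinv : ∀ g, ∀ z ∈ Ψ.range, ρ g z ∈ Ψ.range := by
    rintro g _ ⟨v, rfl⟩
    exact ⟨_, heq g v⟩
  obtain ⟨x, hxW, hx⟩ : ∃ x, x ∈ W (setting hf) ∧ x ∉ Ψ.range := by
    by_contra h
    push Not at h
    apply hsurj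
    intro z
    obtain ⟨h0, h1, e⟩ := decompose hf h2 z
    have h3 : P ρ 1 (Q ρ 1 z) ∈ Ψ.range := by
      have h4 := hinv ww _ (h _ (ww_V0 (setting hf) h0))
      change ρ ww (ρ ww _) ∈ _ at h4
      rwa [← act_mul', ww_ww, act_one'] at h4
    rw [← e]
    exact Ψ.range.add_mem h3 (h _ h1)
  have hx0 : x ≠ 0 := fun e => hx (e ▸ Ψ.range.zero_mem)
  obtain ⟨φ, hφi, hφeq, hφ01⟩ := embed (setting hf) (W_le hf h2) hxW hx0
  have hmeet : ∀ a, φ a ∈ Ψ.range → a = 0 := by
    intro a ha
    by_contra hane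
    apply hx
    rw [← hφ01]
    set T := Ψ.range.comap φ with hT
    have hTinv : ∀ (g : SL2) v, v ∈ T → g.1.mulVec v ∈ T := fun g v hv => by
      show φ _ ∈ Ψ.range
      rw [hφeq]
      exact hinv g _ hv
    have step : ∀ v : Fin 2 → K, v ∈ T → v 1 ≠ 0 → (![0, 1] : Fin 2 → K) ∈ T := by
      intro v hv hv1
      have h := T.sub_mem (hTinv (upSL ((v 1)⁻¹)) v hv) hv
      have e : (upSL ((v 1)⁻¹) : SL2).1.mulVec v - v = ![1, 0] := by
        rw [(up_ww_mulVec _ v).1]
        ext i
        fin_cases i <;> simp [hv1]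
      rw [e] at h
      have h' := hTinv ww _ h
      rw [(up_ww_mulVec 0 _).2] at h'
      simpa [CharTwo.neg_eq] using h'
    by_cases h1 : a 1 = 0
    · refine step _ (hTinv ww a ha) ?_
      rw [(up_ww_mulVec 0 a).2]
      intro h0
      apply hane
      ext i
      fin_cases i
      · simpa using h0
      · simpa using h1
    · exact step a ha h1
  let Ψ' : (Fin (k + 1) → Fin 2 → K) →+ A :=
    AddMonoidHom.mk' (fun v => φ (v 0) + Ψ (Fin.tail v)) fun v w => by
      have : Fin.tail (v + w) = Fin.tail v + Fin.tail w := rfl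
      rw [Pi.add_apply, map_add, this, map_add]
      abel
  have hmem : k + 1 ∈ S := by
    refine ⟨Ψ', (injective_iff_map_eq_zero Ψ').2 fun v hv => ?_, fun g v => ?_⟩
    · change φ (v 0) + Ψ (Fin.tail v) = 0 at hv
      have h0 : v 0 = 0 := hmeet _ (by
        rw [eq_neg_of_add_eq_zero_left hv]
        exact Ψ.range.neg_mem ⟨_, rfl⟩)
      rw [h0, map_zero, zero_add] at hv
      have h1 := hinj (hv.trans (map_zero Ψ).symm)
      funext i
      refine Fin.cases h0 (fun j => ?_) i
      exact congrFun h1 j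
    · show φ (g.1.mulVec (v 0)) + Ψ (fun i => g.1.mulVec (Fin.tail v i)) = ρ g (φ (v 0) + Ψ (Fin.tail v))
      rw [map_add, hφeq, heq]
      rfl
  exact absurd (hmax _ hmem) (by simp)

end Decomp

variable {G : Type*} [Group G] [Finite G] {Q : Subgroup G} [Q.Normal]

/-- An abelian section `H / N` centralised by `Q` is a free module for the quotient. -/
theorem exists_rep (hQ : IsPGroup 2 ↥Q) (e : G ⧸ Q ≃* SL2) {x : G} (hx : orderOf x = 3)
    (hfpf : ∀ q ∈ Q, x * q * x⁻¹ = q → q = 1) (H N : Subgroup G) [H.Normal] [N.Normal] (hHQ : H ≤ Q)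
    (hQH : ⁅Q, H⁆ ≤ N) {A : Type*} [AddCommGroup A] (f : ↥H → A) (hfs : Function.Surjective f)
    (hmul : ∀ a b, f (a * b) = f a + f b) (hker : ∀ a : ↥H, f a = 0 ↔ (a : G) ∈ N) :
    ∃ ρ : SL2 →* AddMonoid.End A, (∀ (g : G) (a : ↥H), ρ (e (g : G ⧸ Q)) (f a) = f (MulAut.conjNormal g a)) ∧
      Free ρ ∧ ∀ z : A, ∃ k : ℕ, 2 ^ k • z = 0 := by
  have h1 : f 1 = 0 := (hker 1).2 N.one_mem
  have hinv : ∀ a, f a⁻¹ = -f a := fun a => by
    rw [eq_neg_iff_add_eq_zero, ← hmul, inv_mul_cancel, h1]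
  have hwd : ∀ g a b, f a = f b → f (MulAut.conjNormal g a) = f (MulAut.conjNormal g b) := by
    intro g a b hab
    have hm : ((a⁻¹ * b : ↥H) : G) ∈ N := (hker _).1 (by rw [hmul, hinv, hab, neg_add_cancel])
    have hm' := Subgroup.Normal.conj_mem ‹N.Normal› _ hm g
    rw [← MulAut.conjNormal_apply, ← hker, map_mul, hmul, map_inv, hinv, neg_add_eq_zero] at hm'
    exact hm'
  let σ := Function.surjInv hfs
  have hσ : ∀ z, f (σ z) = z := Function.surjInv_eq hfs
  let T : G → AddMonoid.End A := fun g => AddMonoidHom.mk' (fun z => f (MulAut.conjNormal g (σ z)))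
    fun z w => by
      rw [← hmul, ← map_mul]
      exact hwd g _ _ (by rw [hσ, hmul, hσ, hσ])
  have hT : ∀ g a, T g (f a) = f (MulAut.conjNormal g a) := fun g a => hwd g _ _ (hσ _)
  let Th : G →* AddMonoid.End A :=
    { toFun := T
      map_one' := AddMonoidHom.ext fun z => by
        show f (MulAut.conjNormal (1 : G) (σ z)) = z
        rw [map_one]
        exact hσ z
      map_mul' := fun g g' => AddMonoidHom.ext fun z => by
        show T (g * g') z = T g (T g' z)
        rw [← hσ z, hT, hT, hT, map_mul]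
        rfl }
  have hQker : Q ≤ Th.ker := fun q hq => AddMonoidHom.ext fun z => by
    show T q z = z
    rw [← hσ z, hT]
    have hc : ⁅q, ((σ z : ↥H) : G)⁆ ∈ N := hQH (Subgroup.commutator_mem_commutator hq (σ z).2)
    have e : MulAut.conjNormal q (σ z) = (⟨⁅q, ((σ z : ↥H) : G)⁆,
        Subgroup.commutator_le_right Q H (Subgroup.commutator_mem_commutator hq (σ z).2)⟩ : ↥H) * σ z :=
      Subtype.ext (by
        rw [MulAut.conjNormal_apply, Subgroup.coe_mul]
        show q * _ * q⁻¹ = ⁅q, ((σ z : ↥H) : G)⁆ * _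
        simp [commutatorElement_def])
    rw [e, hmul, (hker _).2 hc, zero_add]
  refine ⟨(QuotientGroup.lift Q Th hQker).comp e.symm.toMonoidHom, fun g a => ?_,
    ⟨e x, ?_, ?_⟩, ?_⟩
  · show QuotientGroup.lift Q Th hQker (e.symm (e g)) (f a) = _
    rw [MulEquiv.symm_apply_apply]
    exact hT g a
  · refine trace_one_of_cube ?_ ?_
    · have h3 : x * x * x = 1 := by
        rw [← pow_three', ← hx]
        exact pow_orderOf_eq_one x
      rw [← map_mul, ← map_mul, ← map_one e]
      congr 1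
      show ((x * x * x : G) : G ⧸ Q) = 1
      rw [h3]
      rfl
    · intro h
      have hxQ : x ∈ Q := (QuotientGroup.eq_one_iff x).1 ((map_eq_one_iff e e.injective).1 h)
      obtain ⟨k, hk⟩ := hQ.exists_card_eq
      have h2 : 3 ∣ 2 ^ k := by
        rw [← hk, ← hx, ← Subgroup.orderOf_mk x hxQ]
        exact orderOf_dvd_natCard _
      exact absurd ((Nat.prime_dvd_prime_iff_eq Nat.prime_three Nat.prime_two).1
        (Nat.prime_three.dvd_of_dvd_pow h2)) (by norm_num)
  · intro z hz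
    change QuotientGroup.lift Q Th hQker (e.symm (e (x : G ⧸ Q))) z = z at hz
    rw [MulEquiv.symm_apply_apply] at hz
    change T x z = z at hz
    rw [← hσ z, hT] at hz
    set h := σ z
    classical
    haveI : Fact (Nat.Prime 3) := ⟨Nat.prime_three⟩
    have hCinv : ∀ (g : G), f (MulAut.conjNormal g h) = f h → ∀ y : ↥H, f y = f h →
        f (MulAut.conjNormal g y) = f h := fun g hg y hy => by rw [hwd g y h hy, hg]
    let C := {y : ↥H // f y = f h}
    have hx' : f (MulAut.conjNormal x⁻¹ h) = f h := by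
      have := hwd x⁻¹ _ _ hz
      rw [← MulAut.mul_apply, ← map_mul, inv_mul_cancel, map_one] at this
      exact this.symm
    let π : Equiv.Perm C :=
      { toFun := fun y => ⟨MulAut.conjNormal x y.1, hCinv x hz y.1 y.2⟩
        invFun := fun y => ⟨MulAut.conjNormal x⁻¹ y.1, hCinv x⁻¹ hx' y.1 y.2⟩
        left_inv := fun y => Subtype.ext (by
          show MulAut.conjNormal x⁻¹ (MulAut.conjNormal x y.1) = y.1
          rw [← MulAut.mul_apply, ← map_mul, inv_mul_cancel, map_one]; rfl)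
        right_inv := fun y => Subtype.ext (by
          show MulAut.conjNormal x (MulAut.conjNormal x⁻¹ y.1) = y.1
          rw [← MulAut.mul_apply, ← map_mul, mul_inv_cancel, map_one]; rfl) }
    haveI := Fintype.ofFinite C
    let fh : ↥H →* Multiplicative A := MonoidHom.mk' (fun a => Multiplicative.ofAdd (f a)) fun a b => by
      rw [hmul, ofAdd_add]
    have hcard : ¬ 3 ∣ Fintype.card C := by
      have e1 : C ≃ ↥fh.ker :=
        { toFun := fun y => ⟨h⁻¹ * y.1, by
            rw [MonoidHom.mem_ker]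
            show Multiplicative.ofAdd (f (h⁻¹ * y.1)) = 1
            rw [hmul, hinv, y.2, neg_add_cancel]; rfl⟩
          invFun := fun n => ⟨h * n.1, by
            have := n.2
            rw [MonoidHom.mem_ker] at this
            change Multiplicative.ofAdd (f n.1) = 1 at this
            rw [hmul, show f n.1 = 0 from congrArg Multiplicative.toAdd this, add_zero]⟩
          left_inv := fun y => Subtype.ext (mul_inv_cancel_left h y.1)
          right_inv := fun n => Subtype.ext (inv_mul_cancel_left h n.1) }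
      rw [← Nat.card_eq_fintype_card, Nat.card_congr e1]
      obtain ⟨k, hk⟩ := ((hQ.to_le hHQ).to_subgroup fh.ker).exists_card_eq
      rw [hk]
      intro h2
      exact absurd ((Nat.prime_dvd_prime_iff_eq Nat.prime_three Nat.prime_two).1
        (Nat.prime_three.dvd_of_dvd_pow h2)) (by norm_num)
    have hπ : π ^ 3 ^ 1 = 1 := by
      refine Equiv.ext fun y => Subtype.ext ?_
      show MulAut.conjNormal x (MulAut.conjNormal x (MulAut.conjNormal x y.1)) = y.1
      rw [← MulAut.mul_apply, ← MulAut.mul_apply, ← map_mul, ← map_mul, ← pow_three', ← hx,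
        pow_orderOf_eq_one, map_one]
      rfl
    obtain ⟨y, hy⟩ := Equiv.Perm.exists_fixed_point_of_prime hcard hπ
    have hy' : x * (y.1 : G) * x⁻¹ = y.1 := congrArg (fun c : C => ((c.1 : ↥H) : G)) hy
    rw [← hσ z, ← y.2, show y.1 = 1 from Subtype.ext (hfpf _ (hHQ y.1.2) hy'), h1]
  · intro z
    obtain ⟨k, hk⟩ := (hQ.to_le hHQ) (σ z)
    refine ⟨k, ?_⟩
    have hpow : ∀ m, f (σ z ^ m) = m • z := fun m => by
      induction m with
      | zero => rw [pow_zero, h1, zero_smul]
      | succ m ih => rw [pow_succ, hmul, ih, hσ, succ_nsmul]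
    rw [← hpow, hk, h1]

theorem commutator_eq_bot_of_le {G : Type*} [Group G] (Q : Subgroup G) [Group.IsNilpotent ↥Q]
    (h : ⁅Q, Q⁆ ≤ ⁅⁅Q, Q⁆, Q⁆) : ⁅Q, Q⁆ = ⊥ := by
  have e3 : ∀ k, ⁅Q, Q⁆ ≤ Q.lowerCentralSeries k := by
    intro k
    induction k with
    | zero => exact Subgroup.commutator_le.2 fun a ha b hb =>
        mul_mem (mul_mem (mul_mem ha hb) (inv_mem ha)) (inv_mem hb)
    | succ k ih => exact h.trans (Subgroup.commutator_mono ih le_rfl)
  obtain ⟨m, hm⟩ := (Subgroup.isNilpotent_iff_lowerCentralSeries Q).1 ‹Group.IsNilpotent ↥Q›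
  exact le_bot_iff.1 (hm ▸ e3 m)

/-- The quotient of `H` by `N` as an additive group. -/
abbrev Sec (H N : Subgroup G) [N.Normal] := Additive (↥H ⧸ N.subgroupOf H)

theorem higman (hQ : IsPGroup 2 ↥Q) (e : G ⧸ Q ≃* SL2) {n : ℕ} (hn : Nat.card K = 2 ^ n) (hn2 : 2 ≤ n)
    {x : G} (hx : orderOf x = 3) (hfpf : ∀ q ∈ Q, x * q * x⁻¹ = q → q = 1) :
    Cfsg.IsElementaryAbelian 2 Q ∧
      ∃ (k : ℕ) (V : Fin k → Subgroup G), (∀ i, V i ≤ Q ∧ (V i).Normal ∧
        Cfsg.ActsAsSL2OnSection K ⊤ ⊤ (V i) ⊥) ∧ iSupIndep V ∧ ⨆ i, V i = Q := by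
  classical
  haveI : Fact (Nat.Prime 2) := ⟨Nat.prime_two⟩
  haveI : Group.IsNilpotent ↥Q := hQ.isNilpotent
  obtain ⟨t, ht0, ht1⟩ : ∃ t : K, t ≠ 0 ∧ t ≠ 1 := by
    haveI := Fintype.ofFinite K
    by_contra h
    push Not at h
    have h2 : Nat.card K ≤ 2 := by
      rw [Nat.card_eq_fintype_card, ← Finset.card_univ]
      refine (Finset.card_le_card (t := {0, 1}) fun x _ => ?_).trans Finset.card_le_two
      by_cases hx : x = 0
      · simp [hx]
      · simp [h x hx]
    have : 2 ^ 2 ≤ 2 ^ n := Nat.pow_le_pow_right (by norm_num) hn2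
    omega
  have hcm : ∀ a b : G, a * b = ⁅a, b⁆ * (b * a) := fun a b => by rw [commutatorElement_def]; group
  set D := ⁅Q, Q⁆ with hD
  have hDQ : D ≤ Q := Subgroup.commutator_le_right Q Q
  set N := ⁅D, Q⁆ with hN
  have hND : N ≤ D := Subgroup.commutator_le_left D Q
  -- the first two sections
  letI c1 : CommGroup (↥Q ⧸ D.subgroupOf Q) :=
    { (inferInstance : Group (↥Q ⧸ D.subgroupOf Q)) with
      mul_comm := fun a b => by
        induction a using QuotientGroup.induction_on with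
        | _ a =>
          induction b using QuotientGroup.induction_on with
          | _ b =>
            rw [← QuotientGroup.mk_mul, ← QuotientGroup.mk_mul, QuotientGroup.eq, Subgroup.mem_subgroupOf]
            have : ⁅(b : G)⁻¹, (a : G)⁻¹⁆ ∈ D :=
              Subgroup.commutator_mem_commutator (inv_mem b.2) (inv_mem a.2)
            simpa [commutatorElement_def, mul_assoc] using this }
  letI c2 : CommGroup (↥D ⧸ N.subgroupOf D) :=
    { (inferInstance : Group (↥D ⧸ N.subgroupOf D)) with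
      mul_comm := fun a b => by
        induction a using QuotientGroup.induction_on with
        | _ a =>
          induction b using QuotientGroup.induction_on with
          | _ b =>
            rw [← QuotientGroup.mk_mul, ← QuotientGroup.mk_mul, QuotientGroup.eq, Subgroup.mem_subgroupOf]
            have : ⁅(b : G)⁻¹, (a : G)⁻¹⁆ ∈ N :=
              Subgroup.commutator_mem_commutator (inv_mem b.2) (inv_mem (hDQ a.2))
            simpa [commutatorElement_def, mul_assoc] using this }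
  let f1 : ↥Q → Sec Q D := fun a => Additive.ofMul (QuotientGroup.mk a)
  let f2 : ↥D → Sec D N := fun a => Additive.ofMul (QuotientGroup.mk a)
  obtain ⟨ρ1, hρ1, hf1, ht1'⟩ := exists_rep hQ e hx hfpf Q D le_rfl le_rfl f1
    (fun z => by obtain ⟨a, ha⟩ := QuotientGroup.mk_surjective (Additive.toMul z); exact ⟨a, congrArg Additive.ofMul ha⟩)
    (fun a b => rfl) (fun a => by
      show Additive.ofMul (QuotientGroup.mk a) = 0 ↔ _
      rw [ofMul_eq_zero, QuotientGroup.eq_one_iff, Subgroup.mem_subgroupOf])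
  obtain ⟨ρ2, hρ2, hf2, ht2'⟩ := exists_rep hQ e hx hfpf D N hDQ
    (by rw [hN, Subgroup.commutator_comm]) f2
    (fun z => by obtain ⟨a, ha⟩ := QuotientGroup.mk_surjective (Additive.toMul z); exact ⟨a, congrArg Additive.ofMul ha⟩)
    (fun a b => rfl) (fun a => by
      show Additive.ofMul (QuotientGroup.mk a) = 0 ↔ _
      rw [ofMul_eq_zero, QuotientGroup.eq_one_iff, Subgroup.mem_subgroupOf])
  have h21 := exponent_two hn hn2 hf1 ht1'
  have h22 := exponent_two hn hn2 hf2 ht2'
  -- the commutator pairing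
  let cmt : ↥Q → ↥Q → ↥D := fun a b => ⟨⁅(a : G), (b : G)⁆, Subgroup.commutator_mem_commutator a.2 b.2⟩
  have hconj : ∀ (a : ↥Q) (d : ↥D), f2 (MulAut.conjNormal (a : G) d) = f2 d := by
    intro a d
    refine congrArg Additive.ofMul ((QuotientGroup.eq).2 ?_)
    rw [Subgroup.mem_subgroupOf]
    have : ⁅(a : G), ((d : G))⁻¹⁆ ∈ N := by
      rw [hN, Subgroup.commutator_comm]
      exact Subgroup.commutator_mem_commutator a.2 (inv_mem d.2)
    simpa [commutatorElement_def, mul_assoc] using this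
  have hleft : ∀ a a' b, f2 (cmt (a * a') b) = f2 (cmt a' b) + f2 (cmt a b) := by
    intro a a' b
    have e : cmt (a * a') b = MulAut.conjNormal (a : G) (cmt a' b) * cmt a b := Subtype.ext (by
      rw [Subgroup.coe_mul, MulAut.conjNormal_apply]
      show ⁅(a : G) * a', (b : G)⁆ = (a : G) * ⁅(a' : G), (b : G)⁆ * (a : G)⁻¹ * ⁅(a : G), (b : G)⁆
      rw [commutatorElement_def, commutatorElement_def, commutatorElement_def]; group)
    rw [e]
    show f2 (MulAut.conjNormal (a : G) (cmt a' b)) + f2 (cmt a b) = _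
    rw [hconj]
  have hsw : ∀ a b, f2 (cmt a b) = f2 (cmt b a) := by
    intro a b
    have e : cmt b a = (cmt a b)⁻¹ := Subtype.ext (commutatorElement_inv _ _).symm
    rw [e]
    exact (neg_eq_of_add_eq_zero_right (h22 (f2 (cmt a b)))).symm
  have hkill : ∀ a b : ↥Q, (a : G) ∈ D → f2 (cmt a b) = 0 := by
    intro a b ha
    show Additive.ofMul (QuotientGroup.mk (cmt a b)) = 0
    rw [ofMul_eq_zero, QuotientGroup.eq_one_iff, Subgroup.mem_subgroupOf]
    exact Subgroup.commutator_mem_commutator ha b.2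
  let β : Sec Q D → Sec Q D → Sec D N := fun u v =>
    Quotient.liftOn₂' (Additive.toMul u) (Additive.toMul v) (fun a b => f2 (cmt a b))
      (fun a b a' b' ha hb => by
        have key : ∀ a a' b : ↥Q, (QuotientGroup.leftRel (D.subgroupOf Q)) a a' →
            f2 (cmt a b) = f2 (cmt a' b) := by
          intro a a' b h
          rw [QuotientGroup.leftRel_apply, Subgroup.mem_subgroupOf] at h
          conv_rhs => rw [show a' = a * (a⁻¹ * a') by group, hleft, hkill _ b h, zero_add]
        rw [key a a' b ha, hsw, key b b' a' hb, hsw])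
  have hβ0 : ∀ u v, β u v = 0 := by
    intro u v
    refine pairing_zero hf1 h21 hf2 h22 β ?_ ?_ ?_ ht0 ht1 u v
    · intro u v w
      obtain ⟨a, rfl⟩ := (Additive.ofMul (α := ↥Q ⧸ D.subgroupOf Q)).surjective u
      obtain ⟨b, rfl⟩ := (Additive.ofMul (α := ↥Q ⧸ D.subgroupOf Q)).surjective v
      obtain ⟨c, rfl⟩ := (Additive.ofMul (α := ↥Q ⧸ D.subgroupOf Q)).surjective w
      obtain ⟨a, rfl⟩ := QuotientGroup.mk_surjective a
      obtain ⟨b, rfl⟩ := QuotientGroup.mk_surjective b
      obtain ⟨c, rfl⟩ := QuotientGroup.mk_surjective c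
      show f2 (cmt (a * b) c) = f2 (cmt a c) + f2 (cmt b c)
      rw [hleft, add_comm]
    · intro u v
      obtain ⟨a, rfl⟩ := (Additive.ofMul (α := ↥Q ⧸ D.subgroupOf Q)).surjective u
      obtain ⟨b, rfl⟩ := (Additive.ofMul (α := ↥Q ⧸ D.subgroupOf Q)).surjective v
      obtain ⟨a, rfl⟩ := QuotientGroup.mk_surjective a
      obtain ⟨b, rfl⟩ := QuotientGroup.mk_surjective b
      exact hsw a b
    · intro g u v
      obtain ⟨a, rfl⟩ := (Additive.ofMul (α := ↥Q ⧸ D.subgroupOf Q)).surjective u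
      obtain ⟨b, rfl⟩ := (Additive.ofMul (α := ↥Q ⧸ D.subgroupOf Q)).surjective v
      obtain ⟨a, rfl⟩ := QuotientGroup.mk_surjective a
      obtain ⟨b, rfl⟩ := QuotientGroup.mk_surjective b
      obtain ⟨g, rfl⟩ := e.surjective g
      obtain ⟨g, rfl⟩ := QuotientGroup.mk_surjective g
      show β (ρ1 _ (f1 a)) (ρ1 _ (f1 b)) = ρ2 _ (f2 (cmt a b))
      rw [hρ1, hρ1, hρ2]
      refine congrArg f2 (Subtype.ext ?_)
      show ⁅((MulAut.conjNormal g a : ↥Q) : G), ((MulAut.conjNormal g b : ↥Q) : G)⁆ = _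
      rw [MulAut.conjNormal_apply, MulAut.conjNormal_apply, MulAut.conjNormal_apply]
      exact (map_commutatorElement (MulAut.conj g).toMonoidHom (a : G) (b : G)).symm
  have hQab : D = ⊥ := by
    refine commutator_eq_bot_of_le Q ?_
    rw [Subgroup.commutator_le]
    intro a ha b hb
    have h := hβ0 (f1 ⟨a, ha⟩) (f1 ⟨b, hb⟩)
    change Additive.ofMul (QuotientGroup.mk (cmt ⟨a, ha⟩ ⟨b, hb⟩)) = 0 at h
    rwa [ofMul_eq_zero, QuotientGroup.eq_one_iff, Subgroup.mem_subgroupOf] at h
  have hcomm : ∀ a b : ↥Q, a * b = b * a := fun a b => Subtype.ext (by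
    have : ⁅(a : G), (b : G)⁆ ∈ D := Subgroup.commutator_mem_commutator a.2 b.2
    rw [hQab, Subgroup.mem_bot, commutatorElement_eq_one_iff_mul_comm] at this
    exact this)
  -- the group itself as a module
  letI c3 : CommGroup ↥Q := { (inferInstance : Group ↥Q) with mul_comm := hcomm }
  obtain ⟨ρ, hρ, hf, ht'⟩ := exists_rep hQ e hx hfpf Q ⊥ le_rfl (by rw [← hD, hQab]) (A := Additive ↥Q)
    Additive.ofMul Additive.ofMul.surjective (fun a b => rfl) (fun a => by
      rw [ofMul_eq_zero, Subgroup.mem_bot]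
      exact ⟨fun h => by rw [h, Subgroup.coe_one], fun h => Subtype.ext h⟩)
  have h2 := exponent_two hn hn2 hf ht'
  refine ⟨⟨⟨⟨hcomm⟩⟩, fun a ha => ?_⟩, ?_⟩
  · have h := congrArg (fun z : Additive ↥Q => ((Additive.toMul z : ↥Q) : G)) (h2 (Additive.ofMul ⟨a, ha⟩))
    simpa [pow_two] using h
  obtain ⟨k, Ψ, hΨ⟩ := exists_decomp hf h2
  let toG : (Fin k → Fin 2 → K) → G := fun v => ((Additive.toMul (Ψ v) : ↥Q) : G)
  have hadd : ∀ v w, toG (v + w) = toG v * toG w := fun v w => by
    show ((Additive.toMul (Ψ (v + w)) : ↥Q) : G) = _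
    rw [map_add]
    rfl
  have hinj : Function.Injective toG := fun v w h =>
    Ψ.injective (Additive.toMul.injective (Subtype.ext h))
  have hzero : toG 0 = 1 := by simp [toG]
  have hneg : ∀ v, toG (-v) = (toG v)⁻¹ := fun v => by
    rw [eq_inv_iff_mul_eq_one, ← hadd, neg_add_cancel, hzero]
  have hequiv : ∀ (g : G) v, g * toG v * g⁻¹ = toG (fun i => (e g).1.mulVec (v i)) := fun g v => by
    show _ = ((Additive.toMul (Ψ _) : ↥Q) : G)
    rw [hΨ, ← ofMul_toMul (Ψ v), hρ, toMul_ofMul, MulAut.conjNormal_apply]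
  let V : Fin k → Subgroup G := fun i =>
    { carrier := {y | ∃ v : Fin 2 → K, toG (Pi.single i v) = y}
      one_mem' := ⟨0, by rw [Pi.single_zero, hzero]⟩
      mul_mem' := by
        rintro _ _ ⟨v, rfl⟩ ⟨w, rfl⟩
        exact ⟨v + w, by rw [Pi.single_add, hadd]⟩
      inv_mem' := by
        rintro _ ⟨v, rfl⟩
        exact ⟨-v, by rw [Pi.single_neg, hneg]⟩ }
  have hsingle : ∀ (g : G) (i : Fin k) (v : Fin 2 → K),
      g * toG (Pi.single i v) * g⁻¹ = toG (Pi.single i ((e g).1.mulVec v)) := fun g i v => by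
    rw [hequiv]
    congr 1
    funext j
    by_cases hj : j = i
    · subst hj; simp
    · simp [hj]
  have hnorm : ∀ i, (V i).Normal := fun i => ⟨by
    rintro _ ⟨v, rfl⟩ g
    exact ⟨_, (hsingle g i v).symm⟩⟩
  refine ⟨k, V, fun i => ⟨?_, hnorm i, ?_⟩, ?_, ?_⟩
  · rintro _ ⟨v, rfl⟩
    exact SetLike.coe_mem _
  · have hc : ∀ u : ↥(V i), ∃ v, toG (Pi.single i v) = (u : G) := fun u => u.2
    choose c hc' using hc
    have huniq : ∀ (u : ↥(V i)) v, toG (Pi.single i v) = (u : G) → c u = v := fun u v h =>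
      Pi.single_injective i (hinj ((hc' u).trans h.symm))
    have := hnorm i
    refine ⟨?_, bot_le, (e.toMonoidHom.comp (QuotientGroup.mk' Q)).comp (⊤ : Subgroup G).subtype,
      MonoidHom.mk' (fun u => Multiplicative.ofAdd (c u)) (fun u w => ?_), ?_, ?_, ?_, ?_⟩
    · rw [Subgroup.normalizer_eq_top]
    · rw [← ofAdd_add]
      congr 1
      exact huniq _ _ (by rw [Pi.single_add, hadd, hc', hc', Subgroup.coe_mul])
    · refine MonoidHom.range_eq_top.2 fun A => ?_
      obtain ⟨q, rfl⟩ := e.surjective A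
      obtain ⟨g, rfl⟩ := QuotientGroup.mk_surjective q
      exact ⟨⟨g, trivial⟩, rfl⟩
    · intro m
      exact ⟨⟨_, Multiplicative.toAdd m, rfl⟩,
        congrArg Multiplicative.ofAdd (huniq ⟨_, Multiplicative.toAdd m, rfl⟩ (Multiplicative.toAdd m) rfl)⟩
    · intro u
      show Multiplicative.ofAdd (c u) = 1 ↔ _
      rw [ofAdd_eq_one, Subgroup.mem_bot]
      constructor
      · intro h
        rw [← hc' u, h, Pi.single_zero, hzero]
      · intro h
        exact huniq u 0 (by rw [Pi.single_zero, hzero, h])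
    · intro g u
      refine ⟨⟨_, (hnorm i).conj_mem _ u.2 (g : G)⟩, rfl, huniq _ _ ?_⟩
      show _ = (g : G) * (u : G) * (g : G)⁻¹
      rw [← hc' u, hsingle]
      rfl
  · intro i
    rw [disjoint_iff, eq_bot_iff]
    rintro y ⟨⟨v, rfl⟩, hy⟩
    rw [Subgroup.mem_bot]
    let L : Subgroup G :=
      { carrier := {y | ∃ w : Fin k → Fin 2 → K, w i = 0 ∧ toG w = y}
        one_mem' := ⟨0, rfl, hzero⟩
        mul_mem' := by
          rintro _ _ ⟨a, ha, rfl⟩ ⟨b, hb, rfl⟩
          exact ⟨a + b, by rw [Pi.add_apply, ha, hb, add_zero], hadd a b⟩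
        inv_mem' := by
          rintro _ ⟨a, ha, rfl⟩
          exact ⟨-a, by rw [Pi.neg_apply, ha, neg_zero], hneg a⟩ }
    have hle : (⨆ (j) (_ : j ≠ i), V j) ≤ L := iSup₂_le fun j hj => by
      rintro _ ⟨w, rfl⟩
      exact ⟨_, Pi.single_eq_of_ne hj.symm w, rfl⟩
    obtain ⟨w, hw, e'⟩ := hle hy
    have h1 := congrFun (hinj e') i
    rw [hw, Pi.single_eq_same] at h1
    rw [← h1, Pi.single_zero, hzero]
  · refine le_antisymm (iSup_le fun i => ?_) fun q hq => ?_
    · rintro _ ⟨v, rfl⟩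
      exact SetLike.coe_mem _
    · obtain ⟨v, hv⟩ := Ψ.surjective (Additive.ofMul (⟨q, hq⟩ : ↥Q))
      have e' : q = toG v := by simp [toG, hv]
      rw [e', ← Finset.univ_sum_single v]
      refine Finset.sum_induction _ (fun w => toG w ∈ ⨆ i, V i) (fun a b ha hb => ?_) ?_
        (fun i _ => Subgroup.mem_iSup_of_mem i ⟨v i, rfl⟩)
      · rw [hadd]; exact mul_mem ha hb
      · rw [hzero]; exact one_mem _

end CfsgLib.LocalEven.SL2Higman
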