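import Cfsg.Agent.Lib.LocalEven.JBlockAlgebra
import Cfsg.Agent.Lib.Solvable.LagrangeConverse

/-!
Largest elementary abelian 2-subgroups of a `Good` group act on `V` as products of transvections.
-/

set_option autoImplicit false

namespace CfsgLib.LocalEven.JComp

open Subgroup CfsgLib.LocalEven

variable {G : Type*} [Group G]

theorem card_sup_mul_inf_of_le_normalizer [Finite G] {A B : Subgroup G}
    (h : A ≤ normalizer (B : Set G)) :
    Nat.card ↥(B ⊔ A) * Nat.card ↥(B ⊓ A) = Nat.card ↥B * Nat.card ↥A := by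
  set M := B ⊔ A with hM
  haveI : (B.subgroupOf M).Normal :=
    Subgroup.normal_subgroupOf_of_le_normalizer (sup_le Subgroup.le_normalizer h)
  have h1 := CfsgLib.Solvable.card_sup_mul_card_inf (B.subgroupOf M) (A.subgroupOf M)
  have hsup : B.subgroupOf M ⊔ A.subgroupOf M = ⊤ := by
    rw [← Subgroup.subgroupOf_sup le_sup_left le_sup_right, Subgroup.subgroupOf_self]
  rw [hsup, Subgroup.card_top, show B.subgroupOf M ⊓ A.subgroupOf M = (B ⊓ A).subgroupOf M from (Subgroup.comap_inf _ _ _).symm,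
    Nat.card_congr (subgroupOfEquivOfLe (le_sup_left : B ≤ M)).toEquiv,
    Nat.card_congr (subgroupOfEquivOfLe (le_sup_right : A ≤ M)).toEquiv,
    Nat.card_congr (subgroupOfEquivOfLe (inf_le_left.trans le_sup_left : B ⊓ A ≤ M)).toEquiv] at h1
  exact h1

theorem card_eq_card_map_mul {H : Type*} [Group H] [Finite G] (f : G →* H) (A : Subgroup G) :
    Nat.card ↥A = Nat.card ↥(A.map f) * Nat.card ↥(A ⊓ f.ker) := by
  have h1 := card_eq_card_quotient_mul_card_subgroup (f.comp A.subtype).ker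
  rw [Nat.card_congr (QuotientGroup.quotientKerEquivRange (f.comp A.subtype)).toEquiv] at h1
  have h2 : (f.comp A.subtype).range = A.map f := by
    rw [MonoidHom.range_comp, Subgroup.range_subtype]
  have h3 : (f.comp A.subtype).ker.map A.subtype = A ⊓ f.ker := by
    ext x
    constructor
    · rintro ⟨y, hy, rfl⟩
      exact ⟨y.2, hy⟩
    · rintro ⟨h, h'⟩
      exact ⟨⟨x, h⟩, h', rfl⟩
  rw [h2, ← Subgroup.card_map_of_injective (K := (f.comp A.subtype).ker) A.subtype_injective, h3] at h1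
  exact h1

variable {X : Type*} [Group X] [Finite X]

theorem mem_ker_act {x : X} : x ∈ (act (X := X)).ker ↔ x ∈ centralizer (zq X : Set X) := by
  rw [MonoidHom.mem_ker, act_eq_one_iff]

theorem Good.inf_centralizer_le (hX : Good X) {A : Subgroup X} (hA : Cfsg.IsElementaryAbelian 2 A) :
    A ⊓ centralizer (zq X : Set X) ≤ Cfsg.pCore 2 X := fun x hx =>
  hX.mem_pCore (act_eq_one_iff.2 hx.2) (k := 1) (by rw [pow_one]; exact hA.2 x hx.1)

theorem map_fixSub (A : Subgroup X) :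
    (Trv.fixSub (A.map (act (X := X)))).map (zq X).subtype = zq X ⊓ centralizer (A : Set X) := by
  ext u
  constructor
  · rintro ⟨v, hv, rfl⟩
    refine ⟨v.2, mem_centralizer_iff.2 fun a ha => ?_⟩
    have := congrArg Subtype.val (hv (act a) ⟨a, ha, rfl⟩)
    rw [act_apply] at this
    exact mul_inv_eq_iff_eq_mul.1 this
  · rintro ⟨hu, hc⟩
    refine ⟨⟨u, hu⟩, ?_, rfl⟩
    rintro _ ⟨a, ha, rfl⟩
    apply Subtype.ext
    rw [act_apply]
    rw [mul_inv_eq_iff_eq_mul]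
    exact mem_centralizer_iff.1 hc a ha

theorem Good.offender (hX : Good X) {A : Subgroup X} (hA : A ∈ Cfsg.maxElementaryAbelianSubgroups 2 X) :
    (zq X ⊔ (A ⊓ centralizer (zq X : Set X))) ∈ Cfsg.maxElementaryAbelianSubgroups 2 X ∧
      A ≤ Subgroup.closure ({a | a ∈ A ∧ Trv.IsTrv (act a)} ∪ (Cfsg.pCore 2 X : Set X)) ∧
      zq X ⊓ centralizer (A : Set X) = zq X ⊓ A ∧
      Nat.card ↥(A.map (act (X := X))) * Nat.card ↥(zq X ⊓ A) = Nat.card ↥(zq X) := by
  haveI : Fact (Nat.Prime 2) := ⟨Nat.prime_two⟩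
  haveI := hX.solvable_actGroup
  set φA := A.map (act (X := X)) with hφA
  have hcomm : ∀ x ∈ φA, ∀ y ∈ φA, x * y = y * x := by
    rintro _ ⟨a, ha, rfl⟩ _ ⟨b, hb, rfl⟩
    rw [← map_mul, ← map_mul, CfsgLib.PGroup.elemAb_comm hA.1 ha hb]
  have hsq : ∀ x ∈ φA, x * x = 1 := by
    rintro _ ⟨a, ha, rfl⟩
    rw [← map_mul, ← pow_two, hA.1.2 a ha, map_one]
  set P := (Cfsg.pPrimeCore 2 ↥(actGroup X)).map (actGroup X).subtype with hP
  have hPodd : Odd (Nat.card ↥P) := by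
    rw [hP, Subgroup.card_map_of_injective (actGroup X).subtype_injective]
    exact Nat.coprime_two_right.1 (CfsgLib.Cores.coprime_card_pPrimeCore 2)
  haveI := CfsgLib.Cores.pPrimeCore_characteristic (G := ↥(actGroup X)) 2
  have hnorm : φA ≤ normalizer (P : Set (MulAut ↥(zq X))) := by
    rintro _ ⟨a, _, rfl⟩
    have h := Subgroup.le_normalizer_map (H := Cfsg.pPrimeCore 2 ↥(actGroup X)) (actGroup X).subtype
    exact h ⟨⟨act a, a, rfl⟩, by rw [Subgroup.normalizer_eq_top]; exact mem_top _, rfl⟩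
  have hfaith : φA ⊓ centralizer (P : Set (MulAut ↥(zq X))) = ⊥ := by
    rw [eq_bot_iff]
    rintro _ ⟨⟨a, ha, rfl⟩, hc⟩
    have h1 : (⟨act a, a, rfl⟩ : ↥(actGroup X)) ∈ centralizer (Cfsg.pPrimeCore 2 ↥(actGroup X) : Set _) :=
      mem_centralizer_iff.2 fun y hy => Subtype.ext (mem_centralizer_iff.1 hc y ⟨y, hy, rfl⟩)
    have h2 := CfsgLib.LocalEven.Offender.centralizer_pPrimeCore_le_of_pCore_eq_bot hX.pCore_actGroup h1
    rw [mem_bot, ← orderOf_eq_one_iff]
    refine Nat.eq_one_of_dvd_coprimes (Nat.coprime_two_right.2 hPodd) ?_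
      (orderOf_dvd_of_pow_eq_one (by rw [pow_two]; exact hsq _ ⟨a, ha, rfl⟩))
    exact Subgroup.orderOf_dvd_natCard _ (show act a ∈ P from ⟨_, h2, rfl⟩)
  obtain ⟨hineq, heq⟩ := Trv.card_mul_le zq_sq hPodd hsq hcomm hnorm hfaith
  have hfix : Nat.card ↥(Trv.fixSub φA) = Nat.card ↥(zq X ⊓ centralizer (A : Set X)) := by
    rw [← map_fixSub, Subgroup.card_map_of_injective (zq X).subtype_injective]
  set A0 := A ⊓ centralizer (zq X : Set X) with hA0
  have hA0ker : A ⊓ (act (X := X)).ker = A0 := by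
    ext x; simp only [hA0, mem_inf, mem_ker_act]
  have hcardA := card_eq_card_map_mul (act (X := X)) A
  rw [hA0ker] at hcardA
  have hVe : Cfsg.IsElementaryAbelian 2 (zq X) := Oz.elemAb _
  have hBe : Cfsg.IsElementaryAbelian 2 (zq X ⊔ A0) :=
    CfsgLib.PGroup.elemAb_sup hVe (CfsgLib.PGroup.elemAb_mono hA.1 inf_le_left)
      fun v hv a ha => mem_centralizer_iff.1 ha.2 v hv
  have hBle := hA.2 _ hBe
  have hBcard := card_sup_mul_inf_of_le_normalizer (A := A0) (B := zq X)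
    (by rw [Subgroup.normalizer_eq_top]; exact le_top)
  have hVA : zq X ⊓ A0 = zq X ⊓ A := by
    ext x
    simp only [mem_inf, hA0]
    refine ⟨fun h => ⟨h.1, h.2.1⟩, fun h => ⟨h.1, h.2, mem_centralizer_iff.2 fun v hv => ?_⟩⟩
    exact CfsgLib.PGroup.elemAb_comm hVe hv h.1
  rw [hVA] at hBcard
  have hle : zq X ⊓ A ≤ zq X ⊓ centralizer (A : Set X) := fun x hx =>
    ⟨hx.1, mem_centralizer_iff.2 fun a ha => CfsgLib.PGroup.elemAb_comm hA.1 ha hx.2⟩
  have hc := Subgroup.card_le_of_le hle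
  have hA0pos : 0 < Nat.card ↥A0 := Nat.card_pos
  -- `|V| ≤ |φA| |V ∩ A|`
  have h1 : Nat.card ↥(zq X) ≤ Nat.card ↥φA * Nat.card ↥(zq X ⊓ A) := by
    refine Nat.le_of_mul_le_mul_right ?_ hA0pos
    calc Nat.card ↥(zq X) * Nat.card ↥A0 = Nat.card ↥(zq X ⊔ A0) * Nat.card ↥(zq X ⊓ A) := hBcard.symm
      _ ≤ Nat.card ↥A * Nat.card ↥(zq X ⊓ A) := Nat.mul_le_mul_right _ hBle
      _ = _ := by rw [hcardA]; ring
  have h2 : Nat.card ↥φA * Nat.card ↥(Trv.fixSub φA) = Nat.card ↥(zq X) :=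
    le_antisymm hineq (h1.trans (Nat.mul_le_mul_left _ (hfix ▸ hc)))
  have h3 : Nat.card ↥(zq X ⊓ A) = Nat.card ↥(zq X ⊓ centralizer (A : Set X)) := by
    refine le_antisymm hc ?_
    rw [← hfix]
    exact Nat.le_of_mul_le_mul_left (h2.le.trans h1) Nat.card_pos
  have h4 : zq X ⊓ centralizer (A : Set X) = zq X ⊓ A := (Subgroup.eq_of_le_of_card_ge hle h3.ge).symm
  refine ⟨⟨hBe, fun C hC => (hA.2 C hC).trans ?_⟩, ?_, h4, by rw [h3, ← hfix, h2]⟩
  · have h5 : Nat.card ↥(zq X ⊔ A0) * Nat.card ↥(zq X ⊓ A) = Nat.card ↥A * Nat.card ↥(zq X ⊓ A) := by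
      rw [hBcard, ← h2, hfix, ← h3, hcardA]; ring
    exact (Nat.eq_of_mul_eq_mul_right Nat.card_pos h5).ge
  · intro a ha
    have hmap : act a ∈ (Subgroup.closure {x | x ∈ φA ∧ Trv.IsTrv x}) := heq h2 ⟨a, ha, rfl⟩
    have hsub : {x | x ∈ φA ∧ Trv.IsTrv x} ⊆ (act (X := X)) '' {b | b ∈ A ∧ Trv.IsTrv (act b)} := by
      rintro _ ⟨⟨b, hb, rfl⟩, ht⟩
      exact ⟨b, ⟨hb, ht⟩, rfl⟩
    have := (Subgroup.closure_mono hsub) hmap
    rw [← MonoidHom.map_closure] at this
    obtain ⟨b, hb, hab⟩ := this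
    have hbA : b ∈ A := (Subgroup.closure_le A).2 (fun z hz => hz.1) hb
    have hq : b⁻¹ * a ∈ A0 := Subgroup.mem_inf.2 ⟨mul_mem (inv_mem hbA) ha, act_eq_one_iff.1 (by
      rw [map_mul, map_inv, hab, inv_mul_cancel])⟩
    have := mul_mem (Subgroup.closure_mono Set.subset_union_left hb :
        b ∈ Subgroup.closure ({a | a ∈ A ∧ Trv.IsTrv (act a)} ∪ (Cfsg.pCore 2 X : Set X)))
      (Subgroup.subset_closure (Or.inr (hX.inf_centralizer_le hA.1 hq)))
    rwa [mul_inv_cancel_left] at this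

/-- A largest elementary abelian subgroup with a single transvection in its image. -/
theorem Good.exists_single (hX : Good X) {A : Subgroup X} (hA : A ∈ Cfsg.maxElementaryAbelianSubgroups 2 X)
    {a : X} (ha : a ∈ A) (ht : Trv.IsTrv (act a)) :
    ∃ A' : Subgroup X, A' ∈ Cfsg.maxElementaryAbelianSubgroups 2 X ∧ a ∈ A' ∧
      Nat.card ↥A' = 2 * Nat.card ↥(A' ⊓ centralizer (zq X : Set X)) := by
  obtain ⟨-, -, hfixA, hcard⟩ := hX.offender hA
  set Va := zq X ⊓ centralizer ({a} : Set X) with hVa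
  set A1 := A ⊓ (zpowers (act a)).comap (act (X := X)) with hA1
  have haA1 : a ∈ A1 := ⟨ha, mem_comap.2 (mem_zpowers _)⟩
  have hcomm : ∀ v ∈ Va, ∀ b ∈ A1, v * b = b * v := by
    intro v hv b hb
    obtain ⟨i, hi⟩ := mem_zpowers_iff.1 (mem_comap.1 hb.2)
    have hz : act (b⁻¹ * a ^ i) = 1 := by rw [map_mul, map_inv, map_zpow, hi, inv_mul_cancel]
    have h1 : Commute v (b⁻¹ * a ^ i) := mem_centralizer_iff.1 (act_eq_one_iff.1 hz) v hv.1
    have h2 : Commute v (a ^ i) :=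
      Commute.zpow_right (mem_centralizer_singleton_iff.1 hv.2) i
    have : b = a ^ i * (b⁻¹ * a ^ i)⁻¹ := by rw [mul_inv_rev, inv_inv, mul_inv_cancel_left]
    rw [this]
    exact (h2.mul_right h1.inv_right).eq
  have hV : Cfsg.IsElementaryAbelian 2 (zq X) := Oz.elemAb _
  have hAe : Cfsg.IsElementaryAbelian 2 (Va ⊔ A1) :=
    CfsgLib.PGroup.elemAb_sup (CfsgLib.PGroup.elemAb_mono hV inf_le_left)
      (CfsgLib.PGroup.elemAb_mono hA.1 inf_le_left) hcomm
  have hc1 := card_sup_mul_inf_of_le_normalizer (A := A1) (B := Va) (fun b hb =>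
    CfsgLib.LocalEven.mem_normalizer_of_conj_le (by
      rintro _ ⟨v, hv, rfl⟩
      show b * v * b⁻¹ ∈ Va
      rw [← hcomm v hv b hb, mul_inv_cancel_right]
      exact hv))
  -- sizes
  have hker : ∀ (S : Subgroup X), S ⊓ (act (X := X)).ker = S ⊓ centralizer (zq X : Set X) := fun S => by
    ext x; simp only [mem_inf, mem_ker_act]
  have hda : Nat.card ↥(zpowers (act a)) = 2 := by
    rw [Nat.card_zpowers]
    refine orderOf_eq_prime (p := 2) (by rw [pow_two]; exact ht.1) fun e => ?_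
    have := ht.2
    rw [e] at this
    have hb : (Trv.mv (1 : MulAut ↥(zq X))).range = ⊥ := by
      rw [MonoidHom.range_eq_bot_iff]
      ext u
      simp [Trv.mv_apply, zq_sq]
    rw [hb, Subgroup.card_bot] at this
    omega
  have hA1map : A1.map (act (X := X)) = zpowers (act a) :=
    le_antisymm (map_le_iff_le_comap.2 inf_le_right) (zpowers_le.2 ⟨a, haA1, rfl⟩)
  have hA10 : A1 ⊓ centralizer (zq X : Set X) = A ⊓ centralizer (zq X : Set X) := by
    ext x
    simp only [hA1, mem_inf, mem_comap]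
    exact ⟨fun h => ⟨h.1.1, h.2⟩, fun h => ⟨⟨h.1, by rw [act_eq_one_iff.2 h.2]; exact one_mem _⟩, h.2⟩⟩
  have hA1card := card_eq_card_map_mul (act (X := X)) A1
  rw [hA1map, hda, hker, hA10] at hA1card
  have hVcard : 2 * Nat.card ↥Va = Nat.card ↥(zq X) := by
    have h1 : (Trv.mv (act a)).ker.map (zq X).subtype = Va := by
      ext u
      constructor
      · rintro ⟨v, hv, rfl⟩
        refine ⟨v.2, mem_centralizer_singleton_iff.2 ?_⟩
        have := congrArg Subtype.val ((Trv.mv_eq_one_iff zq_sq _ _).1 hv)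
        rw [act_apply] at this
        exact (mul_inv_eq_iff_eq_mul.1 this).symm
      · rintro ⟨hu, hc⟩
        refine ⟨⟨u, hu⟩, (Trv.mv_eq_one_iff zq_sq _ _).2 (Subtype.ext ?_), rfl⟩
        rw [act_apply, mul_inv_eq_iff_eq_mul]
        exact (mem_centralizer_singleton_iff.1 hc).symm
    rw [← h1, Subgroup.card_map_of_injective (zq X).subtype_injective]
    have := Trv.card_range_mul (act a)
    rw [ht.2] at this
    exact this
  have hinf : Va ⊓ A1 = zq X ⊓ A := by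
    ext x
    simp only [hVa, hA1, mem_inf, mem_comap]
    constructor
    · exact fun h => ⟨h.1.1, h.2.1⟩
    · intro h
      refine ⟨⟨h.1, mem_centralizer_singleton_iff.2 (CfsgLib.PGroup.elemAb_comm hA.1 h.2 ha)⟩, h.2, ?_⟩
      rw [act_eq_one_iff.2 (mem_centralizer_iff.2 fun v hv => CfsgLib.PGroup.elemAb_comm hV hv h.1)]
      exact one_mem _
  rw [hinf] at hc1
  have hcA := card_eq_card_map_mul (act (X := X)) A
  rw [hker] at hcA
  have hpos : 0 < Nat.card ↥(zq X ⊓ A) := Nat.card_pos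
  have hfin : Nat.card ↥(Va ⊔ A1) = Nat.card ↥A := by
    refine Nat.eq_of_mul_eq_mul_right hpos ?_
    rw [hc1, hA1card, hcA, ← mul_assoc, mul_comm (Nat.card ↥Va) 2, hVcard, ← hcard]
    ring
  refine ⟨Va ⊔ A1, ⟨hAe, fun C hC => hfin ▸ hA.2 C hC⟩, mem_sup_right haA1, ?_⟩
  have hc2 := card_eq_card_map_mul (act (X := X)) (Va ⊔ A1)
  have hm : (Va ⊔ A1).map (act (X := X)) = zpowers (act a) := by
    rw [Subgroup.map_sup, hA1map, sup_eq_right, map_le_iff_le_comap]
    intro v hv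
    rw [mem_comap, act_eq_one_iff.2 (mem_centralizer_iff.2 fun w hw => CfsgLib.PGroup.elemAb_comm hV hw hv.1)]
    exact one_mem _
  rw [hm, hda, hker] at hc2
  exact hc2

end CfsgLib.LocalEven.JComp
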