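import Cfsg.Prelude.Def_LocalEven
import Cfsg.Agent.Lib.Cores.Basic
import Mathlib.GroupTheory.Nilpotent
import Mathlib.LinearAlgebra.Matrix.Determinant.Basic
import Mathlib.Algebra.CharP.Lemmas
import Mathlib.LinearAlgebra.Matrix.CharP
import Mathlib.LinearAlgebra.Matrix.Nondegenerate
import Mathlib.Tactic.FinCases
import Mathlib.Tactic.LinearCombination

/-!
The affine group `Qd` over a field: `F²` extended by `SL₂(F)`, realised by 3 by 3 matrices.
-/

set_option autoImplicit false

namespace CfsgLib.LocalEven.QdOver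

open Matrix

/-- The group `Qd` over `F`, as a type. -/
abbrev Qd (F : Type*) [Field F] := ↥(Cfsg.qdOver F)

variable {F : Type*} [Field F]

local notation "SL2" => Matrix.SpecialLinearGroup (Fin 2) F

theorem mem_iff (M : Matrix.SpecialLinearGroup (Fin 3) F) :
    M ∈ Cfsg.qdOver F ↔ (M : Matrix (Fin 3) (Fin 3) F) 2 0 = 0 ∧
      (M : Matrix (Fin 3) (Fin 3) F) 2 1 = 0 ∧ (M : Matrix (Fin 3) (Fin 3) F) 2 2 = 1 := by
  refine ⟨fun hM => ?_, fun hM => Subgroup.subset_closure hM⟩
  induction hM using Subgroup.closure_induction with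
  | mem M hM => exact hM
  | one => simp
  | mul M N _ _ hM hN =>
    obtain ⟨h0, h1, h2⟩ := hM
    simp [Matrix.SpecialLinearGroup.coe_mul, Matrix.mul_apply, Fin.sum_univ_three, h0, h1, h2, hN]
  | inv M _ hM =>
    obtain ⟨h0, h1, h2⟩ := hM
    have h := congrArg Subtype.val (mul_inv_cancel M)
    rw [Matrix.SpecialLinearGroup.coe_mul, Matrix.SpecialLinearGroup.coe_one] at h
    have e : ∀ j, (M : Matrix (Fin 3) (Fin 3) F) 2 0 * (M⁻¹).1 0 j + M.1 2 1 * (M⁻¹).1 1 j +
        M.1 2 2 * (M⁻¹).1 2 j = (1 : Matrix (Fin 3) (Fin 3) F) 2 j := by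
      intro j
      have := congrFun (congrFun h 2) j
      simpa [Matrix.mul_apply, Fin.sum_univ_three] using this
    simp only [h0, h1, h2, zero_mul, zero_add, one_mul] at e
    exact ⟨by simpa using e 0, by simpa using e 1, by simpa using e 2⟩

theorem row0 (M : (Qd F)) : M.1.1 2 0 = 0 := ((mem_iff M.1).1 M.2).1

theorem row1 (M : (Qd F)) : M.1.1 2 1 = 0 := ((mem_iff M.1).1 M.2).2.1

theorem row2 (M : (Qd F)) : M.1.1 2 2 = 1 := ((mem_iff M.1).1 M.2).2.2

/-- The top left block. -/
def linMat (M : Qd F) : Matrix (Fin 2) (Fin 2) F := !![M.1.1 0 0, M.1.1 0 1; M.1.1 1 0, M.1.1 1 1]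

theorem linMat_det (M : Qd F) : (linMat M).det = 1 := by
  have h := M.1.2
  rw [Matrix.det_fin_three] at h
  simp only [row0, row1, row2] at h
  rw [linMat, Matrix.det_fin_two_of]
  linear_combination h

theorem linMat_mul (M N : Qd F) : linMat (M * N) = linMat M * linMat N := by
  ext i j
  fin_cases i <;> fin_cases j <;>
    simp [linMat, Matrix.mul_apply, Fin.sum_univ_three, Fin.sum_univ_two, row0, row1]

theorem linMat_one : linMat (1 : Qd F) = 1 := by
  ext i j
  fin_cases i <;> fin_cases j <;> simp [linMat]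

/-- The linear part of an affine transformation. -/
def lin : Qd F →* SL2 where
  toFun M := ⟨linMat M, linMat_det M⟩
  map_one' := Subtype.ext linMat_one
  map_mul' M N := Subtype.ext (linMat_mul M N)

@[simp] theorem lin_00 (M : (Qd F)) : (lin M).1 0 0 = M.1.1 0 0 := rfl
@[simp] theorem lin_01 (M : (Qd F)) : (lin M).1 0 1 = M.1.1 0 1 := rfl
@[simp] theorem lin_10 (M : (Qd F)) : (lin M).1 1 0 = M.1.1 1 0 := rfl
@[simp] theorem lin_11 (M : (Qd F)) : (lin M).1 1 1 = M.1.1 1 1 := rfl

/-- The translation part of an affine transformation. -/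
def tr (M : (Qd F)) : Fin 2 → F := ![M.1.1 0 2, M.1.1 1 2]

@[simp] theorem tr_0 (M : (Qd F)) : tr M 0 = M.1.1 0 2 := rfl
@[simp] theorem tr_1 (M : (Qd F)) : tr M 1 = M.1.1 1 2 := rfl

@[simp] theorem tr_one : tr (1 : (Qd F)) = 0 := by
  ext i; fin_cases i <;> simp

theorem tr_mul (M N : (Qd F)) : tr (M * N) = (lin M).1.mulVec (tr N) + tr M := by
  ext i
  fin_cases i <;>
    simp [Matrix.SpecialLinearGroup.coe_mul, Matrix.mul_apply, Fin.sum_univ_three, row2,
      Matrix.mulVec, dotProduct, Fin.sum_univ_two]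

theorem ext' {M N : (Qd F)} (h1 : lin M = lin N) (h2 : tr M = tr N) : M = N := by
  apply Subtype.ext
  apply Subtype.ext
  ext i j
  have e := fun i j => congrFun (congrFun (congrArg Subtype.val h1) i) j
  fin_cases i <;> fin_cases j <;> simp [row0, row1, row2]
  · simpa using e 0 0
  · simpa using e 0 1
  · simpa using congrFun h2 0
  · simpa using e 1 0
  · simpa using e 1 1
  · simpa using congrFun h2 1

/-- The affine transformation with given linear part and translation. -/
def aff (A : SL2) (v : Fin 2 → F) : (Qd F) :=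
  ⟨⟨!![A.1 0 0, A.1 0 1, v 0; A.1 1 0, A.1 1 1, v 1; 0, 0, 1], by
      have h := A.2
      rw [Matrix.det_fin_two] at h
      rw [Matrix.det_fin_three]
      simp
      linear_combination h⟩,
    (mem_iff _).2 ⟨by simp, by simp, by simp⟩⟩

@[simp] theorem lin_aff (A : SL2) (v : Fin 2 → F) : lin (aff A v) = A := by
  apply Subtype.ext
  ext i j
  fin_cases i <;> fin_cases j <;> simp [aff]

@[simp] theorem tr_aff (A : SL2) (v : Fin 2 → F) : tr (aff A v) = v := by
  ext i; fin_cases i <;> simp [aff]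

theorem lin_surjective : Function.Surjective (lin : (Qd F) → SL2) := fun A => ⟨aff A 0, lin_aff A 0⟩

/-- Linear part together with translation. -/
def equivProd : (Qd F) ≃ SL2 × (Fin 2 → F) where
  toFun M := (lin M, tr M)
  invFun x := aff x.1 x.2
  left_inv _ := ext' (lin_aff _ _) (tr_aff _ _)
  right_inv _ := by simp

/-- The action on the affine plane. -/
def actHom : Qd F →* Equiv.Perm (Fin 2 → F) where
  toFun M :=
    { toFun := fun v => (lin M).1.mulVec v + tr M
      invFun := fun v => (lin M⁻¹).1.mulVec v + tr M⁻¹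
      left_inv := fun v => by
        have h := tr_mul M⁻¹ M
        rw [inv_mul_cancel, tr_one] at h
        dsimp only
        rw [Matrix.mulVec_add, Matrix.mulVec_mulVec, ← Matrix.SpecialLinearGroup.coe_mul,
          ← map_mul, inv_mul_cancel, map_one, Matrix.SpecialLinearGroup.coe_one, Matrix.one_mulVec,
          add_assoc, ← h, add_zero]
      right_inv := fun v => by
        have h := tr_mul M M⁻¹
        rw [mul_inv_cancel, tr_one] at h
        dsimp only
        rw [Matrix.mulVec_add, Matrix.mulVec_mulVec, ← Matrix.SpecialLinearGroup.coe_mul,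
          ← map_mul, mul_inv_cancel, map_one, Matrix.SpecialLinearGroup.coe_one, Matrix.one_mulVec,
          add_assoc, ← h, add_zero] }
  map_one' := by
    ext1 v
    simp
  map_mul' M N := by
    ext1 v
    simp only [Equiv.coe_fn_mk, Equiv.Perm.mul_apply, tr_mul, map_mul,
      Matrix.SpecialLinearGroup.coe_mul, Matrix.mulVec_add, Matrix.mulVec_mulVec, add_assoc]

theorem actHom_injective : Function.Injective (actHom : Qd F → Equiv.Perm (Fin 2 → F)) := by
  intro M N h
  have h0 : tr M = tr N := by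
    have := Equiv.congr_fun h 0
    simp only [actHom, MonoidHom.coe_mk, OneHom.coe_mk, Equiv.coe_fn_mk, Matrix.mulVec_zero, zero_add] at this
    exact this
  refine ext' (Subtype.ext (Matrix.ext_iff_mulVec.2 fun v => ?_)) h0
  have := Equiv.congr_fun h v
  simp only [actHom, MonoidHom.coe_mk, OneHom.coe_mk, Equiv.coe_fn_mk, h0] at this
  exact add_right_cancel this

theorem card : Nat.card (Qd F) = Nat.card SL2 * Nat.card F ^ 2 := by
  rw [Nat.card_congr equivProd, Nat.card_prod, Nat.card_fun, Nat.card_eq_fintype_card (α := Fin 2),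
    Fintype.card_fin]

/-- The translation subgroup. -/
def trans : Subgroup (Qd F) := (lin : (Qd F) →* SL2).ker

theorem mem_trans {M : (Qd F)} : M ∈ trans ↔ lin M = 1 := MonoidHom.mem_ker

theorem trans_normal : (trans : Subgroup (Qd F)).Normal := MonoidHom.normal_ker _

theorem mem_trans_iff_entries (M : (Qd F)) : M ∈ trans ↔
    M.1.1 0 0 = 1 ∧ M.1.1 0 1 = 0 ∧ M.1.1 1 0 = 0 ∧ M.1.1 1 1 = 1 := by
  rw [mem_trans]
  constructor
  · intro h
    have e := fun i j => congrFun (congrFun (congrArg Subtype.val h) i) j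
    exact ⟨by simpa using e 0 0, by simpa using e 0 1, by simpa using e 1 0, by simpa using e 1 1⟩
  · rintro ⟨h0, h1, h2, h3⟩
    apply Subtype.ext
    ext i j
    fin_cases i <;> fin_cases j <;> simp [h0, h1, h2, h3]

/-- The linear subgroup fixing the origin. -/
def linSub : Subgroup (Qd F) where
  carrier := {M | tr M = 0}
  one_mem' := tr_one
  mul_mem' {M N} hM hN := by simp_all [tr_mul]
  inv_mem' {M} hM := by
    simp only [Set.mem_setOf_eq] at hM ⊢
    have h := tr_mul M⁻¹ M
    rw [inv_mul_cancel, tr_one, hM, Matrix.mulVec_zero, zero_add] at h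
    exact h.symm

theorem mem_linSub {M : (Qd F)} : M ∈ linSub ↔ tr M = 0 := Iff.rfl

theorem mem_linSub_iff_entries (M : (Qd F)) : M ∈ linSub ↔ M.1.1 0 2 = 0 ∧ M.1.1 1 2 = 0 := by
  rw [mem_linSub]
  constructor
  · exact fun h => ⟨congrFun h 0, congrFun h 1⟩
  · rintro ⟨h0, h1⟩
    ext i; fin_cases i <;> simp [h0, h1]

theorem linSub_inf_trans : (linSub : Subgroup (Qd F)) ⊓ trans = ⊥ := by
  refine (Subgroup.eq_bot_iff_forall _).2 fun M hM => ?_
  exact ext' (by rw [mem_trans.1 hM.2, map_one]) (by rw [mem_linSub.1 hM.1, tr_one])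

theorem mul_aff_zero (M : (Qd F)) : aff 1 (tr M) * aff (lin M) 0 = M :=
  ext' (by simp) (by simp [tr_mul])

theorem linSub_sup_trans : (linSub : Subgroup (Qd F)) ⊔ trans = ⊤ := by
  refine eq_top_iff.2 fun M _ => ?_
  rw [← mul_aff_zero M]
  exact Subgroup.mul_mem _ (le_sup_right (a := linSub) (mem_trans.2 (lin_aff _ _)))
    (le_sup_left (b := trans) (mem_linSub.2 (tr_aff _ _)))

/-- `linSub` is a copy of `SL₂(F)`. -/
noncomputable def linSubEquiv : ↥(linSub : Subgroup (Qd F)) ≃* SL2 :=
  MulEquiv.ofBijective (lin.comp linSub.subtype)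
    ⟨fun M N h => Subtype.ext (ext' h (by rw [mem_linSub.1 M.2, mem_linSub.1 N.2])),
      fun A => ⟨⟨aff A 0, mem_linSub.2 (tr_aff _ _)⟩, lin_aff _ _⟩⟩

theorem conj_trans {M t : (Qd F)} (ht : t ∈ trans) : M * t * M⁻¹ ∈ trans :=
  trans_normal.conj_mem t ht M

theorem tr_conj {M t : (Qd F)} (ht : t ∈ trans) : tr (M * t * M⁻¹) = (lin M).1.mulVec (tr t) := by
  have h2 : tr (M * t * M⁻¹ * M) = tr (M * t) := by rw [inv_mul_cancel_right]
  rw [tr_mul, mem_trans.1 (conj_trans ht), tr_mul M t, Matrix.SpecialLinearGroup.coe_one,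
    Matrix.one_mulVec, add_comm (tr M)] at h2
  exact add_right_cancel h2

/-- The translations form the additive group of `F²`. -/
def transEquiv : Additive ↥(trans : Subgroup (Qd F)) ≃+ (Fin 2 → F) where
  toFun t := tr (Additive.toMul t).1
  invFun v := Additive.ofMul ⟨aff 1 v, mem_trans.2 (lin_aff 1 v)⟩
  left_inv t := by
    apply Additive.toMul.injective
    apply Subtype.ext
    exact ext' (by simp [mem_trans.1 (Additive.toMul t).2]) (by simp)
  right_inv v := by simp
  map_add' a b := by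
    simp [tr_mul, mem_trans.1 (Additive.toMul a).2, add_comm]

theorem isPGroup_trans {p : ℕ} [CharP F p] : IsPGroup p ↥(trans : Subgroup (Qd F)) := by
  intro t
  refine ⟨1, Subtype.ext ?_⟩
  have h : transEquiv (Additive.ofMul (t ^ p)) = 0 := by
    rw [ofMul_pow, map_nsmul, nsmul_eq_mul]
    simp
  rw [pow_one]
  have h' := (AddEquiv.map_eq_zero_iff _).1 h
  simpa using congrArg (fun x => ((Additive.toMul x).1)) h'

/-! ### The upper transvection and `SL₂` -/

/-- Upper unitriangular matrix. -/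
def upSL (a : F) : SL2 := ⟨!![1, a; 0, 1], by simp [Matrix.det_fin_two]⟩

/-- Lower unitriangular matrix. -/
def lowSL (a : F) : SL2 := ⟨!![1, 0; a, 1], by simp [Matrix.det_fin_two]⟩

/-- The antidiagonal matrix with lower left entry `c`. -/
def antiSL (c : F) (hc : c ≠ 0) : SL2 :=
  ⟨!![0, -1 / c; c, 0], by simp [Matrix.det_fin_two]; field_simp⟩

/-- The diagonal matrix with upper left entry `c`. -/
def diagSL (c : F) (hc : c ≠ 0) : SL2 :=
  ⟨!![c, 0; 0, 1 / c], by simp [Matrix.det_fin_two]; field_simp⟩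

@[simp] theorem upSL_coe (a : F) : (upSL a).1 = !![1, a; 0, 1] := rfl
@[simp] theorem lowSL_coe (a : F) : (lowSL a).1 = !![1, 0; a, 1] := rfl
@[simp] theorem antiSL_coe (c : F) (hc : c ≠ 0) : (antiSL c hc).1 = !![0, -1 / c; c, 0] := rfl
@[simp] theorem diagSL_coe (c : F) (hc : c ≠ 0) : (diagSL c hc).1 = !![c, 0; 0, 1 / c] := rfl

theorem upSL_add (a b : F) : upSL (a + b) = upSL a * upSL b := by
  apply Subtype.ext
  ext i j
  fin_cases i <;> fin_cases j <;> simp [Matrix.mul_apply, Fin.sum_univ_two, add_comm]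

/-- A subgroup of `SL₂` containing all upper transvections and an element outside the Borel
subgroup is everything. -/
theorem eq_top_of_up_mem (H : Subgroup SL2) (hup : ∀ a, upSL a ∈ H) {g : SL2} (hg : g ∈ H)
    (hg10 : g.1 1 0 ≠ 0) : H = ⊤ := by
  have hw : ∀ (A : SL2) (hA : A.1 1 0 ≠ 0),
      upSL (-A.1 0 0 / A.1 1 0) * A * upSL (-A.1 1 1 / A.1 1 0) = antiSL (A.1 1 0) hA := by
    intro A hA
    have hd := A.2
    rw [Matrix.det_fin_two] at hd
    apply Subtype.ext
    ext i j
    fin_cases i <;> fin_cases j <;>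
      simp [Matrix.SpecialLinearGroup.coe_mul, Matrix.mul_apply, Fin.sum_univ_two, Matrix.vecMul,
        dotProduct] <;>
      (try field_simp) <;>
      first
        | ring1
        | linear_combination hd
        | linear_combination -hd
  set c := g.1 1 0 with hc
  set w : SL2 := antiSL c hg10 with hwdef
  have hwH : w ∈ H := by
    rw [hwdef, ← hw g hg10]
    exact H.mul_mem (H.mul_mem (hup _) hg) (hup _)
  have hlow : ∀ t, lowSL t ∈ H := by
    intro t
    have : lowSL t = w * upSL (-t / c ^ 2) * w⁻¹ := by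
      rw [eq_mul_inv_iff_mul_eq]
      apply Subtype.ext
      ext i j
      fin_cases i <;> fin_cases j <;>
        simp [hwdef, Matrix.SpecialLinearGroup.coe_mul, Matrix.mul_apply,
          Fin.sum_univ_two] <;> field_simp
    rw [this]
    exact H.mul_mem (H.mul_mem hwH (hup _)) (H.inv_mem hwH)
  have hne : ∀ A : SL2, A.1 1 0 ≠ 0 → A ∈ H := by
    intro A hA
    have : A = upSL ((A.1 0 0 - 1) / A.1 1 0) * lowSL (A.1 1 0) * upSL ((A.1 1 1 - 1) / A.1 1 0) := by
      have hd := A.2
      rw [Matrix.det_fin_two] at hd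
      apply Subtype.ext
      ext i j
      fin_cases i <;> fin_cases j <;>
        simp [ Matrix.SpecialLinearGroup.coe_mul, Matrix.mul_apply, Fin.sum_univ_two] <;>
        field_simp <;>
        first
          | ring1
          | linear_combination hd
          | linear_combination -hd
    rw [this]
    exact H.mul_mem (H.mul_mem (hup _) (hlow _)) (hup _)
  refine eq_top_iff.2 fun A _ => ?_
  by_cases hA : A.1 1 0 = 0
  · have h0 : A.1 0 0 ≠ 0 := by
      intro h0
      have hd := A.2
      rw [Matrix.det_fin_two, h0, hA] at hd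
      simp at hd
    have h1 : lowSL 1 * A ∈ H := by
      apply hne
      simp [ Matrix.SpecialLinearGroup.coe_mul, Matrix.mul_apply, Fin.sum_univ_two, hA, h0]
    simpa using H.mul_mem (H.inv_mem (hlow 1)) h1
  · exact hne A hA

theorem eq_one_of_pow_char_eq_one {p k : ℕ} [Fact p.Prime] [CharP F p] {x : F}
    (h : x ^ p ^ k = 1) : x = 1 := by
  have h' : (x - 1) ^ p ^ k = 0 := by rw [sub_pow_char_pow, h, one_pow, sub_self]
  exact sub_eq_zero.1 (pow_eq_zero_iff (by positivity [(Fact.out : p.Prime).pos]) |>.1 h')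

/-- An element of `p`-power order in `SL₂` over characteristic `p` has trace `2`. -/
theorem trace_eq_two {p k : ℕ} [Fact p.Prime] [CharP F p] {A : SL2} (h : A ^ p ^ k = 1) :
    A.1 0 0 + A.1 1 1 = 2 := by
  have hM : (A.1 - 1) ^ p ^ k = 0 := by
    rw [sub_pow_char_pow_of_commute p k (Commute.one_right _), one_pow,
      ← Matrix.SpecialLinearGroup.coe_pow, h, Matrix.SpecialLinearGroup.coe_one, sub_self]
  have hnil : IsNilpotent (A.1 - 1) := ⟨_, hM⟩
  have := (Matrix.isNilpotent_trace_of_isNilpotent hnil).eq_zero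
  rw [Matrix.trace_fin_two] at this
  simp at this
  linear_combination this

/-- `O_p(SL₂(F)) = 1` in characteristic `p`. -/
theorem eq_bot_of_normal_pGroup {p : ℕ} [Fact p.Prime] [CharP F p] (N : Subgroup SL2) [N.Normal]
    (hN : IsPGroup p ↥N) : N = ⊥ := by
  let up : Multiplicative F →* SL2 :=
    MonoidHom.mk' (fun a => upSL a.toAdd) (fun a b => upSL_add a.toAdd b.toAdd)
  have hU : IsPGroup p ↥up.range := by
    rintro ⟨_, a, rfl⟩
    refine ⟨1, Subtype.ext ?_⟩
    rw [Subgroup.coe_pow, pow_one, ← map_pow, Subgroup.coe_one]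
    convert map_one up
    apply Multiplicative.toAdd.injective
    simp [nsmul_eq_mul]
  have hwit : ∀ A ∈ N, A.1 1 0 = 0 := by
    intro A hA
    have hsup : IsPGroup p ↥(up.range ⊔ N : Subgroup SL2) := hU.to_sup_of_normal_right hN
    obtain ⟨k, hk⟩ := hN ⟨A, hA⟩
    obtain ⟨l, hl⟩ := hsup ⟨A * upSL 1, Subgroup.mul_mem _ (le_sup_right (a := up.range) hA)
      (le_sup_left (b := N) ⟨Multiplicative.ofAdd 1, rfl⟩)⟩
    have h1 := trace_eq_two (p := p) (by simpa using congrArg Subtype.val hk : A ^ p ^ k = 1)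
    have h2 := trace_eq_two (p := p)
      (by simpa using congrArg Subtype.val hl : (A * upSL 1) ^ p ^ l = 1)
    simp [Matrix.SpecialLinearGroup.coe_mul, Matrix.mul_apply, Fin.sum_univ_two] at h2
    linear_combination h2 - h1
  refine (Subgroup.eq_bot_iff_forall _).2 fun A hA => ?_
  set w : SL2 := antiSL (1 : F) one_ne_zero with hwdef
  have hc := hwit A hA
  have hb : A.1 0 1 = 0 := by
    have := hwit _ (Subgroup.Normal.conj_mem ‹_› A hA w)
    simp [hwdef, Matrix.SpecialLinearGroup.coe_mul, Matrix.SpecialLinearGroup.coe_inv,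
      Matrix.adjugate_fin_two, Matrix.mul_apply, Fin.sum_univ_two, Matrix.vecMul, dotProduct] at this
    exact this
  obtain ⟨k, hk⟩ := hN ⟨A, hA⟩
  have ht := trace_eq_two (p := p) (by simpa using congrArg Subtype.val hk : A ^ p ^ k = 1)
  have hd := A.2
  rw [Matrix.det_fin_two, hb, hc, zero_mul, sub_zero] at hd
  have h00 : A.1 0 0 = 1 := by
    have hsq : (A.1 0 0 - 1) ^ 2 = 0 := by linear_combination A.1 0 0 * ht - hd
    exact sub_eq_zero.1 ((pow_eq_zero_iff two_ne_zero).1 hsq)
  have h11 : A.1 1 1 = 1 := by linear_combination ht - h00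
  apply Subtype.ext
  ext i j
  fin_cases i <;> fin_cases j <;> simp [hb, hc, h00, h11]

theorem pCore_eq {p : ℕ} [Fact p.Prime] [CharP F p] [Finite F] :
    Cfsg.pCore p (Qd F) = trans := by
  refine le_antisymm ?_ ?_
  · intro M hM
    have : ((Cfsg.pCore p (Qd F)).map lin).Normal :=
      Subgroup.Normal.map ((Cfsg.pCore_normal p _)) _ lin_surjective
    have h := eq_bot_of_normal_pGroup _ ((CfsgLib.Cores.isPGroup_pCore (G := (Qd F)) p).map lin)
    exact mem_trans.2 (Subgroup.mem_bot.1 (h.le ⟨M, hM, rfl⟩))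
  · have : (trans : Subgroup (Qd F)).Normal := trans_normal
    exact CfsgLib.Cores.le_pCore isPGroup_trans

theorem isNaturalSL2Module : Cfsg.IsNaturalSL2Module F (trans : Subgroup (Qd F)) linSub := by
  refine ⟨fun M _ => ?_, (linSubEquiv (F := F)).toMonoidHom, transEquiv, fun A => (linSubEquiv (F := F)).surjective A, ?_, ?_⟩
  · have : (trans : Subgroup (Qd F)).Normal := trans_normal
    rw [Subgroup.normalizer_eq_top]
    trivial
  · ext l
    simp only [MonoidHom.mem_ker, Subgroup.mem_subgroupOf, Subgroup.mem_centralizer_iff]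
    constructor
    · intro h t ht
      have hl : lin l.1 = 1 := h
      refine ext' (by simp [hl]) ?_
      simp [tr_mul, hl, mem_trans.1 ht, add_comm]
    · intro h
      change lin l.1 = 1
      have key : ∀ v, (lin l.1).1.mulVec v = v := by
        intro v
        have ht : aff 1 v ∈ trans := mem_trans.2 (lin_aff 1 v)
        have := congrArg tr (h _ ht)
        simpa [tr_mul, mem_linSub.1 l.2] using this.symm
      apply Subtype.ext
      rw [Matrix.SpecialLinearGroup.coe_one]
      exact Matrix.ext_iff_mulVec.2 (fun v => by rw [key, Matrix.one_mulVec])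
  · intro l v
    exact ⟨⟨l.1 * v.1 * l.1⁻¹, conj_trans v.2⟩, rfl, tr_conj v.2⟩

/-! ### The standard Sylow subgroup -/

/-- Matrices with upper triangular linear part. -/
def borel : Subgroup (Qd F) where
  carrier := {M | (lin M).1 1 0 = 0}
  one_mem' := by simp
  mul_mem' {M N} hM hN := by
    simp only [Set.mem_setOf_eq] at hM hN ⊢
    rw [map_mul]
    simp [Matrix.mul_apply, Fin.sum_univ_two, hM, hN, -lin_10, -lin_11]
  inv_mem' {M} hM := by
    simp only [Set.mem_setOf_eq] at hM ⊢
    rw [map_inv]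
    simp [Matrix.SpecialLinearGroup.coe_inv, Matrix.adjugate_fin_two, hM, -lin_10]

theorem mem_borel {M : (Qd F)} : M ∈ borel ↔ (lin M).1 1 0 = 0 := Iff.rfl

/-- The upper unitriangular subgroup. -/
def unip : Subgroup (Qd F) where
  carrier := {M | ∃ a, lin M = upSL a}
  one_mem' := ⟨0, by
    rw [map_one]; apply Subtype.ext; ext i j; fin_cases i <;> fin_cases j <;> simp⟩
  mul_mem' := by
    rintro M N ⟨a, ha⟩ ⟨b, hb⟩
    exact ⟨a + b, by rw [map_mul, ha, hb, upSL_add]⟩
  inv_mem' := by
    rintro M ⟨a, ha⟩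
    refine ⟨-a, ?_⟩
    rw [map_inv, ha]
    apply inv_eq_of_mul_eq_one_right
    rw [← upSL_add, add_neg_cancel]
    apply Subtype.ext; ext i j; fin_cases i <;> fin_cases j <;> simp

theorem trans_le_unip : (trans : Subgroup (Qd F)) ≤ unip := fun M hM => ⟨0, by
  rw [mem_trans.1 hM]; apply Subtype.ext; ext i j; fin_cases i <;> fin_cases j <;> simp⟩

theorem unip_le_borel : (unip : Subgroup (Qd F)) ≤ borel := by
  rintro M ⟨a, ha⟩
  rw [mem_borel, ha]
  simp

theorem borel_ne_top : (borel : Subgroup (Qd F)) ≠ ⊤ := by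
  intro h
  have : aff (lowSL (1 : F)) 0 ∈ borel := h ▸ Subgroup.mem_top _
  rw [mem_borel] at this
  simp [ aff] at this

/-- Every overgroup of `unip` is contained in the Borel subgroup or is everything. -/
theorem eq_top_or_le_borel {H : Subgroup (Qd F)} (hH : unip ≤ H) : H = ⊤ ∨ H ≤ borel := by
  by_cases hle : H ≤ borel
  · exact Or.inr hle
  obtain ⟨g, hg, hgb⟩ := SetLike.not_le_iff_exists.1 hle
  left
  have := eq_top_of_up_mem (H.map lin) (fun a => ⟨aff (upSL a) 0, hH ⟨a, lin_aff _ _⟩, lin_aff _ _⟩)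
    (Subgroup.mem_map_of_mem lin hg) hgb
  refine eq_top_iff.2 fun M _ => ?_
  obtain ⟨N, hN, hNM⟩ := this.ge (Subgroup.mem_top (lin M))
  have hd : N⁻¹ * M ∈ H := hH (trans_le_unip (mem_trans.2 (by simp [hNM])))
  simpa using H.mul_mem hN hd

theorem normalizer_unip_le_borel :
    Subgroup.normalizer ((unip : Subgroup (Qd F)) : Set (Qd F)) ≤ borel := by
  intro g hg
  obtain ⟨a, ha⟩ := (Subgroup.mem_normalizer_iff.1 hg (aff (upSL 1) 0)).1 ⟨1, lin_aff _ _⟩
  rw [map_mul, map_mul, map_inv, lin_aff] at ha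
  have h10 := congrFun (congrFun (congrArg Subtype.val ha) 1) 0
  simp [Matrix.SpecialLinearGroup.coe_mul, Matrix.SpecialLinearGroup.coe_inv,
    Matrix.adjugate_fin_two, Matrix.mul_apply, Fin.sum_univ_two, -lin_00, -lin_01, -lin_10, -lin_11] at h10
  rw [mem_borel]
  have : (lin g).1 1 0 ^ 2 = 0 := by linear_combination -h10
  exact (pow_eq_zero_iff two_ne_zero).1 this

theorem borel_le_normalizer_unip :
    borel ≤ Subgroup.normalizer ((unip : Subgroup (Qd F)) : Set (Qd F)) := by
  have hconj : ∀ g ∈ borel, ∀ M ∈ unip, g * M * g⁻¹ ∈ (unip : Subgroup (Qd F)) := by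
    rintro g hg M ⟨a, ha⟩
    have hd := (lin g).2
    rw [mem_borel] at hg
    rw [Matrix.det_fin_two, hg, mul_zero, sub_zero] at hd
    refine ⟨(lin g).1 0 0 ^ 2 * a, ?_⟩
    rw [map_mul, map_mul, map_inv, ha, mul_inv_eq_iff_eq_mul]
    apply Subtype.ext
    ext i j
    fin_cases i <;> fin_cases j <;>
      simp [Matrix.SpecialLinearGroup.coe_mul, Matrix.mul_apply, Fin.sum_univ_two, hg,
        -lin_00, -lin_01, -lin_10, -lin_11]
    linear_combination (-(a * (lin g).1 0 0)) * hd
  intro g hg
  rw [Subgroup.mem_normalizer_iff]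
  refine fun M => ⟨hconj g hg M, fun h => ?_⟩
  have := hconj g⁻¹ (inv_mem hg) _ h
  simpa [mul_assoc] using this

theorem normalizer_unip : Subgroup.normalizer ((unip : Subgroup (Qd F)) : Set (Qd F)) = borel :=
  le_antisymm normalizer_unip_le_borel borel_le_normalizer_unip

theorem mem_unip_of_mem_borel {p : ℕ} [Fact p.Prime] [CharP F p] {M : (Qd F)} (hM : M ∈ borel)
    {k : ℕ} (h : M ^ p ^ k = 1) : M ∈ unip := by
  rw [mem_borel] at hM
  have ht := trace_eq_two (p := p) (A := lin M) (by rw [← map_pow, h, map_one])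
  have hd := (lin M).2
  rw [Matrix.det_fin_two, hM, mul_zero, sub_zero] at hd
  have h00 : (lin M).1 0 0 = 1 := by
    have hsq : ((lin M).1 0 0 - 1) ^ 2 = 0 := by linear_combination (lin M).1 0 0 * ht - hd
    exact sub_eq_zero.1 ((pow_eq_zero_iff two_ne_zero).1 hsq)
  have h11 : (lin M).1 1 1 = 1 := by linear_combination ht - h00
  refine ⟨(lin M).1 0 1, ?_⟩
  apply Subtype.ext
  ext i j
  fin_cases i <;> fin_cases j <;> simp [ hM, h00, h11, -lin_00, -lin_01, -lin_10, -lin_11]

theorem isPGroup_unip {p : ℕ} [Fact p.Prime] [CharP F p] : IsPGroup p ↥(unip : Subgroup (Qd F)) := by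
  rintro ⟨M, a, ha⟩
  have hn : ∀ n : ℕ, upSL a ^ n = upSL ((n : F) * a) := by
    intro n
    induction n with
    | zero =>
      simp only [pow_zero, Nat.cast_zero, zero_mul]
      apply Subtype.ext; ext i j; fin_cases i <;> fin_cases j <;> simp
    | succ n ih => rw [pow_succ, ih, ← upSL_add]; push_cast; ring_nf
  have hp : M ^ p ∈ (trans : Subgroup (Qd F)) := by
    rw [mem_trans, map_pow, ha, hn, CharP.cast_eq_zero, zero_mul]
    apply Subtype.ext; ext i j; fin_cases i <;> fin_cases j <;> simp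
  obtain ⟨k, hk⟩ := isPGroup_trans (p := p) ⟨M ^ p, hp⟩
  refine ⟨k + 1, Subtype.ext ?_⟩
  simpa [pow_succ', pow_mul] using congrArg Subtype.val hk

/-- `unip` is a Sylow subgroup. -/
theorem exists_sylow_eq_unip {p : ℕ} [Fact p.Prime] [CharP F p] [Finite F] :
    ∃ S : Sylow p (Qd F), (S : Subgroup (Qd F)) = unip := by
  obtain ⟨S, hS⟩ := (isPGroup_unip (p := p) (F := F)).exists_le_sylow
  refine ⟨S, le_antisymm ?_ hS⟩
  have : Group.IsNilpotent ↥(S : Subgroup (Qd F)) := S.2.isNilpotent
  set U' := (unip : Subgroup (Qd F)).subgroupOf (S : Subgroup (Qd F))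
  have hN : Subgroup.normalizer (U' : Set ↥(S : Subgroup (Qd F))) = U' := by
    refine le_antisymm (fun x hx => ?_) Subgroup.le_normalizer
    have hxn : (x : (Qd F)) ∈ Subgroup.normalizer ((unip : Subgroup (Qd F)) : Set (Qd F)) := by
      rw [Subgroup.mem_normalizer_iff]
      intro h
      constructor
      · intro hh
        exact (Subgroup.mem_normalizer_iff.1 hx ⟨h, hS hh⟩).1 hh
      · intro hh
        have h2 : h ∈ (S : Subgroup (Qd F)) := by
          have := Subgroup.mul_mem _ (Subgroup.mul_mem _ (Subgroup.inv_mem _ x.2) (hS hh)) x.2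
          simpa [mul_assoc] using this
        exact (Subgroup.mem_normalizer_iff.1 hx ⟨h, h2⟩).2 hh
    obtain ⟨k, hk⟩ := S.2 x
    exact mem_unip_of_mem_borel (normalizer_unip_le_borel hxn) (by simpa using congrArg Subtype.val hk)
  have : U' = ⊤ := normalizerCondition_iff_only_full_group_self_normalizing.mp
    Group.normalizerCondition_of_isNilpotent U' hN
  exact Subgroup.subgroupOf_eq_top.1 this

/-- The outer automorphism of `unip` exchanging the two maximal elementary subgroups. -/
noncomputable def flip : MulAut ↥(unip : Subgroup (Qd F)) :=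
  let f : ↥(unip : Subgroup (Qd F)) → ↥(unip : Subgroup (Qd F)) := fun M =>
    ⟨aff (upSL (-tr M.1 1)) ![(lin M.1).1 0 1 * tr M.1 1 - tr M.1 0, -(lin M.1).1 0 1],
      ⟨_, lin_aff _ _⟩⟩
  have hinv : Function.Involutive f := by
    rintro ⟨M, a, ha⟩
    apply Subtype.ext
    refine ext' ?_ ?_
    · simp [f, ha, -lin_01, -tr_0, -tr_1]
    · ext i; fin_cases i <;> simp [f, ha, -tr_0, -tr_1] <;> ring
  { hinv.toPerm f with
    map_mul' := by
      rintro ⟨M, a, ha⟩ ⟨N, b, hb⟩
      apply Subtype.ext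
      refine ext' ?_ ?_
      · simp only [f, Function.Involutive.coe_toPerm, Equiv.toFun_as_coe, Subgroup.coe_mul, lin_aff,
          map_mul, ← upSL_add]
        congr 1
        simp [tr_mul, ha, Matrix.mulVec, dotProduct, Fin.sum_univ_two, -tr_1]
      · simp only [f, Function.Involutive.coe_toPerm, Equiv.toFun_as_coe, Subgroup.coe_mul, tr_mul,
          lin_aff, tr_aff, map_mul]
        ext i
        fin_cases i <;>
          simp [tr_mul, ha, hb, Matrix.mulVec, dotProduct, Fin.sum_univ_two, -tr_1, -tr_0] <;>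
          ring }

theorem flip_translation (x : F) :
    (flip (F := F) ⟨aff 1 ![0, x], trans_le_unip (mem_trans.2 (lin_aff _ _))⟩ : (Qd F)) =
      aff (upSL (-x)) ![0, 0] := by
  refine ext' ?_ ?_
  · simp [flip, aff]
  · ext i; fin_cases i <;> simp [flip, aff]

/-- A nontrivial normal subgroup inside the translations is the whole translation group. -/
theorem eq_trans_of_normal_of_ne_bot (W : Subgroup (Qd F)) [W.Normal] (hW : W ≤ trans) (hne : W ≠ ⊥) :
    W = trans := by
  obtain ⟨⟨t, htW⟩, ht⟩ := Subgroup.ne_bot_iff_exists_ne_one.1 hne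
  have ht1 : t ≠ 1 := fun h => ht (Subtype.ext h)
  have hWvec : ∀ (A : SL2) (s : (Qd F)), s ∈ W → aff 1 (A.1.mulVec (tr s)) ∈ W := by
    intro A s hs
    have h : aff A 0 * s * (aff A 0)⁻¹ = aff 1 (A.1.mulVec (tr s)) :=
      ext' (by simp [mem_trans.1 (hW hs)]) (by rw [tr_conj (hW hs), lin_aff, tr_aff])
    exact h ▸ Subgroup.Normal.conj_mem ‹_› s hs _
  have hadd : ∀ v v', aff 1 (v + v') = aff 1 v * aff (1 : SL2) v' := fun v v' =>
    ext' (by simp) (by simp [tr_mul, add_comm])
  have htne : tr t ≠ 0 := fun h => ht1 (ext' (by rw [mem_trans.1 (hW htW), map_one]) (by rw [h, tr_one]))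
  -- a vector on the first axis
  have hx : ∃ x : F, x ≠ 0 ∧ aff 1 ![x, 0] ∈ W := by
    by_cases h1 : tr t 1 = 0
    · refine ⟨tr t 0, fun h0 => htne ?_, ?_⟩
      · ext i; fin_cases i <;> assumption
      · have he : t = aff 1 ![tr t 0, 0] :=
          ext' (by simp [mem_trans.1 (hW htW)]) (by rw [tr_aff]; ext i; fin_cases i <;> simp [h1, -tr_1])
        exact he ▸ htW
    · refine ⟨tr t 1, h1, ?_⟩
      have h := W.mul_mem (hWvec (upSL 1) t htW) (W.inv_mem htW)
      convert h using 1
      rw [eq_mul_inv_iff_mul_eq]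
      refine ext' (by simp [mem_trans.1 (hW htW)]) ?_
      rw [tr_mul, lin_aff, tr_aff, tr_aff]
      ext i
      fin_cases i <;> simp [Matrix.mulVec, dotProduct, Fin.sum_univ_two, add_comm, -tr_0, -tr_1]
  obtain ⟨x, hx0, hxW⟩ := hx
  have haxis : ∀ y : F, aff 1 ![y, 0] ∈ W := by
    intro y
    by_cases hy : y = 0
    · subst hy
      convert W.one_mem
      exact ext' (by simp) (by rw [tr_aff, tr_one]; ext i; fin_cases i <;> simp)
    · have := hWvec (diagSL (y / x) (div_ne_zero hy hx0)) _ hxW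
      convert this using 2
      rw [tr_aff]
      ext i
      fin_cases i <;> simp [Matrix.mulVec, dotProduct, Fin.sum_univ_two]
      field_simp
  refine le_antisymm hW fun s hs => ?_
  have hs' : s = aff 1 (![tr s 0, 0] + ![0, tr s 1]) :=
    ext' (by simp [mem_trans.1 hs]) (by rw [tr_aff]; ext i; fin_cases i <;> simp)
  rw [hs', hadd]
  refine W.mul_mem (haxis _) ?_
  have := hWvec (antiSL (1 : F) one_ne_zero) _ (haxis (-(tr s 1) * -1))
  convert this using 2
  rw [tr_aff]
  ext i
  fin_cases i <;> simp [Matrix.mulVec, dotProduct, Fin.sum_univ_two]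

theorem le_normalizer_of_characteristic {G : Type*} [Group G] (S : Subgroup G) (T : Subgroup ↥S)
    [hT : T.Characteristic] :
    Subgroup.normalizer (S : Set G) ≤ Subgroup.normalizer ((T.map S.subtype : Subgroup G) : Set G) := by
  have hconj : ∀ n ∈ Subgroup.normalizer (S : Set G), ∀ x ∈ T.map S.subtype,
      n * x * n⁻¹ ∈ T.map S.subtype := by
    rintro n hn _ ⟨s, hs, rfl⟩
    have hS : ∀ y, y ∈ S ↔ n * y * n⁻¹ ∈ S := Subgroup.mem_normalizer_iff.1 hn
    let σ : ↥S ≃* ↥S :=
      { toFun := fun y => ⟨n * y * n⁻¹, (hS _).1 y.2⟩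
        invFun := fun y => ⟨n⁻¹ * y * n, (hS _).2 (by simpa [mul_assoc] using y.2)⟩
        left_inv := fun y => Subtype.ext (by simp [mul_assoc])
        right_inv := fun y => Subtype.ext (by simp [mul_assoc])
        map_mul' := fun a b => Subtype.ext (by simp [mul_assoc]) }
    exact ⟨σ s, (Subgroup.characteristic_iff_map_le.1 hT σ) ⟨s, hs, rfl⟩, rfl⟩
  intro n hn
  refine Subgroup.mem_normalizer_iff.2 fun x => ⟨hconj n hn x, fun h => ?_⟩
  simpa [mul_assoc] using hconj n⁻¹ (inv_mem hn) _ h

/-- No nontrivial characteristic subgroup of a Sylow subgroup is normal in `Qd`, and its normalizer is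
the normalizer of the Sylow subgroup, a proper subgroup. -/
theorem normalizer_characteristic_eq {p : ℕ} [Fact p.Prime] [CharP F p] [Finite F]
    (S : Sylow p (Qd F)) (T : Subgroup ↥(S : Subgroup (Qd F))) (hT : T ≠ ⊥) (hTc : T.Characteristic) :
    Subgroup.normalizer ((T.map (S : Subgroup (Qd F)).subtype : Subgroup (Qd F)) : Set (Qd F)) =
        Subgroup.normalizer ((S : Subgroup (Qd F)) : Set (Qd F)) ∧
      Subgroup.normalizer ((S : Subgroup (Qd F)) : Set (Qd F)) ≠ ⊤ := by
  obtain ⟨U, hU⟩ := exists_sylow_eq_unip (p := p) (F := F)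
  obtain ⟨g, hg⟩ := MulAction.exists_smul_eq (Qd F) U S
  set φ : Qd F ≃* Qd F := MulAut.conj g with hφ
  have hS : (S : Subgroup (Qd F)) = (unip : Subgroup (Qd F)).map φ.toMonoidHom := by
    rw [← hg, ← hU]; rfl
  have hNS : Subgroup.normalizer ((S : Subgroup (Qd F)) : Set (Qd F)) =
      (borel : Subgroup (Qd F)).map φ.toMonoidHom := by
    rw [hS, ← normalizer_unip, Subgroup.map_equiv_normalizer_eq]
  have hover : ∀ H : Subgroup (Qd F), (S : Subgroup (Qd F)) ≤ H →
      H = ⊤ ∨ H ≤ Subgroup.normalizer ((S : Subgroup (Qd F)) : Set (Qd F)) := by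
    intro H hH
    rcases eq_top_or_le_borel (H := H.comap φ.toMonoidHom)
      (fun x hx => Subgroup.mem_comap.2 (hH (hS ▸ Subgroup.mem_map_of_mem φ.toMonoidHom hx))) with h | h
    · left
      refine eq_top_iff.2 fun x _ => ?_
      have := h.ge (Subgroup.mem_top (φ.symm x))
      simpa using this
    · right
      intro x hx
      rw [hNS]
      exact ⟨φ.symm x, h (by simpa using hx), by simp⟩
  refine ⟨?_, ?_⟩
  · have hle := le_normalizer_of_characteristic (S : Subgroup (Qd F)) T
    refine le_antisymm ?_ hle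
    rcases hover _ (Subgroup.le_normalizer.trans hle) with h | h
    · exfalso
      set W := T.map (S : Subgroup (Qd F)).subtype with hW
      have hWn : W.Normal := Subgroup.normalizer_eq_top_iff.1 h
      have hWne : W ≠ ⊥ := by
        rw [hW, Ne, Subgroup.map_eq_bot_iff_of_injective _ (Subgroup.subtype_injective _)]
        exact hT
      have hWle : W ≤ trans := by
        rw [← pCore_eq (p := p)]
        exact CfsgLib.Cores.le_pCore (S.2.to_le (Subgroup.map_subtype_le T))
      have hWeq := eq_trans_of_normal_of_ne_bot W hWle hWne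
      -- transport `flip` to an automorphism of `S`
      let e : ↥(unip : Subgroup (Qd F)) ≃* ↥(S : Subgroup (Qd F)) :=
        (φ.subgroupMap unip).trans (MulEquiv.subgroupCongr hS.symm)
      let σ : ↥(S : Subgroup (Qd F)) ≃* ↥(S : Subgroup (Qd F)) := (e.symm.trans flip).trans e
      set v : Qd F := aff 1 ![0, 1]
      have hv : v ∈ (trans : Subgroup (Qd F)) := mem_trans.2 (lin_aff _ _)
      have hmemT : ∀ u : ↥(unip : Subgroup (Qd F)), (u : Qd F) ∈ (trans : Subgroup (Qd F)) ↔ e u ∈ T := by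
        intro u
        have h1 : ((e u : ↥(S : Subgroup (Qd F))) : Qd F) = φ u := rfl
        have h2 : e u ∈ T ↔ ((e u : ↥(S : Subgroup (Qd F))) : Qd F) ∈ W :=
          ⟨fun hh => ⟨_, hh, rfl⟩, fun ⟨t, ht, hte⟩ => by rwa [← Subtype.ext hte]⟩
        rw [h2, hWeq, h1]
        constructor
        · exact fun hh => trans_normal.conj_mem _ hh g
        · intro hh
          have := trans_normal.conj_mem _ hh g⁻¹
          simpa [hφ, MulAut.conj_apply, mul_assoc] using this
      have hflip : e (flip ⟨v, trans_le_unip hv⟩) ∈ T := by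
        have := (Subgroup.characteristic_iff_map_le.1 hTc σ) ⟨_, (hmemT ⟨v, trans_le_unip hv⟩).1 hv, rfl⟩
        simpa [σ] using this
      have h2 := mem_trans.1 ((hmemT _).2 hflip)
      rw [flip_translation, lin_aff] at h2
      have := congrFun (congrFun (congrArg Subtype.val h2) 0) 1
      simp at this
    · exact h
  · rw [hNS]
    intro h
    apply borel_ne_top (F := F)
    refine eq_top_iff.2 fun x _ => ?_
    obtain ⟨y, hy, hyx⟩ := h.ge (Subgroup.mem_top (φ x))
    exact φ.injective hyx ▸ hy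

end CfsgLib.LocalEven.QdOver
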