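import Mathlib.GroupTheory.Commutator.Basic
import Cfsg.Prelude.Def_PLocal
import Cfsg.Agent.Lib.PGroup.Basic
import Cfsg.Agent.Lib.PGroup.Counting
import Cfsg.Agent.Lib.LocalEven.Basic

/-!
An elementary replacement lemma for abelian subgroups of largest order: if conjugation by `x` moves
`A` only by elements of an abelian subgroup `K` normalised by `A`, then some abelian subgroup of the
same order inside `⟨A, xAx⁻¹⟩` meets `K` in a bigger group.
-/

namespace CfsgLib.LocalEven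

open Subgroup
open scoped Pointwise commutatorElement

variable {G : Type*} [Group G]

theorem exists_maxAbelian_inf_lt [Finite G] {A K : Subgroup G} (hA : A ∈ Cfsg.maxAbelianSubgroups G)
    (hK : ∀ a ∈ K, ∀ b ∈ K, a * b = b * a) (hAK : A ≤ Subgroup.normalizer (K : Set G)) {x : G}
    (hx : ∀ a ∈ A, x * a * x⁻¹ * a⁻¹ ∈ K) (hne : A.map (MulAut.conj x).toMonoidHom ≠ A) :
    ∃ W ∈ Cfsg.maxAbelianSubgroups G, W ≤ A ⊔ A.map (MulAut.conj x).toMonoidHom ∧
      Nat.card ↥(A ⊓ K) < Nat.card ↥(W ⊓ K) := by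
  set A' := A.map (MulAut.conj x).toMonoidHom with hA'
  set T := A ⊔ A' with hT
  set Z := A ⊓ A' with hZ
  have hAab : ∀ a ∈ A, ∀ b ∈ A, a * b = b * a := fun a ha b hb =>
    congrArg Subtype.val (hA.1.1.comm (⟨a, ha⟩ : ↥A) ⟨b, hb⟩)
  have hA'ab : ∀ a ∈ A', ∀ b ∈ A', a * b = b * a := by
    rintro _ ⟨a, ha, rfl⟩ _ ⟨b, hb, rfl⟩
    rw [← map_mul, hAab a ha b hb, map_mul]
  have hA'le : A' ≤ A ⊔ K := by
    rintro _ ⟨a, ha, rfl⟩
    have := Subgroup.mul_mem _ (Subgroup.mem_sup_right (hx a ha) : _ ∈ A ⊔ K) (Subgroup.mem_sup_left ha)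
    simpa using this
  have hTeq : A ⊔ T ⊓ K = T := by
    refine le_antisymm (sup_le le_sup_left inf_le_left) fun t ht => ?_
    have h1 : t ∈ ((A ⊔ K : Subgroup G) : Set G) := (sup_le le_sup_left hA'le : T ≤ A ⊔ K) ht
    rw [Subgroup.coe_mul_of_left_le_normalizer_right A K hAK] at h1
    obtain ⟨a, ha, k, hk, rfl⟩ := Set.mem_mul.1 h1
    refine Subgroup.mul_mem_sup ha ⟨?_, hk⟩
    have := T.mul_mem (T.inv_mem (Subgroup.mem_sup_left ha)) ht
    simpa using this
  have hAT : A ⊓ (T ⊓ K) = A ⊓ K := by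
    rw [← inf_assoc, inf_eq_left.2 (le_sup_left : A ≤ T)]
  have hTcard : Nat.card T * Nat.card ↥(A ⊓ K) = Nat.card A * Nat.card ↥(T ⊓ K) := by
    have hn : A ≤ Subgroup.normalizer ((T ⊓ K : Subgroup G) : Set G) := by
      intro a ha
      refine mem_normalizer_of_conj_le ?_
      rintro _ ⟨u, hu, rfl⟩
      exact ⟨conj_mem_of_mem_normalizer (Subgroup.le_normalizer (Subgroup.mem_sup_left ha)) hu.1,
        conj_mem_of_mem_normalizer (hAK ha) hu.2⟩
    have h1 := CfsgLib.PGroup.card_setMul_mul_card_inf A (T ⊓ K)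
    rw [← Subgroup.coe_mul_of_left_le_normalizer_right A _ hn, hTeq, hAT] at h1
    exact h1
  have hTZ : Nat.card A * Nat.card A ≤ Nat.card T * Nat.card Z := by
    have := CfsgLib.PGroup.card_mul_card_le_sup_inf A A'
    rwa [show Nat.card A' = Nat.card A from card_map_conj A x] at this
  have hZc : T ≤ Subgroup.centralizer (Z : Set G) := by
    refine sup_le (fun a ha => ?_) (fun a ha => ?_)
    · exact Subgroup.mem_centralizer_iff.2 fun z hz => hAab z hz.1 a ha
    · exact Subgroup.mem_centralizer_iff.2 fun z hz => hA'ab z hz.2 a ha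
  set W := Z ⊔ T ⊓ K with hW
  have hcomm : ∀ a ∈ (Z : Set G) ∪ (T ⊓ K : Subgroup G), ∀ b ∈ (Z : Set G) ∪ (T ⊓ K : Subgroup G),
      a * b = b * a := by
    rintro a (ha | ha) b (hb | hb)
    · exact hAab a ha.1 b hb.1
    · exact Subgroup.mem_centralizer_iff.1 (hZc hb.1) a ha
    · exact (Subgroup.mem_centralizer_iff.1 (hZc ha.1) b hb).symm
    · exact hK a ha.2 b hb.2
  have hWab : IsMulCommutative ↥W := by
    have := Subgroup.isMulCommutative_closure hcomm
    rwa [Subgroup.closure_union, Subgroup.closure_eq, Subgroup.closure_eq] at this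
  have hWle : W ≤ T := sup_le ((inf_le_left).trans le_sup_left) inf_le_left
  have hWc := CfsgLib.PGroup.card_mul_card_le_sup_inf Z (T ⊓ K)
  have hsmall : Nat.card ↥(Z ⊓ (T ⊓ K)) ≤ Nat.card ↥(A ⊓ K) :=
    Subgroup.card_le_of_le (le_inf (inf_le_left.trans inf_le_left) (inf_le_right.trans inf_le_right))
  have h3 : Nat.card A * Nat.card ↥(A ⊓ K) ≤ Nat.card Z * Nat.card ↥(T ⊓ K) := by
    refine Nat.le_of_mul_le_mul_left ?_ (Nat.card_pos (α := ↥A))
    calc Nat.card A * (Nat.card A * Nat.card ↥(A ⊓ K)) = Nat.card A * Nat.card A * Nat.card ↥(A ⊓ K) := by ring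
      _ ≤ Nat.card T * Nat.card Z * Nat.card ↥(A ⊓ K) := Nat.mul_le_mul_right _ hTZ
      _ = Nat.card Z * (Nat.card T * Nat.card ↥(A ⊓ K)) := by ring
      _ = Nat.card A * (Nat.card Z * Nat.card ↥(T ⊓ K)) := by rw [hTcard]; ring
  have h4 : Nat.card Z * Nat.card ↥(T ⊓ K) ≤ Nat.card W * Nat.card ↥(A ⊓ K) :=
    hWc.trans (Nat.mul_le_mul_left _ hsmall)
  have hWA : Nat.card A ≤ Nat.card W := Nat.le_of_mul_le_mul_right (h3.trans h4) Nat.card_pos
  refine ⟨W, ⟨hWab, fun B hB => (hA.2 B hB).trans hWA⟩, hWle, ?_⟩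
  refine lt_of_lt_of_le ?_ (Subgroup.card_le_of_le (le_inf le_sup_right inf_le_right : T ⊓ K ≤ W ⊓ K))
  by_contra hle
  rw [not_lt] at hle
  have hZA : Nat.card A ≤ Nat.card Z :=
    Nat.le_of_mul_le_mul_right (h3.trans (Nat.mul_le_mul_left _ hle)) Nat.card_pos
  have hAA' : A ≤ A' := (Subgroup.eq_of_le_of_card_ge inf_le_left hZA).ge.trans inf_le_right
  exact hne (Subgroup.eq_of_le_of_card_ge hAA' (card_map_conj A x).le).symm

end CfsgLib.LocalEven
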