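import Cfsg.Agent.Lib.LocalEven.StronglyEmbedded
import Cfsg.Agent.Lib.LocalEven.Basic

/-!
Criteria for strong p-embedding.
-/

namespace CfsgLib.LocalEven

open Subgroup Cfsg

variable {G : Type*} [Group G] [Finite G] {p : ℕ} [hp : Fact p.Prime] {H : Subgroup G}

theorem ne_one_of_orderOf_prime {M : Type*} [Monoid M] {x : M} (hx : orderOf x = p) : x ≠ 1 := by
  rintro rfl
  rw [orderOf_one] at hx
  exact hp.out.ne_one hx.symm

/-- An element of `p`-power order of `H` has an `H`-conjugate in a given Sylow subgroup of `H`. -/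
theorem exists_conj_mem_sylow_of_mem (S : Sylow p H) {x : G} (hx : x ∈ H) {k : ℕ}
    (hxk : orderOf x = p ^ k) : ∃ h ∈ H, h * x * h⁻¹ ∈ (S : Subgroup H).map H.subtype := by
  have hz : IsPGroup p (Subgroup.zpowers (⟨x, hx⟩ : H)) :=
    isPGroup_zpowers_of_orderOf (k := k) (by rw [Subgroup.orderOf_mk, hxk])
  obtain ⟨T, hT⟩ := hz.exists_le_sylow
  obtain ⟨h, rfl⟩ := MulAction.exists_smul_eq H T S
  refine ⟨h, h.2, (MulAut.conj h) ⟨x, hx⟩, ?_, rfl⟩
  rw [Sylow.smul_def]
  exact Set.smul_mem_smul_set (hT (Subgroup.mem_zpowers _))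

/-- `H` is strongly `p`-embedded if it contains the centralizers of the elements of order `p` of a Sylow
`p`-subgroup `S` of `H` and the normalizer of `S`. -/
theorem isStronglyPEmbedded_of_sylow (hne : H ≠ ⊤) (S : Sylow p H)
    (hC : ∀ x ∈ (S : Subgroup H).map H.subtype, orderOf x = p → Subgroup.centralizer ({x} : Set G) ≤ H)
    (hN : Subgroup.normalizer (((S : Subgroup H).map H.subtype : Subgroup G) : Set G) ≤ H) :
    IsStronglyPEmbedded p H := by
  set S' := (S : Subgroup H).map H.subtype with hS'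
  have hSH : S' ≤ H := Subgroup.map_subtype_le _
  have hS1 : S' ≠ ⊥ := by
    intro hbot
    apply hne
    rw [hbot] at hN
    exact top_le_iff.mp (fun g _ => hN (Subgroup.mem_normalizer_iff.mpr fun n => by simp [Subgroup.mem_bot]))
  obtain ⟨P, hP⟩ := (S.2.map H.subtype).exists_le_sylow
  have hPS : S' = (P : Subgroup G) := by
    refine eq_of_inf_normalizer_le P.2 hP ?_
    intro y hy
    obtain ⟨hyP, hyN⟩ := Subgroup.mem_inf.mp hy
    have hyH : y ∈ H := hN hyN
    set U : Subgroup G := (P : Subgroup G) ⊓ H with hU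
    have hSU : S' ≤ U := le_inf hP hSH
    have hUp : IsPGroup p (U.subgroupOf H) := (P.2.to_le inf_le_left).comap_subtype
    have hle : (S : Subgroup H) ≤ U.subgroupOf H := fun s hs => hSU ⟨s, hs, rfl⟩
    have heq := S.3 hUp hle
    have hy2 : (⟨y, hyH⟩ : H) ∈ U.subgroupOf H := Subgroup.mem_inf.mpr ⟨hyP, hyH⟩
    rw [heq] at hy2
    exact ⟨⟨y, hyH⟩, hy2, rfl⟩
  have hd : p ∣ Nat.card G := by
    obtain ⟨x, hx, hxp⟩ := exists_orderOf_eq_prime (S.2.map _) hS1
    rw [← hxp]
    exact orderOf_dvd_natCard x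
  refine isStronglyPEmbedded_of_centralizer_le hd hne P (by rw [← hPS]; exact hN) ?_
  intro x hx hxp c hc
  obtain ⟨h, hh, hhx⟩ := exists_conj_mem_sylow_of_mem S hx (k := 1) (by rw [pow_one, hxp])
  have hord : orderOf (h * x * h⁻¹) = p := by
    rw [← hxp, ← MulAut.conj_apply]; exact MulEquiv.orderOf_eq _ _
  have hmem : h * c * h⁻¹ ∈ H := by
    refine hC _ hhx hord (Subgroup.mem_centralizer_iff.mpr fun a ha => ?_)
    rw [Set.mem_singleton_iff] at ha
    rw [ha]
    have hcx := Subgroup.mem_centralizer_iff.mp hc x rfl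
    calc h * x * h⁻¹ * (h * c * h⁻¹) = h * (x * c) * h⁻¹ := by group
      _ = h * (c * x) * h⁻¹ := by rw [hcx]
      _ = h * c * h⁻¹ * (h * x * h⁻¹) := by group
  have := H.mul_mem (H.mul_mem (H.inv_mem hh) hmem) hh
  simpa [mul_assoc] using this

/-- A Sylow subgroup of a strongly embedded subgroup is nontrivial. -/
theorem IsStronglyPEmbedded.sylow_map_ne_bot (hH : IsStronglyPEmbedded p H) (S : Sylow p H) :
    (S : Subgroup H).map H.subtype ≠ ⊥ := by
  rw [Ne, Subgroup.map_eq_bot_iff_of_injective _ H.subtype_injective]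
  exact S.ne_bot_of_dvd_card (IsStronglyPEmbedded.dvd_card hH)

/-- `H` is strongly `p`-embedded if its conjugates meet it in `p'`-groups. -/
theorem isStronglyPEmbedded_of_inf_conj (hne : H ≠ ⊤) (hdH : p ∣ Nat.card H)
    (hTI : ∀ g : G, g ∉ H → ¬ p ∣ Nat.card ↥(H ⊓ H.map (MulAut.conj g).toMonoidHom)) :
    IsStronglyPEmbedded p H := by
  obtain ⟨S⟩ : Nonempty (Sylow p H) := inferInstance
  have key : ∀ x g : G, x ∈ H → orderOf x = p → g * x * g⁻¹ ∈ H → g ∈ H := by
    intro x g hx hxp hg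
    by_contra hgH
    refine hTI g hgH ?_
    have hmem : g * x * g⁻¹ ∈ H ⊓ H.map (MulAut.conj g).toMonoidHom :=
      Subgroup.mem_inf.mpr ⟨hg, conj_mem_map_conj hx⟩
    have hord : orderOf (g * x * g⁻¹) = p := by
      rw [← hxp, ← MulAut.conj_apply]; exact MulEquiv.orderOf_eq _ _
    rw [← hord]
    exact Subgroup.orderOf_dvd_natCard _ hmem
  refine isStronglyPEmbedded_of_sylow hne S (fun x hx hxp c hc => ?_) (fun n hn => ?_)
  · refine key x c (Subgroup.map_subtype_le _ hx) hxp ?_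
    have hcx := Subgroup.mem_centralizer_iff.mp hc x rfl
    rw [← hcx, mul_inv_cancel_right]
    exact Subgroup.map_subtype_le _ hx
  · have hS1 : (S : Subgroup H).map H.subtype ≠ ⊥ := by
      rw [Ne, Subgroup.map_eq_bot_iff_of_injective _ H.subtype_injective]
      exact S.ne_bot_of_dvd_card hdH
    obtain ⟨x, hx, hxp⟩ := exists_orderOf_eq_prime (S.2.map _) hS1
    exact key x n (Subgroup.map_subtype_le _ hx) hxp
      (Subgroup.map_subtype_le _ ((Subgroup.mem_normalizer_iff.mp hn x).mp hx))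

theorem IsStronglyPEmbedded.inf_conj_coprime (hH : IsStronglyPEmbedded p H) {g : G} (hg : g ∉ H) :
    ¬ p ∣ Nat.card ↥(H ⊓ H.map (MulAut.conj g).toMonoidHom) := by
  intro hd
  obtain ⟨x, hx⟩ := exists_prime_orderOf_dvd_card' p hd
  obtain ⟨hxH, hxg⟩ := Subgroup.mem_inf.mp x.2
  rw [mem_map_conj] at hxg
  have hord : orderOf (g⁻¹ * (x : G) * g) = p := by
    rw [show g⁻¹ * (x : G) * g = MulAut.conj g⁻¹ (x : G) by simp, MulEquiv.orderOf_eq, Subgroup.orderOf_coe, hx]
  refine hg (IsStronglyPEmbedded.mem_of_conj_mem hH (x := g⁻¹ * (x : G) * g) hxg (k := 1)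
    (by rw [pow_one, hord]) (ne_one_of_orderOf_prime hord) ?_)
  simpa [mul_assoc] using hxH

end CfsgLib.LocalEven

namespace CfsgLib.LocalEven

open Subgroup Cfsg

variable {G : Type*} [Group G] [Finite G] {p : ℕ} [hp : Fact p.Prime]

/-- Coprime Frattini argument: if a conjugate of the `p`-group `U` lies in `U ⊔ K` (`K` a normal `p'`-subgroup),
then a translate of the conjugating element normalizes `U`. -/
theorem exists_mul_mem_normalizer_of_conj_le {U K : Subgroup G} [K.Normal] (hU : IsPGroup p U)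
    (hK : ¬ p ∣ Nat.card K) {c : G} (hc : ∀ u ∈ U, c * u * c⁻¹ ∈ U ⊔ K) :
    ∃ k ∈ K, k * c ∈ Subgroup.normalizer (U : Set G) := by
  set W := U ⊔ K with hW
  have hUW : U ≤ W := le_sup_left
  set U' := U.map (MulAut.conj c).toMonoidHom with hU'
  have hU'W : U' ≤ W := by
    rintro _ ⟨u, hu, rfl⟩
    exact hc u hu
  obtain ⟨a, ha⟩ := IsPGroup.iff_card.mp hU
  have hcard : Nat.card (U.subgroupOf W) = p ^ a := by
    rw [Nat.card_congr (Subgroup.subgroupOfEquivOfLe hUW).toEquiv, ha]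
  have hcard' : Nat.card (U'.subgroupOf W) = p ^ a := by
    rw [Nat.card_congr (Subgroup.subgroupOfEquivOfLe hU'W).toEquiv, hU', card_map_conj, ha]
  have hidx : ¬ p ∣ (U.subgroupOf W).index := by
    intro hd
    refine hK (hd.trans ?_)
    change U.relIndex W ∣ _
    rw [hW, sup_comm, Subgroup.relIndex, ← Subgroup.relIndex]
    have h1 : Nat.card U * U.relIndex (K ⊔ U) = Nat.card ↥(K ⊔ U) := by
      rw [← Subgroup.relIndex_bot_left U, ← Subgroup.relIndex_bot_left (K ⊔ U)]
      exact Subgroup.relIndex_mul_relIndex ⊥ U (K ⊔ U) bot_le le_sup_right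
    have h2 : Nat.card ↥(K ⊔ U) = Nat.card K * Nat.card U := by
      have h3 : Nat.card K * K.relIndex (K ⊔ U) = Nat.card ↥(K ⊔ U) := by
        rw [← Subgroup.relIndex_bot_left K, ← Subgroup.relIndex_bot_left (K ⊔ U)]
        exact Subgroup.relIndex_mul_relIndex ⊥ K (K ⊔ U) bot_le le_sup_left
      rw [← h3, Subgroup.relIndex_sup_left]
      congr 1
      have hdis : K ⊓ U = ⊥ := by
        rw [← Subgroup.card_eq_one]
        refine Nat.eq_one_of_dvd_coprimes ?_ (Subgroup.card_dvd_of_le (inf_le_left : K ⊓ U ≤ K))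
          (Subgroup.card_dvd_of_le (inf_le_right : K ⊓ U ≤ U))
        rw [ha]
        exact Nat.Coprime.pow_right a ((Nat.coprime_comm.mp ((hp.out.coprime_iff_not_dvd).mpr hK)))
      rw [← Subgroup.inf_relIndex_right, hdis, Subgroup.relIndex_bot_left]
    rw [h2, mul_comm (Nat.card K)] at h1
    exact dvd_of_eq (Nat.eq_of_mul_eq_mul_left Nat.card_pos h1)
  let T : Sylow p W := (IsPGroup.of_card hcard).toSylow hidx
  have hidx' : ¬ p ∣ (U'.subgroupOf W).index := by
    have h1 := Subgroup.card_mul_index (U'.subgroupOf W)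
    have h2 := Subgroup.card_mul_index (U.subgroupOf W)
    rw [hcard'] at h1
    rw [hcard] at h2
    rwa [Nat.eq_of_mul_eq_mul_left (pow_pos hp.out.pos a) (h1.trans h2.symm)]
  let T' : Sylow p W := (IsPGroup.of_card hcard').toSylow hidx'
  obtain ⟨w, hw⟩ := MulAction.exists_smul_eq W T' T
  have hwN : (w : G) * c ∈ Subgroup.normalizer (U : Set G) := by
    refine mem_normalizer_of_conj_le ?_
    rintro _ ⟨u, hu, rfl⟩
    have hmem : (MulAut.conj w) (⟨c * u * c⁻¹, hc u hu⟩ : W) ∈ (w • T' : Sylow p W) := by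
      rw [← SetLike.mem_coe, Sylow.smul_def]
      exact Set.smul_mem_smul_set (show (⟨c * u * c⁻¹, hc u hu⟩ : W) ∈ U'.subgroupOf W from
        Subgroup.mem_subgroupOf.mpr (conj_mem_map_conj hu))
    rw [hw] at hmem
    simpa [T, Subgroup.mem_subgroupOf, mul_assoc] using hmem
  obtain ⟨u, hu, k, hk, hwe⟩ := Subgroup.mem_sup_of_normal_right.mp w.2
  refine ⟨k, hk, ?_⟩
  have := Subgroup.mul_mem _ (Subgroup.inv_mem _ (Subgroup.le_normalizer hu)) hwN
  rwa [← hwe, ← mul_assoc, ← mul_assoc, inv_mul_cancel, one_mul] at this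

end CfsgLib.LocalEven
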