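import Cfsg.Prelude.Def_Amalgam
import Cfsg.Agent.Lib.Cores.Basic
import Cfsg.Agent.Lib.LocalEven.Basic

/-!
`O_p(H)` and `O^{p'}(H)` of a subgroup `H`, inside the ambient group.
-/

namespace CfsgLib.LocalEven

open Subgroup Cfsg

variable {X : Type*} [Group X] {p : ℕ}

theorem pCoreOf_le (p : ℕ) (H : Subgroup X) : pCoreOf p H ≤ H := Subgroup.map_subtype_le _

theorem isPGroup_pCoreOf (p : ℕ) (H : Subgroup X) [Finite H] : IsPGroup p (pCoreOf p H) :=
  (CfsgLib.Cores.isPGroup_pCore p).map _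

theorem le_normalizer_pCoreOf (p : ℕ) (H : Subgroup X) :
    H ≤ Subgroup.normalizer (pCoreOf p H : Set X) := by
  have := Subgroup.le_normalizer_map (H := pCore p ↥H) H.subtype
  rwa [Subgroup.normalizer_eq_top, ← MonoidHom.range_eq_map, Subgroup.range_subtype] at this

theorem le_pCoreOf {H N : Subgroup X} (hN : N ≤ H) (hNp : IsPGroup p N)
    (hHN : H ≤ Subgroup.normalizer (N : Set X)) : N ≤ pCoreOf p H := by
  haveI : (N.subgroupOf H).Normal := Subgroup.normal_subgroupOf_of_le_normalizer hHN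
  rw [← Subgroup.map_subgroupOf_eq_of_le hN]
  exact Subgroup.map_mono (CfsgLib.Cores.le_pCore hNp.comap_subtype)

theorem subgroupOf_pCoreOf (p : ℕ) (H : Subgroup X) : (pCoreOf p H).subgroupOf H = pCore p ↥H :=
  Subgroup.comap_map_eq_self_of_injective H.subtype_injective _

theorem pCoreOf_map {Y : Type*} [Group Y] (p : ℕ) (f : X ≃* Y) (H : Subgroup X) :
    pCoreOf p (H.map f.toMonoidHom) = (pCoreOf p H).map f.toMonoidHom := by
  have h : (pCore p ↥H).map (f.subgroupMap H).toMonoidHom = pCore p ↥(H.map f.toMonoidHom) :=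
    CfsgLib.Cores.map_pCore_equiv _
  ext y
  constructor
  · rintro ⟨u, hu, rfl⟩
    obtain ⟨v, hv, rfl⟩ := h.ge hu
    exact ⟨(v : X), ⟨v, hv, rfl⟩, rfl⟩
  · rintro ⟨u, ⟨v, hv, rfl⟩, rfl⟩
    exact ⟨(f.subgroupMap H) v, h.le ⟨v, hv, rfl⟩, rfl⟩

/-- `C_H(O_p(H)) ≤ O_p(H)` inside the ambient group. -/
theorem inf_centralizer_pCoreOf_le {H : Subgroup X}
    (h : Subgroup.centralizer (pCore p ↥H : Set ↥H) ≤ pCore p ↥H) :
    H ⊓ Subgroup.centralizer (pCoreOf p H : Set X) ≤ pCoreOf p H := by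
  intro x hx
  obtain ⟨hxH, hxC⟩ := Subgroup.mem_inf.mp hx
  refine ⟨⟨x, hxH⟩, h (Subgroup.mem_centralizer_iff.mpr fun y hy => Subtype.ext ?_), rfl⟩
  exact Subgroup.mem_centralizer_iff.mp hxC (y : X) ⟨y, hy, rfl⟩

theorem pElementClosure_le (p : ℕ) (H : Subgroup X) : pElementClosure p H ≤ H :=
  (Subgroup.closure_le _).mpr fun _ hx => hx.1

theorem le_pElementClosure {H P : Subgroup X} (hPH : P ≤ H) (hP : IsPGroup p P) [hp : Fact p.Prime]
    [Finite P] : P ≤ pElementClosure p H := by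
  intro x hx
  refine Subgroup.subset_closure ⟨hPH hx, ?_⟩
  obtain ⟨k, hk⟩ := hP ⟨x, hx⟩
  have h1 : x ^ p ^ k = 1 := congrArg Subtype.val hk
  obtain ⟨j, -, hj⟩ := (Nat.dvd_prime_pow hp.out).mp (orderOf_dvd_of_pow_eq_one h1)
  exact ⟨j, hj⟩

theorem le_normalizer_pElementClosure (p : ℕ) (H : Subgroup X) :
    H ≤ Subgroup.normalizer (pElementClosure p H : Set X) := by
  intro g hg
  have key : ∀ g ∈ H, ∀ x ∈ pElementClosure p H, g * x * g⁻¹ ∈ pElementClosure p H := by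
    intro g hg x hx
    have hle : pElementClosure p H ≤ (pElementClosure p H).comap (MulAut.conj g).toMonoidHom := by
      refine (Subgroup.closure_le _).mpr fun y hy => Subgroup.subset_closure ⟨?_, ?_⟩
      · exact H.mul_mem (H.mul_mem hg hy.1) (H.inv_mem hg)
      · obtain ⟨k, hk⟩ := hy.2
        exact ⟨k, by change orderOf ((MulAut.conj g) y) = _; rw [MulEquiv.orderOf_eq, hk]⟩
    exact hle hx
  rw [Subgroup.mem_normalizer_iff]
  intro x
  refine ⟨key g hg x, fun h => ?_⟩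
  simpa [mul_assoc] using key g⁻¹ (H.inv_mem hg) _ h

end CfsgLib.LocalEven
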