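import Cfsg.Agent.Lib.LocalEven.WeaklyClosed
import Cfsg.Agent.Lib.LocalEven.CoreOf
import Cfsg.Agent.Lib.LocalEven.ChainStab

/-!
Centralisers of outer `p`-groups in groups of characteristic `p`, and weakly closed subgroups.
-/

set_option autoImplicit false

namespace CfsgLib.LocalEven.WC

open Subgroup Cfsg
open scoped commutatorElement

variable {H : Type*} [Group H] [Finite H] {p : ℕ} [hp : Fact p.Prime]

theorem mem_pCoreOf_conj {C : Subgroup H} {g x : H} (hg : g ∈ normalizer (C : Set H))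
    (hx : x ∈ pCoreOf p C) : g * x * g⁻¹ ∈ pCoreOf p C := by
  have h1 := CfsgLib.LocalEven.pCoreOf_map p (MulAut.conj g) C
  have h2 : C.map (MulAut.conj g).toMonoidHom = C := map_conj_eq_of_mem hg
  rw [h2] at h1
  exact h1.ge ⟨x, hx, rfl⟩

/-- If `X` has characteristic `p` and the `p`-group `A` normalizes it, so has `C_X(A)`. -/
theorem hasCharP_inf_centralizer {X A : Subgroup H} (hX : CfsgLib.LocalEven.HasCharP p ↥X)
    (hA : IsPGroup p A) (hAX : A ≤ normalizer (X : Set H)) :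
    CfsgLib.LocalEven.HasCharP p ↥(X ⊓ centralizer (A : Set H)) := by
  refine CfsgLib.LocalEven.hasCharP_of_pPrime fun x hxo hxc => ?_
  set O := pCoreOf p X with hO
  have hxX : (x : H) ∈ X := x.2.1
  have hXO : X ≤ normalizer (O : Set H) := CfsgLib.LocalEven.le_normalizer_pCoreOf p X
  have hAO : A ≤ normalizer (O : Set H) := fun a ha =>
    CfsgLib.LocalEven.mem_normalizer_of_conj_le (by
      rintro _ ⟨y, hy, rfl⟩
      exact mem_pCoreOf_conj (hAX ha) hy)
  have hfix : ∀ v ∈ O, (∀ r ∈ A, r * v = v * r) → (x : H) * v = v * x := by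
    intro v hv hvr
    have hvm : v ∈ X ⊓ centralizer (A : Set H) :=
      ⟨CfsgLib.LocalEven.pCoreOf_le p X hv, Subgroup.mem_centralizer_iff.2 hvr⟩
    have hvO : (⟨v, hvm⟩ : ↥(X ⊓ centralizer (A : Set H))) ∈ pCore p ↥(X ⊓ centralizer (A : Set H)) := by
      have hn : ((pCoreOf p X).subgroupOf (X ⊓ centralizer (A : Set H))).Normal :=
        Subgroup.normal_subgroupOf_of_le_normalizer (inf_le_left.trans hXO)
      exact @CfsgLib.Cores.le_pCore _ _ _ _ hn (CfsgLib.LocalEven.isPGroup_pCoreOf p X).comap_subtype _ hv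
    exact congrArg Subtype.val (hxc _ hvO)
  have hall := CfsgLib.LocalEven.commute_of_commute_fixed hA (CfsgLib.LocalEven.isPGroup_pCoreOf p X) hAO
    (by rwa [Subgroup.orderOf_coe]) (hXO hxX)
    (fun r hr => (Subgroup.mem_centralizer_iff.1 x.2.2 r hr).symm) hfix
  have h1 := hX.eq_one (x := ⟨(x : H), hxX⟩) (by rw [Subgroup.orderOf_mk, Subgroup.orderOf_coe]; exact hxo)
    (fun v hv => Subtype.ext (hall _ ⟨v, hv, rfl⟩))
  exact Subtype.ext (congrArg Subtype.val h1 :)

/-- Characteristic `p` passes from `C(P₀)` to `C(P)` for a `p`-group `P ≥ P₀`. -/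
theorem hasCharP_centralizer_of_le {P : Subgroup H} (hP : IsPGroup p P) :
    ∀ (k : ℕ) (P₀ : Subgroup H), Nat.card P ≤ Nat.card P₀ + k → P₀ ≤ P →
      CfsgLib.LocalEven.HasCharP p ↥(centralizer (P₀ : Set H)) →
      CfsgLib.LocalEven.HasCharP p ↥(centralizer (P : Set H)) := by
  intro k
  induction k with
  | zero =>
    intro P₀ hcard hle h
    obtain rfl : P₀ = P := Subgroup.eq_of_le_of_card_ge hle (by omega)
    exact h
  | succ k ih =>
    intro P₀ hcard hle h
    by_cases he : P ⊓ normalizer (P₀ : Set H) ≤ P₀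
    · obtain rfl : P₀ = P := CfsgLib.LocalEven.eq_of_inf_normalizer_le hP hle he
      exact h
    set P₁ := P ⊓ normalizer (P₀ : Set H) with hP₁
    have h01 : P₀ ≤ P₁ := le_inf hle Subgroup.le_normalizer
    have hlt : Nat.card P₀ < Nat.card P₁ := by
      refine lt_of_le_of_ne (Subgroup.card_le_of_le h01) fun heq => he ?_
      exact (Subgroup.eq_of_le_of_card_ge h01 heq.ge).ge
    refine ih P₁ (by omega) inf_le_left ?_
    have h2 := hasCharP_inf_centralizer h (hP.to_le (inf_le_left : P₁ ≤ P)) (fun a ha => by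
      have han : a ∈ normalizer (P₀ : Set H) := ha.2
      refine CfsgLib.LocalEven.mem_normalizer_of_conj_le ?_
      rintro _ ⟨c, hc, rfl⟩
      refine Subgroup.mem_centralizer_iff.2 fun v hv => ?_
      have h4 := Subgroup.mem_centralizer_iff.1 hc (a⁻¹ * v * a) ((Subgroup.mem_normalizer_iff''.1 han v).1 hv)
      show v * (a * c * a⁻¹) = a * c * a⁻¹ * v
      calc v * (a * c * a⁻¹) = a * ((a⁻¹ * v * a) * c) * a⁻¹ := by group
        _ = a * (c * (a⁻¹ * v * a)) * a⁻¹ := by rw [h4]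
        _ = a * c * a⁻¹ * v := by group)
    have e : centralizer (P₀ : Set H) ⊓ centralizer (P₁ : Set H) = centralizer (P₁ : Set H) :=
      inf_eq_right.2 (Subgroup.centralizer_le h01)
    rw [e] at h2
    exact h2

/-- If `C(O_p(L))` has characteristic `p` and `Q ≤ L` is weakly closed with `C(Q) ≤ Q`, then it normalizes `Q`. -/
theorem le_normalizer_of_hasCharP {Q : Subgroup H} (hwc : IsWeaklyClosedSubgroup p Q) (hQp : IsPGroup p Q)
    (hCQ : centralizer (Q : Set H) ≤ Q) {L : Subgroup H} (hQL : Q ≤ L)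
    (hC : CfsgLib.LocalEven.HasCharP p ↥(centralizer (pCoreOf p L : Set H))) :
    centralizer (pCoreOf p L : Set H) ≤ normalizer (Q : Set H) := by
  set P := pCoreOf p L with hP
  set C := centralizer (P : Set H) with hCdef
  have hLC : L ≤ normalizer (C : Set H) := by
    intro l hl
    have hlP := CfsgLib.LocalEven.le_normalizer_pCoreOf p L hl
    refine CfsgLib.LocalEven.mem_normalizer_of_conj_le ?_
    rintro _ ⟨c, hc, rfl⟩
    refine Subgroup.mem_centralizer_iff.2 fun v hv => ?_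
    have h4 := Subgroup.mem_centralizer_iff.1 hc (l⁻¹ * v * l) ((Subgroup.mem_normalizer_iff''.1 hlP v).1 hv)
    show v * (l * c * l⁻¹) = l * c * l⁻¹ * v
    calc v * (l * c * l⁻¹) = l * ((l⁻¹ * v * l) * c) * l⁻¹ := by group
      _ = l * (c * (l⁻¹ * v * l)) * l⁻¹ := by rw [h4]
      _ = l * c * l⁻¹ * v := by group
  set R := pCoreOf p C with hR
  have hRp : IsPGroup p R := CfsgLib.LocalEven.isPGroup_pCoreOf p C
  have hLR : L ≤ normalizer (R : Set H) := fun l hl =>
    CfsgLib.LocalEven.mem_normalizer_of_conj_le (by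
      rintro _ ⟨y, hy, rfl⟩
      exact mem_pCoreOf_conj (hLC hl) hy)
  have hRQ : R ≤ normalizer (Q : Set H) :=
    le_sup_right.trans (pGroup_le_normalizer hwc (IsPGroup.to_sup_of_normal_right' hQp hRp (hQL.trans hLR)) le_sup_left)
  have hW : ∀ w ∈ R, w ∈ L → ∀ c ∈ C, c * w = w * c := by
    intro w hw hwL c hc
    have h : R ⊓ L ≤ P := CfsgLib.LocalEven.le_pCoreOf inf_le_right (hRp.to_le inf_le_left) (fun l hl =>
      Subgroup.mem_normalizer_iff.2 fun x => and_congr (Subgroup.mem_normalizer_iff.1 (hLR hl) x)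
        (Subgroup.mem_normalizer_iff.1 (Subgroup.le_normalizer hl) x))
    exact (Subgroup.mem_centralizer_iff.1 hc w (h ⟨hw, hwL⟩)).symm
  set M := ⁅C, Q⁆ with hM
  have hMC : M ≤ C := CfsgLib.Solvable.commutator_le_of_le_normalizer (hQL.trans hLC)
  -- every element of `M` stabilizes `1 ≤ R ⊓ L ≤ R`
  have hRQL : ∀ v ∈ R, ∀ q ∈ Q, v⁻¹ * (q * v * q⁻¹) ∈ R ⊓ L := fun v hv q hq =>
    Subgroup.mem_inf.2 ⟨R.mul_mem (R.inv_mem hv) ((Subgroup.mem_normalizer_iff.1 (hLR (hQL hq)) v).1 hv), hQL (by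
      have h := (Subgroup.mem_normalizer_iff.1 (hRQ (inv_mem hv)) q).1 hq
      have e : v⁻¹ * (q * v * q⁻¹) = v⁻¹ * q * v⁻¹⁻¹ * q⁻¹ := by group
      rw [e]
      exact mul_mem h (inv_mem hq))⟩
  have hCR : ∀ {c v : H}, c ∈ C → v ∈ R → c * v * c⁻¹ ∈ R := fun hc hv =>
    mem_pCoreOf_conj (Subgroup.le_normalizer hc) hv
  let S : Subgroup H :=
    { carrier := {m | m ∈ C ∧ ∀ v ∈ R, v⁻¹ * (m * v * m⁻¹) ∈ R ⊓ L}
      one_mem' := ⟨one_mem _, fun v _ => by simp⟩
      mul_mem' := fun {a b} ha hb => ⟨mul_mem ha.1 hb.1, fun v hv => by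
        have hw := hb.2 v hv
        have h1 := ha.2 v hv
        have e : v⁻¹ * (a * b * v * (a * b)⁻¹) = v⁻¹ * (a * v * a⁻¹) * (a * (v⁻¹ * (b * v * b⁻¹)) * a⁻¹) := by
          group
        rw [e, hW _ hw.1 hw.2 a ha.1, mul_inv_cancel_right]
        exact mul_mem h1 hw⟩
      inv_mem' := fun {a} ha => ⟨inv_mem ha.1, fun v hv => by
        have h1 := ha.2 v hv
        have e : v⁻¹ * (a⁻¹ * v * a⁻¹⁻¹) = a⁻¹ * (v⁻¹ * (a * v * a⁻¹))⁻¹ * a⁻¹⁻¹ := by group
        rw [e, hW _ (inv_mem h1.1) (inv_mem h1.2) a⁻¹ (inv_mem ha.1), mul_inv_cancel_right]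
        exact inv_mem h1⟩ }
  have hMS : M ≤ S := by
    rw [hM, Subgroup.commutator_le]
    intro c hc q hq
    refine ⟨hMC (Subgroup.commutator_mem_commutator hc hq), fun v hv => ?_⟩
    set u := c⁻¹ * (q⁻¹ * v * q) * c with hu
    have hv1 : q⁻¹ * v * q ∈ R := (Subgroup.mem_normalizer_iff''.1 (hLR (hQL hq)) v).1 hv
    have hu1 : u ∈ R := by
      have h := hCR (inv_mem hc) hv1
      rwa [inv_inv] at h
    have hw1 := hRQL u hu1 q hq
    have hw2 := hRQL v hv q⁻¹ (inv_mem hq)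
    rw [inv_inv] at hw2
    have e : v⁻¹ * (⁅c, q⁆ * v * ⁅c, q⁆⁻¹) =
        v⁻¹ * (q⁻¹ * v * q) * (c * (u⁻¹ * (q * u * q⁻¹)) * c⁻¹) := by
      rw [hu, commutatorElement_def]; group
    rw [e, hW _ hw1.1 hw1.2 c hc, mul_inv_cancel_right]
    exact mul_mem hw2 hw1
  have hMp : IsPGroup p M := by
    refine CfsgLib.LocalEven.isPGroup_of_forall_coprime fun x hx hxo => ?_
    have hxS := hMS hx
    have h1 := hC.eq_one (x := ⟨x, hxS.1⟩) (by rwa [Subgroup.orderOf_mk]) (fun v hv => Subtype.ext (by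
      have hvR : (v : H) ∈ R := ⟨v, hv, rfl⟩
      have hd := hxS.2 v hvR
      exact CfsgLib.LocalEven.commute_of_conj_eq_mul hRp hd.1 hxo (by group) (hW _ hd.1 hd.2 x hxS.1)))
    exact congrArg Subtype.val h1
  have hQM : Q ≤ normalizer (M : Set H) := CfsgLib.Solvable.le_normalizer_commutator_right (hQL.trans hLC)
  have hMN : M ≤ normalizer (Q : Set H) :=
    le_sup_right.trans (pGroup_le_normalizer hwc (IsPGroup.to_sup_of_normal_right' hQp hMp hQM) le_sup_left)
  intro c hc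
  obtain ⟨m, hm, a, ha, rfl⟩ := exists_mul_normalizer hwc hQp (hQL.trans hLC) hc
  exact mul_mem (hMN hm) ha.2

end CfsgLib.LocalEven.WC
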