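import Cfsg.Prelude.Def_LocalEven
import Cfsg.Agent.Lib.LocalEven.WCCharP
import Cfsg.Agent.Lib.PStab.QuadPair
import Cfsg.Agent.Lib.Transfer.Basic

/-!
Kernels of actions on sections, and cores of normalised subgroups.
-/

set_option autoImplicit false

namespace CfsgLib.LocalEven.ActKer

open Subgroup Cfsg
open scoped commutatorElement

variable {G : Type*} [Group G]

/-- The elements of `L` acting trivially on `A` modulo `F`. -/
def commKer (L A F : Subgroup G) (hLF : L ≤ normalizer (F : Set G)) : Subgroup G where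
  carrier := {l | l ∈ L ∧ ∀ a ∈ A, ⁅l, a⁆ ∈ F}
  one_mem' := ⟨one_mem _, fun a _ => by simp⟩
  mul_mem' := fun {k l} hk hl => ⟨mul_mem hk.1 hl.1, fun a ha => by
    rw [show ⁅k * l, a⁆ = (k * ⁅l, a⁆ * k⁻¹) * ⁅k, a⁆ by simp only [commutatorElement_def]; group]
    exact mul_mem ((Subgroup.mem_normalizer_iff.1 (hLF hk.1) _).1 (hl.2 a ha)) (hk.2 a ha)⟩
  inv_mem' := fun {k} hk => ⟨inv_mem hk.1, fun a ha => by
    rw [show ⁅k⁻¹, a⁆ = k⁻¹ * ⁅k, a⁆⁻¹ * k by simp only [commutatorElement_def]; group]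
    exact (Subgroup.mem_normalizer_iff''.1 (hLF hk.1) _).1 (inv_mem (hk.2 a ha))⟩

theorem commKer_le (L A F : Subgroup G) (hLF : L ≤ normalizer (F : Set G)) : commKer L A F hLF ≤ L :=
  fun _ h => h.1

theorem conj_mem_commKer {L A F : Subgroup G} {hLF : L ≤ normalizer (F : Set G)}
    (hLA : L ≤ normalizer (A : Set G)) {l k : G} (hl : l ∈ L) (hk : k ∈ commKer L A F hLF) :
    l * k * l⁻¹ ∈ commKer L A F hLF := by
  refine ⟨mul_mem (mul_mem hl hk.1) (inv_mem hl), fun a ha => ?_⟩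
  rw [show ⁅l * k * l⁻¹, a⁆ = l * ⁅k, l⁻¹ * a * l⁆ * l⁻¹ by simp only [commutatorElement_def]; group]
  exact (Subgroup.mem_normalizer_iff.1 (hLF hl) _).1
    (hk.2 _ ((Subgroup.mem_normalizer_iff''.1 (hLA hl) a).1 ha))

theorem le_normalizer_commKer [Finite G] {L A F : Subgroup G} {hLF : L ≤ normalizer (F : Set G)}
    (hLA : L ≤ normalizer (A : Set G)) : L ≤ normalizer (commKer L A F hLF : Set G) := fun l hl =>
  CfsgLib.LocalEven.mem_normalizer_of_conj_le (by
    rintro _ ⟨k, hk, rfl⟩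
    exact conj_mem_commKer hLA hl hk)

/-- The image of the Frattini subgroup of `A` is normalized by `N(A)`. -/
theorem le_normalizer_frattini [Finite G] (A : Subgroup G) :
    normalizer (A : Set G) ≤ normalizer (((frattini A).map A.subtype : Subgroup G) : Set G) := fun g hg =>
  CfsgLib.LocalEven.mem_normalizer_of_conj_le (by
    rintro _ ⟨_, ⟨x, hx, rfl⟩, rfl⟩
    have hch : (frattini A).map (Subgroup.normalizerMonoidHom A ⟨g, hg⟩).toMonoidHom = frattini A :=
      Subgroup.characteristic_iff_map_eq.1 inferInstance _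
    exact ⟨Subgroup.normalizerMonoidHom A ⟨g, hg⟩ x, hch.le ⟨x, hx, rfl⟩, rfl⟩)

variable [Finite G] {p : ℕ} [hp : Fact p.Prime]

theorem pCoreOf_le_of_le_normalizer {N L : Subgroup G} (hNL : N ≤ L) (hLN : L ≤ normalizer (N : Set G)) :
    pCoreOf p N ≤ pCoreOf p L :=
  CfsgLib.LocalEven.le_pCoreOf ((CfsgLib.LocalEven.pCoreOf_le p N).trans hNL)
    (CfsgLib.LocalEven.isPGroup_pCoreOf p N) fun l hl => CfsgLib.LocalEven.mem_normalizer_of_conj_le (by
      rintro _ ⟨x, hx, rfl⟩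
      exact CfsgLib.LocalEven.WC.mem_pCoreOf_conj (hLN hl) hx)

theorem mem_pCoreOf_of_normal {N E : Subgroup G} {x : G} (hN : IsPGroup p N) (hNE : N ≤ E)
    (hn : E ≤ normalizer (N : Set G)) (hx : x ∈ N) : x ∈ pCoreOf p E :=
  CfsgLib.LocalEven.le_pCoreOf hNE hN hn hx

/-- Coprime elements centralising `C` modulo the `p`-group `O` and lying in `C` force `p`-closure. -/
theorem mem_pCoreOf_of_forall_coprime {E O : Subgroup G} (hO : IsPGroup p O)
    (hEO : E ≤ normalizer (O : Set G))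
    (h : ∀ x ∈ E, (orderOf x).Coprime p → ∀ e ∈ E, ⁅e, x⁆ ∈ O) {y : G} (hy : y ∈ E)
    (hyp : IsPGroup p (zpowers y)) : y ∈ pCoreOf p E := by
  haveI : (O.subgroupOf E).Normal := Subgroup.normal_subgroupOf_of_le_normalizer hEO
  obtain ⟨P, hP⟩ := (hO.comap_subtype (K := E)).exists_le_sylow
  have hres : Cfsg.pResidual p ↥E ≤ normalizer ((P : Subgroup ↥E) : Set ↥E) := by
    rw [Cfsg.pResidual, Subgroup.closure_le]
    intro x hx
    refine CfsgLib.LocalEven.mem_normalizer_of_conj_le ?_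
    rintro _ ⟨v, hv, rfl⟩
    have hm : ⁅v, x⁆⁻¹ ∈ (P : Subgroup ↥E) := by
      refine inv_mem (hP ?_)
      show ((⁅v, x⁆ : ↥E) : G) ∈ O
      have := h (x : G) x.2 (by rwa [Subgroup.orderOf_coe]) (v : G) v.2
      simpa [commutatorElement_def] using this
    show x * v * x⁻¹ ∈ (P : Subgroup ↥E)
    rw [show x * v * x⁻¹ = ⁅v, x⁆⁻¹ * v by rw [commutatorElement_def]; group]
    exact mul_mem hm hv
  have htop : normalizer ((P : Subgroup ↥E) : Set ↥E) = ⊤ := top_le_iff.1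
    ((CfsgLib.Transfer.pResidual_sup_sylow P).ge.trans (sup_le hres Subgroup.le_normalizer))
  haveI : (P : Subgroup ↥E).Normal := Subgroup.normalizer_eq_top_iff.1 htop
  obtain ⟨P', hP'⟩ := (hyp.comap_subtype (K := E)).exists_le_sylow
  have hPP : P' = P := by
    haveI := Sylow.unique_of_normal P (inferInstance : (P : Subgroup ↥E).Normal)
    exact Subsingleton.elim P' P
  exact ⟨⟨y, hy⟩, CfsgLib.Cores.le_pCore P.2 (hPP ▸ hP' (Subgroup.mem_subgroupOf.2 (Subgroup.mem_zpowers y))), rfl⟩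

end CfsgLib.LocalEven.ActKer
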