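import Cfsg.Agent.Lib.LocalEven.CoprimeGen
import Cfsg.Agent.Lib.LocalEven.CharP
import Cfsg.Agent.Lib.LocalEven.ActKernel
import Cfsg.Agent.Lib.Solvable.AbelianAction

/-!
Abelian offenders on a module of a group with a normal `p'`-subgroup of `p`-power index: they yield a transvection.
-/

set_option autoImplicit false

namespace CfsgLib.LocalEven.Offender

open Subgroup Cfsg
open scoped commutatorElement

universe u

variable {G : Type u} [Group G] [Finite G] {p : ℕ} [hp : Fact p.Prime]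

/-- If every fixed point of `a ^ p` in `W` is fixed by `a`, then `a` centralises `W`. -/
theorem commute_of_fixed_pow {W : Subgroup G} (hW : IsElementaryAbelian p W) {a : G}
    (haW : a ∈ normalizer (W : Set G)) (hap : IsPGroup p (zpowers a))
    (h : ∀ w ∈ W, a ^ p * w = w * a ^ p → a * w = w * a) : ∀ w ∈ W, a * w = w * a := by
  set J := zpowers a ⊔ W with hJ
  have hJp : IsPGroup p J :=
    IsPGroup.to_sup_of_normal_right' hap (CfsgLib.PGroup.elemAb_isPGroup hW) (Subgroup.zpowers_le.2 haW)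
  have hnil : Group.IsNilpotent ↥J := hJp.isNilpotent
  obtain ⟨m, hm⟩ := hnil.nilpotent'
  suffices h' : ∀ (i : ℕ) (w : ↥J), w ∈ Subgroup.upperCentralSeries ↥J i → (w : G) ∈ W →
      a * (w : G) = w * a from
    fun w hw => h' m ⟨w, Subgroup.mem_sup_right hw⟩ (hm ▸ Subgroup.mem_top _) hw
  intro i
  induction i with
  | zero =>
    intro w hw _
    rw [Subgroup.upperCentralSeries_zero, Subgroup.mem_bot] at hw
    simp [hw]
  | succ i ih =>
    intro w hw hwW
    have hf0 : ⁅a, (w : G)⁆ ∈ W := by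
      rw [commutatorElement_def]
      exact mul_mem ((Subgroup.mem_normalizer_iff.1 haW _).1 hwW) (inv_mem hwW)
    have haJ : a ∈ J := Subgroup.mem_sup_left (mem_zpowers a)
    have hfi : ⁅(⟨a, haJ⟩ : ↥J), w⁆ ∈ Subgroup.upperCentralSeries ↥J i := by
      rw [← commutatorElement_inv]
      exact inv_mem (Subgroup.mem_upperCentralSeries_succ_iff.1 hw _)
    have hfc : a * ⁅a, (w : G)⁆ = ⁅a, (w : G)⁆ * a := ih _ hfi hf0
    set f := ⁅a, (w : G)⁆ with hf
    have hn : ∀ n : ℕ, a ^ n * (w : G) * (a ^ n)⁻¹ = f ^ n * w := by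
      intro n
      induction n with
      | zero => simp
      | succ n ih2 =>
        have hc : Commute a (f ^ n) := (show Commute a f from hfc).pow_right n
        calc a ^ (n + 1) * (w : G) * (a ^ (n + 1))⁻¹ = a * (a ^ n * w * (a ^ n)⁻¹) * a⁻¹ := by
              rw [pow_succ']; group
          _ = (a * f ^ n * a⁻¹) * (a * w * a⁻¹) := by rw [ih2]; group
          _ = f ^ n * (f * w) := by rw [hc.eq, mul_inv_cancel_right, hf, commutatorElement_def]; group
          _ = f ^ (n + 1) * w := by rw [pow_succ, mul_assoc]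
    refine h _ hwW ?_
    have h1 := hn p
    rw [hW.2 f hf0, one_mul] at h1
    exact mul_inv_eq_iff_eq_mul.1 h1

/-- A power of `g` of order prime to `p` with the same image. -/
theorem exists_coprime_lift {H : Type*} [Group H] (π : G →* H) (g : G) (hg : (orderOf (π g)).Coprime p) :
    ∃ m : ℕ, π (g ^ m) = π g ∧ (orderOf (g ^ m)).Coprime p := by
  set s := (orderOf g).factorization p with hs
  obtain ⟨m, hm⟩ := exists_pow_eq_self_of_coprime (x := π g) (n := p ^ s) (hg.pow_right s).symm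
  refine ⟨p ^ s * m, by rw [map_pow, pow_mul]; exact hm, ?_⟩
  rw [pow_mul]
  refine Nat.Coprime.coprime_dvd_left (orderOf_pow_dvd (n := m)) ?_
  rw [orderOf_pow_of_dvd (pow_ne_zero _ hp.out.ne_zero) (Nat.ordProj_dvd _ _)]
  exact (Nat.coprime_ordCompl hp.out (orderOf_pos g).ne').symm

/-- Thompson's `A × B` lemma, commutation with `B` only needed modulo `C(V)`. -/
theorem mem_centralizer_of_fixed {V B : Subgroup G} [V.Normal] (hV : IsElementaryAbelian p V)
    (hB : IsPGroup p B) {x : G} (hx : (orderOf x).Coprime p)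
    (hcomm : ∀ b ∈ B, ⁅b, x⁆ ∈ centralizer (V : Set G))
    (hfix : ∀ v ∈ V, (∀ b ∈ B, b * v = v * b) → x * v = v * x) :
    x ∈ centralizer (V : Set G) := by
  have hVp := CfsgLib.PGroup.elemAb_isPGroup hV
  set S := B ⊔ V with hS
  have hSp : IsPGroup p ↥S :=
    IsPGroup.to_sup_of_normal_right' hB hVp (by rw [Subgroup.normalizer_eq_top]; exact le_top)
  have hnil : Group.IsNilpotent ↥S := hSp.isNilpotent
  obtain ⟨m, hm⟩ := hnil.nilpotent'
  suffices h : ∀ (i : ℕ) (v : ↥S), v ∈ Subgroup.upperCentralSeries ↥S i → (v : G) ∈ V →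
      x * v = v * x from
    Subgroup.mem_centralizer_iff.2 fun v hv => (h m ⟨v, Subgroup.mem_sup_right hv⟩ (hm ▸ Subgroup.mem_top _) hv).symm
  intro i
  induction i with
  | zero =>
    intro v hv _
    rw [Subgroup.upperCentralSeries_zero, Subgroup.mem_bot] at hv
    simp [hv]
  | succ i ih =>
    intro v hv hvV
    have hcv : ∀ g : G, g * (v : G) * g⁻¹ ∈ V := fun g => (inferInstance : V.Normal).conj_mem _ hvV g
    have hd : (v : G)⁻¹ * (x * v * x⁻¹) ∈ V := mul_mem (inv_mem hvV) (hcv x)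
    refine CfsgLib.LocalEven.commute_of_conj_eq_mul hVp hd hx (by group) (hfix _ hd fun b hb => ?_)
    have hf0 : ⁅b, (v : G)⁆ ∈ V := by
      rw [commutatorElement_def]
      exact mul_mem (hcv b) (inv_mem hvV)
    have hfi : ⁅(⟨b, Subgroup.mem_sup_left hb⟩ : ↥S), v⁆ ∈ Subgroup.upperCentralSeries ↥S i := by
      rw [← commutatorElement_inv]
      exact inv_mem (Subgroup.mem_upperCentralSeries_succ_iff.1 hv _)
    have hxf : x * ⁅b, (v : G)⁆ = ⁅b, (v : G)⁆ * x := ih _ hfi hf0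
    set f := ⁅b, (v : G)⁆ with hf
    have hbv : b * (v : G) * b⁻¹ = f * v := by rw [hf, commutatorElement_def]; group
    -- modulo `C(V)` the elements `b` and `x` commute
    have hsw : b * (x * (v : G) * x⁻¹) * b⁻¹ = x * (b * v * b⁻¹) * x⁻¹ := by
      have h1 := Subgroup.mem_centralizer_iff.1 (hcomm b hb) _
        ((inferInstance : V.Normal).conj_mem _ hvV (x * b))
      calc b * (x * (v : G) * x⁻¹) * b⁻¹
          = ⁅b, x⁆ * (x * b * v * (x * b)⁻¹) * ⁅b, x⁆⁻¹ := by rw [commutatorElement_def]; group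
        _ = x * b * v * (x * b)⁻¹ := by rw [← h1, mul_inv_cancel_right]
        _ = x * (b * v * b⁻¹) * x⁻¹ := by group
    have h2 : b * ((v : G)⁻¹ * (x * v * x⁻¹)) * b⁻¹ = (v : G)⁻¹ * (x * v * x⁻¹) := by
      calc b * ((v : G)⁻¹ * (x * v * x⁻¹)) * b⁻¹
          = (b * v * b⁻¹)⁻¹ * (b * (x * v * x⁻¹) * b⁻¹) := by group
        _ = (f * v)⁻¹ * ((x * f * x⁻¹) * (x * v * x⁻¹)) := by rw [hsw, hbv]; group
        _ = (v : G)⁻¹ * (x * v * x⁻¹) := by rw [hxf, mul_inv_cancel_right]; group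
    exact mul_inv_eq_iff_eq_mul.1 h2

/-- Faithfulness: a `p`-element centralising `K / H` lies in `H`. -/
theorem mem_of_centralizes {H K : Subgroup G} [H.Normal] [K.Normal]
    (hO : pCore p (G ⧸ H) = ⊥) (hquot : IsPGroup p (G ⧸ K))
    {y : G} (hy : IsPGroup p (zpowers y)) (h : ∀ k ∈ K, ⁅y, k⁆ ∈ H) : y ∈ H := by
  set π := QuotientGroup.mk' H with hπ
  set E := centralizer ((K.map π : Subgroup (G ⧸ H)) : Set (G ⧸ H)) with hE
  haveI : (K.map π).Normal := Subgroup.Normal.map inferInstance π (QuotientGroup.mk'_surjective H)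
  have hyE : π y ∈ E := by
    refine Subgroup.mem_centralizer_iff.2 ?_
    rintro _ ⟨k, hk, rfl⟩
    have h1 : π ⁅y, k⁆ = 1 := (QuotientGroup.eq_one_iff _).2 (h k hk)
    rw [map_commutatorElement, commutatorElement_eq_one_iff_mul_comm] at h1
    exact h1.symm
  have hquot' : IsPGroup p ((G ⧸ H) ⧸ K.map π) := by
    refine hquot.of_surjective (QuotientGroup.lift K ((QuotientGroup.mk' (K.map π)).comp π) ?_) ?_
    · intro k hk
      exact (QuotientGroup.eq_one_iff _).2 ⟨k, hk, rfl⟩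
    · intro q
      obtain ⟨q', rfl⟩ := QuotientGroup.mk'_surjective (K.map π) q
      obtain ⟨g, rfl⟩ := QuotientGroup.mk'_surjective H q'
      exact ⟨QuotientGroup.mk' K g, rfl⟩
  have hmem : π y ∈ pCoreOf p E := by
    refine CfsgLib.LocalEven.ActKer.mem_pCoreOf_of_forall_coprime (O := ⊥) IsPGroup.of_bot
      (by rw [Subgroup.normalizer_eq_top]; exact le_top) (fun x hx hxo e he => ?_) hyE ?_
    · have hxK : x ∈ K.map π :=
        CfsgLib.Transfer.pResidual_le hquot' (CfsgLib.Transfer.mem_pResidual_of_coprime hxo)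
      rw [Subgroup.mem_bot, commutatorElement_eq_one_iff_mul_comm]
      exact (Subgroup.mem_centralizer_iff.1 he x hxK).symm
    · rw [← MonoidHom.map_zpowers]; exact hy.map π
  have h2 : pCoreOf p E ≤ pCore p (G ⧸ H) := by
    refine (CfsgLib.LocalEven.ActKer.pCoreOf_le_of_le_normalizer (L := (⊤ : Subgroup (G ⧸ H))) le_top ?_).trans ?_
    · rw [Subgroup.normalizer_eq_top E]
    · haveI : (pCoreOf p (⊤ : Subgroup (G ⧸ H))).Normal := Subgroup.normalizer_eq_top_iff.1
        (top_le_iff.1 (CfsgLib.LocalEven.le_normalizer_pCoreOf p ⊤))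
      exact CfsgLib.Cores.le_pCore (CfsgLib.LocalEven.isPGroup_pCoreOf p _)
  have h3 := h2 hmem
  rw [hO, Subgroup.mem_bot] at h3
  exact (QuotientGroup.eq_one_iff y).1 h3

/-- Two elements of exponent `p` modulo `B` generating a noncyclic section of a noncyclic abelian `A / B`. -/
theorem exists_pair {A B : Subgroup G} (hA : IsPGroup p A) (hAc : ∀ a ∈ A, ∀ b ∈ A, a * b = b * a)
    (hBA : B ≤ A) (hne : ¬ A ≤ B) (hnc : ∀ a ∈ A, ¬ A ≤ B ⊔ zpowers a) :
    ∃ u v, u ∈ A ∧ v ∈ A ∧ u ^ p ∈ B ∧ v ^ p ∈ B ∧ u ∉ B ∧ v ∉ B ⊔ zpowers u := by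
  classical
  haveI : (B.subgroupOf A).Normal := ⟨fun b hb a => by
    have h1 : (a : G) * (b : G) * (a : G)⁻¹ = b := by
      rw [hAc _ a.2 _ b.2, mul_inv_cancel_right]
    show ((a * b * a⁻¹ : A) : G) ∈ B
    rw [Subgroup.coe_mul, Subgroup.coe_mul, Subgroup.coe_inv, h1]
    exact hb⟩
  set π := QuotientGroup.mk' (B.subgroupOf A) with hπ
  obtain ⟨a, ha⟩ := Finite.exists_max (fun a : A => orderOf (π a))
  obtain ⟨k, hk⟩ := IsPGroup.iff_orderOf.1 (hA.to_quotient (B.subgroupOf A)) (π a)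
  have hmem : ∀ (x : A), π x = 1 ↔ (x : G) ∈ B := fun x => QuotientGroup.eq_one_iff x
  have hk0 : k ≠ 0 := by
    rintro rfl
    rw [pow_zero] at hk
    refine hne fun x hx => (hmem ⟨x, hx⟩).1 (orderOf_eq_one_iff.1 ?_)
    have h0 := ha ⟨x, hx⟩
    simp only [hk] at h0
    have := orderOf_pos (π ⟨x, hx⟩)
    omega
  set u : A := a ^ p ^ (k - 1) with hu
  have hup : orderOf (π u) = p := by
    rw [hu, map_pow, orderOf_pow_of_dvd (pow_ne_zero _ hp.out.ne_zero) (hk ▸ pow_dvd_pow p (Nat.sub_le k 1)), hk,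
      Nat.pow_div (Nat.sub_le k 1) hp.out.pos, show k - (k - 1) = 1 by omega, pow_one]
  -- an element outside `B⟨a⟩` whose `p`-th power is inside
  have hout : ∃ x : A, π x ∉ zpowers (π a) := by
    by_contra hall
    push Not at hall
    refine hnc a a.2 fun x hx => ?_
    obtain ⟨i, hi⟩ := Subgroup.mem_zpowers_iff.1 (hall ⟨x, hx⟩)
    have h1 : π ((a ^ i)⁻¹ * ⟨x, hx⟩) = 1 := by rw [map_mul, map_inv, map_zpow, hi, inv_mul_cancel]
    have h2 := (hmem _).1 h1
    simp only [Subgroup.coe_mul, Subgroup.coe_inv, Subgroup.coe_zpow] at h2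
    have h3 := mul_mem (Subgroup.mem_sup_right (T := zpowers (a : G)) (S := B) (zpow_mem (mem_zpowers (a : G)) i))
      (Subgroup.mem_sup_left h2)
    rwa [mul_inv_cancel_left] at h3
  obtain ⟨x, hx⟩ := hout
  obtain ⟨j, hj⟩ := IsPGroup.iff_orderOf.1 (hA.to_quotient (B.subgroupOf A)) (π x)
  have hex : ∃ n, π x ^ p ^ n ∈ zpowers (π a) := ⟨j, by rw [← hj, pow_orderOf_eq_one]; exact one_mem _⟩
  have hn0 : Nat.find hex ≠ 0 := fun h0 => hx (by simpa [h0] using Nat.find_spec hex)
  set b : A := x ^ p ^ (Nat.find hex - 1) with hb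
  have hb1 : π b ∉ zpowers (π a) := by
    rw [hb, map_pow]; exact Nat.find_min hex (by omega)
  have hbp : π b ^ p ∈ zpowers (π a) := by
    rw [hb, map_pow, ← pow_mul, ← pow_succ, show Nat.find hex - 1 + 1 = Nat.find hex by omega]
    exact Nat.find_spec hex
  obtain ⟨i, hi⟩ := mem_powers_iff_mem_zpowers.2 hbp
  change π a ^ i = π b ^ p at hi
  have hdvd : p ∣ i := by
    have hbo : π b ^ p ^ k = 1 := by
      obtain ⟨l, hl⟩ := IsPGroup.iff_orderOf.1 (hA.to_quotient (B.subgroupOf A)) (π b)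
      have hle : l ≤ k := by
        have := ha b
        simp only [hl, hk] at this
        exact (Nat.pow_le_pow_iff_right hp.out.one_lt).1 this
      exact orderOf_dvd_iff_pow_eq_one.1 (hl ▸ pow_dvd_pow p hle)
    have h1 : π a ^ (i * p ^ (k - 1)) = 1 := by
      rw [pow_mul, hi, ← pow_mul, ← pow_succ', show k - 1 + 1 = k by omega, hbo]
    have h2 := orderOf_dvd_iff_pow_eq_one.2 h1
    rw [hk, show p ^ k = p * p ^ (k - 1) by rw [← pow_succ', show k - 1 + 1 = k by omega]] at h2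
    exact Nat.dvd_of_mul_dvd_mul_right (pow_pos hp.out.pos _) h2
  obtain ⟨i', rfl⟩ := hdvd
  set v : A := b * (a ^ i')⁻¹ with hv
  have hvp : π v ^ p = 1 := by
    have hc : Commute b (a ^ i')⁻¹ := Subtype.ext (hAc _ b.2 _ ((a ^ i')⁻¹ : A).2)
    have hv' : π v = π b * π ((a ^ i')⁻¹) := map_mul π _ _
    rw [hv', (hc.map π).mul_pow, map_inv, inv_pow, map_pow π a i', ← pow_mul, mul_comm i', hi, mul_inv_cancel]
  refine ⟨u, v, u.2, v.2, ?_, ?_, ?_, ?_⟩
  · rw [← Subgroup.coe_pow, ← hmem, map_pow, ← hup, pow_orderOf_eq_one]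
  · rw [← Subgroup.coe_pow, ← hmem, map_pow, hvp]
  · rw [← hmem, ← orderOf_eq_one_iff, hup]; exact hp.out.ne_one
  · intro hcon
    apply hb1
    have h1 : π v ∈ zpowers (π a) := by
      have h2 : v ∈ B.subgroupOf A ⊔ zpowers u := by
        have e : (B.subgroupOf A ⊔ zpowers u).map A.subtype = B ⊔ zpowers (u : G) := by
          rw [Subgroup.map_sup, Subgroup.map_subgroupOf_eq_of_le hBA, MonoidHom.map_zpowers]; rfl
        rw [← e] at hcon
        exact (Subgroup.mem_map_iff_mem A.subtype_injective).1 hcon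
      have h3 := Subgroup.mem_map_of_mem π h2
      rw [Subgroup.map_sup, QuotientGroup.map_mk'_self, bot_sup_eq, MonoidHom.map_zpowers, hu, map_pow] at h3
      exact Subgroup.zpowers_le.2 (pow_mem (mem_zpowers (π a)) _) h3
    have h4 := mul_mem h1 (pow_mem (mem_zpowers (π a)) i')
    rw [hv, map_mul, map_inv, ← map_pow π a i', inv_mul_cancel_right] at h4
    exact h4

end CfsgLib.LocalEven.Offender
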