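import Cfsg.Agent.Lib.LocalEven.DihedralCriterion
import Cfsg.Agent.Lib.LocalEven.ActKernel
import Cfsg.Agent.Lib.LocalEven.Basic
import Cfsg.Agent.Lib.PStab.QuadPair

/-!
Criteria for a section isomorphic to the symmetric group of degree four.
-/

set_option autoImplicit false

namespace CfsgLib.LocalEven.S4Crit

open Subgroup Cfsg
open scoped commutatorElement

variable {G : Type*} [Group G] [Finite G]

/-- A four group together with an element of `3`-power order permuting it and an element inverting the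
latter while fixing a point gives a section `S₄`. -/
theorem involves_of_four {w y x : G} (hw1 : w ≠ 1) (hw : w * w = 1)
    (hc : w * (y * w * y⁻¹) = y * w * y⁻¹ * w)
    (hy2 : y * (y * w * y⁻¹) * y⁻¹ = w * (y * w * y⁻¹))
    (hne : y * w * y⁻¹ ≠ w) (hxw : x * w * x⁻¹ = w)
    (hy : ∃ k : ℕ, orderOf y = 3 ^ k) (hinv : x * y * x⁻¹ = y⁻¹) :
    Involves (Equiv.Perm (Fin 4)) G := by
  classical
  set w₂ := y * w * y⁻¹ with hw₂
  have hsq2 : w₂ * w₂ = 1 := by
    rw [hw₂, show y * w * y⁻¹ * (y * w * y⁻¹) = y * (w * w) * y⁻¹ by group, hw, mul_one, mul_inv_cancel]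
  have hw21 : w₂ ≠ 1 := fun h => hw1 (by rwa [hw₂, conj_eq_one_iff] at h)
  have hwi : w⁻¹ = w := inv_eq_of_mul_eq_one_right hw
  have hw2i : w₂⁻¹ = w₂ := inv_eq_of_mul_eq_one_right hsq2
  have h31 : w * w₂ ≠ 1 := fun h => hne (by rw [← hwi]; exact (inv_eq_of_mul_eq_one_right h).symm)
  have h3w : w * w₂ ≠ w := fun h => hw21 (mul_left_cancel (h.trans (mul_one w).symm))
  have h3w₂ : w * w₂ ≠ w₂ := fun h => hw1 (mul_right_cancel (h.trans (one_mul w₂).symm))
  let U : Subgroup G :=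
    { carrier := {1, w, w₂, w * w₂}
      one_mem' := by simp
      mul_mem' := by
        have e1 : w * (w * w₂) = w₂ := by rw [← mul_assoc, hw, one_mul]
        have e2 : w * w₂ * w = w₂ := by rw [mul_assoc, ← hc, e1]
        have e3 : w₂ * (w * w₂) = w := by rw [← mul_assoc, ← hc, mul_assoc, hsq2, mul_one]
        have e4 : w * w₂ * w₂ = w := by rw [mul_assoc, hsq2, mul_one]
        have e5 : w * w₂ * (w * w₂) = 1 := by rw [← mul_assoc, e2, hsq2]
        rintro a b (rfl | rfl | rfl | rfl) (rfl | rfl | rfl | rfl) <;>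
          simp [hw, hsq2, hc.symm, e1, e2, e3, e4, e5]
      inv_mem' := by
        have e6 : (w * w₂)⁻¹ = w * w₂ := by rw [mul_inv_rev, hwi, hw2i, hc]
        rintro a (rfl | rfl | rfl | rfl) <;> simp [hwi, hw2i, e6] }
  have memU : ∀ {a : G}, a ∈ U ↔ (a = 1 ∨ a = w ∨ a = w₂ ∨ a = w * w₂) := Iff.rfl
  have hy3 : y * (w * w₂) * y⁻¹ = w := by
    rw [show y * (w * w₂) * y⁻¹ = (y * w * y⁻¹) * (y * w₂ * y⁻¹) by group, hy2, ← hw₂, ← mul_assoc,
      ← hc, mul_assoc, hsq2, mul_one]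
  have hx2' : x * w₂ * x⁻¹ = w * w₂ := by
    have h1 : x * w₂ * x⁻¹ = y⁻¹ * w * y := by
      rw [hw₂, show x * (y * w * y⁻¹) * x⁻¹ = (x * y * x⁻¹) * (x * w * x⁻¹) * (x * y * x⁻¹)⁻¹ by group,
        hinv, hxw, inv_inv]
    rw [h1]
    conv_lhs => rw [← hy3]
    group
  have hx3' : x * (w * w₂) * x⁻¹ = w₂ := by
    rw [show x * (w * w₂) * x⁻¹ = (x * w * x⁻¹) * (x * w₂ * x⁻¹) by group, hxw, hx2', ← mul_assoc, hw, one_mul]
  have hyU : y ∈ normalizer (U : Set G) := mem_normalizer_of_conj_le (by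
    rintro _ ⟨a, ha, rfl⟩
    rcases memU.1 ha with rfl | rfl | rfl | rfl <;>
      simp [memU, MulAut.conj_apply, hy2, hy3, ← hw₂])
  have hxU : x ∈ normalizer (U : Set G) := mem_normalizer_of_conj_le (by
    rintro _ ⟨a, ha, rfl⟩
    rcases memU.1 ha with rfl | rfl | rfl | rfl <;>
      simp [memU, MulAut.conj_apply, hxw, hx2', hx3'])
  have hw3fix : y * (w * w₂) * y⁻¹ ≠ w * w₂ := by rw [hy3]; exact h3w.symm
  have hfree : ∀ a ∈ U, y * a * y⁻¹ = a → a = 1 := by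
    intro a ha h
    rcases memU.1 ha with rfl | rfl | rfl | rfl
    · rfl
    · exact absurd h hne
    · exact absurd (hy2.symm.trans h) h3w₂
    · exact absurd h hw3fix
  have hUn : ∀ {n : G}, n ∈ normalizer (U : Set G) → ∀ a ∈ U, n * a * n⁻¹ ∈ U := fun hn a ha =>
    (Subgroup.mem_normalizer_iff.1 hn a).1 ha
  set N := zpowers y ⊔ zpowers x with hN
  have hxny : x ∈ normalizer (zpowers y : Set G) := mem_normalizer_of_conj_le (by
    rw [MonoidHom.map_zpowers, Subgroup.zpowers_le]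
    show x * y * x⁻¹ ∈ zpowers y
    rw [hinv]
    exact inv_mem (mem_zpowers y))
  have hNy : N ≤ normalizer (zpowers y : Set G) :=
    sup_le Subgroup.le_normalizer (Subgroup.zpowers_le.2 hxny)
  have hNU : N ≤ normalizer (U : Set G) :=
    sup_le (Subgroup.zpowers_le.2 hyU) (Subgroup.zpowers_le.2 hxU)
  obtain ⟨k, hk⟩ := hy
  have hNV : ∀ v ∈ U, v ∈ N → v = 1 := by
    intro v hv hvN
    refine hfree v hv ?_
    have h1 : ⁅v, y⁆ ∈ zpowers y := by
      rw [commutatorElement_def]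
      exact mul_mem ((Subgroup.mem_normalizer_iff.1 (hNy hvN) y).1 (mem_zpowers y)) (inv_mem (mem_zpowers y))
    have h2 : ⁅v, y⁆ ∈ U := by
      rw [commutatorElement_def, mul_assoc, mul_assoc]
      refine mul_mem hv ?_
      rw [← mul_assoc]
      exact hUn hyU _ (inv_mem hv)
    have h2' : ⁅v, y⁆ ^ 2 = 1 := by
      rcases memU.1 h2 with h | h | h | h <;> rw [h, pow_two]
      · rw [one_mul]
      · exact hw
      · exact hsq2
      · rw [mul_assoc, ← mul_assoc w₂ w, ← hc, mul_assoc w w₂, hsq2, mul_one, hw]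
    have h3 : ⁅v, y⁆ = 1 := by
      have hd : orderOf ⁅v, y⁆ ∣ 3 ^ k := hk ▸ orderOf_dvd_of_mem_zpowers h1
      have hd2 : orderOf ⁅v, y⁆ ∣ 2 := orderOf_dvd_of_pow_eq_one h2'
      have hco : Nat.Coprime (3 ^ k) 2 := Nat.Coprime.pow_left k (by decide)
      exact orderOf_eq_one_iff.1 (Nat.eq_one_of_dvd_coprimes hco hd hd2)
    rw [commutatorElement_eq_one_iff_mul_comm] at h3
    rw [← h3, mul_inv_cancel_right]
  set X := U ⊔ N with hX
  set N' := N.subgroupOf X with hN'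
  have hU4 : Nat.card U = 4 := by
    rw [show Nat.card U = Nat.card ({1, w, w₂, w * w₂} : Finset G) from
      Nat.card_congr (Equiv.subtypeEquivRight fun a => by simp [memU])]
    rw [Nat.card_eq_fintype_card, Fintype.card_coe, Finset.card_insert_of_notMem,
      Finset.card_insert_of_notMem, Finset.card_insert_of_notMem, Finset.card_singleton]
    · simp [h3w₂.symm]
    · simp [hne.symm, h3w.symm]
    · simp [hw1.symm, hw21.symm, h31.symm]
  have hcardX : Nat.card X = 4 * Nat.card N := by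
    rw [← hU4, ← Nat.card_prod]
    refine (Nat.card_congr (Equiv.ofBijective (fun w => (⟨(w.1 : G) * w.2, Subgroup.mul_mem_sup w.1.2 w.2.2⟩ : X))
      ⟨fun w w' h => Subgroup.mul_injective_of_disjoint
        (Subgroup.disjoint_def.2 fun hv hn => hNV _ hv hn) (congrArg Subtype.val h), ?_⟩)).symm
    rintro ⟨z, hz⟩
    have hz' : z ∈ ((U ⊔ N : Subgroup G) : Set G) := hz
    rw [Subgroup.coe_mul_of_right_le_normalizer_left U N hNU] at hz'
    obtain ⟨v, hv, n, hn, rfl⟩ := hz'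
    exact ⟨(⟨v, hv⟩, ⟨n, hn⟩), rfl⟩
  have hcos : Nat.card (X ⧸ N') = 4 := by
    have h1 := Subgroup.card_mul_index N'
    rw [Nat.card_congr (Subgroup.subgroupOfEquivOfLe (le_sup_right : N ≤ X)).toEquiv, hcardX] at h1
    rw [← Subgroup.index_eq_card]
    exact Nat.eq_of_mul_eq_mul_left (Nat.card_pos (α := N)) (by rw [h1, mul_comm])
  set φ := MulAction.toPermHom X (X ⧸ N') with hφ
  have hker : φ.ker = N'.normalCore := (Subgroup.normalCore_eq_ker N').symm
  have hkerle : ∀ z : X, z ∈ φ.ker → ∀ v ∈ U, (z : G) * v = v * z := by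
    intro z hz v hv
    rw [hker] at hz
    have hzN : (z : G) ∈ N := Subgroup.normalCore_le N' hz
    have h1 : v * (z : G) * v⁻¹ ∈ N :=
      Subgroup.normalCore_le N' ((inferInstance : N'.normalCore.Normal).conj_mem z hz ⟨v, Subgroup.mem_sup_left hv⟩)
    have h2 : ⁅v, (z : G)⁆ ∈ N := by rw [commutatorElement_def]; exact mul_mem h1 (inv_mem hzN)
    have h3 : ⁅v, (z : G)⁆ ∈ U := by
      rw [commutatorElement_def, mul_assoc, mul_assoc]
      refine mul_mem hv ?_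
      rw [← mul_assoc]
      exact hUn (hNU hzN) _ (inv_mem hv)
    exact (commutatorElement_eq_one_iff_mul_comm.1 (hNV _ h3 h2)).symm
  have hy_mem : y ∈ X := Subgroup.mem_sup_right (Subgroup.mem_sup_left (mem_zpowers y))
  have hx_mem : x ∈ X := Subgroup.mem_sup_right (Subgroup.mem_sup_right (mem_zpowers x))
  set ys := φ ⟨y, hy_mem⟩ with hys
  set xs := φ ⟨x, hx_mem⟩ with hxs
  have hnc : ys * xs ≠ xs * ys := by
    intro h
    rw [hys, hxs, ← map_mul, ← map_mul] at h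
    have hk' := hkerle _ (MonoidHom.mem_ker.2 (show φ ((⟨y, hy_mem⟩ * ⟨x, hx_mem⟩ : X) *
      (⟨x, hx_mem⟩ * ⟨y, hy_mem⟩ : X)⁻¹) = 1 by rw [map_mul, map_inv, h, mul_inv_cancel])) w
      (memU.2 (Or.inr (Or.inl rfl)))
    simp only [Subgroup.coe_mul, Subgroup.coe_inv] at hk'
    have e : x * y = y⁻¹ * x := by rw [← hinv, inv_mul_cancel_right]
    rw [e] at hk'
    have e2 : y * x * (y⁻¹ * x)⁻¹ = y * y := by group
    rw [e2] at hk'
    apply h3w
    calc w * w₂ = y * (y * w * y⁻¹) * y⁻¹ := hy2.symm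
      _ = y * y * w * (y * y)⁻¹ := by group
      _ = w := by rw [hk', mul_inv_cancel_right]
  have hR6 : 6 ≤ Nat.card (N'.map φ) := by
    have hyN' : ys ∈ N'.map φ :=
      ⟨_, Subgroup.mem_subgroupOf.2 (show y ∈ N from Subgroup.mem_sup_left (mem_zpowers y)), rfl⟩
    have hxN' : xs ∈ N'.map φ :=
      ⟨_, Subgroup.mem_subgroupOf.2 (show x ∈ N from Subgroup.mem_sup_right (mem_zpowers x)), rfl⟩
    have hord3 : 3 ∣ orderOf ys := by
      have hd : orderOf ys ∣ 3 ^ k := hk ▸ (orderOf_map_dvd φ ⟨y, hy_mem⟩).trans (by rw [Subgroup.orderOf_mk])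
      obtain ⟨i, -, hi⟩ := (Nat.dvd_prime_pow Nat.prime_three).1 hd
      rcases i with _ | i
      · exact absurd (by rw [orderOf_eq_one_iff.1 (hi.trans (pow_zero 3))]; simp) hnc
      · exact hi ▸ dvd_pow_self 3 i.succ_ne_zero
    have hnot : xs ∉ zpowers ys := by
      intro hin
      obtain ⟨j, hj⟩ := Subgroup.mem_zpowers_iff.1 hin
      exact hnc (by rw [← hj]; exact ((Commute.refl ys).zpow_right j).eq)
    have hylt : zpowers ys < N'.map φ :=
      lt_of_le_of_ne (Subgroup.zpowers_le.2 hyN') fun h => hnot (h.ge hxN')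
    have h3 : orderOf ys ∣ Nat.card (N'.map φ) := by
      rw [← Nat.card_zpowers]; exact Subgroup.card_dvd_of_le hylt.le
    have h4 : orderOf ys < Nat.card (N'.map φ) := by
      rw [← Nat.card_zpowers]
      exact lt_of_le_of_ne (Subgroup.card_le_of_le hylt.le) fun h => hylt.ne (Subgroup.eq_of_le_of_card_ge hylt.le h.ge)
    have h5 : 3 ≤ orderOf ys := Nat.le_of_dvd (orderOf_pos ys) hord3
    obtain ⟨m, hm⟩ := h3
    rw [hm] at h4 ⊢
    rcases m with _ | _ | m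
    · simp at h4
    · simp at h4
    · calc (6 : ℕ) = 3 * 2 := rfl
        _ ≤ orderOf ys * (m + 1 + 1) := Nat.mul_le_mul h5 (by omega)
  have : Fintype (X ⧸ N') := Fintype.ofFinite _
  have hsurj : Function.Surjective φ := by
    rw [← MonoidHom.range_eq_top]
    refine Subgroup.eq_top_of_le_card _ ?_
    have h1 : Nat.card φ.range = 4 * Nat.card (N'.map φ) := by
      have hk' : φ.ker ≤ N' := hker ▸ Subgroup.normalCore_le N'
      have e1 := Subgroup.relIndex_mul_index hk'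
      rw [Subgroup.relIndex_ker, Subgroup.index_ker, Subgroup.index_eq_card, hcos, mul_comm] at e1
      exact e1.symm
    rw [h1, Nat.card_perm, hcos]
    calc Nat.factorial 4 = 4 * 6 := rfl
      _ ≤ 4 * Nat.card (N'.map φ) := Nat.mul_le_mul_left 4 hR6
  have e : X ⧸ N' ≃ Fin 4 := Finite.equivFinOfCardEq hcos
  exact CfsgLib.LocalEven.Offender.involves_of_hom X (e.permCongrHom.toMonoidHom.comp φ)
    (e.permCongrHom.surjective.comp hsurj)

/-- An inverted `3`-element acting nontrivially on an elementary abelian `2`-group gives `S₄`. -/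
theorem involves_of_elementary {V : Subgroup G} (hV : IsElementaryAbelian 2 V) {x y : G}
    (hxV : x ∈ normalizer (V : Set G)) (hyV : y ∈ normalizer (V : Set G))
    (hx : ∃ k : ℕ, orderOf x = 2 ^ k) (hy : ∃ k : ℕ, orderOf y = 3 ^ k)
    (hinv : x * y * x⁻¹ = y⁻¹) (hact : ∃ v ∈ V, y * v * y⁻¹ ≠ v) :
    Involves (Equiv.Perm (Fin 4)) G := by
  classical
  have : Fact (Nat.Prime 2) := ⟨Nat.prime_two⟩
  obtain ⟨k, hk⟩ := hy
  let Triv : ℕ → Prop := fun i => ∀ v ∈ V, y ^ 3 ^ i * v * (y ^ 3 ^ i)⁻¹ = v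
  have hex : ∃ i, Triv i := ⟨k, fun v _ => by rw [← hk, pow_orderOf_eq_one]; simp⟩
  have h0 : Nat.find hex ≠ 0 := by
    intro h
    have h0 := Nat.find_spec hex
    rw [h] at h0
    obtain ⟨v, hv, hvC⟩ := hact
    exact hvC (by simpa using h0 v hv)
  obtain ⟨i, hi⟩ := Nat.exists_eq_succ_of_ne_zero h0
  have hsucc : Triv (i + 1) := by simpa [hi] using Nat.find_spec hex
  have hnot : ¬ Triv i := Nat.find_min hex (by omega)
  simp only [Triv, not_forall] at hnot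
  obtain ⟨v, hv, hvne⟩ := hnot
  set z := y ^ 3 ^ i with hz
  have hzV : z ∈ normalizer (V : Set G) := pow_mem hyV _
  have hzinv : x * z * x⁻¹ = z⁻¹ := by rw [hz, ← conj_pow, hinv, inv_pow]
  have hz3 : ∀ a ∈ V, z * (z * (z * a * z⁻¹) * z⁻¹) * z⁻¹ = a := by
    intro a ha
    have h1 := hsucc a ha
    rw [pow_succ, pow_mul, ← hz] at h1
    have e : z * (z * (z * a * z⁻¹) * z⁻¹) * z⁻¹ = z ^ 3 * a * (z ^ 3)⁻¹ := by
      simp [pow_succ, mul_assoc]
    rw [e, h1]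
  have hc : ∀ a ∈ V, ∀ b ∈ V, a * b = b * a := fun a ha b hb =>
    congrArg Subtype.val (hV.1.is_comm.comm ⟨a, ha⟩ ⟨b, hb⟩)
  have hsq : ∀ a ∈ V, a * a = 1 := fun a ha => by rw [← pow_two]; exact hV.2 a ha
  have hzm : ∀ a ∈ V, z * a * z⁻¹ ∈ V := fun a ha => (Subgroup.mem_normalizer_iff.1 hzV a).1 ha
  have hxm : ∀ a ∈ V, x * a * x⁻¹ ∈ V := fun a ha => (Subgroup.mem_normalizer_iff.1 hxV a).1 ha
  let nrm : G → G := fun a => a * (z * a * z⁻¹) * (z * (z * a * z⁻¹) * z⁻¹)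
  have nmul : ∀ a ∈ V, ∀ b ∈ V, nrm (a * b) = nrm a * nrm b := by
    intro a ha b hb
    have e1 : z * (a * b) * z⁻¹ = z * a * z⁻¹ * (z * b * z⁻¹) := by group
    have e2 : z * (z * a * z⁻¹ * (z * b * z⁻¹)) * z⁻¹ =
        z * (z * a * z⁻¹) * z⁻¹ * (z * (z * b * z⁻¹) * z⁻¹) := by group
    show a * b * (z * (a * b) * z⁻¹) * (z * (z * (a * b) * z⁻¹) * z⁻¹) =
      a * (z * a * z⁻¹) * (z * (z * a * z⁻¹) * z⁻¹) * (b * (z * b * z⁻¹) * (z * (z * b * z⁻¹) * z⁻¹))
    rw [e1, e2]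
    set A1 := z * a * z⁻¹ with hA1
    set B1 := z * b * z⁻¹ with hB1
    set A2 := z * A1 * z⁻¹ with hA2
    set B2 := z * B1 * z⁻¹ with hB2
    have m1 : A1 ∈ V := hzm a ha
    have m2 : B1 ∈ V := hzm b hb
    calc a * b * (A1 * B1) * (A2 * B2) = a * (b * A1) * (B1 * A2) * B2 := by group
      _ = a * (A1 * b) * (A2 * B1) * B2 := by rw [hc b hb A1 m1, hc B1 m2 A2 (hzm _ m1)]
      _ = a * A1 * (b * A2) * B1 * B2 := by group
      _ = a * A1 * (A2 * b) * B1 * B2 := by rw [hc b hb A2 (hzm _ m1)]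
      _ = a * A1 * A2 * (b * B1 * B2) := by group
  let N₀ : Subgroup G :=
    { carrier := {a | a ∈ V ∧ nrm a = 1}
      one_mem' := ⟨one_mem V, by simp [nrm]⟩
      mul_mem' := fun {a b} ha hb => ⟨mul_mem ha.1 hb.1, by rw [nmul a ha.1 b hb.1, ha.2, hb.2, one_mul]⟩
      inv_mem' := fun {a} ha => ⟨inv_mem ha.1, by
        have h1 := nmul a ha.1 a⁻¹ (inv_mem ha.1)
        rw [ha.2, one_mul, mul_inv_cancel] at h1
        rw [← h1]; simp [nrm]⟩ }
  have hN0V : N₀ ≤ V := fun a ha => ha.1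
  set u := v * (z * v * z⁻¹) with hu
  have huN : u ∈ N₀ := by
    refine ⟨mul_mem hv (hzm v hv), ?_⟩
    rw [hu, nmul v hv _ (hzm v hv)]
    show v * (z * v * z⁻¹) * (z * (z * v * z⁻¹) * z⁻¹) *
      ((z * v * z⁻¹) * (z * (z * v * z⁻¹) * z⁻¹) * (z * (z * (z * v * z⁻¹) * z⁻¹) * z⁻¹)) = 1
    rw [hz3 v hv, hc (z * v * z⁻¹ * (z * (z * v * z⁻¹) * z⁻¹)) (mul_mem (hzm v hv) (hzm _ (hzm v hv))) v hv]
    simpa only [mul_assoc] using hsq _ (mul_mem (mul_mem hv (hzm v hv)) (hzm _ (hzm v hv)))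
  have hu1 : u ≠ 1 := by
    intro h
    refine hvne ?_
    rw [eq_inv_of_mul_eq_one_right h]
    exact inv_eq_of_mul_eq_one_right (hsq v hv)
  have hxN : x ∈ normalizer (N₀ : Set G) := mem_normalizer_of_conj_le (by
    rintro _ ⟨a, ⟨ha, ha1⟩, rfl⟩
    refine ⟨hxm a ha, ?_⟩
    set b := x * a * x⁻¹ with hb
    show b * (z * b * z⁻¹) * (z * (z * b * z⁻¹) * z⁻¹) = 1
    have e1 : x * (z * (z * a * z⁻¹) * z⁻¹) * x⁻¹ = z * b * z⁻¹ := by
      have h1 := hz3 a ha
      have h2 : z * (z * a * z⁻¹) * z⁻¹ = z⁻¹ * a * z := by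
        conv_rhs => rw [← h1]
        group
      rw [h2, hb, show x * (z⁻¹ * a * z) * x⁻¹ = (x * z * x⁻¹)⁻¹ * (x * a * x⁻¹) * (x * z * x⁻¹) by group,
        hzinv, inv_inv]
    have e2 : x * (z * a * z⁻¹) * x⁻¹ = z * (z * b * z⁻¹) * z⁻¹ := by
      have h1 := hz3 b (hxm a ha)
      have h2 : z * (z * b * z⁻¹) * z⁻¹ = z⁻¹ * b * z := by
        conv_rhs => rw [← h1]
        group
      rw [h2, hb, show x * (z * a * z⁻¹) * x⁻¹ = (x * z * x⁻¹) * (x * a * x⁻¹) * (x * z * x⁻¹)⁻¹ by group,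
        hzinv, inv_inv]
    rw [← e2, ← e1, mul_assoc, hc _ (hxm _ (hzm _ (hzm a ha))) _ (hxm _ (hzm a ha)), hb]
    rw [show x * a * x⁻¹ * (x * (z * a * z⁻¹) * x⁻¹ * (x * (z * (z * a * z⁻¹) * z⁻¹) * x⁻¹)) =
      x * (a * (z * a * z⁻¹) * (z * (z * a * z⁻¹) * z⁻¹)) * x⁻¹ by group]
    rw [show a * (z * a * z⁻¹) * (z * (z * a * z⁻¹) * z⁻¹) = 1 from ha1]
    group)
  have hNp : IsPGroup 2 ↥N₀ := (CfsgLib.PGroup.elemAb_isPGroup hV).to_le hN0V
  let φ : ↥(zpowers x) →* MulAut ↥N₀ :=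
    (Subgroup.normalizerMonoidHom N₀).comp (Subgroup.inclusion (Subgroup.zpowers_le.2 hxN))
  letI : MulAction ↥(zpowers x) ↥N₀ := MulAction.compHom _ φ
  have hxp : IsPGroup 2 ↥(zpowers x) := by
    obtain ⟨l, hl⟩ := hx
    exact IsPGroup.of_card (n := l) (by rw [Nat.card_zpowers, hl])
  have h2N : 2 ∣ Nat.card N₀ := by
    have h1 : orderOf u ∣ Nat.card N₀ := Subgroup.orderOf_dvd_natCard _ huN
    rwa [orderOf_eq_prime (by rw [pow_two]; exact hsq u huN.1) hu1] at h1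
  obtain ⟨⟨w, hwN⟩, hwfix, hwne⟩ := hxp.exists_fixed_point_of_prime_dvd_card_of_fixed_point
    ↥N₀ h2N (a := (1 : N₀)) (fun g => map_one (φ g))
  have hw1 : w ≠ 1 := fun h => hwne (Subtype.ext h.symm)
  have hxw : x * w * x⁻¹ = w := congrArg Subtype.val (hwfix ⟨x, mem_zpowers x⟩)
  have hwV := hN0V hwN
  have hne : z * w * z⁻¹ ≠ w := by
    intro h
    have h1 : w * (z * w * z⁻¹) * (z * (z * w * z⁻¹) * z⁻¹) = 1 := hwN.2
    rw [h, h, hsq w hwV, one_mul] at h1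
    exact hw1 h1
  have hy2 : z * (z * w * z⁻¹) * z⁻¹ = w * (z * w * z⁻¹) := by
    have h1 : w * (z * w * z⁻¹) * (z * (z * w * z⁻¹) * z⁻¹) = 1 := hwN.2
    rw [eq_inv_of_mul_eq_one_right h1]
    exact inv_eq_of_mul_eq_one_right (hsq _ (mul_mem hwV (hzm w hwV)))
  refine involves_of_four hw1 (hsq w hwV) (hc w hwV _ (hzm w hwV)) hy2 hne hxw ?_ hzinv
  obtain ⟨j, -, hj⟩ := (Nat.dvd_prime_pow Nat.prime_three).1 (hk ▸ orderOf_pow_dvd (x := y) (3 ^ i))
  exact ⟨j, hj⟩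

/-- An inverted `3`-element acting nontrivially on a `2`-group gives `S₄`. -/
theorem involves_of_two_group {T : Subgroup G} (hT : IsPGroup 2 ↥T) {x y : G}
    (hxT : x ∈ normalizer (T : Set G)) (hyT : y ∈ normalizer (T : Set G))
    (hx : ∃ k : ℕ, orderOf x = 2 ^ k) (hy : ∃ k : ℕ, orderOf y = 3 ^ k)
    (hinv : x * y * x⁻¹ = y⁻¹) (hact : y ∉ centralizer (T : Set G)) :
    Involves (Equiv.Perm (Fin 4)) G := by
  have : Fact (Nat.Prime 2) := ⟨Nat.prime_two⟩
  set F := (frattini T).map T.subtype with hF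
  set L := normalizer (F : Set G) with hL
  have hTL : T ≤ L := Subgroup.le_normalizer.trans (CfsgLib.LocalEven.ActKer.le_normalizer_frattini T)
  have hxL : x ∈ L := CfsgLib.LocalEven.ActKer.le_normalizer_frattini T hxT
  have hyL : y ∈ L := CfsgLib.LocalEven.ActKer.le_normalizer_frattini T hyT
  obtain ⟨k, hk⟩ := hy
  obtain ⟨t, htT, ht⟩ : ∃ t ∈ T, ⁅y, t⁆ ∉ F := by
    by_contra hall
    push Not at hall
    exact hact (CfsgLib.PStab.mem_centralizer_of_frattini hT hyT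
      (by rw [hk]; exact Nat.Coprime.pow_left k (by decide)) hall)
  have hFL : F ≤ L := Subgroup.le_normalizer
  set F' := F.subgroupOf L with hF'
  have : F'.Normal := Subgroup.normal_in_normalizer
  set π := QuotientGroup.mk' F' with hπ
  set V := (T.subgroupOf L).map π with hVdef
  have hπF : ∀ a : L, π a = 1 ↔ (a : G) ∈ F := fun a => QuotientGroup.eq_one_iff a
  have hV : IsElementaryAbelian 2 V := by
    refine CfsgLib.PGroup.isElementaryAbelian_mk ?_ ?_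
    · rintro _ ⟨a, ha, rfl⟩ _ ⟨b, hb, rfl⟩
      rw [← commutatorElement_eq_one_iff_mul_comm, ← map_commutatorElement, hπF]
      exact ⟨⁅⟨(a : G), ha⟩, ⟨(b : G), hb⟩⁆, CfsgLib.PGroup.commutator_le_frattini hT
        (Subgroup.commutator_mem_commutator (Subgroup.mem_top _) (Subgroup.mem_top _)), rfl⟩
    · rintro _ ⟨a, ha, rfl⟩
      rw [← map_pow, hπF]
      exact ⟨⟨(a : G), ha⟩ ^ 2, CfsgLib.PGroup.pow_mem_frattini hT _, rfl⟩
  have hnorm : ∀ (g : L), (g : G) ∈ normalizer (T : Set G) → π g ∈ normalizer (V : Set (L ⧸ F')) := by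
    intro g hg
    refine mem_normalizer_of_conj_le ?_
    rintro _ ⟨_, ⟨a, ha, rfl⟩, rfl⟩
    exact ⟨g * a * g⁻¹, (Subgroup.mem_normalizer_iff.1 hg (a : G)).1 ha, by simp [MulAut.conj_apply]⟩
  have hord : ∀ (q : ℕ), q.Prime → ∀ g : L, (∃ j : ℕ, orderOf (g : G) = q ^ j) →
      ∃ j : ℕ, orderOf (π g) = q ^ j := by
    intro q hq g ⟨j, hj⟩
    obtain ⟨i, -, hi⟩ := (Nat.dvd_prime_pow hq).1
      ((orderOf_map_dvd π g).trans (dvd_of_eq ((Subgroup.orderOf_coe g).symm.trans hj)))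
    exact ⟨i, hi⟩
  have h := involves_of_elementary hV (hnorm ⟨x, hxL⟩ hxT) (hnorm ⟨y, hyL⟩ hyT)
    (hord 2 Nat.prime_two ⟨x, hxL⟩ hx) (hord 3 Nat.prime_three ⟨y, hyL⟩ ⟨k, hk⟩)
    (by rw [← map_inv, ← map_mul, ← map_mul, ← map_inv]; exact congrArg π (Subtype.ext hinv))
    ⟨π ⟨t, hTL htT⟩, ⟨_, htT, rfl⟩, fun h => ht ((hπF ⁅(⟨y, hyL⟩ : L), (⟨t, hTL htT⟩ : L)⁆).1 (by
      rw [map_commutatorElement, commutatorElement_def, h, mul_inv_cancel]))⟩
  exact CfsgLib.LocalEven.Offender.involves_of_injective L.subtype L.subtype_injective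
    (CfsgLib.LocalEven.Offender.involves_of_surjective π (QuotientGroup.mk'_surjective F') h)

end CfsgLib.LocalEven.S4Crit
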