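import Cfsg.Prelude.Def_IsolatedElements
import Cfsg.Agent.Lib.LocalEven.Basic

/-!
Elementary properties of isolated `p`-elements.
-/

namespace CfsgLib.LocalEven

open Subgroup

variable {G : Type*} [Group G] {p : ℕ}

theorem conj_zpowers (g x : G) :
    (Subgroup.zpowers x).map (MulAut.conj g).toMonoidHom = Subgroup.zpowers (g * x * g⁻¹) := by
  rw [MonoidHom.map_zpowers]; rfl

/-- Any two `p`-subgroups of `X` lie, after conjugating the second one in `X`, in a common `p`-subgroup. -/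
theorem exists_conj_common_pGroup [Finite G] [Fact p.Prime] {X R₁ R₂ : Subgroup G}
    (h₁ : R₁ ≤ X) (h₂ : R₂ ≤ X) (hp₁ : IsPGroup p ↥R₁) (hp₂ : IsPGroup p ↥R₂) :
    ∃ c ∈ X, ∃ R : Subgroup G, IsPGroup p ↥R ∧ R ≤ X ∧ R₁ ≤ R ∧
      R₂.map (MulAut.conj c).toMonoidHom ≤ R := by
  obtain ⟨P₁, hP₁⟩ := (hp₁.of_equiv (Subgroup.subgroupOfEquivOfLe h₁).symm).exists_le_sylow
  obtain ⟨P₂, hP₂⟩ := (hp₂.of_equiv (Subgroup.subgroupOfEquivOfLe h₂).symm).exists_le_sylow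
  obtain ⟨c, hc⟩ := MulAction.exists_smul_eq ↥X P₂ P₁
  refine ⟨c, c.2, (P₁ : Subgroup ↥X).map X.subtype, P₁.2.map _, Subgroup.map_subtype_le _, ?_, ?_⟩
  · intro y hy
    exact ⟨⟨y, h₁ hy⟩, hP₁ hy, rfl⟩
  · rintro _ ⟨y, hy, rfl⟩
    refine ⟨c * ⟨y, h₂ hy⟩ * c⁻¹, ?_, by simp⟩
    rw [← hc]
    exact ⟨⟨y, h₂ hy⟩, hP₂ hy, by simp⟩

theorem isolated_pGroup_le_centralizer [Finite G] [Fact p.Prime] {x : G} (hiso : Cfsg.IsIsolated x)
    {R : Subgroup G} (hR : IsPGroup p ↥R) (hx : x ∈ R) :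
    R ≤ Subgroup.centralizer ({x} : Set G) := by
  have hD : R ⊓ Subgroup.centralizer ({x} : Set G) = R := by
    refine eq_of_inf_normalizer_le hR inf_le_left ?_
    rintro n ⟨hnR, hn⟩
    refine ⟨hnR, Subgroup.mem_centralizer_singleton_iff.2 ?_⟩
    have hxD : x ∈ R ⊓ Subgroup.centralizer ({x} : Set G) :=
      ⟨hx, Subgroup.mem_centralizer_singleton_iff.2 rfl⟩
    have h1 := conj_mem_of_mem_normalizer hn hxD
    have h2 := Subgroup.mem_centralizer_singleton_iff.1 h1.2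
    have h3 := hiso n h2.symm
    exact mul_inv_eq_iff_eq_mul.1 h3
  exact hD ▸ inf_le_right

theorem isolated_eq_of_mem_pGroup [Finite G] [Fact p.Prime] {x g : G} (hiso : Cfsg.IsIsolated x)
    {R : Subgroup G} (hR : IsPGroup p ↥R) (hx : x ∈ R) (hg : g * x * g⁻¹ ∈ R) :
    g * x * g⁻¹ = x :=
  hiso g (Subgroup.mem_centralizer_singleton_iff.1 (isolated_pGroup_le_centralizer hiso hR hx hg)).symm

theorem isPGroup_zpowers {x : G} (hx : ∃ k : ℕ, orderOf x = p ^ k) :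
    IsPGroup p ↥(Subgroup.zpowers x) := by
  obtain ⟨k, hk⟩ := hx
  exact IsPGroup.of_card (n := k) (by rw [Nat.card_zpowers, hk])

/-- Two conjugates of an isolated `p`-element in `X` are conjugate under `X`. -/
theorem isolated_exists_conj [Finite G] [Fact p.Prime] {x g : G} (hiso : Cfsg.IsIsolated x)
    (hx : ∃ k : ℕ, orderOf x = p ^ k) {X : Subgroup G} (hxX : x ∈ X) (hgX : g * x * g⁻¹ ∈ X) :
    ∃ c ∈ X, c * g * x = x * (c * g) := by
  obtain ⟨c, hc, R, hR, -, h1, h2⟩ := exists_conj_common_pGroup (p := p)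
    (Subgroup.zpowers_le.2 hxX) (Subgroup.zpowers_le.2 hgX) (isPGroup_zpowers hx)
    (by rw [← conj_zpowers]; exact (isPGroup_zpowers hx).map _)
  rw [conj_zpowers, Subgroup.zpowers_le] at h2
  rw [Subgroup.zpowers_le] at h1
  have h3 : c * g * x * (c * g)⁻¹ ∈ R := by simpa [mul_assoc] using h2
  exact ⟨c, hc, mul_inv_eq_iff_eq_mul.1 (isolated_eq_of_mem_pGroup hiso hR h1 h3)⟩

theorem isolated_normalizer_le [Finite G] [Fact p.Prime] {x : G} (hiso : Cfsg.IsIsolated x)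
    {R : Subgroup G} (hR : IsPGroup p ↥R) (hx : x ∈ R) :
    Subgroup.normalizer (R : Set G) ≤ Subgroup.centralizer ({x} : Set G) := by
  intro g hg
  exact Subgroup.mem_centralizer_singleton_iff.2
    (mul_inv_eq_iff_eq_mul.1 (isolated_eq_of_mem_pGroup hiso hR hx (conj_mem_of_mem_normalizer hg hx)))

end CfsgLib.LocalEven
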