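import Mathlib
import Cfsg.Prelude.Def_IsolatedElements
import Cfsg.Prelude.Def_CaseTheorems
import Cfsg.Agent.Lib.LocalEven.Isolated
import Cfsg.Agent.Lib.Cores.Components
import Cfsg.Agent.Lib.Cores.Layer
import Cfsg.Agent.Lib.Cores.Fitting
import Cfsg.Agent.Lib.Local.CharP
import Cfsg.Agent.Lib.Transfer.Frobenius
import Cfsg.Agent.Lib.Transfer.Critical
import Cfsg.Agent.Lib.Solvable.UniqueSubgroup
import Cfsg.Agent.S2970

/-!
Isolated elements of order `p` in groups of `p`-rank at most two, `p` odd.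
-/

set_option autoImplicit false

namespace CfsgLib.LocalEven

open Subgroup Cfsg

variable {G : Type*} [Group G] [Finite G] {p : ℕ} [Fact p.Prime]

omit [Finite G] in
theorem orderOf_eq_prime_of_ne {a : G} (ha : a ^ p = 1) (h1 : a ≠ 1) : orderOf a = p :=
  orderOf_eq_prime ha h1

theorem card_closure_pair_le (hrank : PRankLE p 2 G) {s : Set G}
    (hc : ∀ a ∈ s, ∀ b ∈ s, a * b = b * a) (hp : ∀ a ∈ s, a ^ p = 1) :
    Nat.card ↥(closure s) ≤ p ^ 2 ∧ IsPGroup p ↥(closure s) := by
  haveI : IsMulCommutative ↥(closure s) := isMulCommutative_closure hc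
  have hpow : ∀ a ∈ closure s, a ^ p = 1 := by
    intro a ha
    have : ∀ u : ↥(closure s), u ^ p = 1 := by
      intro u
      obtain ⟨u, hu⟩ := u
      induction hu using closure_induction with
      | mem y hy => exact Subtype.ext (hp y hy)
      | one => exact one_pow p
      | mul y z hy hz iy iz =>
        have : (⟨y * z, mul_mem hy hz⟩ : ↥(closure s)) = ⟨y, hy⟩ * ⟨z, hz⟩ := rfl
        rw [this, (Std.Commutative.comm (op := (· * ·)) (⟨y, hy⟩ : ↥(closure s)) ⟨z, hz⟩ |> fun h => (h : Commute _ _)).mul_pow, iy, iz, one_mul]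
      | inv y hy iy =>
        have : (⟨y⁻¹, inv_mem hy⟩ : ↥(closure s)) = ⟨y, hy⟩⁻¹ := rfl
        rw [this, inv_pow, iy, inv_one]
    exact congrArg Subtype.val (this ⟨a, ha⟩)
  refine ⟨hrank _ inferInstance hpow, fun a => ⟨1, ?_⟩⟩
  rw [pow_one]; exact Subtype.ext (hpow a a.2)

/-- In `p`-rank two, two independent commuting elements of order `p` span every third one. -/
theorem mem_closure_pair_of_rank (hrank : PRankLE p 2 G) {a b c : G} (ha : orderOf a = p)
    (hb : orderOf b = p) (hba : b ∉ zpowers a) (hc : c ^ p = 1) (hab : Commute a b)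
    (hac : Commute a c) (hbc : Commute b c) : c ∈ closure ({a, b} : Set G) := by
  have hp := (Fact.out : p.Prime)
  have hsub : closure ({a, b} : Set G) ≤ closure ({a, b, c} : Set G) := closure_mono (by simp [Set.insert_subset_iff])
  obtain ⟨h1, h2⟩ := card_closure_pair_le hrank (s := ({a, b, c} : Set G)) (by
      rintro u (rfl | rfl | rfl) v (rfl | rfl | rfl) <;>
        first | rfl | exact hab.eq | exact hab.symm.eq | exact hac.eq | exact hac.symm.eq | exact hbc.eq | exact hbc.symm.eq)
    (by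
      rintro u (rfl | rfl | rfl)
      · exact orderOf_dvd_iff_pow_eq_one.1 ha.dvd
      · exact orderOf_dvd_iff_pow_eq_one.1 hb.dvd
      · exact hc)
  obtain ⟨k, hk⟩ := IsPGroup.iff_card.1 (h2.to_le hsub)
  have hlt : zpowers a < closure ({a, b} : Set G) := lt_of_le_of_ne
    (zpowers_le.2 (subset_closure (by simp))) fun e => hba (e ▸ subset_closure (by simp))
  have h3 : p < Nat.card ↥(closure ({a, b} : Set G)) := by
    refine lt_of_le_of_ne (by rw [← ha, ← Nat.card_zpowers]; exact card_le_of_le hlt.le) fun e => ?_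
    exact hlt.ne (eq_of_le_of_card_ge hlt.le (by rw [Nat.card_zpowers, ha, e]))
  have h4 : p ^ 2 ≤ Nat.card ↥(closure ({a, b} : Set G)) := by
    rw [hk] at h3 ⊢
    refine Nat.pow_le_pow_right hp.pos ?_
    by_contra hlt2
    interval_cases k
    · simp only [pow_zero] at h3; exact absurd h3 (not_lt.2 hp.one_lt.le)
    · simp at h3
  rw [eq_of_le_of_card_ge hsub (h1.trans h4)]
  exact subset_closure (by simp)

omit [Finite G] [Fact p.Prime] in
theorem isIsolated_conj {x : G} (hiso : IsIsolated x) (h : G) : IsIsolated (h * x * h⁻¹) := by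
  intro g hg
  have h1 := hiso (h⁻¹ * g * h) (by
    have := hg.map (MulAut.conj h⁻¹).toMonoidHom
    simp only [MulEquiv.coe_toMonoidHom, MulAut.conj_apply, inv_inv] at this
    simpa [mul_assoc] using this)
  calc g * (h * x * h⁻¹) * g⁻¹ = h * (h⁻¹ * g * h * x * (h⁻¹ * g * h)⁻¹) * h⁻¹ := by group
    _ = h * x * h⁻¹ := by rw [h1]

/-- Every `p`-subgroup lies with a conjugate of `x` in a common `p`-subgroup centralised by that conjugate. -/
theorem exists_conj_central {x : G} (hiso : IsIsolated x) (hx : orderOf x = p) {R : Subgroup G}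
    (hR : IsPGroup p ↥R) :
    ∃ h : G, ∃ S : Subgroup G, IsPGroup p ↥S ∧ R ≤ S ∧ h * x * h⁻¹ ∈ S ∧
      ∀ s ∈ S, Commute (h * x * h⁻¹) s := by
  obtain ⟨c, -, S, hS, -, h1, h2⟩ := exists_conj_common_pGroup (p := p) (X := (⊤ : Subgroup G))
    le_top le_top hR (isPGroup_zpowers ⟨1, by rw [hx, pow_one]⟩)
  rw [conj_zpowers, zpowers_le] at h2
  exact ⟨c, S, hS, h1, h2, fun s hs =>
    (mem_centralizer_singleton_iff.1 (isolated_pGroup_le_centralizer (isIsolated_conj hiso c) hS h2 hs)).symm⟩

theorem mem_center_of_mem_normal_pGroup {x : G} (hiso : IsIsolated x) {Q : Subgroup G} [Q.Normal]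
    (hQ : IsPGroup p ↥Q) (hx : x ∈ Q) : x ∈ center G := by
  refine mem_center_iff.2 fun g => ?_
  exact mul_inv_eq_iff_eq_mul.1 (isolated_eq_of_mem_pGroup hiso hQ hx ((inferInstance : Q.Normal).conj_mem x hx g))

/-- `O_p(G) = 1`. -/
theorem pCore_eq_bot_of_isolated_rank_two (hp2 : p ≠ 2) (hcore : pPrimeCore p G = ⊥)
    (hrank : PRankLE p 2 G) {x : G} (hx : orderOf x = p) (hiso : IsIsolated x)
    (hnc : x ∉ center G) : pCore p G = ⊥ := by
  classical
  have hp := (Fact.out : p.Prime)
  have hxp : ∃ k : ℕ, orderOf x = p ^ k := ⟨1, by rw [hx, pow_one]⟩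
  by_contra hne
  haveI := CfsgLib.Cores.pCore_characteristic (G := G) p
  set Q := pCore p G with hQdef
  have hQ : IsPGroup p ↥Q := CfsgLib.Cores.isPGroup_pCore p
  have hxQ : x ∉ Q := fun h => hnc (mem_center_of_mem_normal_pGroup hiso hQ h)
  set C := centralizer (Q : Set G) with hCdef
  haveI : C.Normal := normal_centralizer
  obtain ⟨P, hP⟩ := (isPGroup_zpowers hxp).exists_le_sylow
  have hxP : x ∈ (P : Subgroup G) := hP (mem_zpowers x)
  have hQP : Q ≤ (P : Subgroup G) := CfsgLib.Cores.pCore_le_sylow P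
  have hxC : x ∈ C := by
    refine mem_centralizer_iff.2 fun q hq => ?_
    exact mem_centralizer_singleton_iff.1 (isolated_pGroup_le_centralizer hiso P.2 hxP (hQP hq))
  -- a central element of `P` of order `p` in `Q`
  haveI : (Q.subgroupOf (P : Subgroup G)).Normal := inferInstance
  obtain ⟨z, hz, hzo⟩ := CfsgLib.PGroup.exists_orderOf_eq (p := p) P.2
    (CfsgLib.PGroup.inf_center_ne_bot (p := p) P.2 (Q.subgroupOf (P : Subgroup G)) (by
      rw [Ne, subgroupOf_eq_bot, disjoint_iff, inf_eq_left.2 hQP]; exact hne))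
  rw [← orderOf_coe] at hzo
  have hzQ : (z : G) ∈ Q := hz.1
  have hfc : CfsgLib.Transfer.FrobeniusCond p ↥C := by
    intro R hR g hg hgc
    set R₀ := R.map C.subtype with hR₀
    have hR₀C : R₀ ≤ C := map_subtype_le _
    have hzR : ∀ r ∈ R₀, Commute (z : G) r := fun r hr => mem_centralizer_iff.1 (hR₀C hr) _ hzQ
    set R' := R₀ ⊔ zpowers (z : G) with hR'def
    have hzpg : IsPGroup p ↥(zpowers (z : G)) := isPGroup_zpowers ⟨1, by rw [hzo, pow_one]⟩
    have hR' : IsPGroup p ↥R' := (hR.map C.subtype).to_sup_of_normal_right' hzpg (by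
      intro r hr
      rw [mem_normalizer_iff]
      intro y
      constructor
      · intro hy
        obtain ⟨i, rfl⟩ := hy
        rw [← ((hzR r hr).zpow_left i).eq, mul_inv_cancel_right]
        exact zpow_mem (mem_zpowers _) i
      · rintro ⟨i, hi⟩
        have hi' : (z : G) ^ i = r * y * r⁻¹ := hi
        have : y = r⁻¹ * (z : G) ^ i * r := by rw [hi']; group
        rw [this, mul_assoc, ((hzR r hr).zpow_left i).eq, inv_mul_cancel_left]
        exact zpow_mem (mem_zpowers _) i)
    have hzR' : (z : G) ∈ R' := mem_sup_right (mem_zpowers _)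
    have hgz : Commute (g : G) (z : G) := (mem_centralizer_iff.1 g.2 _ hzQ).symm
    have hzcen : ∀ r ∈ R', Commute (z : G) r := by
      intro r hr
      have : R' ≤ centralizer ({(z : G)} : Set G) := sup_le
        (fun r hr => mem_centralizer_singleton_iff.2 (hzR r hr).symm.eq)
        (zpowers_le.2 (mem_centralizer_singleton_iff.2 rfl))
      exact (mem_centralizer_singleton_iff.1 (this hr)).symm
    have hgR' : (g : G) ∈ normalizer (R' : Set G) := by
      have hconj : ∀ y : ↥C, y ∈ normalizer (R : Set ↥C) → R'.map (MulAut.conj (y : G)).toMonoidHom ≤ R' := by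
        intro y hy
        rw [hR'def, Subgroup.map_sup]
        refine sup_le_sup ?_ ?_
        · rintro _ ⟨_, ⟨r, hr, rfl⟩, rfl⟩
          exact ⟨y * r * y⁻¹, (mem_normalizer_iff.1 hy r).1 hr, rfl⟩
        · rw [conj_zpowers, show (y : G) * z * (y : G)⁻¹ = z by
            rw [← mem_centralizer_iff.1 y.2 _ hzQ, mul_inv_cancel_right]]
      rw [mem_normalizer_iff]
      intro y
      refine ⟨fun hy => hconj g hg ⟨y, hy, rfl⟩, fun hy => ?_⟩
      have := hconj g⁻¹ (inv_mem hg) ⟨_, hy, rfl⟩
      simpa [mul_assoc] using this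
    -- a Sylow subgroup above `R'` and `Q`
    obtain ⟨h, S, hS, hle, hxS, hcen⟩ := exists_conj_central hiso hx
      (R := R' ⊔ Q) (hR'.to_sup_of_normal_right hQ)
    set y := h * x * h⁻¹ with hy
    have hyo : orderOf y = p := by
      rw [hy, ← MulAut.conj_apply, MulEquiv.orderOf_eq, hx]
    have hzy : y ∉ zpowers (z : G) := fun hmem => by
      have : y ∈ Q := zpowers_le.2 hzQ hmem
      exact hxQ (by simpa [hy, mul_assoc] using (inferInstance : Q.Normal).conj_mem _ this h⁻¹)
    have hspan : ∀ a ∈ R', a ^ p = 1 → a ∈ closure ({(z : G), y} : Set G) := fun a ha hap =>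
      mem_closure_pair_of_rank hrank hzo hyo hzy hap
        (hcen _ (hle (mem_sup_left hzR'))).symm (hzcen a ha) (hcen a (hle (mem_sup_left ha)))
    have hgfix : ∀ a ∈ R', a ^ p = 1 → (g : G) * a * (g : G)⁻¹ = a := by
      intro a ha hap
      by_cases hyR : y ∈ R'
      · have hgy : (g : G) * y * (g : G)⁻¹ = y := by
          refine isolated_eq_of_mem_pGroup (isIsolated_conj hiso h) hR' hyR ?_
          exact (mem_normalizer_iff.1 hgR' y).1 hyR
        have : closure ({(z : G), y} : Set G) ≤ centralizer ({(g : G)} : Set G) := by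
          rw [closure_le]
          rintro u (rfl | rfl)
          · exact mem_centralizer_singleton_iff.2 hgz.eq.symm
          · exact mem_centralizer_singleton_iff.2 (mul_inv_eq_iff_eq_mul.1 hgy).symm
        exact mul_inv_eq_iff_eq_mul.2 (mem_centralizer_singleton_iff.1 (this (hspan a ha hap))).symm
      · -- only the powers of `z`
        have hA := card_closure_pair_le hrank (s := ({(z : G), y} : Set G)) (by
          rintro u (rfl | rfl) v (rfl | rfl) <;>
            first | rfl | exact (hcen _ (hle (mem_sup_left hzR'))).eq | exact (hcen _ (hle (mem_sup_left hzR'))).symm.eq) (by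
          rintro u (rfl | rfl)
          · exact orderOf_dvd_iff_pow_eq_one.1 hzo.dvd
          · exact orderOf_dvd_iff_pow_eq_one.1 hyo.dvd)
        set A := R' ⊓ closure ({(z : G), y} : Set G) with hAdef
        obtain ⟨k, hk⟩ := IsPGroup.iff_card.1 (hA.2.to_le (inf_le_right : A ≤ _))
        have hAlt : Nat.card ↥A < p ^ 2 := by
          refine lt_of_le_of_ne ((card_le_of_le inf_le_right).trans hA.1) fun e => hyR ?_
          have : A = closure ({(z : G), y} : Set G) :=
            eq_of_le_of_card_ge inf_le_right (by rw [e]; exact hA.1)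
          have hmem : y ∈ A := by rw [this]; exact subset_closure (by simp)
          exact hmem.1
        rw [hk] at hAlt
        have hk1 : k < 2 := (Nat.pow_lt_pow_iff_right hp.one_lt).1 hAlt
        have hzA : zpowers (z : G) ≤ A := zpowers_le.2 ⟨hzR', subset_closure (by simp)⟩
        have hAz : zpowers (z : G) = A := eq_of_le_of_card_ge hzA (by
          rw [Nat.card_zpowers, hzo, hk]
          calc p ^ k ≤ p ^ 1 := Nat.pow_le_pow_right hp.pos (by omega)
            _ = p := pow_one p)
        have : a ∈ zpowers (z : G) := by rw [hAz]; exact ⟨ha, hspan a ha hap⟩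
        obtain ⟨i, rfl⟩ := this
        show (g : G) * (z : G) ^ i * (g : G)⁻¹ = (z : G) ^ i
        rw [(hgz.zpow_right i).eq, mul_inv_cancel_right]
    -- hence `g` centralises `R'`
    set α : MulAut ↥R' := normalizerMonoidHom R' ⟨(g : G), hgR'⟩ with hα
    have hαone : α = 1 := by
      refine CfsgLib.Transfer.aut_eq_one_of_fix_omega hp2 hR' α ?_ fun a ha => ?_
      · refine Nat.Coprime.coprime_dvd_left (orderOf_map_dvd _ _) ?_
        rw [orderOf_mk, orderOf_coe]; exact hgc
      · exact Subtype.ext (hgfix a a.2 (by simpa using congrArg Subtype.val ha))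
    refine mem_centralizer_iff.2 fun r hr => Subtype.ext ?_
    have h1 : (α ⟨(r : G), mem_sup_left ⟨r, hr, rfl⟩⟩ : G) = r := by rw [hαone]; rfl
    have h2 : (g : G) * r * (g : G)⁻¹ = r := h1
    exact (mul_inv_eq_iff_eq_mul.1 h2).symm
  obtain ⟨N, hN, hNc, k, hk⟩ := CfsgLib.Transfer.hasNormalPComplement_iff.1
    (CfsgLib.Transfer.hasNormalPComplement_of_frobeniusCond hfc)
  have hN1 : N = ⊥ := le_bot_iff.1 (CfsgLib.Local.pPrimeCore_eq_bot_of_isSubnormal
    (Subgroup.Normal.isSubnormal (inferInstance : C.Normal)) hcore ▸ CfsgLib.Cores.le_pPrimeCore hNc)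
  have hCp : IsPGroup p ↥C := IsPGroup.of_card (n := k) (by rw [← hk, hN1, index_bot])
  exact hxQ (CfsgLib.Cores.le_pCore hCp hxC)

theorem fittingSubgroup_eq_bot_of_isolated_rank_two (hp2 : p ≠ 2) (hcore : pPrimeCore p G = ⊥)
    (hrank : PRankLE p 2 G) {x : G} (hx : orderOf x = p) (hiso : IsIsolated x)
    (hnc : x ∉ center G) : fittingSubgroup G = ⊥ := by
  rw [CfsgLib.Cores.fittingSubgroup_eq_bot_iff_pCore]
  intro q hq
  rcases eq_or_ne q p with rfl | hne
  · exact pCore_eq_bot_of_isolated_rank_two hp2 hcore hrank hx hiso hnc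
  haveI := Fact.mk hq
  haveI := CfsgLib.Cores.pCore_characteristic (G := G) q
  refine le_bot_iff.1 (hcore ▸ CfsgLib.Cores.le_pPrimeCore ?_)
  obtain ⟨n, hn⟩ := (CfsgLib.Cores.isPGroup_pCore q (G := G)).exists_card_eq
  rw [hn]
  exact ((Nat.coprime_primes hq (Fact.out : p.Prime)).2 hne).pow_left n

/-- Two components, one of which has cyclic Sylow subgroups, cannot share an isolated element. -/
theorem false_of_product_isolated {K : Subgroup G} (hK : IsComponent K) (hKp : p ∣ Nat.card ↥K)
    (hKz : center ↥K = ⊥) {x a b : G} (hiso : IsIsolated x) (hx : x = a * b) (ha : a ∈ K)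
    (ha1 : a ≠ 1) (hap : a ^ p = 1) (hb : ∀ k ∈ K, Commute k b)
    (hcyc : ∀ S : Sylow p ↥K, IsCyclic ↥(S : Subgroup ↥K)) : False := by
  have hp := (Fact.out : p.Prime)
  set α : ↥K := ⟨a, ha⟩ with hα
  have hαo : orderOf α = p := by rw [hα, orderOf_mk, orderOf_eq_prime hap ha1]
  have hisoK : IsIsolated α := by
    intro k hk
    have hk' : Commute a ((k : G) * a * (k : G)⁻¹) := congrArg Subtype.val hk.eq
    have e : (k : G) * x * (k : G)⁻¹ = (k : G) * a * (k : G)⁻¹ * b := by
      rw [hx, show (k : G) * (a * b) * (k : G)⁻¹ = (k : G) * a * (b * (k : G)⁻¹) by group,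
        ← (hb _ (inv_mem k.2)).eq, ← mul_assoc]
    have h1 := hiso k (by
      rw [e, hx]
      exact (hk'.mul_right (hb a ha)).mul_left
        ((hb _ (mul_mem (mul_mem k.2 ha) (inv_mem k.2))).symm.mul_right (Commute.refl b)))
    rw [e, hx] at h1
    exact Subtype.ext (mul_right_cancel h1)
  obtain ⟨N, hN, hNc, k, hk⟩ := CfsgLib.Transfer.hasNormalPComplement_iff.1
    ((Cfsg.Agent.S2970.result α ⟨1, by rw [hαo, pow_one]⟩ hisoK).2 (fun h => by
      rw [h, orderOf_one] at hαo; exact hp.ne_one hαo.symm) hcyc)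
  rcases CfsgLib.Cores.normal_eq_top_or_le_center_of_isQuasisimple hK.2 N with h | h
  · rw [h, card_top] at hNc
    exact (CfsgLib.Cores.coprime_iff_not_dvd hp _).1 hNc hKp
  · rw [hKz, le_bot_iff] at h
    rw [h, index_bot] at hk
    have : IsPGroup p ↥K := IsPGroup.of_card hk
    exact CfsgLib.Cores.center_eq_top_of_isNilpotent_quasisimple hK.2 this.isNilpotent

theorem fStar_simple_of_isolated_rank_two (hp2 : p ≠ 2) (hcore : pPrimeCore p G = ⊥)
    (hrank : PRankLE p 2 G) {x : G} (hx : orderOf x = p) (hiso : IsIsolated x)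
    (hnc : x ∉ center G) :
    IsSimpleGroup ↥(generalizedFittingSubgroup G) ∧
      ¬ IsMulCommutative ↥(generalizedFittingSubgroup G) := by
  classical
  have hp := (Fact.out : p.Prime)
  have hF := fittingSubgroup_eq_bot_of_isolated_rank_two hp2 hcore hrank hx hiso hnc
  have hnt : Nontrivial G := ⟨⟨x, 1, fun h => by rw [h, orderOf_one] at hx; exact hp.ne_one hx.symm⟩⟩
  -- components are simple of order divisible by `p`
  have hcen : ∀ K : Subgroup G, IsComponent K → center ↥K = ⊥ := by
    intro K hK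
    have h1 : (center ↥K).map K.subtype ≤ fittingSubgroup G :=
      CfsgLib.Cores.le_fittingSubgroup_of_isSubnormal
        ((Subgroup.Normal.isSubnormal inferInstance).trans' hK.1) (CfsgLib.Cores.isNilpotent_center_map K)
    rw [hF, le_bot_iff, map_eq_bot_iff_of_injective _ K.subtype_injective] at h1
    exact h1
  have hdvd : ∀ K : Subgroup G, IsComponent K → p ∣ Nat.card ↥K := by
    intro K hK
    by_contra hn
    have h1 : pPrimeCore p ↥K = ⊤ := top_le_iff.1 (CfsgLib.Cores.le_pPrimeCore (by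
      rw [card_top]; exact (CfsgLib.Cores.coprime_iff_not_dvd hp _).2 hn))
    have h0 := CfsgLib.Local.pPrimeCore_eq_bot_of_isSubnormal hK.1 hcore
    rw [h1] at h0
    have := CfsgLib.Cores.isQuasisimple_nontrivial hK.2
    exact top_ne_bot h0
  have hcomm : ∀ K L : Subgroup G, IsComponent K → IsComponent L → K ≠ L →
      ∀ k ∈ K, ∀ l ∈ L, Commute k l := by
    intro K L hK hL hne k hk l hl
    have := (commutator_eq_bot_iff_le_centralizer.1 (CfsgLib.Cores.commutator_components_eq_bot hK hL hne)) hk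
    exact (mem_centralizer_iff.1 this l hl).symm
  have hzero : ∀ K L : Subgroup G, IsComponent K → IsComponent L → K ≠ L → ∀ a ∈ K, a ∈ L → a = 1 := by
    intro K L hK hL hne a haK haL
    have h1 : (⟨a, haK⟩ : ↥K) ∈ center ↥K :=
      mem_center_iff.2 fun k => Subtype.ext (hcomm K L hK hL hne k k.2 a haL).eq
    rw [hcen K hK, mem_bot] at h1
    exact congrArg Subtype.val h1
  have hord : ∀ K : Subgroup G, IsComponent K → ∀ S : Sylow p ↥K,
      ∃ a ∈ (S : Subgroup ↥K), orderOf a = p := by
    intro K hK S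
    have hne : (S : Subgroup ↥K) ≠ ⊥ := S.ne_bot_of_dvd_card (hdvd K hK)
    obtain ⟨a, ha⟩ := exists_prime_orderOf_dvd_card' (G := ↥(S : Subgroup ↥K)) p (by
      obtain ⟨m, hm⟩ := IsPGroup.iff_card.1 S.2
      rw [hm]
      exact dvd_pow_self p fun h0 => hne (eq_bot_of_card_eq _ (by rw [hm, h0, pow_zero])))
    exact ⟨a, a.2, by rw [orderOf_coe]; exact ha⟩
  by_cases huniq : ∃ K : Subgroup G, IsComponent K ∧ ∀ L : Subgroup G, IsComponent L → L = K
  · obtain ⟨K, hK, hKu⟩ := huniq
    have hF' : generalizedFittingSubgroup G = K := by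
      rw [generalizedFittingSubgroup, hF, sup_bot_eq]
      exact le_antisymm (CfsgLib.Cores.layer_le_iff.2 fun L hL => (hKu L hL).le)
        (CfsgLib.Cores.component_le_layer hK)
    rw [hF']
    haveI := hK.2.2
    have e : ↥K ≃* ↥K ⧸ center ↥K :=
      (QuotientGroup.quotientBot (G := ↥K)).symm.trans (QuotientGroup.quotientMulEquivOfEq (hcen K hK).symm)
    exact ⟨e.isSimpleGroup_congr.2 inferInstance, fun h =>
      CfsgLib.Cores.center_ne_top_of_isQuasisimple hK.2 (center_eq_top_iff.2 h)⟩
  exfalso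
  push_neg at huniq
  obtain ⟨K, hK⟩ : ∃ K : Subgroup G, IsComponent K := by
    by_contra h
    push_neg at h
    refine CfsgLib.Cores.generalizedFittingSubgroup_ne_bot (G := G) ?_
    rw [generalizedFittingSubgroup, hF, sup_bot_eq, CfsgLib.Cores.layer_eq_bot_iff]
    exact h
  obtain ⟨L, hL, hLK⟩ := huniq K hK
  -- every component has cyclic Sylow subgroups
  have hcyc : ∀ A B : Subgroup G, IsComponent A → IsComponent B → A ≠ B →
      ∀ S : Sylow p ↥A, IsCyclic ↥(S : Subgroup ↥A) := by
    intro A B hA hB hne S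
    obtain ⟨T⟩ := (inferInstance : Nonempty (Sylow p ↥B))
    obtain ⟨c, -, hco⟩ := hord B hB T
    rw [← orderOf_coe] at hco
    have hpair : ∀ u v : ↥A, orderOf u = p → orderOf v = p → Commute u v → v ∈ zpowers u := by
      intro u v hu hv huv
      by_contra hnu
      rw [← orderOf_coe] at hu hv
      have hnu' : (v : G) ∉ zpowers (u : G) := by
        rintro ⟨i, hi⟩
        exact hnu ⟨i, Subtype.ext (by simpa using hi)⟩
      have h1 := mem_closure_pair_of_rank hrank hu hv hnu' (c := (c : G))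
        (orderOf_dvd_iff_pow_eq_one.1 hco.dvd) (congrArg Subtype.val huv.eq)
        (hcomm A B hA hB hne _ u.2 _ c.2) (hcomm A B hA hB hne _ v.2 _ c.2)
      have h2 : (c : G) ∈ A := (closure_le A).2 (by rintro w (rfl | rfl); exacts [u.2, v.2]) h1
      rw [hzero A B hA hB hne _ h2 c.2, orderOf_one] at hco
      exact hp.ne_one hco.symm
    refine (CfsgLib.Solvable.isCyclic_or_quaternion S.2 fun u v hu hv => ?_).resolve_right
      fun h => hp2 h.1
    haveI : Nontrivial ↥(S : Subgroup ↥A) := by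
      refine ⟨⟨u, 1, fun h => ?_⟩⟩; rw [h, orderOf_one] at hu; exact hp.ne_one hu.symm
    have hne' : center ↥(S : Subgroup ↥A) ≠ ⊥ := (nontrivial_iff_ne_bot _).1 S.2.center_nontrivial
    obtain ⟨w, hw, hwo⟩ := CfsgLib.PGroup.exists_orderOf_eq (p := p) S.2 hne'
    have key : ∀ t : ↥(S : Subgroup ↥A), orderOf t = p → zpowers t = zpowers w := by
      intro t ht
      have h1 := hpair (w : ↥A) (t : ↥A) (by rwa [orderOf_coe]) (by rwa [orderOf_coe])
        (congrArg Subtype.val (mem_center_iff.1 hw t).symm)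
      refine eq_of_le_of_card_ge (zpowers_le.2 ?_) (by rw [Nat.card_zpowers, Nat.card_zpowers, ht, hwo])
      obtain ⟨i, hi⟩ := h1
      exact ⟨i, Subtype.ext (by simpa using hi)⟩
    rw [key v hv, ← key u hu]
    exact mem_zpowers u
  obtain ⟨S⟩ := (inferInstance : Nonempty (Sylow p ↥K))
  obtain ⟨T⟩ := (inferInstance : Nonempty (Sylow p ↥L))
  obtain ⟨a, haS, hao⟩ := hord K hK S
  obtain ⟨b, hbT, hbo⟩ := hord L hL T
  rw [← orderOf_coe] at hao hbo
  have hab : Commute (a : G) (b : G) := hcomm K L hK hL hLK.symm _ a.2 _ b.2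
  have hba : (b : G) ∉ zpowers (a : G) := fun h => by
    rw [hzero L K hL hK hLK _ b.2 (zpowers_le.2 a.2 h), orderOf_one] at hbo
    exact hp.ne_one hbo.symm
  obtain ⟨-, hE⟩ := card_closure_pair_le hrank (s := ({(a : G), (b : G)} : Set G)) (by
      rintro u (rfl | rfl) v (rfl | rfl) <;> first | rfl | exact hab.eq | exact hab.symm.eq) (by
      rintro u (rfl | rfl)
      · exact orderOf_dvd_iff_pow_eq_one.1 hao.dvd
      · exact orderOf_dvd_iff_pow_eq_one.1 hbo.dvd)
  obtain ⟨h, P, hP, hle, hxP, hcent⟩ := exists_conj_central hiso hx hE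
  have haP : (a : G) ∈ P := hle (subset_closure (by simp))
  have hbP : (b : G) ∈ P := hle (subset_closure (by simp))
  have hmem := mem_closure_pair_of_rank hrank hao hbo hba (c := h * x * h⁻¹)
    (by rw [← MulAut.conj_apply, ← map_pow, ← hx, pow_orderOf_eq_one, map_one]) hab
    (hcent _ haP).symm (hcent _ hbP).symm
  have hmem' : ∃ i j : ℤ, (a : G) ^ i * (b : G) ^ j = h * x * h⁻¹ := by
    generalize h * x * h⁻¹ = t at hmem ⊢
    induction hmem using closure_induction with
    | mem y hy =>
      rcases hy with rfl | rfl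
      · exact ⟨1, 0, by simp⟩
      · exact ⟨0, 1, by simp⟩
    | one => exact ⟨0, 0, by simp⟩
    | mul y z _ _ hy hz =>
      obtain ⟨i, j, rfl⟩ := hy
      obtain ⟨k, l, rfl⟩ := hz
      exact ⟨i + k, j + l, by
        rw [((hab.zpow_zpow k j).symm).mul_mul_mul_comm, ← zpow_add, ← zpow_add]⟩
    | inv y _ hy =>
      obtain ⟨i, j, rfl⟩ := hy
      exact ⟨-i, -j, by rw [mul_inv_rev, ← zpow_neg, ← zpow_neg, (hab.zpow_zpow (-i) (-j)).eq]⟩
  · obtain ⟨i, j, hij⟩ := hmem'
    have hiso' := isIsolated_conj hiso h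
    have hpowa : ((a : G) ^ i) ^ p = 1 := by
      rw [← zpow_natCast, ← zpow_mul, mul_comm, zpow_mul, zpow_natCast, ← hao, pow_orderOf_eq_one, one_zpow]
    have hpowb : ((b : G) ^ j) ^ p = 1 := by
      rw [← zpow_natCast, ← zpow_mul, mul_comm, zpow_mul, zpow_natCast, ← hbo, pow_orderOf_eq_one, one_zpow]
    by_cases hi : (a : G) ^ i = 1
    · have hj : (b : G) ^ j ≠ 1 := fun hj => by
        rw [hi, hj, one_mul] at hij
        have h1 : x = 1 := by
          have := congrArg (fun t => h⁻¹ * t * h) hij.symm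
          simpa [mul_assoc] using this
        rw [h1, orderOf_one] at hx
        exact hp.ne_one hx.symm
      exact false_of_product_isolated hL (hdvd L hL) (hcen L hL) hiso' (b := (a : G) ^ i)
        (by rw [← hij, hi, one_mul, mul_one]) (zpow_mem b.2 j) hj hpowb
        (fun l hl => hcomm L K hL hK hLK l hl _ (zpow_mem a.2 i)) (hcyc L K hL hK hLK)
    · exact false_of_product_isolated hK (hdvd K hK) (hcen K hK) hiso' hij.symm
        (zpow_mem a.2 i) hi hpowa
        (fun k hk => hcomm K L hK hL hLK.symm k hk _ (zpow_mem b.2 j)) (hcyc K L hK hL hLK.symm)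

end CfsgLib.LocalEven
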