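import Mathlib.GroupTheory.Sylow
import Mathlib.GroupTheory.IsSubnormal
import Mathlib.GroupTheory.QuotientGroup.Basic

/-!
A Sylow subgroup meets a subnormal subgroup in a Sylow subgroup.
-/

namespace CfsgLib.LocalEven

open Subgroup

variable {G : Type*} [Group G] {p : ℕ}

theorem not_dvd_relIndex_inf_of_isSubnormal [Finite G] [Fact p.Prime] (T : Sylow p G) {K : Subgroup G}
    (hK : K.IsSubnormal) : ¬ p ∣ ((T : Subgroup G) ⊓ K).relIndex K := by
  induction hK with
  | top => rw [inf_top_eq, Subgroup.relIndex_top_right]; exact T.not_dvd_index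
  | step A B hAB _ hN ih =>
    intro hd
    apply ih
    refine hd.trans ?_
    have e1 : ((T : Subgroup G) ⊓ A).relIndex A = ((T : Subgroup G) ⊓ B).relIndex A := by
      rw [← Subgroup.inf_relIndex_right ((T : Subgroup G) ⊓ B) A, inf_assoc, inf_eq_right.2 hAB]
    rw [e1, ← Subgroup.relIndex_subgroupOf (H := (T : Subgroup G) ⊓ B) hAB]
    set P := ((T : Subgroup G) ⊓ B).subgroupOf B with hP
    set N := A.subgroupOf B with hNdef
    have h2 : ((T : Subgroup G) ⊓ B).relIndex B = P.index := rfl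
    have h3 : P.relIndex (P ⊔ N) = P.relIndex N := by
      have e : ∀ H L : Subgroup ↥B, Nat.card ↥(H ⊓ L) * H.relIndex L = Nat.card ↥L := fun H L => by
        rw [← Subgroup.inf_relIndex_right, ← Subgroup.relIndex_bot_left,
          Subgroup.relIndex_mul_relIndex ⊥ _ _ bot_le inf_le_right, Subgroup.relIndex_bot_left]
      have h4 := e N (P ⊔ N)
      rw [Subgroup.relIndex_sup_right, inf_eq_left.2 (le_sup_right : N ≤ P ⊔ N)] at h4
      have h5 := e P (P ⊔ N)
      rw [inf_eq_left.2 (le_sup_left : P ≤ P ⊔ N)] at h5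
      have h6 := e P N
      have h7 := e N P
      rw [inf_comm] at h7
      refine Nat.eq_of_mul_eq_mul_left (Nat.card_pos (α := ↥P)) (h5.trans ?_)
      rw [← h4, ← h6, ← h7]
      ring
    rw [h2, ← Subgroup.relIndex_mul_index (le_sup_left : P ≤ P ⊔ N), h3]
    exact Dvd.intro _ rfl

/-- `T ∩ K`, as a Sylow subgroup of the subnormal subgroup `K`. -/
theorem exists_sylow_eq_inf_of_isSubnormal [Finite G] [Fact p.Prime] (T : Sylow p G) {K : Subgroup G}
    (hK : K.IsSubnormal) : ∃ Q : Sylow p ↥K, (Q : Subgroup ↥K) = (T : Subgroup G).subgroupOf K := by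
  refine ⟨IsPGroup.toSylow (T.2.comap_subtype (K := K)) ?_, rfl⟩
  have h := not_dvd_relIndex_inf_of_isSubnormal T hK
  rwa [Subgroup.inf_relIndex_right] at h

end CfsgLib.LocalEven
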