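import Cfsg.Agent.Lib.LocalEven.Averaging
import Cfsg.Agent.Lib.LocalEven.CharP
import Cfsg.Agent.Lib.LocalEven.CoreOf
import Cfsg.Agent.Lib.LocalEven.SubnormalSylow
import Cfsg.Agent.Lib.PGroup.ElemAbelian
import Cfsg.Agent.Lib.PGroup.Basic

/-!
`Ω₁(Z(S))` of a subgroup, and Kieler's Lemma for groups of characteristic `p`.
-/

set_option autoImplicit false

namespace CfsgLib.LocalEven.Oz

open Subgroup Cfsg

variable {H : Type*} [Group H] {p : ℕ}

theorem inf_centralizer_comm (S : Subgroup H) :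
    ∀ a ∈ S ⊓ centralizer (S : Set H), ∀ b ∈ S ⊓ centralizer (S : Set H), a * b = b * a :=
  fun a ha b hb => Subgroup.mem_centralizer_iff.1 hb.2 a ha.1

theorem mem_iff {S : Subgroup H} {x : H} :
    x ∈ omegaOne p (S ⊓ centralizer (S : Set H)) ↔ x ∈ S ∧ (∀ s ∈ S, s * x = x * s) ∧ x ^ p = 1 := by
  rw [CfsgLib.PGroup.mem_omegaOne_iff_of_comm (inf_centralizer_comm S), Subgroup.mem_inf,
    Subgroup.mem_centralizer_iff, and_assoc]
  rfl

theorem elemAb (S : Subgroup H) : IsElementaryAbelian p (omegaOne p (S ⊓ centralizer (S : Set H))) :=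
  CfsgLib.PGroup.elemAb_omegaOne_of_comm (inf_centralizer_comm S)

theorem le_self (S : Subgroup H) : omegaOne p (S ⊓ centralizer (S : Set H)) ≤ S :=
  fun _ hx => (mem_iff.1 hx).1

theorem conj_mem {S : Subgroup H} {g x : H} (hg : g ∈ normalizer (S : Set H))
    (hx : x ∈ omegaOne p (S ⊓ centralizer (S : Set H))) :
    g * x * g⁻¹ ∈ omegaOne p (S ⊓ centralizer (S : Set H)) := by
  obtain ⟨h1, h2, h3⟩ := mem_iff.1 hx
  refine mem_iff.2 ⟨(Subgroup.mem_normalizer_iff.1 hg x).1 h1, fun s hs => ?_, ?_⟩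
  · have h4 := h2 (g⁻¹ * s * g) ((Subgroup.mem_normalizer_iff''.1 hg s).1 hs)
    calc s * (g * x * g⁻¹) = g * ((g⁻¹ * s * g) * x) * g⁻¹ := by group
      _ = g * (x * (g⁻¹ * s * g)) * g⁻¹ := by rw [h4]
      _ = g * x * g⁻¹ * s := by group
  · have := map_pow (MulAut.conj g) x p
    rw [h3, map_one, MulAut.conj_apply] at this
    exact this.symm

theorem normalizer_le [Finite H] (S : Subgroup H) :
    normalizer (S : Set H) ≤ normalizer (omegaOne p (S ⊓ centralizer (S : Set H)) : Set H) :=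
  fun g hg => CfsgLib.LocalEven.mem_normalizer_of_conj_le (by
    rintro _ ⟨x, hx, rfl⟩
    exact conj_mem hg hx)

theorem mem_normalizer_centralizer [Finite H] {V : Subgroup H} {g : H} (hg : g ∈ normalizer (V : Set H)) :
    g ∈ normalizer (centralizer (V : Set H) : Set H) := by
  refine CfsgLib.LocalEven.mem_normalizer_of_conj_le ?_
  rintro _ ⟨x, hx, rfl⟩
  refine Subgroup.mem_centralizer_iff.2 fun v hv => ?_
  have h4 := Subgroup.mem_centralizer_iff.1 hx (g⁻¹ * v * g) ((Subgroup.mem_normalizer_iff''.1 hg v).1 hv)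
  show v * (g * x * g⁻¹) = g * x * g⁻¹ * v
  calc v * (g * x * g⁻¹) = g * ((g⁻¹ * v * g) * x) * g⁻¹ := by group
    _ = g * (x * (g⁻¹ * v * g)) * g⁻¹ := by rw [h4]
    _ = g * x * g⁻¹ * v := by group

/-- One normal step of Kieler's Lemma. -/
theorem kieler_step [Finite H] [hp : Fact p.Prime] {B A S : Subgroup H} (hAB : A ≤ B)
    (hBA : B ≤ normalizer (A : Set H)) (hSB : S ≤ B) (hS : IsPGroup p S)
    (hBchar : B ⊓ centralizer (pCoreOf p B : Set H) ≤ pCoreOf p B) (hOS : pCoreOf p B ≤ S)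
    (hAchar : A ⊓ centralizer (pCoreOf p A : Set H) ≤ pCoreOf p A) (hOA : pCoreOf p A ≤ S ⊓ A)
    (hn : ¬ p ∣ (S ⊓ A).relIndex A) :
    A ⊓ centralizer (omegaOne p (S ⊓ centralizer (S : Set H)) : Set H) =
      A ⊓ centralizer (omegaOne p ((S ⊓ A) ⊓ centralizer ((S ⊓ A : Subgroup H) : Set H)) : Set H) := by
  set Z := omegaOne p (S ⊓ centralizer (S : Set H)) with hZ
  set Z₀ := omegaOne p ((S ⊓ A) ⊓ centralizer ((S ⊓ A : Subgroup H) : Set H)) with hZ₀
  apply le_antisymm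
  · refine le_inf inf_le_left fun x hx => Subgroup.mem_centralizer_iff.2 fun z₀ hz₀ => ?_
    set A₁ := A ⊓ centralizer (Z : Set H) with hA₁
    set O := pCoreOf p A with hO
    set W := omegaOne p (O ⊓ centralizer (O : Set H)) with hW
    have hTA₁ : S ⊓ A ≤ A₁ := fun t ht => ⟨ht.2, Subgroup.mem_centralizer_iff.2 fun z hz =>
      ((mem_iff.1 hz).2.1 t ht.1).symm⟩
    have hn₁ : ¬ p ∣ (S ⊓ A).relIndex A₁ := fun hd => hn (hd.trans
      (Dvd.intro _ (Subgroup.relIndex_mul_relIndex _ _ _ hTA₁ (inf_le_left : A₁ ≤ A))))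
    have hAW : A ≤ normalizer (W : Set H) :=
      (CfsgLib.LocalEven.le_normalizer_pCoreOf p A).trans (normalizer_le O)
    obtain ⟨e, he1, he2, he3, -, he5⟩ := CfsgLib.LocalEven.Avg.exists_avg hTA₁ hn₁
      (fun a ha b hb => CfsgLib.PGroup.elemAb_comm (elemAb O) ha hb)
      (fun a ha => (elemAb O).2 a ha) (inf_le_left.trans hAW)
    have hZ₀W : Z₀ ≤ W := by
      intro z hz
      obtain ⟨h1, h2, h3⟩ := mem_iff.1 hz
      exact mem_iff.2 ⟨hAchar ⟨h1.2, Subgroup.mem_centralizer_iff.2 fun o ho => h2 o (hOA ho)⟩,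
        fun o ho => h2 o (hOA ho), h3⟩
    have hWT : W ≤ S ⊓ A := (le_self O).trans hOA
    have heZ : ∀ z ∈ Z₀, e z ∈ Z₀ := by
      intro z hz
      obtain ⟨h1, h2⟩ := he1 z (hZ₀W hz) (mem_iff.1 hz).2.1
      exact mem_iff.2 ⟨hWT h1, fun t ht => h2 t (hTA₁ ht), (elemAb O).2 _ h1⟩
    have he_one : e 1 = 1 := he2 1 (one_mem W) (fun g _ => by simp)
    let K : Subgroup H :=
      { carrier := {z | z ∈ Z₀ ∧ e z = 1}
        one_mem' := ⟨one_mem _, he_one⟩
        mul_mem' := fun {a b} ha hb => ⟨mul_mem ha.1 hb.1, by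
          rw [he3 a (hZ₀W ha.1) b (hZ₀W hb.1), ha.2, hb.2, one_mul]⟩
        inv_mem' := fun {a} ha => ⟨inv_mem ha.1, by
          have h := he3 a (hZ₀W ha.1) a⁻¹ (hZ₀W (inv_mem ha.1))
          rw [mul_inv_cancel, he_one, ha.2, one_mul] at h
          exact h.symm⟩ }
    have hKS : K ≤ S := fun z hz => (mem_iff.1 hz.1).1.1
    have hSK : ∀ t ∈ S, ∀ z ∈ K, t * z * t⁻¹ ∈ K := by
      intro t ht z hz
      have htA : t ∈ normalizer (A : Set H) := hBA (hSB ht)
      have htT : t ∈ normalizer ((S ⊓ A : Subgroup H) : Set H) :=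
        Subgroup.mem_normalizer_iff.2 fun y => and_congr
          (Subgroup.mem_normalizer_iff.1 (Subgroup.le_normalizer ht) y)
          (Subgroup.mem_normalizer_iff.1 htA y)
      have htZ : t ∈ normalizer (Z : Set H) := normalizer_le S (Subgroup.le_normalizer ht)
      have htA₁ : t ∈ normalizer (A₁ : Set H) :=
        Subgroup.mem_normalizer_iff.2 fun y => and_congr (Subgroup.mem_normalizer_iff.1 htA y)
          (Subgroup.mem_normalizer_iff.1 (mem_normalizer_centralizer htZ) y)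
      have htO : t ∈ normalizer (O : Set H) := by
        refine CfsgLib.LocalEven.mem_normalizer_of_conj_le ?_
        have h1 := CfsgLib.LocalEven.pCoreOf_map p (MulAut.conj t) A
        have h2 : A.map (MulAut.conj t).toMonoidHom = A := Subgroup.mem_normalizer_iff_map_conj_eq.1 htA
        rw [h2] at h1
        exact h1.ge
      refine ⟨conj_mem htT hz.1, ?_⟩
      rw [he5 t htA₁ htT (normalizer_le O htO) z (hZ₀W hz.1) (mem_iff.1 hz.1).2.1, hz.2]
      group
    have hKbot : K = ⊥ := by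
      by_contra hne
      haveI : (K.subgroupOf S).Normal := ⟨fun z hz t => hSK t t.2 z hz⟩
      have hne' : K.subgroupOf S ≠ ⊥ := fun h => hne
        ((Subgroup.subgroupOf_eq_bot.1 h).eq_bot_of_le hKS)
      obtain ⟨⟨z, hz⟩, hz1'⟩ := Subgroup.ne_bot_iff_exists_ne_one.1
        (CfsgLib.PGroup.inf_center_ne_bot hS (K.subgroupOf S) hne')
      have hz1 : z ≠ 1 := fun h => hz1' (Subtype.ext h)
      have hzK : (z : H) ∈ K := hz.1
      have hzZ : (z : H) ∈ Z := mem_iff.2 ⟨z.2, fun s hs =>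
        congrArg Subtype.val (Subgroup.mem_center_iff.1 hz.2 ⟨s, hs⟩), (mem_iff.1 hzK.1).2.2⟩
      have h6 := he2 z (hZ₀W hzK.1) fun g hg => (Subgroup.mem_centralizer_iff.1 hg.2 z hzZ).symm
      rw [hzK.2] at h6
      exact hz1 (Subtype.ext h6.symm)
    have hw : (e z₀)⁻¹ * z₀ ∈ K := by
      refine ⟨mul_mem (inv_mem (heZ z₀ hz₀)) hz₀, ?_⟩
      have h7 : e (e z₀) = e z₀ :=
        he2 _ (hZ₀W (heZ z₀ hz₀)) (he1 z₀ (hZ₀W hz₀) (mem_iff.1 hz₀).2.1).2
      have h8 := he3 _ (hZ₀W (heZ z₀ hz₀)) _ (hZ₀W (mul_mem (inv_mem (heZ z₀ hz₀)) hz₀))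
      rw [mul_inv_cancel_left, h7] at h8
      exact mul_left_cancel (a := e z₀) (h8.symm.trans (mul_one _).symm)
    rw [hKbot, Subgroup.mem_bot, inv_mul_eq_one] at hw
    have := (he1 z₀ (hZ₀W hz₀) (mem_iff.1 hz₀).2.1).2 x hx
    rw [hw] at this
    exact this.symm
  · refine le_inf inf_le_left fun x hx => Subgroup.mem_centralizer_iff.2 fun z hz => ?_
    set O := pCoreOf p B with hO
    set W := omegaOne p (O ⊓ centralizer (O : Set H)) with hW
    obtain ⟨h1, h2, h3⟩ := mem_iff.1 hz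
    obtain ⟨e, he1, -, -, he4, -⟩ := CfsgLib.LocalEven.Avg.exists_avg (inf_le_right : S ⊓ A ≤ A) hn
      (fun a ha b hb => CfsgLib.PGroup.elemAb_comm (elemAb O) ha hb)
      (fun a ha => (elemAb O).2 a ha)
      (hAB.trans ((CfsgLib.LocalEven.le_normalizer_pCoreOf p B).trans (normalizer_le O)))
    have hzW : z ∈ W := mem_iff.2 ⟨hBchar ⟨hSB h1, Subgroup.mem_centralizer_iff.2 fun o ho =>
      h2 o (hOS ho)⟩, fun o ho => h2 o (hOS ho), h3⟩
    obtain ⟨hcW, hc⟩ := he1 z hzW (fun t ht => h2 t ht.1)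
    have hd : (e z)⁻¹ * z ∈ A := he4 z hzW A fun g hg => by
      have := (Subgroup.mem_normalizer_iff.1 (hBA (hSB h1)) g).1 hg
      have h9 : z * (g * z⁻¹ * g⁻¹) = z * g * z⁻¹ * g⁻¹ := by group
      rw [h9]
      exact mul_mem this (inv_mem hg)
    have hdW : (e z)⁻¹ * z ∈ W := mul_mem (inv_mem hcW) hzW
    have hd0 : (e z)⁻¹ * z ∈ Z₀ := mem_iff.2 ⟨⟨hOS (le_self O hdW), hd⟩, fun t ht => by
      have h5 : Commute t (e z) := hc t ht.2
      exact (h5.inv_right.mul_right (h2 t ht.1)), (elemAb O).2 _ hdW⟩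
    have h10 : Commute x ((e z) * ((e z)⁻¹ * z)) :=
      (show Commute x (e z) from hc x hx.1).mul_right
        (Subgroup.mem_centralizer_iff.1 hx.2 _ hd0).symm
    rw [mul_inv_cancel_left] at h10
    exact h10.symm

theorem inf_centralizer_pCoreOf_le' {L : Subgroup H} (h : CfsgLib.LocalEven.HasCharP p ↥L) :
    L ⊓ centralizer (pCoreOf p L : Set H) ≤ pCoreOf p L :=
  CfsgLib.LocalEven.inf_centralizer_pCoreOf_le h

theorem pCoreOf_le_inf_sylow [Finite H] [Fact p.Prime] (T : Sylow p H) {L : Subgroup H}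
    (hL : L.IsSubnormal) : pCoreOf p L ≤ (T : Subgroup H) ⊓ L := by
  obtain ⟨Q, hQ⟩ := CfsgLib.LocalEven.exists_sylow_eq_inf_of_isSubnormal T hL
  refine le_inf ?_ (CfsgLib.LocalEven.pCoreOf_le p L)
  rintro _ ⟨x, hx, rfl⟩
  have h := CfsgLib.Cores.pCore_le_sylow Q hx
  rw [hQ] at h
  exact h

/-- Kieler's Lemma. -/
theorem kieler [Finite H] [Fact p.Prime] (hH : centralizer (pCore p H : Set H) ≤ pCore p H)
    (T : Sylow p H) {L : Subgroup H} (hL : L.IsSubnormal) :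
    L ⊓ centralizer (omegaOne p ((T : Subgroup H) ⊓ centralizer ((T : Subgroup H) : Set H)) : Set H) =
      L ⊓ centralizer
        (omegaOne p (((T : Subgroup H) ⊓ L) ⊓ centralizer (((T : Subgroup H) ⊓ L : Subgroup H) : Set H)) : Set H) := by
  induction hL with
  | top => rw [inf_top_eq (T : Subgroup H)]
  | step A B hAB hB hN ih =>
    have hA : A.IsSubnormal := Subgroup.IsSubnormal.step A B hAB hB hN
    have hSA : ((T : Subgroup H) ⊓ B) ⊓ A = (T : Subgroup H) ⊓ A := by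
      rw [inf_assoc, inf_eq_right.2 hAB]
    have hstep := kieler_step (S := (T : Subgroup H) ⊓ B) hAB
      ((Subgroup.normal_subgroupOf_iff_le_normalizer hAB).1 hN) inf_le_right
      (T.2.to_le inf_le_left) (inf_centralizer_pCoreOf_le' (CfsgLib.LocalEven.HasCharP.of_isSubnormal hH hB))
      (pCoreOf_le_inf_sylow T hB) (inf_centralizer_pCoreOf_le' (CfsgLib.LocalEven.HasCharP.of_isSubnormal hH hA))
      (hSA ▸ pCoreOf_le_inf_sylow T hA)
      (hSA ▸ CfsgLib.LocalEven.not_dvd_relIndex_inf_of_isSubnormal T hA)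
    rw [hSA] at hstep
    rw [← hstep]
    calc _ = A ⊓ (B ⊓ centralizer (omegaOne p ((T : Subgroup H) ⊓
        centralizer ((T : Subgroup H) : Set H)) : Set H)) := by rw [← inf_assoc, inf_eq_left.2 hAB]
      _ = _ := by rw [ih, ← inf_assoc, inf_eq_left.2 hAB]

end CfsgLib.LocalEven.Oz
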