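import Mathlib
import Cfsg.Prelude.Def_BaumannBlocks
import Cfsg.Agent.Lib.LocalEven.CoreOf
import Cfsg.Agent.Lib.LocalEven.Kieler

/-!
Irreducibility and faithfulness of the module attached to a `B(T)`-block.
-/

set_option autoImplicit false

namespace CfsgLib.LocalEven.BlockModule

open Subgroup Cfsg Matrix
open scoped commutatorElement

/-- The section `W/Z` of a block is irreducible and only `O_p(E)` fixes `W`. -/
def IsBlockModule {G : Type*} [Group G] (p : ℕ) (E : Subgroup G) : Prop :=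
  (∀ U : Subgroup G, omegaOneCenter p (pCoreOf p E) ⊓ centralizer (E : Set G) ≤ U →
      U ≤ omegaOneCenter p (pCoreOf p E) → E ≤ normalizer (U : Set G) →
      U = omegaOneCenter p (pCoreOf p E) ⊓ centralizer (E : Set G) ∨ U = omegaOneCenter p (pCoreOf p E)) ∧
  (∀ e ∈ E, (∀ w ∈ omegaOneCenter p (pCoreOf p E), e * w = w * e) → e ∈ pCoreOf p E)

section SL
variable {F : Type*} [Field F]

/-- An upper unitriangular element. -/
def uU (a : F) : Matrix.SpecialLinearGroup (Fin 2) F := ⟨!![1, a; 0, 1], by simp [Matrix.det_fin_two]⟩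

/-- A lower unitriangular element. -/
def uL (a : F) : Matrix.SpecialLinearGroup (Fin 2) F := ⟨!![1, 0; a, 1], by simp [Matrix.det_fin_two]⟩

/-- A diagonal element. -/
def dia (l : F) (hl : l ≠ 0) : Matrix.SpecialLinearGroup (Fin 2) F :=
  ⟨!![l, 0; 0, l⁻¹], by simp [Matrix.det_fin_two, hl]⟩

theorem uU_mem (l a : F) (hl : l ≠ 0) :
    uU ((l * l - 1) * a) ∈ commutator (Matrix.SpecialLinearGroup (Fin 2) F) := by
  have h : uU ((l * l - 1) * a) * (uU a * dia l hl) = dia l hl * uU a := by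
    ext i j
    simp only [Matrix.SpecialLinearGroup.coe_mul]
    fin_cases i <;> fin_cases j <;> simp [uU, dia, Matrix.mul_apply, Fin.sum_univ_two] <;> field_simp <;> ring
  have e : uU ((l * l - 1) * a) = ⁅dia l hl, uU a⁆ := by
    rw [commutatorElement_def, eq_mul_inv_iff_mul_eq, eq_mul_inv_iff_mul_eq, mul_assoc, h]
  rw [e]
  exact commutator_mem_commutator (mem_top _) (mem_top _)

theorem uL_mem (l a : F) (hl : l ≠ 0) :
    uL ((l⁻¹ * l⁻¹ - 1) * a) ∈ commutator (Matrix.SpecialLinearGroup (Fin 2) F) := by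
  have h : uL ((l⁻¹ * l⁻¹ - 1) * a) * (uL a * dia l hl) = dia l hl * uL a := by
    ext i j
    simp only [Matrix.SpecialLinearGroup.coe_mul]
    fin_cases i <;> fin_cases j <;> simp [uL, dia, Matrix.mul_apply, Fin.sum_univ_two] <;> field_simp <;> ring
  have e : uL ((l⁻¹ * l⁻¹ - 1) * a) = ⁅dia l hl, uL a⁆ := by
    rw [commutatorElement_def, eq_mul_inv_iff_mul_eq, eq_mul_inv_iff_mul_eq, mul_assoc, h]
  rw [e]
  exact commutator_mem_commutator (mem_top _) (mem_top _)

/-- The commutator of the Weyl element with `uU 1`. -/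
def gW : Matrix.SpecialLinearGroup (Fin 2) F := ⟨!![1, -1; -1, 2], by simp [Matrix.det_fin_two]; ring⟩

theorem gW_mem : (gW : Matrix.SpecialLinearGroup (Fin 2) F) ∈ commutator (Matrix.SpecialLinearGroup (Fin 2) F) := by
  let w : Matrix.SpecialLinearGroup (Fin 2) F := ⟨!![0, 1; -1, 0], by simp [Matrix.det_fin_two]⟩
  have h : gW * (uU 1 * w) = w * uU 1 := by
    ext i j
    simp only [Matrix.SpecialLinearGroup.coe_mul]
    fin_cases i <;> fin_cases j <;> simp [uU, gW, w, Matrix.mul_apply, Fin.sum_univ_two] <;> ring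
  have e : (gW : Matrix.SpecialLinearGroup (Fin 2) F) = ⁅w, uU 1⁆ := by
    rw [commutatorElement_def, eq_mul_inv_iff_mul_eq, eq_mul_inv_iff_mul_eq, mul_assoc, h]
  rw [e]
  exact commutator_mem_commutator (mem_top _) (mem_top _)

theorem irreducible_sl2 [Fintype F] (N : AddSubgroup (Fin 2 → F))
    (hN : ∀ r ∈ commutator (Matrix.SpecialLinearGroup (Fin 2) F), ∀ v ∈ N,
      ((r : Matrix.SpecialLinearGroup (Fin 2) F) : Matrix (Fin 2) (Fin 2) F) *ᵥ v ∈ N) :
    N = ⊥ ∨ N = ⊤ := by
  classical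
  by_cases hl : ∃ l : F, l ≠ 0 ∧ l * l ≠ 1
  · obtain ⟨l, hl0, hl1⟩ := hl
    by_cases hbot : N = ⊥
    · exact Or.inl hbot
    obtain ⟨v, hv, hv0⟩ : ∃ v ∈ N, v ≠ 0 := by
      by_contra h
      push Not at h
      exact hbot (AddSubgroup.eq_bot_iff_forall _ |>.2 h)
    have hl2 : l⁻¹ * l⁻¹ - 1 ≠ 0 := by
      intro h
      rw [sub_eq_zero, ← mul_inv, inv_eq_one] at h
      exact hl1 h
    have hl1' : l * l - 1 ≠ 0 := sub_ne_zero.2 hl1
    have hU : ∀ a : F, ∀ u ∈ N, (![a * u 1, 0] : Fin 2 → F) ∈ N := by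
      intro a u hu
      have h1 := N.sub_mem (hN _ (uU_mem l ((l * l - 1)⁻¹ * a) hl0) u hu) hu
      convert h1 using 1
      ext i
      fin_cases i <;> simp [uU, Matrix.mulVec, dotProduct, Fin.sum_univ_two, hl1']
    have hL : ∀ a : F, ∀ u ∈ N, (![0, a * u 0] : Fin 2 → F) ∈ N := by
      intro a u hu
      have h1 := N.sub_mem (hN _ (uL_mem l ((l⁻¹ * l⁻¹ - 1)⁻¹ * a) hl0) u hu) hu
      convert h1 using 1
      ext i
      fin_cases i <;> simp [uL, Matrix.mulVec, dotProduct, Fin.sum_univ_two, ← mul_assoc,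
        mul_inv_cancel₀ hl2]
    have hfull : ∀ u : Fin 2 → F, ∀ x : F, x ≠ 0 → (![x, 0] : Fin 2 → F) ∈ N → u ∈ N := by
      intro u x hx hxN
      have h2 := hL (x⁻¹ * u 1) _ hxN
      have h3 := hU (u 0) _ (hL x⁻¹ _ hxN)
      convert N.add_mem h3 h2 using 1
      ext i
      fin_cases i <;> simp [hx, mul_comm, mul_left_comm]
    right
    rw [eq_top_iff]
    intro u _
    by_cases h0 : v 0 = 0
    · have h1 : v 1 ≠ 0 := fun h => hv0 (funext fun i => by fin_cases i <;> simp [h0, h])
      exact hfull u (v 1) h1 (by simpa using hU 1 v hv)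
    · refine hfull u (v 0) h0 ?_
      have h3 := hU 1 _ (hL 1 v hv)
      simpa using h3
  · push Not at hl
    have hcases : ∀ c : F, c = 0 ∨ c = 1 ∨ c = -1 := fun c => by
      by_cases hc : c = 0
      · exact Or.inl hc
      · exact Or.inr (mul_self_eq_one_iff.1 (hl c hc))
    have hsub : (Finset.univ : Finset F) ⊆ {0, 1, -1} := fun c _ => by
      rcases hcases c with h | h | h <;> simp [h]
    have hle : Fintype.card F ≤ 3 := (Finset.card_le_card hsub).trans Finset.card_le_three
    have hge : 2 ≤ Fintype.card F := Fintype.one_lt_card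
    have hprime : (Fintype.card F).Prime := by
      interval_cases Fintype.card F <;> norm_num
    have hpoly : ∀ c : F, (1 - c) * (2 - c) - 1 ≠ 0 := by
      intro c
      have hz : ((Fintype.card F : ℕ) : F) = 0 := FiniteField.cast_card_eq_zero F
      obtain h | h : Fintype.card F = 2 ∨ Fintype.card F = 3 := by omega
      · rw [h] at hz
        have h2 : (2 : F) = 0 := by simpa using hz
        rcases hcases c with rfl | rfl | rfl
        · rw [show (1 - (0 : F)) * (2 - 0) - 1 = 1 by ring]; exact one_ne_zero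
        · rw [show (1 - (1 : F)) * (2 - 1) - 1 = -1 by ring]; exact neg_ne_zero.2 one_ne_zero
        · rw [show (1 - (-1 : F)) * (2 - -1) - 1 = 2 * 2 + 1 by ring, h2, zero_mul, zero_add]
          exact one_ne_zero
      · rw [h] at hz
        have h3 : (3 : F) = 0 := by simpa using hz
        rcases hcases c with rfl | rfl | rfl
        · rw [show (1 - (0 : F)) * (2 - 0) - 1 = 1 by ring]; exact one_ne_zero
        · rw [show (1 - (1 : F)) * (2 - 1) - 1 = -1 by ring]; exact neg_ne_zero.2 one_ne_zero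
        · rw [show (1 - (-1 : F)) * (2 - -1) - 1 = 3 * 2 - 1 by ring, h3, zero_mul, zero_sub]
          exact neg_ne_zero.2 one_ne_zero
    have hcard : Nat.card (Fin 2 → F) = Fintype.card F ^ 2 := by
      rw [Nat.card_eq_fintype_card, Fintype.card_fun, Fintype.card_fin]
    obtain ⟨k, hk, hkN⟩ := (Nat.dvd_prime_pow hprime).1 (hcard ▸ AddSubgroup.card_addSubgroup_dvd_card N)
    interval_cases k
    · exact Or.inl (AddSubgroup.eq_bot_of_card_eq _ (by rw [hkN, pow_zero]))
    · exfalso
      rw [pow_one] at hkN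
      haveI := Fact.mk hprime
      obtain ⟨v, hv, hv0⟩ : ∃ v ∈ N, v ≠ 0 := by
        by_contra h
        push Not at h
        rw [(AddSubgroup.eq_bot_iff_forall _).2 h, AddSubgroup.card_bot] at hkN
        exact hprime.ne_one hkN.symm
      have hmem := mem_zmultiples_of_prime_card hkN (g := (⟨v, hv⟩ : ↥N))
        (g' := ⟨_, hN _ gW_mem v hv⟩) (fun h => hv0 (congrArg Subtype.val h))
      obtain ⟨j, hj⟩ := hmem
      have hj' := congrArg Subtype.val hj
      simp only [AddSubgroupClass.coe_zsmul] at hj'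
      have e0 := congrFun hj' 0
      have e1 := congrFun hj' 1
      simp [gW, Matrix.mulVec, dotProduct, Fin.sum_univ_two] at e0 e1
      have hy : v 1 = (1 - (j : F)) * v 0 := by linear_combination e0
      have hx : v 0 * ((1 - (j : F)) * (2 - (j : F)) - 1) = 0 := by
        rw [hy] at e1; linear_combination -e1
      rcases mul_eq_zero.1 hx with h | h
      · refine hv0 (funext fun i => ?_)
        fin_cases i
        · simpa using h
        · simp [hy, h]
      · exact hpoly _ h
    · exact Or.inr (AddSubgroup.eq_top_of_card_eq _ (by rw [hkN, hcard]))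

end SL

section Perm
variable {n : ℕ}

/-- Even weight vectors. -/
def evenW (n : ℕ) : AddSubgroup (Fin n → ZMod 2) where
  carrier := {v | ∑ i, v i = 0}
  add_mem' := fun {a b} ha hb => by simp only [Set.mem_setOf_eq] at *; simp [Finset.sum_add_distrib, ha, hb]
  zero_mem' := by simp
  neg_mem' := fun {a} ha => by simp only [Set.mem_setOf_eq] at *; simp [Finset.sum_neg_distrib, ha]

theorem single_swap_apply (π : Equiv.Perm (Fin n)) (a : Fin n) :
    (fun i => Pi.single (M := fun _ => ZMod 2) a 1 (π⁻¹ i)) = Pi.single (π a) 1 := by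
  ext i
  simp only [Pi.single_apply]
  by_cases h : i = π a
  · subst h; simp
  · rw [if_neg h, if_neg]
    intro h'
    apply h
    rw [← h']; simp

theorem irreducible_alt (hn : Odd n) (N : AddSubgroup (Fin n → ZMod 2)) (hle : N ≤ evenW n)
    (hN : ∀ r ∈ alternatingGroup (Fin n), ∀ v ∈ N, (fun i => v ((r : Equiv.Perm (Fin n))⁻¹ i)) ∈ N) :
    N = ⊥ ∨ N = evenW n := by
  classical
  by_cases hbot : N = ⊥
  · exact Or.inl hbot
  right
  refine le_antisymm hle ?_
  obtain ⟨v, hv, hv0⟩ : ∃ v ∈ N, v ≠ 0 := by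
    by_contra h
    push Not at h
    exact hbot ((AddSubgroup.eq_bot_iff_forall _).2 h)
  have h01 : ∀ c : ZMod 2, c = 0 ∨ c = 1 := by decide
  obtain ⟨i, hi⟩ : ∃ i, v i = 1 := by
    by_contra h
    push Not at h
    exact hv0 (funext fun i => (h01 (v i)).resolve_right (h i))
  obtain ⟨j, hj⟩ : ∃ j, v j = 0 := by
    by_contra h
    push Not at h
    have hall : ∀ k, v k = 1 := fun k => (h01 (v k)).resolve_left (h k)
    have := hle hv
    simp only [evenW, AddSubgroup.mem_mk, AddSubmonoid.mem_mk, AddSubsemigroup.mem_mk, Set.mem_setOf_eq,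
      hall, Finset.sum_const, Finset.card_univ, Fintype.card_fin, nsmul_eq_mul, mul_one] at this
    obtain ⟨m, rfl⟩ := hn
    rw [Nat.cast_add, Nat.cast_mul, show ((2 : ℕ) : ZMod 2) = 0 from rfl, zero_mul, zero_add] at this
    simp at this
  have hij : i ≠ j := fun h => by rw [h, hj] at hi; exact zero_ne_one hi
  obtain ⟨k, hki, hkj⟩ : ∃ k, k ≠ i ∧ k ≠ j := by
    by_contra h
    push Not at h
    have hsub : (Finset.univ : Finset (Fin n)) ⊆ {i, j} := fun k _ => by
      by_cases hk : k = i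
      · simp [hk]
      · simp [h k hk]
    have h2 := (Finset.card_le_card hsub).trans Finset.card_le_two
    rw [Finset.card_univ, Fintype.card_fin] at h2
    obtain ⟨m, rfl⟩ := hn
    have := i.2; have := j.2
    have : (i : ℕ) = j := by omega
    exact hij (Fin.ext this)
  -- a vector of weight two
  obtain ⟨a, b, hab, hpair⟩ : ∃ a b, a ≠ b ∧ (Pi.single a 1 + Pi.single b 1 : Fin n → ZMod 2) ∈ N := by
    have hσ : Equiv.swap i j * Equiv.swap j k ∈ alternatingGroup (Fin n) := by
      rw [Equiv.Perm.mem_alternatingGroup, map_mul, Equiv.Perm.sign_swap hij, Equiv.Perm.sign_swap hkj.symm]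
      rfl
    have hu := N.sub_mem hv (hN _ hσ v hv)
    refine ⟨j, if v k = 0 then i else k, by split <;> [exact hij.symm; exact hkj.symm], ?_⟩
    convert hu using 1
    ext l
    simp only [Pi.add_apply, Pi.sub_apply, _root_.mul_inv_rev, Equiv.swap_inv, Equiv.Perm.mul_apply]
    by_cases hli : l = i
    · subst hli
      rw [Equiv.swap_apply_left, Equiv.swap_apply_left, hi]
      rcases h01 (v k) with h | h <;> simp [h, hij, hki.symm]
    by_cases hlj : l = j
    · subst hlj
      rw [Equiv.swap_apply_right, Equiv.swap_apply_of_ne_of_ne hij hki.symm, hi, hj]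
      rcases h01 (v k) with h | h <;> simp [h, hij.symm, hkj.symm] <;> decide
    by_cases hlk : l = k
    · subst hlk
      rw [Equiv.swap_apply_of_ne_of_ne hki hkj, Equiv.swap_apply_right, hj, sub_zero]
      rcases h01 (v l) with h | h <;> simp [h, hki, hkj]
    · rw [Equiv.swap_apply_of_ne_of_ne hli hlj, Equiv.swap_apply_of_ne_of_ne hlj hlk, sub_self]
      rcases h01 (v k) with h | h <;> simp [h, hli, hlj, hlk]
  -- all vectors of weight two
  have hall : ∀ c d, c ≠ d → (Pi.single c 1 + Pi.single d 1 : Fin n → ZMod 2) ∈ N := by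
    intro c d hcd
    set π := Equiv.swap (Equiv.swap a c b) d * Equiv.swap a c with hπ
    have hπb : π b = d := by simp [hπ]
    have hπa : π a = c := by
      rw [hπ, Equiv.Perm.mul_apply, Equiv.swap_apply_left]
      refine Equiv.swap_apply_of_ne_of_ne ?_ hcd
      intro h
      exact hab ((Equiv.swap a c).injective ((Equiv.swap_apply_left a c).trans h))
    have key : ∀ τ : Equiv.Perm (Fin n), τ ∈ alternatingGroup (Fin n) →
        (Pi.single (τ a) 1 + Pi.single (τ b) 1 : Fin n → ZMod 2) ∈ N := by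
      intro τ hτ
      have h1 := hN τ hτ _ hpair
      convert h1 using 1
      rw [← single_swap_apply τ a, ← single_swap_apply τ b]
      rfl
    rcases Int.units_eq_one_or (Equiv.Perm.sign π) with h | h
    · have := key π (Equiv.Perm.mem_alternatingGroup.2 h)
      rwa [hπa, hπb] at this
    · have := key (Equiv.swap c d * π) (Equiv.Perm.mem_alternatingGroup.2 (by
        rw [map_mul, Equiv.Perm.sign_swap hcd, h]; rfl))
      rw [show (Equiv.swap c d * π) a = Equiv.swap c d (π a) from rfl,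
        show (Equiv.swap c d * π) b = Equiv.swap c d (π b) from rfl, hπa, hπb, Equiv.swap_apply_left,
        Equiv.swap_apply_right, add_comm] at this
      exact this
  intro w hw
  have hw' : ∑ l, w l = 0 := hw
  have : w = ∑ l, if w l = 0 ∨ l = i then (0 : Fin n → ZMod 2) else (Pi.single l 1 + Pi.single i 1) := by
    ext m
    rw [Finset.sum_apply]
    have : ∀ l, (if w l = 0 ∨ l = i then (0 : Fin n → ZMod 2) else (Pi.single l 1 + Pi.single i 1)) m =
        (Pi.single l (w l) : Fin n → ZMod 2) m + (Pi.single i (w l) : Fin n → ZMod 2) m := by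
      intro l
      rcases h01 (w l) with h | h
      · simp [h]
      · by_cases hl : l = i
        · subst hl
          simp only [h, one_ne_zero, false_or, if_true, Pi.zero_apply, Pi.single_apply]
          split <;> decide
        · simp [h, hl]
    simp only [this, Finset.sum_add_distrib, Pi.single_apply]
    rw [Finset.sum_ite_eq Finset.univ m w]
    by_cases hm : m = i
    · simp [hm, hw']
    · simp [hm]
  rw [this]
  refine AddSubgroup.sum_mem _ fun l _ => ?_
  split
  · exact N.zero_mem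
  · next hnot => exact hall l i fun h' => hnot (Or.inr h')

theorem faithful_alt (hn : Odd n) (r : Equiv.Perm (Fin n))
    (h : ∀ v ∈ evenW n, (fun i => v (r⁻¹ i)) = v) : r = 1 := by
  classical
  by_contra hne
  obtain ⟨a, ha⟩ : ∃ a, r a ≠ a := by
    by_contra h'
    push Not at h'
    exact hne (Equiv.ext h')
  obtain ⟨b, hb1, hb2⟩ : ∃ b, b ≠ a ∧ b ≠ r a := by
    by_contra h'
    push Not at h'
    have hsub : (Finset.univ : Finset (Fin n)) ⊆ {a, r a} := fun k _ => by
      by_cases hk : k = a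
      · simp [hk]
      · simp [h' k hk]
    have h2 := (Finset.card_le_card hsub).trans Finset.card_le_two
    rw [Finset.card_univ, Fintype.card_fin] at h2
    obtain ⟨m, rfl⟩ := hn
    have := a.2; have := (r a).2
    have : (r a : ℕ) = a := by omega
    exact ha (Fin.ext this)
  have hv : (Pi.single a 1 + Pi.single b 1 : Fin n → ZMod 2) ∈ evenW n := by
    show ∑ i, (Pi.single a 1 + Pi.single b 1 : Fin n → ZMod 2) i = 0
    simp [Finset.sum_add_distrib]
    decide
  have h1 := congrFun (h _ hv) (r a)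
  simp [hb2.symm, ha, hb1.symm] at h1

end Perm

variable {G : Type*} [Group G] [Finite G] {p : ℕ}

theorem isBlockModule_of_action {Γ M : Type*} [Group Γ] [AddCommGroup M] (R : Subgroup Γ)
    (act : Γ → M → M) (M₀ : AddSubgroup M) {E : Subgroup G}
    (iso : Nonempty (↥E ⧸ pCore p ↥E ≃* ↥R)) (ρ : ↥E →* Γ)
    (ψ : ↥(omegaOneCenter p (pCoreOf p E)) →* Multiplicative M) (hρ : ρ.range = R)
    (hψ1 : ∀ u, Multiplicative.toAdd (ψ u) ∈ M₀) (hψ2 : ∀ v ∈ M₀, ∃ u, Multiplicative.toAdd (ψ u) = v)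
    (hker : ∀ u, ψ u = 1 ↔ (u : G) ∈ omegaOneCenter p (pCoreOf p E) ⊓ centralizer (E : Set G))
    (heq : ∀ (e : ↥E) (u : ↥(omegaOneCenter p (pCoreOf p E))), ∃ w : ↥(omegaOneCenter p (pCoreOf p E)),
      (w : G) = (e : G) * (u : G) * (e : G)⁻¹ ∧
        Multiplicative.toAdd (ψ w) = act (ρ e) (Multiplicative.toAdd (ψ u)))
    (hirr : ∀ N : AddSubgroup M, N ≤ M₀ → (∀ r ∈ R, ∀ v ∈ N, act r v ∈ N) → N = ⊥ ∨ N = M₀)
    (hfaith : ∀ r ∈ R, (∀ v ∈ M₀, act r v = v) → r = 1) : IsBlockModule p E := by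
  constructor
  · intro U hZU hUW hEU
    let N : AddSubgroup M :=
      { carrier := {v | ∃ u : ↥(omegaOneCenter p (pCoreOf p E)), (u : G) ∈ U ∧ Multiplicative.toAdd (ψ u) = v}
        add_mem' := fun {x y} ⟨a, ha, ea⟩ ⟨b, hb, eb⟩ =>
          ⟨a * b, mul_mem ha hb, by rw [map_mul, toAdd_mul, ea, eb]⟩
        zero_mem' := ⟨1, one_mem U, by rw [map_one, toAdd_one]⟩
        neg_mem' := fun {x} ⟨a, ha, ea⟩ => ⟨a⁻¹, inv_mem ha, by rw [map_inv, toAdd_inv, ea]⟩ }
    have hNM : N ≤ M₀ := fun v ⟨u, _, e⟩ => e ▸ hψ1 u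
    have hNi : ∀ r ∈ R, ∀ v ∈ N, act r v ∈ N := by
      intro r hr v hv
      obtain ⟨u, hu, rfl⟩ := hv
      obtain ⟨e, rfl⟩ := hρ.symm ▸ hr
      obtain ⟨w, hw, hw'⟩ := heq e u
      exact ⟨w, hw ▸ (mem_normalizer_iff.1 (hEU e.2) _).1 hu, hw'⟩
    rcases hirr N hNM hNi with h | h
    · left
      refine le_antisymm (fun u hu => ?_) hZU
      have h1 : Multiplicative.toAdd (ψ ⟨u, hUW hu⟩) ∈ N := ⟨⟨u, hUW hu⟩, hu, rfl⟩
      rw [h, AddSubgroup.mem_bot, toAdd_eq_zero] at h1
      exact (hker _).1 h1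
    · right
      refine le_antisymm hUW fun w hw => ?_
      have h1 : Multiplicative.toAdd (ψ ⟨w, hw⟩) ∈ N := by rw [h]; exact hψ1 _
      obtain ⟨u, hu, he⟩ := h1
      have h2 : ψ (u⁻¹ * ⟨w, hw⟩) = 1 := by
        rw [map_mul, map_inv, inv_mul_eq_one]
        exact Multiplicative.toAdd.injective he
      have h3 := hZU ((hker _).1 h2)
      have := mul_mem hu h3
      simpa using this
  · have hfix : ∀ e : ↥E, (∀ w ∈ omegaOneCenter p (pCoreOf p E), (e : G) * w = w * e) → ρ e = 1 := by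
      intro e he
      refine hfaith _ (hρ ▸ ⟨e, rfl⟩) fun v hv => ?_
      obtain ⟨u, rfl⟩ := hψ2 v hv
      obtain ⟨w, hw, hw'⟩ := heq e u
      rw [he _ u.2, mul_inv_cancel_right] at hw
      rw [← hw', Subtype.ext hw]
    haveI := CfsgLib.Cores.pCore_characteristic (G := ↥E) p
    have hQle : pCore p ↥E ≤ ρ.ker := by
      intro e he
      refine MonoidHom.mem_ker.2 (hfix e fun w hw => ?_)
      exact (CfsgLib.LocalEven.Oz.mem_iff.1 hw).2.1 _ ⟨e, he, rfl⟩
    have hcard : pCore p ↥E = ρ.ker := by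
      refine eq_of_le_of_card_ge hQle ?_
      obtain ⟨f⟩ := iso
      have h1 : (pCore p ↥E).index = ρ.ker.index := by
        rw [index, Nat.card_congr f.toEquiv, index_ker, hρ]
      have h2 := card_mul_index (pCore p ↥E)
      have h3 := card_mul_index ρ.ker
      rw [h1] at h2
      exact le_of_eq (Nat.eq_of_mul_eq_mul_right (Nat.pos_of_ne_zero index_ne_zero_of_finite) (h3.trans h2.symm))
    intro e he hc
    exact ⟨⟨e, he⟩, hcard.ge (MonoidHom.mem_ker.2 (hfix ⟨e, he⟩ hc)), rfl⟩

theorem isBlockModule_of_block {T E : Subgroup G} (hE : IsBaumannBlock p T E) : IsBlockModule p E := by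
  obtain ⟨-, -, -, -, hcases⟩ := hE
  rcases hcases with ⟨F, _, _, n, -, iso, ⟨-, -, ρ, ψ, hρ, hψ, hker, heq⟩, -⟩ |
    ⟨-, m, iso, ⟨-, -, ρ, ψ, hρ, hψ1, hψ2, hker, heq⟩, -⟩
  · refine isBlockModule_of_action _
      (fun r v => ((r : Matrix.SpecialLinearGroup (Fin 2) F) : Matrix (Fin 2) (Fin 2) F) *ᵥ v) ⊤ iso ρ ψ hρ
      (fun _ => AddSubgroup.mem_top _) (fun v _ => ?_) hker heq (fun N _ hN => irreducible_sl2 N hN) ?_
    · obtain ⟨u, hu⟩ := hψ (Multiplicative.ofAdd v)
      exact ⟨u, by rw [hu]; rfl⟩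
    · intro r _ h
      apply Subtype.ext
      rw [Matrix.SpecialLinearGroup.coe_one]
      exact Matrix.ext_of_mulVec_single fun i => by rw [h _ (AddSubgroup.mem_top _), Matrix.one_mulVec]
  · refine isBlockModule_of_action _ (fun r v => fun i => v ((r : Equiv.Perm _)⁻¹ i)) (evenW (2 * m + 1))
      iso ρ ψ hρ hψ1 (fun v hv => hψ2 v hv) hker (fun e u => ?_)
      (irreducible_alt ⟨m, rfl⟩) (fun r _ => faithful_alt ⟨m, rfl⟩ r)
    obtain ⟨w, hw, hw'⟩ := heq e u
    exact ⟨w, hw, funext hw'⟩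

end CfsgLib.LocalEven.BlockModule
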