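import Cfsg.Prelude.Def_Amalgam

/-!
Elementary properties of the coset graph of a pair of subgroups.
-/

namespace CfsgLib.LocalEven

open Subgroup Cfsg

variable {X : Type*} [Group X] {M₁ M₂ : Subgroup X}

theorem cosetGraph_adj_iff {a b : CosetVertex M₁ M₂} : (cosetGraph M₁ M₂).Adj a b ↔
    (∃ x : X, a = Sum.inl (x : X ⧸ M₁) ∧ b = Sum.inr (x : X ⧸ M₂)) ∨
      (∃ x : X, b = Sum.inl (x : X ⧸ M₁) ∧ a = Sum.inr (x : X ⧸ M₂)) := by
  rw [cosetGraph, SimpleGraph.fromRel_adj]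
  constructor
  · exact fun h => h.2
  · intro h
    refine ⟨?_, h⟩
    rcases h with ⟨x, rfl, rfl⟩ | ⟨x, rfl, rfl⟩ <;> simp

theorem smul_inl_coe (g x : X) :
    g • (Sum.inl (x : X ⧸ M₁) : CosetVertex M₁ M₂) = Sum.inl ((g * x : X) : X ⧸ M₁) := rfl

theorem smul_inr_coe (g x : X) :
    g • (Sum.inr (x : X ⧸ M₂) : CosetVertex M₁ M₂) = Sum.inr ((g * x : X) : X ⧸ M₂) := rfl

theorem adj_base (x : X) : (cosetGraph M₁ M₂).Adj (Sum.inl (x : X ⧸ M₁)) (Sum.inr (x : X ⧸ M₂)) :=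
  cosetGraph_adj_iff.mpr (Or.inl ⟨x, rfl, rfl⟩)

theorem adj_smul (g : X) {a b : CosetVertex M₁ M₂} (h : (cosetGraph M₁ M₂).Adj a b) :
    (cosetGraph M₁ M₂).Adj (g • a) (g • b) := by
  rcases cosetGraph_adj_iff.mp h with ⟨x, rfl, rfl⟩ | ⟨x, rfl, rfl⟩
  · exact cosetGraph_adj_iff.mpr (Or.inl ⟨g * x, rfl, rfl⟩)
  · exact cosetGraph_adj_iff.mpr (Or.inr ⟨g * x, rfl, rfl⟩)

theorem adj_smul_iff (g : X) {a b : CosetVertex M₁ M₂} :
    (cosetGraph M₁ M₂).Adj (g • a) (g • b) ↔ (cosetGraph M₁ M₂).Adj a b :=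
  ⟨fun h => by simpa using adj_smul g⁻¹ h, adj_smul g⟩

theorem stabilizer_inl (x : X) :
    MulAction.stabilizer X (Sum.inl (x : X ⧸ M₁) : CosetVertex M₁ M₂) =
      M₁.map (MulAut.conj x).toMonoidHom := by
  ext g
  rw [MulAction.mem_stabilizer_iff, smul_inl_coe, Sum.inl.injEq, QuotientGroup.eq,
    Subgroup.mem_map_equiv, MulAut.conj_symm_apply, ← inv_mem_iff]
  simp [mul_assoc]

theorem stabilizer_inr (x : X) :
    MulAction.stabilizer X (Sum.inr (x : X ⧸ M₂) : CosetVertex M₁ M₂) =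
      M₂.map (MulAut.conj x).toMonoidHom := by
  ext g
  rw [MulAction.mem_stabilizer_iff, smul_inr_coe, Sum.inr.injEq, QuotientGroup.eq,
    Subgroup.mem_map_equiv, MulAut.conj_symm_apply, ← inv_mem_iff]
  simp [mul_assoc]

/-- The vertex stabilizer is transitive on the neighbours of its vertex. -/
theorem exists_stabilizer_smul_eq {δ μ μ' : CosetVertex M₁ M₂}
    (hμ : (cosetGraph M₁ M₂).Adj δ μ) (hμ' : (cosetGraph M₁ M₂).Adj δ μ') :
    ∃ g ∈ MulAction.stabilizer X δ, g • μ = μ' := by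
  rcases cosetGraph_adj_iff.mp hμ with ⟨x, rfl, rfl⟩ | ⟨x, rfl, rfl⟩
  · rcases cosetGraph_adj_iff.mp hμ' with ⟨y, hy, rfl⟩ | ⟨y, -, hy⟩
    · refine ⟨y * x⁻¹, ?_, by rw [smul_inr_coe, inv_mul_cancel_right]⟩
      rw [MulAction.mem_stabilizer_iff, smul_inl_coe, inv_mul_cancel_right, hy]
    · simp at hy
  · rcases cosetGraph_adj_iff.mp hμ' with ⟨y, hy, -⟩ | ⟨y, rfl, hy⟩
    · simp at hy
    · refine ⟨y * x⁻¹, ?_, by rw [smul_inl_coe, inv_mul_cancel_right]⟩
      rw [MulAction.mem_stabilizer_iff, smul_inr_coe, inv_mul_cancel_right, hy]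

theorem exists_adj (δ : CosetVertex M₁ M₂) : ∃ μ, (cosetGraph M₁ M₂).Adj δ μ := by
  rcases δ with q | q
  · induction q using QuotientGroup.induction_on with
    | _ x => exact ⟨_, adj_base x⟩
  · induction q using QuotientGroup.induction_on with
    | _ x => exact ⟨_, (adj_base x).symm⟩

theorem reachable_smul (g : X) {a b : CosetVertex M₁ M₂} (h : (cosetGraph M₁ M₂).Reachable a b) :
    (cosetGraph M₁ M₂).Reachable (g • a) (g • b) := by
  obtain ⟨w⟩ := h
  induction w with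
  | nil => exact SimpleGraph.Reachable.refl _
  | cons hadj _ ih => exact (adj_smul g hadj).reachable.trans ih

theorem cosetGraph_connected (hgen : M₁ ⊔ M₂ = ⊤) : (cosetGraph M₁ M₂).Connected := by
  set v₁ : CosetVertex M₁ M₂ := Sum.inl ((1 : X) : X ⧸ M₁) with hv₁
  set v₂ : CosetVertex M₁ M₂ := Sum.inr ((1 : X) : X ⧸ M₂) with hv₂
  have h12 : (cosetGraph M₁ M₂).Adj v₁ v₂ := adj_base 1
  let H : Subgroup X :=
    { carrier := {g | (cosetGraph M₁ M₂).Reachable v₁ (g • v₁)}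
      one_mem' := by simp
      mul_mem' := fun {a b} ha hb => by
        simp only [Set.mem_setOf_eq, mul_smul] at *
        exact ha.trans (reachable_smul a hb)
      inv_mem' := fun {a} ha => by
        simp only [Set.mem_setOf_eq] at *
        simpa using (reachable_smul a⁻¹ ha).symm }
  have hle₁ : M₁ ≤ H := by
    intro m hm
    have : m • v₁ = v₁ := by
      rw [hv₁, ← MulAction.mem_stabilizer_iff, stabilizer_inl]
      exact ⟨m, hm, by simp⟩
    show (cosetGraph M₁ M₂).Reachable v₁ (m • v₁)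
    rw [this]
  have hle₂ : M₂ ≤ H := by
    intro m hm
    have : m • v₂ = v₂ := by
      rw [hv₂, ← MulAction.mem_stabilizer_iff, stabilizer_inr]
      exact ⟨m, hm, by simp⟩
    have h' := adj_smul m h12
    rw [this] at h'
    exact h12.reachable.trans h'.symm.reachable
  have htop : ∀ g : X, (cosetGraph M₁ M₂).Reachable v₁ (g • v₁) := fun g =>
    (sup_le hle₁ hle₂) (hgen ▸ Subgroup.mem_top g)
  have hall : ∀ v : CosetVertex M₁ M₂, (cosetGraph M₁ M₂).Reachable v₁ v := by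
    intro v
    rcases v with q | q
    · induction q using QuotientGroup.induction_on with
      | _ x => simpa [hv₁, smul_inl_coe] using htop x
    · induction q using QuotientGroup.induction_on with
      | _ x =>
        have h' := adj_smul x h12
        simp only [hv₁, hv₂, smul_inr_coe, mul_one] at h'
        exact (htop x).trans h'.reachable
  haveI : Nonempty (CosetVertex M₁ M₂) := ⟨v₁⟩
  exact ⟨fun a b => (hall a).symm.trans (hall b)⟩

theorem mem_of_toPermHom_eq_one {g : X} (h : MulAction.toPermHom X (CosetVertex M₁ M₂) g = 1) :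
    g ∈ M₁ ⊓ M₂ := by
  have hfix : ∀ v : CosetVertex M₁ M₂, g • v = v := fun v => Equiv.ext_iff.mp h v
  constructor
  · have := MulAction.mem_stabilizer_iff.mpr (hfix (Sum.inl ((1 : X) : X ⧸ M₁)))
    rw [stabilizer_inl] at this
    simpa [Subgroup.mem_map_equiv] using this
  · have := MulAction.mem_stabilizer_iff.mpr (hfix (Sum.inr ((1 : X) : X ⧸ M₂)))
    rw [stabilizer_inr] at this
    simpa [Subgroup.mem_map_equiv] using this

theorem IsAmalgamPair.eq_bot_of_fix (h : IsAmalgamPair M₁ M₂) {T : Subgroup X}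
    (hT : ∀ v : CosetVertex M₁ M₂, T ≤ MulAction.stabilizer X v) : T = ⊥ := by
  have hker := h.2.2.2 (MulAction.toPermHom X (CosetVertex M₁ M₂)).ker
    (fun g hg => mem_of_toPermHom_eq_one hg) inferInstance
  rw [eq_bot_iff, ← hker]
  intro t ht
  exact Equiv.ext fun v => hT v ht

/-- A subgroup of an edge stabilizer whose normalizer is transitive on the neighbours of both ends is trivial. -/
theorem eq_bot_of_locally_transitive_normalizer (h : IsAmalgamPair M₁ M₂) {δ μ : CosetVertex M₁ M₂}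
    (hμ : (cosetGraph M₁ M₂).Adj δ μ) {T : Subgroup X} (hT : T ≤ edgeStabilizer δ μ)
    (hδ : ∀ ν ν' : CosetVertex M₁ M₂, (cosetGraph M₁ M₂).Adj δ ν → (cosetGraph M₁ M₂).Adj δ ν' →
      ∃ g ∈ Subgroup.normalizer (T : Set X) ⊓ MulAction.stabilizer X δ, g • ν = ν')
    (hμ' : ∀ ν ν' : CosetVertex M₁ M₂, (cosetGraph M₁ M₂).Adj μ ν → (cosetGraph M₁ M₂).Adj μ ν' →
      ∃ g ∈ Subgroup.normalizer (T : Set X) ⊓ MulAction.stabilizer X μ, g • ν = ν') : T = ⊥ := by
  let V : Set (CosetVertex M₁ M₂) :=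
    {v | ∃ g ∈ Subgroup.normalizer (T : Set X), v = g • δ ∨ v = g • μ}
  have hclosed : ∀ a b, a ∈ V → (cosetGraph M₁ M₂).Adj a b → b ∈ V := by
    rintro a b ⟨g, hg, rfl | rfl⟩ hab
    · obtain ⟨n, hn, hnb⟩ := hδ μ (g⁻¹ • b) hμ (by simpa using adj_smul g⁻¹ hab)
      exact ⟨g * n, Subgroup.mul_mem _ hg hn.1, Or.inr (by rw [mul_smul, hnb, smul_inv_smul])⟩
    · obtain ⟨n, hn, hnb⟩ := hμ' δ (g⁻¹ • b) hμ.symm (by simpa using adj_smul g⁻¹ hab)
      exact ⟨g * n, Subgroup.mul_mem _ hg hn.1, Or.inl (by rw [mul_smul, hnb, smul_inv_smul])⟩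
  have hall : ∀ v, v ∈ V := by
    intro v
    obtain ⟨w⟩ := (cosetGraph_connected h.1).preconnected δ v
    have key : ∀ {a b : CosetVertex M₁ M₂}, (cosetGraph M₁ M₂).Walk a b → a ∈ V → b ∈ V := by
      intro a b w
      induction w with
      | nil => exact fun ha => ha
      | cons hadj _ ih => exact fun ha => ih (hclosed _ _ ha hadj)
    exact key w ⟨1, Subgroup.one_mem _, Or.inl (one_smul X δ).symm⟩
  refine IsAmalgamPair.eq_bot_of_fix h fun v t ht => ?_
  obtain ⟨g, hg, hv⟩ := hall v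
  have ht' : g⁻¹ * t * g ∈ T := by
    have := (Subgroup.mem_normalizer_iff.mp (Subgroup.inv_mem _ hg) t).mp ht
    simpa using this
  obtain ⟨h1, h2⟩ := Subgroup.mem_inf.mp (hT ht')
  rw [MulAction.mem_stabilizer_iff]
  rcases hv with rfl | rfl
  · have := congrArg (g • ·) (MulAction.mem_stabilizer_iff.mp h1)
    simpa [smul_smul, mul_assoc] using this
  · have := congrArg (g • ·) (MulAction.mem_stabilizer_iff.mp h2)
    simpa [smul_smul, mul_assoc] using this

end CfsgLib.LocalEven
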