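import Cfsg.Agent.Lib.LocalEven.AmalgamBasic
import Cfsg.Agent.Lib.Transfer.Basic
import Cfsg.Prelude.Def_LocalStructure

/-!
Noncentral chief factors in the iterated modules `V_λ^{(n)}` of a rank two amalgam.
-/

set_option autoImplicit false

namespace CfsgLib.LocalEven.AmalgamChief

open Subgroup Cfsg
open scoped commutatorElement

variable {X : Type*} [Group X] {p : ℕ} [hp : Fact p.Prime] {M₁ M₂ : Subgroup X}

omit hp in
/-- `O^p` of the subgroup generated by the `p`-elements of a vertex stabilizer. -/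
abbrev resAt (p : ℕ) (lam : CosetVertex M₁ M₂) : Subgroup X :=
  (pResidual p ↥(pElementClosure p (MulAction.stabilizer X lam))).map
    (pElementClosure p (MulAction.stabilizer X lam)).subtype

theorem normalizer_edge_sylow_le (h : IsSpeAmalgamPair p M₁ M₂) {lam al : CosetVertex M₁ M₂}
    (hadj : (cosetGraph M₁ M₂).Adj lam al) {T : Subgroup X}
    (hT : IsSylowSub p T (edgeStabilizer lam al)) :
    MulAction.stabilizer X lam ⊓ normalizer (T : Set X) ≤ MulAction.stabilizer X al := by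
  obtain ⟨hc, hN, -, -⟩ := h
  obtain ⟨-, hf₁, hf₂, -⟩ := hc
  haveI := hf₁
  haveI : Finite ↥(M₁ ⊓ M₂) :=
    Finite.of_injective _ (Subgroup.inclusion_injective (inf_le_left : M₁ ⊓ M₂ ≤ M₁))
  -- the statement at the base edge
  have base : ∀ {T₀ : Subgroup X}, IsSylowSub p T₀ (M₁ ⊓ M₂) →
      M₁ ⊓ normalizer (T₀ : Set X) ≤ M₂ ∧ M₂ ⊓ normalizer (T₀ : Set X) ≤ M₁ := by
    intro T₀ hT₀
    obtain ⟨S, rfl⟩ := hT₀.exists_sylow
    obtain ⟨h1, h2⟩ := hN S
    exact ⟨fun x hx => (h2 hx).2, fun x hx => (h2 (h1.ge hx)).1⟩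
  have conj : ∀ (x : X) {N N' : Subgroup X},
      N' = N.map (MulAut.conj x).toMonoidHom → IsSylowSub p T N' →
      IsSylowSub p (T.map (MulAut.conj x⁻¹).toMonoidHom) N := by
    intro x N N' hN' hS
    have := hS.map (MulAut.conj x⁻¹)
    rwa [hN', Subgroup.map_map, show ((MulAut.conj x⁻¹).toMonoidHom.comp (MulAut.conj x).toMonoidHom) =
      MonoidHom.id X from MonoidHom.ext fun y => by simp [mul_assoc], Subgroup.map_id] at this
  have key : ∀ (x : X) (g : X), g ∈ normalizer (T : Set X) →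
      x⁻¹ * g * x ∈ normalizer ((T.map (MulAut.conj x⁻¹).toMonoidHom : Subgroup X) : Set X) := by
    intro x g hg
    rw [Subgroup.mem_normalizer_iff]
    intro y
    rw [Subgroup.mem_map_equiv, Subgroup.mem_map_equiv, MulAut.conj_symm_apply, MulAut.conj_symm_apply,
      inv_inv, Subgroup.mem_normalizer_iff.mp hg]
    simp [mul_assoc]
  intro g hg
  obtain ⟨hg1, hg2⟩ := Subgroup.mem_inf.mp hg
  rcases cosetGraph_adj_iff.mp hadj with ⟨x, rfl, rfl⟩ | ⟨x, rfl, rfl⟩
  · rw [stabilizer_inl, Subgroup.mem_map_equiv, MulAut.conj_symm_apply] at hg1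
    have hs := conj x (N := M₁ ⊓ M₂) (by
      rw [edgeStabilizer, stabilizer_inl, stabilizer_inr,
        ← Subgroup.map_inf M₁ M₂ _ (MulAut.conj x).injective]) hT
    rw [stabilizer_inr, Subgroup.mem_map_equiv, MulAut.conj_symm_apply]
    exact (base hs).1 ⟨hg1, key x g hg2⟩
  · rw [stabilizer_inr, Subgroup.mem_map_equiv, MulAut.conj_symm_apply] at hg1
    have hs := conj x (N := M₁ ⊓ M₂) (by
      rw [edgeStabilizer, stabilizer_inl, stabilizer_inr, inf_comm,
        ← Subgroup.map_inf M₁ M₂ _ (MulAut.conj x).injective]) hT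
    rw [stabilizer_inl, Subgroup.mem_map_equiv, MulAut.conj_symm_apply]
    exact (base hs).2 ⟨hg1, key x g hg2⟩

/-- The vertex stabilizer is generated by the residual and an edge stabilizer. -/
theorem stabilizer_le_sup (h : IsSpeAmalgamPair p M₁ M₂) {lam al : CosetVertex M₁ M₂}
    (hadj : (cosetGraph M₁ M₂).Adj lam al) :
    MulAction.stabilizer X lam ≤ resAt p lam ⊔ edgeStabilizer lam al := by
  haveI := IsCharPAmalgamPair.finite_stabilizer h.1 lam
  obtain ⟨T, hTe, hTK, -⟩ := IsCharPAmalgamPair.exists_edge_sylow h.1 hadj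
  set K := MulAction.stabilizer X lam with hK
  set L := pElementClosure p K with hL
  have hLK : L ≤ K := pElementClosure_le p K
  haveI : Finite ↥L := Finite.of_injective _ (Subgroup.inclusion_injective hLK)
  haveI : Finite ↥T := Finite.of_injective _ (Subgroup.inclusion_injective hTK.1)
  have hTL : T ≤ L := le_pElementClosure hTK.1 hTK.isPGroup
  have hTSL : IsSylowSub p T L := by
    refine ⟨hTL, ?_⟩
    rw [hTK.2]
    congr 1
    apply le_antisymm
    · have := Subgroup.card_dvd_of_le hTL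
      rw [hTK.2] at this
      exact (hp.out.pow_dvd_iff_le_factorization Nat.card_pos.ne').1 this
    · exact (Nat.factorization_le_iff_dvd Nat.card_pos.ne' Nat.card_pos.ne').2
        (Subgroup.card_dvd_of_le hLK) p
  have hLle : L ≤ resAt p lam ⊔ edgeStabilizer lam al := by
    obtain ⟨S, hS⟩ := hTSL.exists_sylow
    have hmap : ((pResidual p ↥L ⊔ (S : Subgroup ↥L)).map L.subtype) = L := by
      rw [CfsgLib.Transfer.pResidual_sup_sylow S, ← MonoidHom.range_eq_map, Subgroup.range_subtype]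
    rw [Subgroup.map_sup, hS] at hmap
    calc L = (pResidual p ↥L).map L.subtype ⊔ T := hmap.symm
      _ ≤ _ := sup_le_sup_left hTe.1 _
  intro g hg
  have hconjL : T.map (MulAut.conj g).toMonoidHom ≤ L := by
    rintro _ ⟨t, ht, rfl⟩
    exact (Subgroup.mem_normalizer_iff.mp (le_normalizer_pElementClosure p K hg) t).mp (hTL ht)
  have hTgL : IsSylowSub p (T.map (MulAut.conj g).toMonoidHom) L :=
    ⟨hconjL, by rw [Subgroup.card_map_of_injective
      (show Function.Injective (MulAut.conj g).toMonoidHom from (MulAut.conj g).injective), hTSL.2]⟩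
  obtain ⟨l, hl, hlT⟩ := hTSL.exists_conj hTgL
  have hn : l⁻¹ * g ∈ normalizer (T : Set X) := by
    rw [Subgroup.mem_normalizer_iff]
    intro y
    constructor
    · intro hy
      have : g * y * g⁻¹ ∈ T.map (MulAut.conj l).toMonoidHom := hlT.symm ▸ ⟨y, hy, rfl⟩
      obtain ⟨z, hz, he⟩ := this
      have he' : l * z * l⁻¹ = g * y * g⁻¹ := he
      rw [show l⁻¹ * g * y * (l⁻¹ * g)⁻¹ = l⁻¹ * (g * y * g⁻¹) * l by group, ← he']
      simpa [mul_assoc] using hz
    · intro hy
      have : g * y * g⁻¹ ∈ T.map (MulAut.conj g).toMonoidHom :=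
        hlT ▸ ⟨_, hy, show l * (l⁻¹ * g * y * (l⁻¹ * g)⁻¹) * l⁻¹ = g * y * g⁻¹ by group⟩
      obtain ⟨z, hz, he⟩ := this
      have : z = y := (MulAut.conj g).injective he
      exact this ▸ hz
  have hmem : l⁻¹ * g ∈ edgeStabilizer lam al := Subgroup.mem_inf.mpr
    ⟨K.mul_mem (K.inv_mem (hLK hl)) hg,
      normalizer_edge_sylow_le h hadj hTe ⟨K.mul_mem (K.inv_mem (hLK hl)) hg, hn⟩⟩
  have := mul_mem (hLle hl) (Subgroup.mem_sup_right (S := resAt p lam) hmem)
  simpa using this

/-- A nontrivial subgroup normalized by the neighbouring stabilizer is moved by the residual. -/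
theorem not_normalized_by_residual (h : IsSpeAmalgamPair p M₁ M₂) {lam al : CosetVertex M₁ M₂}
    (hadj : (cosetGraph M₁ M₂).Adj lam al) {U : Subgroup X} (hU1 : U ≠ ⊥)
    (hUQ : U ≤ vertexQ p lam) (hal : MulAction.stabilizer X al ≤ normalizer (U : Set X)) :
    ¬ resAt p lam ≤ normalizer (U : Set X) := by
  intro hres
  have hlam : MulAction.stabilizer X lam ≤ normalizer (U : Set X) :=
    (stabilizer_le_sup h hadj).trans (sup_le hres (inf_le_right.trans hal))
  refine hU1 (eq_bot_of_locally_transitive_normalizer h.1.1 hadj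
    (le_inf (hUQ.trans (pCoreOf_le p _))
      (hUQ.trans (IsCharPAmalgamPair.vertexQ_le_stabilizer h.1 hadj))) ?_ ?_)
  · intro ν ν' hν hν'
    obtain ⟨g, hg, hgv⟩ := exists_stabilizer_smul_eq hν hν'
    exact ⟨g, ⟨hlam hg, hg⟩, hgv⟩
  · intro ν ν' hν hν'
    obtain ⟨g, hg, hgv⟩ := exists_stabilizer_smul_eq hν hν'
    exact ⟨g, ⟨hal hg, hg⟩, hgv⟩

omit hp in
theorem dist_smul_le (hconn : (cosetGraph M₁ M₂).Connected) (g : X) (a c : CosetVertex M₁ M₂) :
    (cosetGraph M₁ M₂).dist (g • a) (g • c) ≤ (cosetGraph M₁ M₂).dist a c := by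
  obtain ⟨w, hw⟩ := hconn.exists_walk_length_eq_dist a c
  let f : cosetGraph M₁ M₂ →g cosetGraph M₁ M₂ := ⟨(g • ·), fun hab => adj_smul g hab⟩
  have := SimpleGraph.dist_le (w.map f)
  rwa [SimpleGraph.Walk.length_map, hw] at this

theorem map_vertexZ_le (h : IsCharPAmalgamPair p M₁ M₂) (g : X) (μ : CosetVertex M₁ M₂) :
    (vertexZ p μ).map (MulAut.conj g).toMonoidHom ≤ vertexZ p (g • μ) := by
  haveI := IsCharPAmalgamPair.finite_stabilizer h μ
  haveI := IsCharPAmalgamPair.finite_stabilizer h (g • μ)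
  have he : (MulAction.stabilizer X μ).map (MulAut.conj g).toMonoidHom = MulAction.stabilizer X (g • μ) :=
    (MulAction.stabilizer_smul_eq_stabilizer_map_conj g μ).symm
  haveI : Finite ↥((MulAction.stabilizer X μ).map (MulAut.conj g).toMonoidHom) := by
    rw [he]; infer_instance
  have := map_sylowCenterClosure_le (p := p) (H := MulAction.stabilizer X μ) g
  rwa [he] at this

theorem stabilizer_le_normalizer_vertexVIter (h : IsCharPAmalgamPair p M₁ M₂) (n : ℕ)
    (al : CosetVertex M₁ M₂) :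
    MulAction.stabilizer X al ≤ normalizer (vertexVIter p M₁ M₂ n al : Set X) := by
  have hconn := cosetGraph_connected h.1.1
  have key : ∀ g ∈ MulAction.stabilizer X al, ∀ x ∈ vertexVIter p M₁ M₂ n al,
      g * x * g⁻¹ ∈ vertexVIter p M₁ M₂ n al := by
    intro g hg
    have : vertexVIter p M₁ M₂ n al ≤
        (vertexVIter p M₁ M₂ n al).comap (MulAut.conj g).toMonoidHom := by
      refine iSup_le fun μ => ?_
      rw [← Subgroup.map_le_iff_le_comap]
      refine (map_vertexZ_le h g μ).trans (le_iSup_of_le ⟨g • (μ : CosetVertex M₁ M₂), ?_⟩ le_rfl)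
      have := dist_smul_le hconn g al μ
      rw [MulAction.mem_stabilizer_iff.mp hg] at this
      exact this.trans μ.2
    exact fun x hx => this hx
  intro g hg
  rw [Subgroup.mem_normalizer_iff]
  exact fun x => ⟨key g hg x, fun hx => by simpa [mul_assoc] using key g⁻¹ (inv_mem hg) _ hx⟩

theorem vertexZ_le_vertexVIter (p : ℕ) {n : ℕ} {al μ : CosetVertex M₁ M₂}
    (hd : (cosetGraph M₁ M₂).dist al μ ≤ n) : vertexZ p μ ≤ vertexVIter p M₁ M₂ n al :=
  le_iSup_of_le (⟨μ, hd⟩ : {μ // (cosetGraph M₁ M₂).dist al μ ≤ n}) le_rfl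

theorem vertexVIter_le_succ (hconn : (cosetGraph M₁ M₂).Connected) {n : ℕ}
    {lam al : CosetVertex M₁ M₂} (hadj : (cosetGraph M₁ M₂).Adj lam al) :
    vertexVIter p M₁ M₂ n al ≤ vertexVIter p M₁ M₂ (n + 1) lam := by
  refine iSup_le fun μ => vertexZ_le_vertexVIter p ?_
  have h1 := hconn.dist_triangle (u := lam) (v := al) (w := (μ : CosetVertex M₁ M₂))
  have h2 := SimpleGraph.dist_eq_one_iff_adj.mpr hadj
  have := μ.2
  omega

theorem vertexZ_ne_bot (h : IsCharPAmalgamPair p M₁ M₂) (al : CosetVertex M₁ M₂) :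
    vertexZ p al ≠ ⊥ := by
  haveI := IsCharPAmalgamPair.finite_stabilizer h al
  obtain ⟨S⟩ : Nonempty (Sylow p ↥(MulAction.stabilizer X al)) := inferInstance
  have hS := isSylowSub_map S
  set T := (S : Subgroup ↥(MulAction.stabilizer X al)).map (MulAction.stabilizer X al).subtype
  haveI : Finite ↥T := Finite.of_injective _ (Subgroup.inclusion_injective hS.1)
  have hdvd : p ∣ Nat.card ↥(MulAction.stabilizer X al) := by
    obtain ⟨-, -, -, h1, h2, -⟩ := h
    obtain ⟨g, hg | hg⟩ := vertex_stabilizer_eq al <;> rw [hg, Subgroup.card_map_of_injective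
      (show Function.Injective (MulAut.conj g).toMonoidHom from (MulAut.conj g).injective)]
    exacts [h1, h2]
  haveI : Nontrivial ↥T := by
    rw [← Finite.one_lt_card_iff_nontrivial, hS.2]
    exact Nat.one_lt_pow (hp.out.factorization_pos_of_dvd Nat.card_pos.ne' hdvd).ne' hp.out.one_lt
  haveI := hS.isPGroup.center_nontrivial
  obtain ⟨⟨z, hz⟩, ho⟩ := exists_prime_orderOf_dvd_card' (G := ↥(Subgroup.center ↥T)) p (by
    obtain ⟨k, hk⟩ := IsPGroup.iff_card.1 (hS.isPGroup.to_subgroup (Subgroup.center ↥T))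
    have h1 : 1 < Nat.card ↥(Subgroup.center ↥T) := Finite.one_lt_card
    rw [hk] at h1 ⊢
    exact dvd_pow_self p (by rintro rfl; simp at h1))
  rw [Subgroup.orderOf_mk, ← Subgroup.orderOf_coe] at ho
  intro hbot
  have hmem : (z : X) ∈ omegaOne p (T ⊓ Subgroup.centralizer (T : Set X)) :=
    Subgroup.subset_closure ⟨⟨z.2, Subgroup.mem_centralizer_iff.2 fun t ht =>
      congrArg Subtype.val (Subgroup.mem_center_iff.1 hz ⟨t, ht⟩)⟩, ho ▸ pow_orderOf_eq_one _⟩
  have hz1 : (z : X) = 1 := by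
    have := le_sylowCenterClosure hS hmem
    change (z : X) ∈ vertexZ p al at this
    rwa [hbot, Subgroup.mem_bot] at this
  rw [hz1, orderOf_one] at ho
  exact hp.out.one_lt.ne ho

theorem vertexZ_comm_vertexQ (h : IsCharPAmalgamPair p M₁ M₂) {lam : CosetVertex M₁ M₂} {z q : X}
    (hz : z ∈ vertexZ p lam) (hq : q ∈ vertexQ p lam) : z * q = q * z := by
  haveI := IsCharPAmalgamPair.finite_stabilizer h lam
  have hle : vertexZ p lam ≤ Subgroup.centralizer (vertexQ p lam : Set X) := by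
    rw [vertexZ, sylowCenterClosure_le_iff]
    intro T hT
    exact (CfsgLib.PGroup.omegaOne_le p _).trans (inf_le_right.trans
      (Subgroup.centralizer_le hT.pCoreOf_le))
  exact (Subgroup.mem_centralizer_iff.mp (hle hz) q hq).symm

/-- A normal subgroup of a nilpotent group equal to its commutator modulo a normal subgroup lies in it. -/
theorem le_of_le_sup_commutator {P : Type*} [Group P] [Group.IsNilpotent P] (V W : Subgroup P)
    [W.Normal] (h : V ≤ W ⊔ ⁅V, (⊤ : Subgroup P)⁆) : V ≤ W := by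
  set π := QuotientGroup.mk' W
  have hsurj : Function.Surjective π := QuotientGroup.mk'_surjective W
  have hV : V.map π ≤ ⁅V.map π, (⊤ : Subgroup (P ⧸ W))⁆ := by
    have := Subgroup.map_mono (f := π) h
    rwa [Subgroup.map_sup, QuotientGroup.map_mk'_self, bot_sup_eq, Subgroup.map_commutator,
      Subgroup.map_top_of_surjective π hsurj] at this
  haveI : Group.IsNilpotent (P ⧸ W) := inferInstance
  have key : ∀ k, V.map π ≤ (⊤ : Subgroup (P ⧸ W)).lowerCentralSeries k := by
    intro k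
    induction k with
    | zero => simp
    | succ k ih => exact hV.trans (Subgroup.commutator_mono ih le_rfl)
  obtain ⟨n, hn⟩ := Subgroup.nilpotent_iff_lowerCentralSeries.mp ‹Group.IsNilpotent (P ⧸ W)›
  have h0 : V.map π = ⊥ := le_bot_iff.mp (hn ▸ key n)
  intro x hx
  rw [← QuotientGroup.ker_mk' W, MonoidHom.mem_ker]
  exact Subgroup.mem_bot.mp (h0 ▸ Subgroup.mem_map_of_mem π hx)

/-- `V_λ^{(n)}` is noncentral over `[V_λ^{(n)}, Q_λ]`. -/
theorem not_commutator_le_commutator (h : IsSpeAmalgamPair p M₁ M₂) (lam : CosetVertex M₁ M₂) {n : ℕ}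
    (hn : 1 ≤ n) (hVQ : vertexVIter p M₁ M₂ n lam ≤ vertexQ p lam) :
    ¬ ⁅vertexVIter p M₁ M₂ n lam, resAt p lam⁆ ≤ ⁅vertexVIter p M₁ M₂ n lam, vertexQ p lam⁆ := by
  intro hle
  have hconn := cosetGraph_connected h.1.1.1
  obtain ⟨al, hadj⟩ := exists_adj lam
  haveI := IsCharPAmalgamPair.finite_stabilizer h.1 lam
  obtain ⟨m, rfl⟩ : ∃ m, n = m + 1 := ⟨n - 1, by omega⟩
  set V := vertexVIter p M₁ M₂ (m + 1) lam with hV
  set U := vertexVIter p M₁ M₂ m al with hU
  set Q := vertexQ p lam with hQ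
  set Z := vertexZ p lam with hZ
  have hUV : U ≤ V := vertexVIter_le_succ hconn hadj
  have hZV : Z ≤ V := vertexZ_le_vertexVIter p (by simp [SimpleGraph.dist_self])
  have hVn : MulAction.stabilizer X lam ≤ normalizer (V : Set X) :=
    stabilizer_le_normalizer_vertexVIter h.1 _ lam
  have hQn : MulAction.stabilizer X lam ≤ normalizer (Q : Set X) := le_normalizer_pCoreOf p _
  have hZn : MulAction.stabilizer X lam ≤ normalizer (Z : Set X) := le_normalizer_sylowCenterClosure
  have hUn : MulAction.stabilizer X al ≤ normalizer (U : Set X) :=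
    stabilizer_le_normalizer_vertexVIter h.1 _ al
  have hQK : Q ≤ MulAction.stabilizer X lam := pCoreOf_le p _
  have hQal : Q ≤ MulAction.stabilizer X al := IsCharPAmalgamPair.vertexQ_le_stabilizer h.1 hadj
  set D := U ⊔ Z ⊔ ⁅V, Q⁆ with hD
  have hEK : resAt p lam ≤ MulAction.stabilizer X lam :=
    (Subgroup.map_subtype_le _).trans (pElementClosure_le p _)
  have hVQn : ∀ g ∈ MulAction.stabilizer X lam, ∀ x ∈ ⁅V, Q⁆, g * x * g⁻¹ ∈ ⁅V, Q⁆ := by
    intro g hg
    have : ⁅V, Q⁆ ≤ (⁅V, Q⁆).comap (MulAut.conj g).toMonoidHom := by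
      rw [Subgroup.commutator_le]
      intro a ha q hq
      rw [Subgroup.mem_comap, map_commutatorElement]
      exact Subgroup.commutator_mem_commutator ((Subgroup.mem_normalizer_iff.mp (hVn hg) a).mp ha)
        ((Subgroup.mem_normalizer_iff.mp (hQn hg) q).mp hq)
    exact fun x hx => this hx
  have hVD : V ≤ D := by
    have hedge : ∀ g ∈ edgeStabilizer lam al, ∀ x ∈ D, g * x * g⁻¹ ∈ D := by
      intro g hg
      obtain ⟨hg1, hg2⟩ := Subgroup.mem_inf.mp hg
      have : D ≤ D.comap (MulAut.conj g).toMonoidHom := sup_le (sup_le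
        (fun x hx => Subgroup.mem_sup_left (Subgroup.mem_sup_left
          ((Subgroup.mem_normalizer_iff.mp (hUn hg2) x).mp hx)))
        (fun x hx => Subgroup.mem_sup_left (Subgroup.mem_sup_right
          ((Subgroup.mem_normalizer_iff.mp (hZn hg1) x).mp hx))))
        (fun x hx => Subgroup.mem_sup_right (hVQn g hg1 x hx))
      exact fun x hx => this hx
    have hDV : D ≤ V := sup_le (sup_le hUV hZV) (by
      rw [Subgroup.commutator_le]
      intro a ha q hq
      rw [commutatorElement_def, show a * q * a⁻¹ * q⁻¹ = a * (q * a⁻¹ * q⁻¹) by group]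
      exact mul_mem ha ((Subgroup.mem_normalizer_iff.mp (hVn (hQK hq)) _).mp (inv_mem ha)))
    have hres : ∀ g ∈ resAt p lam, ∀ x ∈ D, g * x * g⁻¹ ∈ D := by
      intro g hg x hx
      have : ⁅x, g⁆ ∈ ⁅V, Q⁆ := hle (Subgroup.commutator_mem_commutator (hDV hx) hg)
      rw [show g * x * g⁻¹ = (⁅x, g⁆)⁻¹ * x by rw [commutatorElement_def]; group]
      exact mul_mem (Subgroup.mem_sup_right (inv_mem this)) hx
    have hN : MulAction.stabilizer X lam ≤ normalizer (D : Set X) := by
      refine (stabilizer_le_sup h hadj).trans (sup_le ?_ ?_) <;> intro g hg <;>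
        rw [Subgroup.mem_normalizer_iff] <;> intro x
      · exact ⟨hres g hg x, fun hx => by simpa [mul_assoc] using hres g⁻¹ (inv_mem hg) _ hx⟩
      · exact ⟨hedge g hg x, fun hx => by simpa [mul_assoc] using hedge g⁻¹ (inv_mem hg) _ hx⟩
    refine iSup_le fun μ => ?_
    by_cases hμ : (μ : CosetVertex M₁ M₂) = lam
    · rw [hμ]; exact le_sup_right.trans le_sup_left
    obtain ⟨c, hc, hd⟩ := exists_adj_dist_lt hconn (Ne.symm hμ)
    obtain ⟨g, hg, rfl⟩ := exists_stabilizer_smul_eq hadj hc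
    intro z hz
    have hz' : g⁻¹ * z * g ∈ vertexZ p (g⁻¹ • (μ : CosetVertex M₁ M₂)) :=
      map_vertexZ_le h.1 g⁻¹ μ ⟨z, hz, by simp [mul_assoc]⟩
    have hdist : (cosetGraph M₁ M₂).dist al (g⁻¹ • (μ : CosetVertex M₁ M₂)) ≤ m := by
      have := dist_smul_le hconn g⁻¹ (g • al) μ
      rw [inv_smul_smul] at this
      have := μ.2
      omega
    have := (Subgroup.mem_normalizer_iff.mp (hN hg) _).mp
      (Subgroup.mem_sup_left (T := ⁅V, Q⁆) (Subgroup.mem_sup_left (T := Z)
        (vertexZ_le_vertexVIter p hdist hz')))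
    simpa [mul_assoc] using this
  -- inside the `p`-group `Q`
  have hVW : V ≤ U ⊔ Z := by
    haveI : Finite ↥Q := Finite.of_injective _ (Subgroup.inclusion_injective hQK)
    haveI : Group.IsNilpotent ↥Q := (isPGroup_pCoreOf p _).isNilpotent
    have hWn : Q ≤ normalizer ((U ⊔ Z : Subgroup X) : Set X) := by
      have key : ∀ q ∈ Q, ∀ x ∈ U ⊔ Z, q * x * q⁻¹ ∈ U ⊔ Z := by
        intro q hq
        have : U ⊔ Z ≤ (U ⊔ Z).comap (MulAut.conj q).toMonoidHom := sup_le
          (fun x hx => Subgroup.mem_sup_left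
            ((Subgroup.mem_normalizer_iff.mp (hUn (hQal hq)) x).mp hx))
          (fun x hx => Subgroup.mem_sup_right
            ((Subgroup.mem_normalizer_iff.mp (hZn (hQK hq)) x).mp hx))
        exact fun x hx => this hx
      intro q hq
      rw [Subgroup.mem_normalizer_iff]
      exact fun x => ⟨key q hq x, fun hx => by simpa [mul_assoc] using key q⁻¹ (inv_mem hq) _ hx⟩
    haveI : ((U ⊔ Z).subgroupOf Q).Normal := Subgroup.normal_subgroupOf_of_le_normalizer hWn
    have hmap : (⁅V.subgroupOf Q, (⊤ : Subgroup ↥Q)⁆).map Q.subtype = ⁅V, Q⁆ := by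
      rw [Subgroup.map_commutator, Subgroup.map_subgroupOf_eq_of_le hVQ, ← MonoidHom.range_eq_map,
        Subgroup.range_subtype]
    have h2 : V.subgroupOf Q ≤ (U ⊔ Z).subgroupOf Q ⊔ ⁅V.subgroupOf Q, (⊤ : Subgroup ↥Q)⁆ := by
      rw [← Subgroup.map_subtype_le_map_subtype, Subgroup.map_sup, hmap,
        Subgroup.map_subgroupOf_eq_of_le hVQ,
        Subgroup.map_subgroupOf_eq_of_le (sup_le (hUV.trans hVQ) (hZV.trans hVQ))]
      exact hVD
    have := le_of_le_sup_commutator _ _ h2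
    exact fun x hx => this (x := ⟨x, hVQ hx⟩) hx
  have hcomm : ⁅V, Q⁆ ≤ U := by
    rw [Subgroup.commutator_le]
    let S : Subgroup X :=
      { carrier := {x | x ∈ normalizer (U : Set X) ∧ ∀ q ∈ Q, ⁅x, q⁆ ∈ U}
        one_mem' := ⟨one_mem _, fun q _ => by simp [commutatorElement_def]⟩
        mul_mem' := fun {x y} hx hy => ⟨mul_mem hx.1 hy.1, fun q hq => by
          rw [show ⁅x * y, q⁆ = x * ⁅y, q⁆ * x⁻¹ * ⁅x, q⁆ by
            simp only [commutatorElement_def]; group]
          exact mul_mem ((Subgroup.mem_normalizer_iff.mp hx.1 _).mp (hy.2 q hq)) (hx.2 q hq)⟩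
        inv_mem' := fun {x} hx => ⟨inv_mem hx.1, fun q hq => by
          rw [show ⁅x⁻¹, q⁆ = x⁻¹ * (⁅x, q⁆)⁻¹ * x⁻¹⁻¹ by simp only [commutatorElement_def]; group]
          exact (Subgroup.mem_normalizer_iff.mp (inv_mem hx.1) _).mp (inv_mem (hx.2 q hq))⟩ }
    have hS : U ⊔ Z ≤ S := by
      refine sup_le (fun x hx => ⟨Subgroup.le_normalizer hx, fun q hq => ?_⟩) (fun z hz => ⟨?_, fun q hq => ?_⟩)
      · rw [commutatorElement_def, show x * q * x⁻¹ * q⁻¹ = x * (q * x⁻¹ * q⁻¹) by group]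
        exact mul_mem hx ((Subgroup.mem_normalizer_iff.mp (hUn (hQal hq)) _).mp (inv_mem hx))
      · exact hUn (hQal (hVQ (hZV hz)))
      · rw [commutatorElement_eq_one_iff_mul_comm.mpr (vertexZ_comm_vertexQ h.1 hz hq)]
        exact one_mem _
    exact fun x hx q hq => (hS (hVW hx)).2 q hq
  refine not_normalized_by_residual h hadj (fun h0 => vertexZ_ne_bot h.1 al (le_bot_iff.mp (h0 ▸ ?_)))
    (hUV.trans hVQ) hUn fun g hg => ?_
  · exact vertexZ_le_vertexVIter p (by simp [SimpleGraph.dist_self])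
  · have key : ∀ e ∈ resAt p lam, ∀ x ∈ U, e * x * e⁻¹ ∈ U := fun e he x hx => by
      have hxe : ⁅x, e⁆ ∈ U := hcomm (hle (Subgroup.commutator_mem_commutator (hUV hx) he))
      rw [show e * x * e⁻¹ = (⁅x, e⁆)⁻¹ * x by rw [commutatorElement_def]; group]
      exact mul_mem (inv_mem hxe) hx
    rw [Subgroup.mem_normalizer_iff]
    exact fun x => ⟨key g hg x, fun hx => by simpa [mul_assoc] using key g⁻¹ (inv_mem hg) _ hx⟩

/-- `V_λ^{(n)}` is noncentral over `V_λ^{(n-2)}`. -/
theorem not_commutator_le_vertexVIter (h : IsSpeAmalgamPair p M₁ M₂) (lam : CosetVertex M₁ M₂) {n : ℕ}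
    (hn : 2 ≤ n) (hVQ : vertexVIter p M₁ M₂ n lam ≤ vertexQ p lam) :
    ¬ ⁅vertexVIter p M₁ M₂ n lam, resAt p lam⁆ ≤ vertexVIter p M₁ M₂ (n - 2) lam := by
  intro hle
  have hconn := cosetGraph_connected h.1.1.1
  obtain ⟨al, hadj⟩ := exists_adj lam
  obtain ⟨m, rfl⟩ : ∃ m, n = m + 1 + 1 := ⟨n - 2, by omega⟩
  rw [show m + 1 + 1 - 2 = m by omega] at hle
  have hUV : vertexVIter p M₁ M₂ (m + 1) al ≤ vertexVIter p M₁ M₂ (m + 1 + 1) lam :=
    vertexVIter_le_succ hconn hadj
  have hWU : vertexVIter p M₁ M₂ m lam ≤ vertexVIter p M₁ M₂ (m + 1) al :=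
    vertexVIter_le_succ hconn hadj.symm
  refine not_normalized_by_residual h hadj (fun h0 => vertexZ_ne_bot h.1 al (le_bot_iff.mp (h0 ▸ ?_)))
    (hUV.trans hVQ) (stabilizer_le_normalizer_vertexVIter h.1 _ al) fun g hg => ?_
  · exact vertexZ_le_vertexVIter p (by simp [SimpleGraph.dist_self])
  · have key : ∀ e ∈ resAt p lam, ∀ x ∈ vertexVIter p M₁ M₂ (m + 1) al,
        e * x * e⁻¹ ∈ vertexVIter p M₁ M₂ (m + 1) al := fun e he x hx => by
      have hxe := hWU (hle (Subgroup.commutator_mem_commutator (hUV hx) he))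
      rw [show e * x * e⁻¹ = (⁅x, e⁆)⁻¹ * x by rw [commutatorElement_def]; group]
      exact mul_mem (inv_mem hxe) hx
    rw [Subgroup.mem_normalizer_iff]
    exact fun x => ⟨key g hg x, fun hx => by simpa [mul_assoc] using key g⁻¹ (inv_mem hg) _ hx⟩

end CfsgLib.LocalEven.AmalgamChief
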