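import Cfsg.Agent.Lib.LocalEven.FrakM

/-!
Consequences of asymmetry of `Y_M` for `M` with the basic property: every `p`-subgroup containing `O_p(M)`
normalizes it, and `O_p(M)` is weakly closed.
-/

set_option autoImplicit false

namespace CfsgLib.LocalEven.FrakM

open Subgroup Cfsg
open scoped commutatorElement

variable {G : Type*} [Group G] [Finite G] {p : ℕ}

/-- The conjugates of `(Y_M, O_p(M))` by `g` and by `h` are adjacent: a common `p`-subgroup contains
both cores and normalizes both `Y`'s. -/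
def Adj (p : ℕ) (M : Subgroup G) (g h : G) : Prop :=
  ∃ L : Subgroup G, IsPGroup p L ∧
    (Cfsg.pCoreOf p M).map (MulAut.conj g).toMonoidHom ≤ L ∧
    (Cfsg.pCoreOf p M).map (MulAut.conj h).toMonoidHom ≤ L ∧
    L ≤ normalizer ((Cfsg.largestPReducedOf p M).map (MulAut.conj g).toMonoidHom : Set G) ∧
    L ≤ normalizer ((Cfsg.largestPReducedOf p M).map (MulAut.conj h).toMonoidHom : Set G)

omit [Finite G] in
theorem Adj.symm {M : Subgroup G} {g h : G} (a : Adj p M g h) : Adj p M h g := by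
  obtain ⟨L, h1, h2, h3, h4, h5⟩ := a
  exact ⟨L, h1, h3, h2, h5, h4⟩

omit [Finite G] in
theorem Adj.smul {M : Subgroup G} {g h : G} (a : Adj p M g h) (x : G) : Adj p M (x * g) (x * h) := by
  obtain ⟨L, h1, h2, h3, h4, h5⟩ := a
  refine ⟨L.map (MulAut.conj x).toMonoidHom, h1.map _, ?_, ?_, ?_, ?_⟩
  · rw [← WC.map_conj_map]
    exact Subgroup.map_mono h2
  · rw [← WC.map_conj_map]
    exact Subgroup.map_mono h3
  · rw [← WC.map_conj_map]
    exact (Subgroup.map_mono h4).trans (Subgroup.le_normalizer_map _)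
  · rw [← WC.map_conj_map]
    exact (Subgroup.map_mono h5).trans (Subgroup.le_normalizer_map _)

variable [hp : Fact p.Prime] {M : Subgroup G} (S : Sylow p G) (hSM : (S : Subgroup G) ≤ M)
  (hM : Cfsg.IsInFrakM p M)

include S hSM hM

theorem le_normalizer_pCoreOf_of_normalize {L : Subgroup G} (hL : IsPGroup p L)
    (hPL : Cfsg.pCoreOf p M ≤ L) (hLY : L ≤ normalizer (Cfsg.largestPReducedOf p M : Set G)) :
    L ≤ normalizer (Cfsg.pCoreOf p M : Set G) := by
  have he := eq_of_le_centralizer S hSM hM (hL.to_le (inf_le_left : L ⊓ centralizer (Cfsg.largestPReducedOf p M : Set G) ≤ L))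
    (le_inf hPL (pCoreOf_le_centralizer M)) inf_le_right
  intro x hx
  refine CfsgLib.LocalEven.mem_normalizer_of_conj_le ?_
  rintro _ ⟨c, hc, rfl⟩
  have hc' : c ∈ L ⊓ centralizer (Cfsg.largestPReducedOf p M : Set G) := he.ge hc
  refine he.le (Subgroup.mem_inf.2 ⟨mul_mem (mul_mem hx hc'.1) (inv_mem hx), ?_⟩)
  refine Subgroup.mem_centralizer_iff.2 fun v hv => ?_
  have h4 := Subgroup.mem_centralizer_iff.1 hc'.2 (x⁻¹ * v * x)
    ((Subgroup.mem_normalizer_iff''.1 (hLY hx) v).1 hv)
  show v * (x * c * x⁻¹) = x * c * x⁻¹ * v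
  calc v * (x * c * x⁻¹) = x * ((x⁻¹ * v * x) * c) * x⁻¹ := by group
    _ = x * (c * (x⁻¹ * v * x)) * x⁻¹ := by rw [h4]
    _ = x * c * x⁻¹ * v := by group

theorem le_normalizer_pCoreOf_conj {L : Subgroup G} (hL : IsPGroup p L) (g : G)
    (hPL : (Cfsg.pCoreOf p M).map (MulAut.conj g).toMonoidHom ≤ L)
    (hLY : L ≤ normalizer ((Cfsg.largestPReducedOf p M).map (MulAut.conj g).toMonoidHom : Set G)) :
    L ≤ normalizer ((Cfsg.pCoreOf p M).map (MulAut.conj g).toMonoidHom : Set G) := by
  have h := le_normalizer_pCoreOf_of_normalize S hSM hM (hL.map (MulAut.conj g⁻¹).toMonoidHom) ?_ ?_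
  · have h2 := (Subgroup.map_mono (f := (MulAut.conj g).toMonoidHom) h).trans (Subgroup.le_normalizer_map _)
    rwa [WC.map_conj_map, mul_inv_cancel, WC.map_conj_one] at h2
  · have h2 := Subgroup.map_mono (f := (MulAut.conj g⁻¹).toMonoidHom) hPL
    rwa [WC.map_conj_inv_map] at h2
  · have h2 := (Subgroup.map_mono (f := (MulAut.conj g⁻¹).toMonoidHom) hLY).trans (Subgroup.le_normalizer_map _)
    rwa [WC.map_conj_inv_map] at h2

theorem le_pCoreOf_conj {A : Subgroup G} (hA : IsPGroup p A) (g : G)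
    (hAC : A ≤ centralizer ((Cfsg.largestPReducedOf p M).map (MulAut.conj g).toMonoidHom : Set G))
    (hAN : A ≤ normalizer ((Cfsg.pCoreOf p M).map (MulAut.conj g).toMonoidHom : Set G)) :
    A ≤ (Cfsg.pCoreOf p M).map (MulAut.conj g).toMonoidHom := by
  set P := Cfsg.pCoreOf p M with hP
  have hPC : P.map (MulAut.conj g).toMonoidHom ≤
      centralizer ((Cfsg.largestPReducedOf p M).map (MulAut.conj g).toMonoidHom : Set G) := by
    rintro _ ⟨x, hx, rfl⟩
    refine Subgroup.mem_centralizer_iff.2 ?_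
    rintro _ ⟨y, hy, rfl⟩
    rw [← map_mul, Subgroup.mem_centralizer_iff.1 (pCoreOf_le_centralizer M hx) y hy, map_mul]
  have hR : IsPGroup p ↥(A ⊔ P.map (MulAut.conj g).toMonoidHom) :=
    IsPGroup.to_sup_of_normal_right' hA ((isPGroup_pCoreOf p M).map _) hAN
  have h := eq_of_le_centralizer S hSM hM (hR.map (MulAut.conj g⁻¹).toMonoidHom) ?_ ?_
  · have h2 := Subgroup.map_mono (f := (MulAut.conj g).toMonoidHom) h.le
    rw [WC.map_conj_map, mul_inv_cancel, WC.map_conj_one] at h2
    exact le_sup_left.trans h2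
  · have h2 : P.map (MulAut.conj g).toMonoidHom ≤ A ⊔ P.map (MulAut.conj g).toMonoidHom := le_sup_right
    replace h2 := Subgroup.map_mono (f := (MulAut.conj g⁻¹).toMonoidHom) h2
    rwa [WC.map_conj_inv_map] at h2
  · rintro _ ⟨x, hx, rfl⟩
    refine Subgroup.mem_centralizer_iff.2 fun y hy => ?_
    have h4 := Subgroup.mem_centralizer_iff.1 (sup_le hAC hPC hx) (g * y * g⁻¹) ⟨y, hy, rfl⟩
    show y * (g⁻¹ * x * g⁻¹⁻¹) = g⁻¹ * x * g⁻¹⁻¹ * y
    calc y * (g⁻¹ * x * g⁻¹⁻¹) = g⁻¹ * ((g * y * g⁻¹) * x) * g := by group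
      _ = g⁻¹ * (x * (g * y * g⁻¹)) * g := by rw [h4]
      _ = g⁻¹ * x * g⁻¹⁻¹ * y := by group

variable (hasym : ¬ Cfsg.IsSymmetricIn (Cfsg.largestPReducedOf p M))

include hasym

omit [Finite G] hp S hSM hM in
theorem commute_of_normalize (g h : G)
    (hg : (Cfsg.largestPReducedOf p M).map (MulAut.conj g).toMonoidHom ≤
      normalizer ((Cfsg.largestPReducedOf p M).map (MulAut.conj h).toMonoidHom : Set G))
    (hh : (Cfsg.largestPReducedOf p M).map (MulAut.conj h).toMonoidHom ≤
      normalizer ((Cfsg.largestPReducedOf p M).map (MulAut.conj g).toMonoidHom : Set G)) :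
    (Cfsg.largestPReducedOf p M).map (MulAut.conj g).toMonoidHom ≤
      centralizer ((Cfsg.largestPReducedOf p M).map (MulAut.conj h).toMonoidHom : Set G) := by
  set Y := Cfsg.largestPReducedOf p M with hY
  set A := Y.map (MulAut.conj g).toMonoidHom with hA
  set B := Y.map (MulAut.conj h).toMonoidHom with hB
  rw [← Subgroup.commutator_eq_bot_iff_le_centralizer]
  by_contra hne
  have hAB : ⁅A, B⁆ ≤ A ⊓ B := Subgroup.commutator_le.2 fun a ha b hb => by
    refine Subgroup.mem_inf.2 ⟨?_, ?_⟩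
    · rw [commutatorElement_def]
      have h4 := conj_mem_of_mem_normalizer (hh hb) (inv_mem ha)
      simpa [mul_assoc] using A.mul_mem ha h4
    · rw [commutatorElement_def]
      exact mul_mem (conj_mem_of_mem_normalizer (hg ha) hb) (inv_mem hb)
  have e : Y.map (MulAut.conj (g⁻¹ * h)).toMonoidHom = B.map (MulAut.conj g⁻¹).toMonoidHom :=
    (WC.map_conj_map Y g⁻¹ h).symm
  have e' : A.map (MulAut.conj g⁻¹).toMonoidHom = Y := WC.map_conj_inv_map Y g
  refine hasym ⟨g⁻¹ * h, ?_, ?_⟩
  · rw [e]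
    conv in ⁅Y, _⁆ => rw [← e']
    rw [← Subgroup.map_commutator]
    exact fun hb => hne ((Subgroup.map_eq_bot_iff_of_injective _ (MulAut.conj g⁻¹).injective).1 hb)
  · rw [e]
    conv in ⁅Y, _⁆ => rw [← e']
    rw [← Subgroup.map_commutator]
    refine (Subgroup.map_mono hAB).trans (le_inf ?_ (Subgroup.map_mono inf_le_right))
    exact (Subgroup.map_mono inf_le_left).trans e'.le

/-- Along a chain of adjacent conjugates each `Y` lies in every core. -/
theorem largest_le_of_chain : ∀ (k : ℕ) (f : ℕ → G), (∀ i < k, Adj p M (f i) (f (i + 1))) →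
    (Cfsg.largestPReducedOf p M).map (MulAut.conj (f 0)).toMonoidHom ≤
      (Cfsg.pCoreOf p M).map (MulAut.conj (f k)).toMonoidHom := by
  intro k
  induction k with
  | zero => exact fun f _ => Subgroup.map_mono largest_le_pCoreOf
  | succ k ih =>
    intro f hf
    have h1 := ih f fun i hi => hf i (by omega)
    have h2 := ih (fun i => f (k + 1 - i)) fun i hi => by
      have h3 := (hf (k - i) (by omega)).symm
      rw [show k - i + 1 = k + 1 - i by omega] at h3
      rwa [show k + 1 - (i + 1) = k - i by omega]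
    rw [Nat.sub_zero, show k + 1 - k = 1 by omega] at h2
    obtain ⟨L, hL, hLk, hLk', -, hLn⟩ := hf k (Nat.lt_succ_self k)
    obtain ⟨L', hL', -, hL1, hL0, -⟩ := hf 0 (Nat.succ_pos k)
    have h0L := h1.trans hLk
    refine le_pCoreOf_conj S hSM hM ?_ (f (k + 1)) ?_
      (h0L.trans (le_normalizer_pCoreOf_conj S hSM hM hL _ hLk' hLn))
    · exact ((isPGroup_pCoreOf p M).to_le largest_le_pCoreOf).map _
    · exact commute_of_normalize hasym _ _ (h0L.trans hLn) ((h2.trans hL1).trans hL0)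

theorem largest_le_of_reach {g : G} (h : Relation.ReflTransGen (Adj p M) 1 g) :
    Cfsg.largestPReducedOf p M ≤ (Cfsg.pCoreOf p M).map (MulAut.conj g).toMonoidHom := by
  have : ∃ (k : ℕ) (f : ℕ → G), f 0 = 1 ∧ f k = g ∧ ∀ i < k, Adj p M (f i) (f (i + 1)) := by
    induction h with
    | refl => exact ⟨0, fun _ => 1, rfl, rfl, fun i hi => absurd hi (Nat.not_lt_zero i)⟩
    | @tail b c _ hbc ih =>
      obtain ⟨k, f, hf0, hfk, hf⟩ := ih
      refine ⟨k + 1, fun i => if i ≤ k then f i else c, by simp [hf0], by simp, fun i hi => ?_⟩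
      rcases Nat.lt_or_eq_of_le (Nat.lt_succ_iff.1 hi) with hlt | heq
      · simpa [hlt.le, Nat.succ_le_iff.2 hlt] using hf i hlt
      · subst heq
        simpa [hfk] using hbc
  obtain ⟨k, f, hf0, hfk, hf⟩ := this
  have := largest_le_of_chain S hSM hM hasym k f hf
  rwa [hf0, hfk, WC.map_conj_one] at this

variable (hpc : ParabolicCharP p G)

include hpc

theorem mem_normalizer_of_adj {g : G} (a : Adj p M 1 g) :
    g ∈ normalizer (Cfsg.largestPReducedOf p M : Set G) := by
  set Y := Cfsg.largestPReducedOf p M with hY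
  set K := Subgroup.closure ((M : Set G) ∪ {g}) with hK
  have hreach : ∀ x ∈ K, Relation.ReflTransGen (Adj p M) 1 x := by
    intro x hx
    induction hx using Subgroup.closure_induction with
    | mem y hy =>
      refine Relation.ReflTransGen.single ?_
      rcases hy with hy | hy
      · refine ⟨Cfsg.pCoreOf p M, isPGroup_pCoreOf p M, ?_, ?_, ?_, ?_⟩
        · rw [WC.map_conj_one]
        · rw [WC.map_conj_eq_of_mem (le_normalizer_pCoreOf p M hy)]
        · rw [WC.map_conj_one]
          exact (pCoreOf_le p M).trans (PRed.le_normalizer_largestPReducedOf p M)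
        · rw [WC.map_conj_eq_of_mem (PRed.le_normalizer_largestPReducedOf p M hy)]
          exact (pCoreOf_le p M).trans (PRed.le_normalizer_largestPReducedOf p M)
      · rw [Set.mem_singleton_iff] at hy
        exact hy ▸ a
    | one => exact Relation.ReflTransGen.refl
    | mul y z _ _ hy hz =>
      have := hz.lift (y * ·) fun b c hbc => Adj.smul hbc y
      simp only [Function.onFun, mul_one] at this
      exact hy.trans this
    | inv y _ hy =>
      have := (hy.swap).lift (y⁻¹ * ·) fun b c hbc => Adj.smul (Adj.symm hbc) y⁻¹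
      simpa only [Function.onFun, inv_mul_cancel, mul_one] using this
  have hMK : M ≤ K := fun x hx => Subgroup.subset_closure (Or.inl hx)
  set W := ⨆ x : K, Y.map (MulAut.conj (x : G)).toMonoidHom with hW
  have hWP : W ≤ Cfsg.pCoreOf p M := iSup_le fun x => by
    have h1 := Subgroup.map_mono (f := (MulAut.conj (x : G)).toMonoidHom)
      (largest_le_of_reach S hSM hM hasym (hreach _ (inv_mem x.2)))
    rwa [WC.map_conj_map, mul_inv_cancel, WC.map_conj_one] at h1
  have hKW : K ≤ normalizer (W : Set G) := by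
    intro a ha
    refine CfsgLib.LocalEven.mem_normalizer_of_conj_le ?_
    rw [hW, Subgroup.map_iSup]
    refine iSup_le fun x => ?_
    rw [WC.map_conj_map]
    exact le_iSup (fun x : K => Y.map (MulAut.conj (x : G)).toMonoidHom) ⟨a * x, mul_mem ha x.2⟩
  have hW1 : W ≠ ⊥ := by
    refine fun hb => largest_ne_bot hM.1 (le_bot_iff.1 (hb ▸ ?_))
    have := le_iSup (fun x : K => Y.map (MulAut.conj (x : G)).toMonoidHom) 1
    simp only [OneMemClass.coe_one, WC.map_conj_one] at this
    exact this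
  have hne := pCore_ne_bot_of_le ((isPGroup_pCoreOf p M).to_le hWP) hW1 Subgroup.le_normalizer le_rfl
  have hle := le_dagger hM (hpc _ ⟨S, hSM.trans (hMK.trans hKW)⟩ hne) (hMK.trans hKW)
  rw [← normalizer_largest S hSM hM hpc] at hle
  exact hle (hKW (Subgroup.subset_closure (Or.inr rfl)))

/-- `p`-subgroups containing `O_p(M)` normalize `Y_M`. -/
theorem pGroup_le_normalizer_largest {L : Subgroup G} (hL : IsPGroup p L)
    (hPL : Cfsg.pCoreOf p M ≤ L) : L ≤ normalizer (Cfsg.largestPReducedOf p M : Set G) := by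
  set L₁ := L ⊓ normalizer (Cfsg.largestPReducedOf p M : Set G) with hL₁
  have hP₁ : Cfsg.pCoreOf p M ≤ L₁ :=
    le_inf hPL ((pCoreOf_le p M).trans (PRed.le_normalizer_largestPReducedOf p M))
  have he : L₁ = L := by
    refine eq_of_inf_normalizer_le hL inf_le_left fun x hx => Subgroup.mem_inf.2 ⟨hx.1, ?_⟩
    have hxe := WC.map_conj_eq_of_mem hx.2
    refine mem_normalizer_of_adj S hSM hM hasym hpc ⟨L₁, hL.to_le inf_le_left, ?_, ?_, ?_, ?_⟩
    · rwa [WC.map_conj_one]
    · exact (Subgroup.map_mono hP₁).trans hxe.le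
    · rw [WC.map_conj_one]
      exact inf_le_right
    · exact hxe.ge.trans ((Subgroup.map_mono inf_le_right).trans (Subgroup.le_normalizer_map _))
  exact he.ge.trans inf_le_right

theorem pGroup_le_normalizer_pCoreOf {L : Subgroup G} (hL : IsPGroup p L)
    (hPL : Cfsg.pCoreOf p M ≤ L) : L ≤ normalizer (Cfsg.pCoreOf p M : Set G) :=
  le_normalizer_pCoreOf_of_normalize S hSM hM hL hPL
    (pGroup_le_normalizer_largest S hSM hM hasym hpc hL hPL)

theorem conj_pCoreOf_eq_of_le {T : Subgroup G} (hT : IsPGroup p T) (hPT : Cfsg.pCoreOf p M ≤ T) {g : G}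
    (hg : (Cfsg.pCoreOf p M).map (MulAut.conj g).toMonoidHom ≤ T) :
    (Cfsg.pCoreOf p M).map (MulAut.conj g).toMonoidHom = Cfsg.pCoreOf p M := by
  have hTY := pGroup_le_normalizer_largest S hSM hM hasym hpc hT hPT
  have hTYg : T ≤ normalizer ((Cfsg.largestPReducedOf p M).map (MulAut.conj g).toMonoidHom : Set G) := by
    have h1 : Cfsg.pCoreOf p M ≤ T.map (MulAut.conj g⁻¹).toMonoidHom := by
      have h2 := Subgroup.map_mono (f := (MulAut.conj g⁻¹).toMonoidHom) hg
      rwa [WC.map_conj_inv_map] at h2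
    have h3 := (Subgroup.map_mono (f := (MulAut.conj g).toMonoidHom)
      (pGroup_le_normalizer_largest S hSM hM hasym hpc (hT.map _) h1)).trans (Subgroup.le_normalizer_map _)
    rwa [WC.map_conj_map, mul_inv_cancel, WC.map_conj_one] at h3
  have hgY : g ∈ normalizer (Cfsg.largestPReducedOf p M : Set G) :=
    mem_normalizer_of_adj S hSM hM hasym hpc ⟨T, hT, by rwa [WC.map_conj_one], hg, by rwa [WC.map_conj_one], hTYg⟩
  refine Subgroup.eq_of_le_of_card_ge (le_trans (le_inf hg ?_)
    (eq_of_le_centralizer S hSM hM (hT.to_le inf_le_left) (le_inf hPT (pCoreOf_le_centralizer M)) inf_le_right).le)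
    (CfsgLib.LocalEven.card_map_conj _ g).ge
  refine (Subgroup.map_mono (pCoreOf_le_centralizer M)).trans ?_
  rintro _ ⟨c, hc, rfl⟩
  refine Subgroup.mem_centralizer_iff.2 fun v hv => ?_
  have h4 := Subgroup.mem_centralizer_iff.1 hc (g⁻¹ * v * g) ((Subgroup.mem_normalizer_iff''.1 hgY v).1 hv)
  show v * (g * c * g⁻¹) = g * c * g⁻¹ * v
  calc v * (g * c * g⁻¹) = g * ((g⁻¹ * v * g) * c) * g⁻¹ := by group
    _ = g * (c * (g⁻¹ * v * g)) * g⁻¹ := by rw [h4]
    _ = g * c * g⁻¹ * v := by group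

theorem isWeaklyClosedSubgroup_pCoreOf : Cfsg.IsWeaklyClosedSubgroup p (Cfsg.pCoreOf p M) :=
  ⟨S, pCoreOf_le_sylow S hSM hM, fun _ hg =>
    conj_pCoreOf_eq_of_le S hSM hM hasym hpc S.2 (pCoreOf_le_sylow S hSM hM) hg⟩

end CfsgLib.LocalEven.FrakM
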