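import Mathlib

/-!
Averaging over a subgroup of index prime to `p` on an elementary abelian `p`-group.
-/

set_option autoImplicit false

namespace CfsgLib.LocalEven.Avg

open Subgroup

variable {G : Type*} [Group G]

/-- The averaging projection `C_W(T₀) → C_W(L)` for `W` elementary abelian normalized by `L` and
`p ∤ |L : T₀|`. -/
theorem exists_avg [Finite G] {p : ℕ} [hp : Fact p.Prime] {L T₀ W : Subgroup G} (hT : T₀ ≤ L)
    (hn : ¬ p ∣ T₀.relIndex L) (hWc : ∀ a ∈ W, ∀ b ∈ W, a * b = b * a)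
    (hWp : ∀ a ∈ W, a ^ p = 1) (hLW : L ≤ normalizer (W : Set G)) :
    ∃ e : G → G,
      (∀ z ∈ W, (∀ t ∈ T₀, t * z = z * t) → e z ∈ W ∧ ∀ g ∈ L, g * e z = e z * g) ∧
      (∀ z ∈ W, (∀ g ∈ L, g * z = z * g) → e z = z) ∧
      (∀ z ∈ W, ∀ w ∈ W, e (z * w) = e z * e w) ∧
      (∀ z ∈ W, ∀ D : Subgroup G,
        (∀ g ∈ L, z * (g * z⁻¹ * g⁻¹) ∈ D) → (e z)⁻¹ * z ∈ D) ∧
      (∀ t ∈ normalizer (L : Set G), t ∈ normalizer (T₀ : Set G) → t ∈ normalizer (W : Set G) →
        ∀ z ∈ W, (∀ s ∈ T₀, s * z = z * s) → e (t * z * t⁻¹) = t * e z * t⁻¹) := by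
  classical
  letI : CommGroup W :=
    { (inferInstance : Group W) with mul_comm := fun a b => Subtype.ext (hWc a a.2 b b.2) }
  haveI : Fintype (↥L ⧸ T₀.subgroupOf L) := Fintype.ofFinite _
  let cj : ∀ t : G, t ∈ normalizer (W : Set G) → (W →* W) := fun t ht =>
    MonoidHom.mk' (fun w => ⟨t * w * t⁻¹, (Subgroup.mem_normalizer_iff.1 ht w).1 w.2⟩)
      (fun a b => Subtype.ext (by simp only [Subgroup.coe_mul]; group))
  have hcj : ∀ (t : G) (ht : t ∈ normalizer (W : Set G)) (w : W), (cj t ht w : G) = t * w * t⁻¹ :=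
    fun _ _ _ => rfl
  let f : L → (W →* W) := fun g => cj g (hLW g.2)
  let pr : W →* W :=
    MonoidHom.mk' (fun z => ∏ q : ↥L ⧸ T₀.subgroupOf L, f q.out z)
      (fun a b => by simp only [map_mul, Finset.prod_mul_distrib])
  have hpr : ∀ z, pr z = ∏ q : ↥L ⧸ T₀.subgroupOf L, f q.out z := fun _ => rfl
  set n := T₀.relIndex L with hndef
  have hcardq : Fintype.card (↥L ⧸ T₀.subgroupOf L) = n := by
    rw [← Nat.card_eq_fintype_card]; rfl
  obtain ⟨m, -, hm⟩ := Nat.exists_mul_mod_eq_one_of_coprime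
    (Nat.coprime_comm.1 (hp.out.coprime_iff_not_dvd.2 hn)) hp.out.one_lt
  have hpow : ∀ w : W, w ^ (n * m) = w := by
    intro w
    have h1 : w ^ p = 1 := Subtype.ext (by simpa using hWp w w.2)
    rw [← Nat.mod_add_div (n * m) p, hm, pow_add, pow_mul, h1, one_pow, mul_one, pow_one]
  -- value of a translate only depends on the coset
  have hwd : ∀ z : W, (∀ t ∈ T₀, t * (z : G) = z * t) → ∀ g g' : L,
      (g : ↥L ⧸ T₀.subgroupOf L) = g' → f g z = f g' z := by
    intro z hz g g' hgg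
    rw [QuotientGroup.eq, Subgroup.mem_subgroupOf] at hgg
    apply Subtype.ext
    show (g : G) * z * (g : G)⁻¹ = g' * z * (g' : G)⁻¹
    have h2 := hz _ hgg
    simp only [Subgroup.coe_mul, Subgroup.coe_inv] at h2
    calc (g : G) * z * (g : G)⁻¹ = g * ((z : G) * ((g : G)⁻¹ * g')) * (g' : G)⁻¹ := by group
      _ = g * (((g : G)⁻¹ * g') * z) * (g' : G)⁻¹ := by rw [h2]
      _ = g' * z * (g' : G)⁻¹ := by group
  have hinv : ∀ z : W, (∀ t ∈ T₀, t * (z : G) = z * t) → ∀ l : L, f l (pr z) = pr z := by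
    intro z hz l
    rw [hpr, map_prod]
    refine Fintype.prod_equiv (MulAction.toPerm l) _ _ fun q => ?_
    have h3 : (((l * q.out : L)) : ↥L ⧸ T₀.subgroupOf L) = ((l • q).out : L) := by
      rw [QuotientGroup.out_eq']
      conv_rhs => rw [← QuotientGroup.out_eq' q]
      rfl
    refine Eq.trans ?_ (hwd z hz _ _ h3)
    apply Subtype.ext
    show (l : G) * ((q.out : L) * z * ((q.out : L) : G)⁻¹) * (l : G)⁻¹ = _
    show _ = ((l * q.out : L) : G) * z * ((l * q.out : L) : G)⁻¹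
    simp only [Subgroup.coe_mul, mul_inv_rev, mul_assoc]
  have heqv : ∀ (t : G) (htW : t ∈ normalizer (W : Set G)), t ∈ normalizer (L : Set G) →
      t ∈ normalizer (T₀ : Set G) → ∀ z : W, (∀ s ∈ T₀, s * (z : G) = z * s) →
      pr (cj t htW z) = cj t htW (pr z) := by
    intro t htW htL htT z hz
    have hz' : ∀ s ∈ T₀, s * (cj t htW z : G) = (cj t htW z : G) * s := by
      intro s hs
      have h4 := hz _ ((Subgroup.mem_normalizer_iff''.1 htT s).1 hs)
      rw [hcj t htW]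
      calc s * (t * z * t⁻¹) = t * ((t⁻¹ * s * t) * z) * t⁻¹ := by group
        _ = t * ((z : G) * (t⁻¹ * s * t)) * t⁻¹ := by rw [h4]
        _ = t * z * t⁻¹ * s := by group
    let φ : ↥L ⧸ T₀.subgroupOf L → ↥L ⧸ T₀.subgroupOf L := fun q =>
      ((⟨t * (q.out : L) * t⁻¹, (Subgroup.mem_normalizer_iff.1 htL _).1 (q.out : L).2⟩ : L) :
        ↥L ⧸ T₀.subgroupOf L)
    have hφ : Function.Bijective φ := by
      refine Finite.injective_iff_bijective.1 fun a b hab => ?_
      have h5 := QuotientGroup.eq.1 hab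
      rw [Subgroup.mem_subgroupOf] at h5
      simp only [Subgroup.coe_mul, Subgroup.coe_inv] at h5
      have h6 : ((a.out : L) : G)⁻¹ * (b.out : L) ∈ T₀ := by
        refine (Subgroup.mem_normalizer_iff.1 htT _).2 ?_
        convert h5 using 1
        group
      rw [← QuotientGroup.out_eq' a, ← QuotientGroup.out_eq' b, QuotientGroup.eq,
        Subgroup.mem_subgroupOf]
      simpa using h6
    rw [hpr, hpr, map_prod]
    symm
    refine Fintype.prod_bijective φ hφ _ _ fun q => ?_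
    have h7 := hwd (cj t htW z) hz' (φ q).out
      ⟨t * (q.out : L) * t⁻¹, (Subgroup.mem_normalizer_iff.1 htL _).1 (q.out : L).2⟩
      (QuotientGroup.out_eq' _)
    rw [h7]
    apply Subtype.ext
    show t * ((q.out : L) * z * ((q.out : L) : G)⁻¹) * t⁻¹ =
      (t * (q.out : L) * t⁻¹) * (t * z * t⁻¹) * (t * (q.out : L) * t⁻¹)⁻¹
    group
  refine ⟨fun x => if h : x ∈ W then ((pr ⟨x, h⟩) ^ m : W) else 1, ?_, ?_, ?_, ?_, ?_⟩
  · intro z hz hfix
    simp only [dif_pos hz]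
    refine ⟨SetLike.coe_mem _, fun g hg => ?_⟩
    have h8 : f ⟨g, hg⟩ (pr ⟨z, hz⟩ ^ m) = pr ⟨z, hz⟩ ^ m := by
      rw [map_pow, hinv _ hfix]
    exact mul_inv_eq_iff_eq_mul.1 (congrArg Subtype.val h8)
  · intro z hz hfix
    simp only [dif_pos hz]
    have h9 : pr ⟨z, hz⟩ = (⟨z, hz⟩ : W) ^ n := by
      rw [hpr, ← hcardq, ← Finset.card_univ, ← Finset.prod_const]
      refine Finset.prod_congr rfl fun q _ => Subtype.ext ?_
      exact mul_inv_eq_of_eq_mul (hfix _ (q.out : L).2)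
    rw [h9, ← pow_mul, hpow]
  · intro z hz w hw
    simp only [dif_pos hz, dif_pos hw, dif_pos (mul_mem hz hw)]
    rw [← Subgroup.coe_mul, ← mul_pow, ← map_mul]
    rfl
  · intro z hz D hD
    simp only [dif_pos hz]
    set z' : W := ⟨z, hz⟩
    have h10 : z' ^ n * (pr z')⁻¹ ∈ D.comap W.subtype := by
      rw [hpr, ← hcardq, ← Finset.card_univ, ← Finset.prod_const, ← Finset.prod_inv_distrib,
        ← Finset.prod_mul_distrib]
      refine Subgroup.prod_mem _ fun q _ => ?_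
      rw [← map_inv]
      exact hD _ (q.out : L).2
    have h11 : ((pr z') ^ m)⁻¹ * z' ∈ D.comap W.subtype := by
      have h12 := Subgroup.pow_mem _ h10 m
      rwa [mul_pow, ← pow_mul, hpow, inv_pow, mul_comm] at h12
    exact h11
  · intro t htL htT htW z hz hfix
    simp only [dif_pos hz, dif_pos ((Subgroup.mem_normalizer_iff.1 htW z).1 hz)]
    have h13 : ((pr (cj t htW ⟨z, hz⟩) ^ m : W) : G) = ((cj t htW (pr ⟨z, hz⟩) ^ m : W) : G) := by
      rw [heqv t htW htL htT ⟨z, hz⟩ hfix]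
    rw [← map_pow (cj t htW), hcj t htW] at h13
    exact h13

end CfsgLib.LocalEven.Avg
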