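import Mathlib
import Cfsg.Prelude.Def_BaumannBlocks
import Cfsg.Agent.Lib.Transfer.Factorizable
import Cfsg.Agent.Lib.Solvable.CoprimeAction
import Cfsg.Agent.Lib.LocalEven.CoreOf
import Cfsg.Agent.Lib.LocalEven.Kieler

/-!
The Baumann subgroup of a Sylow subgroup and `B(T)`-blocks.
-/

set_option autoImplicit false

namespace CfsgLib.LocalEven.Baumann

open Subgroup Cfsg
open scoped Pointwise commutatorElement

variable {G : Type*} [Group G] [Finite G] {p : ℕ} [Fact p.Prime]

omit [Finite G] [Fact p.Prime] in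
theorem baumann_le (T : Subgroup G) : baumannSubgroupOf p T ≤ T := inf_le_left

omit [Finite G] [Fact p.Prime] in
theorem omegaCentre_thompson_le (T : Subgroup G) :
    omegaOne p (centerThompsonOf p T) ≤ thompsonSubgroupOf p T := CfsgLib.LocalEven.Oz.le_self _

omit [Finite G] [Fact p.Prime] in
theorem thompson_le_baumann (T : Subgroup G) :
    thompsonSubgroupOf p T ≤ baumannSubgroupOf p T := by
  refine le_inf (CfsgLib.Transfer.thompsonSubgroupOf_le p T) fun j hj => mem_centralizer_iff.2 ?_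
  intro z hz
  exact ((CfsgLib.LocalEven.Oz.mem_iff.1 hz).2.1 j hj).symm

/-- The Thompson subgroup of a Sylow subgroup only depends on the Sylow subgroup through its containment. -/
theorem thompson_le_of_le {T T' : Sylow p G}
    (h : thompsonSubgroupOf p (T : Subgroup G) ≤ (T' : Subgroup G)) :
    thompsonSubgroupOf p (T : Subgroup G) ≤ thompsonSubgroupOf p (T' : Subgroup G) := by
  obtain ⟨A, hA, hAT⟩ := CfsgLib.Transfer.exists_maxEA_le_sylow T
  refine map_le_iff_le_comap.2 (sSup_le fun B hB => map_le_iff_le_comap.1 ?_)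
  have hBG := CfsgLib.Transfer.maxEA_map_subtype hA hAT hB
  exact CfsgLib.Transfer.le_thompsonSubgroupOf hBG
    ((map_mono (CfsgLib.Transfer.le_thompsonSubgroup hB)).trans h)

theorem thompson_eq_of_le {T T' : Sylow p G}
    (h : thompsonSubgroupOf p (T : Subgroup G) ≤ (T' : Subgroup G)) :
    thompsonSubgroupOf p (T' : Subgroup G) = thompsonSubgroupOf p (T : Subgroup G) := by
  obtain ⟨g, rfl⟩ := MulAction.exists_smul_eq G T T'
  refine (eq_of_le_of_card_ge (thompson_le_of_le h) (le_of_eq ?_)).symm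
  rw [Sylow.coe_subgroup_smul, CfsgLib.Solvable.conj_smul_eq_map,
    ← CfsgLib.Transfer.thompsonSubgroupOf_map _ ((MulAut.conj g).injective.injOn),
    card_map_of_injective (MulAut.conj g).injective]

/-- A `p`-group above `J(T)` has the same Thompson subgroup. -/
theorem thompson_eq_of_pGroup {T : Sylow p G} {R : Subgroup G} (hR : IsPGroup p ↥R)
    (h : thompsonSubgroupOf p (T : Subgroup G) ≤ R) :
    thompsonSubgroupOf p R = thompsonSubgroupOf p (T : Subgroup G) := by
  obtain ⟨T', hT'⟩ := hR.exists_le_sylow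
  have h1 := thompson_eq_of_le (h.trans hT')
  rw [← h1]
  exact CfsgLib.Transfer.thompsonSubgroupOf_eq_of_le hT' (h1.symm ▸ h)

theorem normalizer_le_omegaCentre (T : Subgroup G) :
    normalizer (thompsonSubgroupOf p T : Set G) ≤ normalizer (omegaOne p (centerThompsonOf p T) : Set G) :=
  CfsgLib.LocalEven.Oz.normalizer_le _

theorem baumann_eq_of_le {T T' : Sylow p G}
    (h : baumannSubgroupOf p (T : Subgroup G) ≤ (T' : Subgroup G)) :
    baumannSubgroupOf p (T' : Subgroup G) = baumannSubgroupOf p (T : Subgroup G) := by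
  have hJ := thompson_eq_of_le ((thompson_le_baumann _).trans h)
  set A := omegaOne p (centerThompsonOf p (T : Subgroup G)) with hA
  have hA' : omegaOne p (centerThompsonOf p (T' : Subgroup G)) = A := by
    rw [hA, centerThompsonOf, centerThompsonOf, hJ]
  have e1 : baumannSubgroupOf p (T : Subgroup G) = (T : Subgroup G) ⊓ centralizer (A : Set G) := rfl
  have e2 : baumannSubgroupOf p (T' : Subgroup G) = (T' : Subgroup G) ⊓ centralizer (A : Set G) := by
    rw [baumannSubgroupOf, hA']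
  refine (eq_of_le_of_card_ge (by rw [e2]; exact le_inf h (e1 ▸ inf_le_right)) ?_).symm
  obtain ⟨g, rfl⟩ := MulAction.exists_smul_eq G T' T
  have hg : g ∈ normalizer (thompsonSubgroupOf p ((g • T' : Sylow p G) : Subgroup G) : Set G) := by
    rw [mem_normalizer_iff_map_conj_eq]
    have h1 := CfsgLib.Transfer.thompsonSubgroupOf_map (p := p) (MulAut.conj g).toMonoidHom
      (S := (T' : Subgroup G)) ((MulAut.conj g).injective.injOn)
    rw [hJ] at h1
    refine h1.trans ?_
    congr 1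
  have hgC : g ∈ normalizer (centralizer (A : Set G) : Set G) :=
    CfsgLib.LocalEven.Oz.mem_normalizer_centralizer (normalizer_le_omegaCentre _ hg)
  rw [e2, e1, Sylow.coe_subgroup_smul, CfsgLib.Solvable.conj_smul_eq_map]
  rw [← card_map_of_injective (f := (MulAut.conj g).toMonoidHom) (MulAut.conj g).injective
    (K := (T' : Subgroup G) ⊓ centralizer (A : Set G))]
  refine card_le_of_le (le_inf (map_mono inf_le_left) ?_)
  exact (map_mono inf_le_right).trans (mem_normalizer_iff_map_conj_eq.1 hgC).le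

theorem baumann_normalized (T : Sylow p G) :
    (T : Subgroup G) ≤ normalizer (baumannSubgroupOf p (T : Subgroup G) : Set G) := by
  intro t ht
  have h1 : t ∈ normalizer (centerThompsonOf p (T : Subgroup G) : Set G) ∧
      t ∈ normalizer (thompsonSubgroupOf p (T : Subgroup G) : Set G) := by
    have h0 : t ∈ normalizer (thompsonSubgroupOf p (T : Subgroup G) : Set G) := by
      haveI := CfsgLib.Transfer.thompsonSubgroup_characteristic (G := ↥(T : Subgroup G)) p
      have := le_normalizer_map (H := thompsonSubgroup p ↥(T : Subgroup G)) (T : Subgroup G).subtype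
      rw [normalizer_eq_top, ← MonoidHom.range_eq_map, range_subtype] at this
      exact this ht
    refine ⟨?_, h0⟩
    exact CfsgLib.LocalEven.mem_normalizer_of_conj_le ((map_inf_le _ _ _).trans (inf_le_inf
      (mem_normalizer_iff_map_conj_eq.1 h0).le
      (mem_normalizer_iff_map_conj_eq.1 (CfsgLib.LocalEven.Oz.mem_normalizer_centralizer h0)).le))
  refine CfsgLib.LocalEven.mem_normalizer_of_conj_le ((map_inf_le _ _ _).trans (inf_le_inf ?_ ?_))
  · exact (mem_normalizer_iff_map_conj_eq.1 (le_normalizer ht)).le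
  · exact (mem_normalizer_iff_map_conj_eq.1
      (CfsgLib.LocalEven.Oz.mem_normalizer_centralizer (normalizer_le_omegaCentre _ h1.2))).le

/-- A `p`-group normalised by `B(T)` normalises `B(T)`. -/
theorem le_normalizer_baumann {T : Sylow p G} {Q : Subgroup G} (hQ : IsPGroup p ↥Q)
    (hBQ : baumannSubgroupOf p (T : Subgroup G) ≤ normalizer (Q : Set G)) :
    Q ≤ normalizer (baumannSubgroupOf p (T : Subgroup G) : Set G) := by
  have hp : IsPGroup p ↥(Q ⊔ baumannSubgroupOf p (T : Subgroup G)) :=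
    hQ.to_sup_of_normal_left' (T.2.to_le (baumann_le _)) hBQ
  obtain ⟨T', hT'⟩ := hp.exists_le_sylow
  rw [← baumann_eq_of_le (T := T) (T' := T') (le_sup_right.trans hT')]
  exact (le_sup_left.trans hT').trans (baumann_normalized T')

omit [Finite G] [Fact p.Prime] in
theorem conj_mem_of_le_normalizer {H K : Subgroup G} (h : H ≤ normalizer (K : Set G)) {x k : G}
    (hx : x ∈ H) (hk : k ∈ K) : x * k * x⁻¹ ∈ K := (mem_normalizer_iff.1 (h hx) k).1 hk

omit [Finite G] [Fact p.Prime] in
theorem pResidualOf_le_iff {E K : Subgroup G} :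
    pResidualOf p E ≤ K ↔ ∀ e ∈ E, (orderOf e).Coprime p → e ∈ K := by
  constructor
  · intro h e he hc
    exact h ⟨⟨e, he⟩, subset_closure (show (orderOf (⟨e, he⟩ : ↥E)).Coprime p by rwa [orderOf_mk]), rfl⟩
  · intro h
    rw [pResidualOf, map_le_iff_le_comap]
    exact (closure_le _).2 fun x hx => h x x.2 (by rw [orderOf_coe]; exact hx)

theorem normalizer_inf_le (Q K : Subgroup G) :
    normalizer (Q : Set G) ⊓ normalizer (K : Set G) ≤ normalizer ((Q ⊓ K : Subgroup G) : Set G) :=
  fun g hg => CfsgLib.LocalEven.mem_normalizer_of_conj_le ((map_inf_le _ _ _).trans (inf_le_inf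
    (mem_normalizer_iff_map_conj_eq.1 hg.1).le (mem_normalizer_iff_map_conj_eq.1 hg.2).le))

/-- A `p`-subgroup normalised by a block and by `B(T)` normalises the block. -/
theorem le_normalizer_block {T : Sylow p G} {E Q : Subgroup G} (hres : pResidualOf p E = E)
    (hEB : ⁅E, baumannSubgroupOf p (T : Subgroup G)⁆ = E) (hQ : IsPGroup p ↥Q)
    (hBQ : baumannSubgroupOf p (T : Subgroup G) ≤ normalizer (Q : Set G))
    (hEQ : E ≤ normalizer (Q : Set G)) : Q ≤ normalizer (E : Set G) := by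
  classical
  set B := baumannSubgroupOf p (T : Subgroup G) with hB
  have hBE : B ≤ normalizer (E : Set G) := by
    intro b hb
    refine CfsgLib.LocalEven.mem_normalizer_of_conj_le ?_
    rintro _ ⟨e, he, rfl⟩
    have h1 : ⁅e, b⁆ ∈ E := hEB ▸ commutator_mem_commutator he hb
    show b * e * b⁻¹ ∈ E
    rw [show b * e * b⁻¹ = ⁅e, b⁆⁻¹ * e by rw [commutatorElement_def]; group]
    exact mul_mem (inv_mem h1) he
  have hQB := le_normalizer_baumann hQ hBQ
  set Q₁ := Q ⊓ normalizer (E : Set G) with hQ₁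
  have hinv : ∀ H : Subgroup G, H ≤ normalizer (Q : Set G) → H ≤ normalizer (E : Set G) →
      H ≤ normalizer (Q₁ : Set G) := fun H h1 h2 =>
    (le_inf h1 (h2.trans le_normalizer)).trans (normalizer_inf_le _ _)
  have hEQ₁ := hinv E hEQ le_normalizer
  have hBQ₁ := hinv B hBQ hBE
  set Q₂ := Q ⊓ normalizer (Q₁ : Set G) with hQ₂
  have hinv₂ : ∀ H : Subgroup G, H ≤ normalizer (Q : Set G) → H ≤ normalizer (Q₁ : Set G) →
      H ≤ normalizer (Q₂ : Set G) := fun H h1 h2 =>
    (le_inf h1 (h2.trans le_normalizer)).trans (normalizer_inf_le _ _)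
  have key : Q₂ ≤ normalizer (E : Set G) := by
    intro q hq
    -- `B` acts trivially on `Q₂` modulo `Q₁`
    have hb : ∀ b ∈ B, ∀ u ∈ Q₂, b * u * b⁻¹ * u⁻¹ ∈ Q₁ := by
      intro b hbB u hu
      refine ⟨mul_mem (conj_mem_of_le_normalizer hBQ hbB hu.1) (Q.inv_mem hu.1), hBE ?_⟩
      rw [show b * u * b⁻¹ * u⁻¹ = b * (u * b⁻¹ * u⁻¹) by group]
      exact mul_mem hbB (conj_mem_of_le_normalizer hQB hu.1 (inv_mem hbB))
    -- hence so does `E`
    set N : Subgroup G := normalizer (Q₁ : Set G) ⊓ normalizer (Q₂ : Set G) with hN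
    have hEN : E ≤ N := le_inf hEQ₁ (hinv₂ E hEQ hEQ₁)
    have hBN : B ≤ N := le_inf hBQ₁ (hinv₂ B hBQ hBQ₁)
    let K : Subgroup G :=
      { carrier := {g | g ∈ N ∧ ∀ u ∈ Q₂, g * u * g⁻¹ * u⁻¹ ∈ Q₁}
        one_mem' := ⟨one_mem N, fun u _ => by simp [one_mem]⟩
        mul_mem' := fun {g h} hg hh => ⟨mul_mem hg.1 hh.1, fun u hu => by
          rw [show g * h * u * (g * h)⁻¹ * u⁻¹ = g * (h * u * h⁻¹ * u⁻¹) * g⁻¹ * (g * u * g⁻¹ * u⁻¹) by group]
          exact mul_mem ((mem_normalizer_iff.1 hg.1.1 _).1 (hh.2 u hu)) (hg.2 u hu)⟩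
        inv_mem' := fun {g} hg => ⟨inv_mem hg.1, fun u hu => by
          have h1 := hg.2 u hu
          have h2 := (mem_normalizer_iff.1 (inv_mem hg.1.1 : g⁻¹ ∈ normalizer (Q₁ : Set G)) _).1 (inv_mem h1)
          rw [show g⁻¹ * u * g⁻¹⁻¹ * u⁻¹ = g⁻¹ * (g * u * g⁻¹ * u⁻¹)⁻¹ * g⁻¹⁻¹ by group]
          exact h2⟩ }
    have hconj : ∀ g ∈ N, ∀ k ∈ K, g * k * g⁻¹ ∈ K := by
      intro g hg k hk
      refine ⟨mul_mem (mul_mem hg hk.1) (inv_mem hg), fun u hu => ?_⟩
      have hu' := conj_mem_of_le_normalizer (inf_le_right : N ≤ _) (inv_mem hg) hu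
      have h1 := (mem_normalizer_iff.1 hg.1 _).1 (hk.2 _ hu')
      rw [show g * k * g⁻¹ * u * (g * k * g⁻¹)⁻¹ * u⁻¹
        = g * (k * (g⁻¹ * u * g⁻¹⁻¹) * k⁻¹ * (g⁻¹ * u * g⁻¹⁻¹)⁻¹) * g⁻¹ by group]
      exact h1
    have hEK : E ≤ K := by
      rw [← hEB, commutator_le]
      intro e he b hbB
      rw [commutatorElement_def]
      exact mul_mem (hconj e (hEN he) b ⟨hBN hbB, hb b hbB⟩) (K.inv_mem ⟨hBN hbB, hb b hbB⟩)
    -- each generator of `E` is moved inside `E`
    suffices E ≤ E.comap (MulAut.conj q).toMonoidHom from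
      CfsgLib.LocalEven.mem_normalizer_of_conj_le (by rintro _ ⟨e, he, rfl⟩; exact this he)
    conv_lhs => rw [← hres]
    rw [pResidualOf_le_iff]
    intro e he hc
    have hcop : (Nat.card ↥(zpowers e)).Coprime (Nat.card ↥Q₁) := by
      obtain ⟨n, hn⟩ := (hQ.to_le (inf_le_left : Q₁ ≤ Q)).exists_card_eq
      rw [Nat.card_zpowers, hn]
      exact hc.pow_right n
    obtain ⟨n, hn, hnq⟩ := CfsgLib.Solvable.exists_mul_mem_centralizer (zpowers e) Q₁
      ((zpowers_le.2 he).trans hEQ₁) hcop (Or.inl inferInstance) q (fun a ha => by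
        rw [commutatorElement_def]; exact (hEK ((zpowers_le.2 he) ha)).2 q hq)
    show q * e * q⁻¹ ∈ E
    have hcomm : e * (n * q) = n * q * e := mem_centralizer_iff.1 hnq e (mem_zpowers e)
    rw [show q * e * q⁻¹ = n⁻¹ * (n * q * e) * (n * q)⁻¹ * n by group, ← hcomm,
      show n⁻¹ * (e * (n * q)) * (n * q)⁻¹ * n = n⁻¹ * e * n⁻¹⁻¹ by group]
    exact conj_mem_of_le_normalizer (inf_le_right : Q₁ ≤ normalizer (E : Set G)) (inv_mem hn) he
  have h : Q₁ = Q := CfsgLib.LocalEven.eq_of_inf_normalizer_le hQ inf_le_left (le_inf inf_le_left key)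
  exact h ▸ inf_le_right

end CfsgLib.LocalEven.Baumann
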