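import Mathlib
import Cfsg.Agent.Lib.LocalEven.Baumann
import Cfsg.Agent.Lib.LocalEven.BlockModule

/-!
Elementary properties of `B(T)`-blocks in groups of characteristic `p`.
-/

set_option autoImplicit false

namespace CfsgLib.LocalEven.Block

open Subgroup Cfsg
open scoped Pointwise commutatorElement

variable {G : Type*} [Group G] [Finite G] {p : ℕ} [Fact p.Prime]

theorem le_of_omegaCentre {T : Sylow p G} :
    omegaOneCenter p (T : Subgroup G) ≤ omegaOne p (centerThompsonOf p (T : Subgroup G)) := by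
  intro z hz
  obtain ⟨hzT, hzc, hzp⟩ := CfsgLib.LocalEven.Oz.mem_iff.1 hz
  obtain ⟨A, hA, hAT⟩ := CfsgLib.Transfer.exists_maxEA_le_sylow T
  have hAJ := CfsgLib.Transfer.le_thompsonSubgroupOf hA hAT
  refine CfsgLib.LocalEven.Oz.mem_iff.2 ⟨hAJ ?_,
    fun s hs => hzc s (CfsgLib.Transfer.thompsonSubgroupOf_le p _ hs), hzp⟩
  have hc : ∀ a ∈ A, ∀ b ∈ A, a * b = b * a := fun a ha b hb => CfsgLib.PGroup.elemAb_comm hA.1 ha hb
  have hs : ∀ u ∈ ((A : Set G) ∪ {z}), ∀ v ∈ ((A : Set G) ∪ {z}), u * v = v * u := by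
    rintro u (hu | rfl) v (hv | rfl)
    · exact hc u hu v hv
    · exact hzc u (hAT hu)
    · exact (hzc v (hAT hv)).symm
    · rfl
  haveI hcm : IsMulCommutative ↥(closure ((A : Set G) ∪ {z})) := isMulCommutative_closure hs
  have hC : IsElementaryAbelian p (closure ((A : Set G) ∪ {z})) := by
    refine ⟨inferInstance, fun a ha => ?_⟩
    induction ha using closure_induction with
    | mem y hy => rcases hy with hy | rfl; exacts [hA.1.2 y hy, hzp]
    | one => exact one_pow p
    | mul y w hy hw iy iw =>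
      have hcomm : Commute y w :=
        congrArg Subtype.val (hcm.1.comm (⟨y, hy⟩ : ↥(closure ((A : Set G) ∪ {z}))) ⟨w, hw⟩)
      rw [hcomm.mul_pow, iy, iw, one_mul]
    | inv y hy iy => rw [inv_pow, iy, inv_one]
  have hle : A ≤ closure ((A : Set G) ∪ {z}) := fun a ha => subset_closure (Or.inl ha)
  rw [eq_of_le_of_card_ge hle (hA.2 _ hC)]
  exact subset_closure (Or.inr rfl)

variable {T : Sylow p G} {E : Subgroup G}

theorem baumann_le_normalizer (hE : IsBaumannBlock p (T : Subgroup G) E) :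
    baumannSubgroupOf p (T : Subgroup G) ≤ normalizer (E : Set G) := by
  intro b hb
  refine CfsgLib.LocalEven.mem_normalizer_of_conj_le ?_
  rintro _ ⟨e, he, rfl⟩
  have h1 : ⁅e, b⁆ ∈ E := hE.2.1 ▸ commutator_mem_commutator he hb
  show b * e * b⁻¹ ∈ E
  rw [show b * e * b⁻¹ = ⁅e, b⁆⁻¹ * e by rw [commutatorElement_def]; group]
  exact mul_mem (inv_mem h1) he

omit [Finite G] [Fact p.Prime] in
theorem omegaCentre_le (E : Subgroup G) : omegaOneCenter p (pCoreOf p E) ≤ E :=
  (CfsgLib.LocalEven.Oz.le_self _).trans (CfsgLib.LocalEven.pCoreOf_le p E)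

omit [Fact p.Prime] in
theorem le_normalizer_omegaCentre (E : Subgroup G) :
    normalizer (pCoreOf p E : Set G) ≤ normalizer (omegaOneCenter p (pCoreOf p E) : Set G) :=
  CfsgLib.LocalEven.Oz.normalizer_le _

omit [Fact p.Prime] in
theorem normalizer_le_pCoreOf (E : Subgroup G) :
    normalizer (E : Set G) ≤ normalizer (pCoreOf p E : Set G) := by
  intro g hg
  rw [mem_normalizer_iff_map_conj_eq] at hg ⊢
  have := CfsgLib.LocalEven.pCoreOf_map p (MulAut.conj g) E
  have hg' : E.map (MulAut.conj g).toMonoidHom = E := hg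
  rw [hg'] at this
  exact this.symm

theorem pCore_le_normalizer (hE : IsBaumannBlock p (T : Subgroup G) E) :
    pCore p G ≤ normalizer (E : Set G) := by
  haveI := CfsgLib.Cores.pCore_characteristic (G := G) p
  exact Baumann.le_normalizer_block hE.1 hE.2.1 (CfsgLib.Cores.isPGroup_pCore p)
    (by rw [normalizer_eq_top]; exact le_top) (by rw [normalizer_eq_top]; exact le_top)

theorem pResidualOf_sup_eq {P : Subgroup G} (hP : IsPGroup p ↥P) (hn : P ≤ normalizer (E : Set G))
    (hres : pResidualOf p E = E) : pResidualOf p (E ⊔ P) = E := by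
  refine le_antisymm (Baumann.pResidualOf_le_iff.2 fun x hx hc => ?_) ?_
  · haveI : (E.subgroupOf (E ⊔ P)).Normal :=
      normal_subgroupOf_of_le_normalizer (sup_le le_normalizer hn)
    set f := QuotientGroup.mk' (E.subgroupOf (E ⊔ P)) with hf
    set P' := P.subgroupOf (E ⊔ P) with hP'
    have hmem : f ⟨x, hx⟩ ∈ P'.map f := by
      obtain ⟨q, hq, hxq⟩ : ∃ q : ↥(E ⊔ P), (q : G) ∈ P ∧ (⟨x, hx⟩ : ↥(E ⊔ P)) * q⁻¹ ∈ E.subgroupOf (E ⊔ P) := by
        have h1 : x ∈ (↑(E ⊔ P) : Set G) := hx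
        rw [coe_mul_of_right_le_normalizer_left E P hn] at h1
        obtain ⟨e, he, q, hq, rfl⟩ := h1
        exact ⟨⟨q, mem_sup_right hq⟩, hq, by
          show e * q * q⁻¹ ∈ E
          rwa [mul_inv_cancel_right]⟩
      refine ⟨q, hq, ?_⟩
      have h2 : f (⟨x, hx⟩ * q⁻¹) = 1 := (QuotientGroup.eq_one_iff _).2 hxq
      rw [map_mul, map_inv, mul_inv_eq_one] at h2
      exact h2.symm
    obtain ⟨k, hk⟩ := (hP.comap_subtype.map f) ⟨_, hmem⟩
    have h3 : f ⟨x, hx⟩ = 1 := by
      refine orderOf_eq_one_iff.1 (Nat.eq_one_of_dvd_coprimes (hc.pow_right k) ?_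
        (orderOf_dvd_of_pow_eq_one (congrArg Subtype.val hk)))
      exact (orderOf_map_dvd f _).trans (by rw [orderOf_mk])
    exact (QuotientGroup.eq_one_iff (⟨x, hx⟩ : ↥(E ⊔ P))).1 h3
  · conv_lhs => rw [← hres]
    exact Baumann.pResidualOf_le_iff.2 fun e he hc =>
      Baumann.pResidualOf_le_iff.1 le_rfl e (mem_sup_left he) hc

/-- `O_p(G)` centralises `W/Z` and so lies below `C(W_E)`. -/
theorem commutator_pCore_le (hE : IsBaumannBlock p (T : Subgroup G) E) :
    ⁅omegaOneCenter p (pCoreOf p E), pCore p G⁆ ≤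
      omegaOneCenter p (pCoreOf p E) ⊓ centralizer (E : Set G) := by
  classical
  set P := pCore p G with hP
  haveI := CfsgLib.Cores.pCore_characteristic (G := G) p
  set W := omegaOneCenter p (pCoreOf p E) with hW
  set Z := W ⊓ centralizer (E : Set G) with hZ
  have hPE := pCore_le_normalizer hE
  have hPW : P ≤ normalizer (W : Set G) :=
    (hPE.trans (normalizer_le_pCoreOf E)).trans (le_normalizer_omegaCentre E)
  have hEW : E ≤ normalizer (W : Set G) :=
    (le_normalizer.trans (normalizer_le_pCoreOf E)).trans (le_normalizer_omegaCentre E)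
  have hPZ : P ≤ normalizer (Z : Set G) := fun g hg => by
    refine Baumann.normalizer_inf_le W _ ⟨hPW hg, CfsgLib.LocalEven.Oz.mem_normalizer_centralizer (hPE hg)⟩
  have hWc : ∀ a ∈ W, ∀ b ∈ W, a * b = b * a := fun a ha b hb =>
    CfsgLib.PGroup.elemAb_comm (CfsgLib.LocalEven.Oz.elemAb (p := p) (pCoreOf p E)) ha hb
  let U : Subgroup G :=
    { carrier := {w | w ∈ W ∧ ∀ q ∈ P, q * w * q⁻¹ * w⁻¹ ∈ Z}
      one_mem' := ⟨one_mem W, fun q _ => by simp [one_mem]⟩
      mul_mem' := fun {a b} ha hb => ⟨mul_mem ha.1 hb.1, fun q hq => by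
        rw [show q * (a * b) * q⁻¹ * (a * b)⁻¹ = (q * a * q⁻¹ * a⁻¹) * (a * (q * b * q⁻¹ * b⁻¹) * a⁻¹) by group,
          hWc a ha.1 _ (hb.2 q hq).1, mul_inv_cancel_right]
        exact mul_mem (ha.2 q hq) (hb.2 q hq)⟩
      inv_mem' := fun {a} ha => ⟨inv_mem ha.1, fun q hq => by
        have h1 := inv_mem (ha.2 q hq)
        rw [show q * a⁻¹ * q⁻¹ * a⁻¹⁻¹ = a⁻¹ * (q * a * q⁻¹ * a⁻¹)⁻¹ * a⁻¹⁻¹ by group,
          hWc _ (inv_mem ha.1) _ h1.1, mul_inv_cancel_right]
        exact h1⟩ }
  have hUW : U ≤ W := fun w hw => hw.1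
  have hZU : Z ≤ U := fun z hz => ⟨hz.1, fun q hq =>
    mul_mem (Baumann.conj_mem_of_le_normalizer hPZ hq hz) (inv_mem hz)⟩
  have hEU : E ≤ normalizer (U : Set G) := by
    intro e he
    refine CfsgLib.LocalEven.mem_normalizer_of_conj_le ?_
    rintro _ ⟨w, hw, rfl⟩
    refine ⟨Baumann.conj_mem_of_le_normalizer hEW he hw.1, fun q hq => ?_⟩
    have hq' : e⁻¹ * q * e⁻¹⁻¹ ∈ P := (inferInstance : P.Normal).conj_mem q hq e⁻¹
    have h1 := hw.2 _ hq'
    show q * (e * w * e⁻¹) * q⁻¹ * (e * w * e⁻¹)⁻¹ ∈ Z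
    rw [show q * (e * w * e⁻¹) * q⁻¹ * (e * w * e⁻¹)⁻¹ =
      e * ((e⁻¹ * q * e⁻¹⁻¹) * w * (e⁻¹ * q * e⁻¹⁻¹)⁻¹ * w⁻¹) * e⁻¹ by group]
    rwa [← mem_centralizer_iff.1 h1.2 e he |>.symm, mul_inv_cancel_right] at *
  rw [commutator_le]
  intro w hw q hq
  suffices hU : U = W by
    rw [← hU] at hw
    rw [show ⁅w, q⁆ = (q * w * q⁻¹ * w⁻¹)⁻¹ by rw [commutatorElement_def]; group]
    exact inv_mem (hw.2 q hq)
  rcases (BlockModule.isBlockModule_of_block hE).1 U hZU hUW hEU with h | h
  swap
  · exact h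
  -- a `p`-group has fixed points on `W / Z`
  by_cases hWZ : W = Z
  · exact le_antisymm hUW (hWZ.le.trans hZU)
  exfalso
  haveI hn : ((Z).subgroupOf W).Normal := ⟨fun a ha g => by
    show ((g : G) * a * (g : G)⁻¹) ∈ Z
    rw [hWc g g.2 a a.2, mul_inv_cancel_right]; exact ha⟩
  let φ : ↥P → (↥W ⧸ Z.subgroupOf W) → (↥W ⧸ Z.subgroupOf W) := fun q =>
    Quotient.map' (fun u => ⟨(q : G) * u * (q : G)⁻¹, Baumann.conj_mem_of_le_normalizer hPW q.2 u.2⟩)
      (fun a b hab => by
        rw [QuotientGroup.leftRel_apply] at hab ⊢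
        show ((q : G) * a * (q : G)⁻¹)⁻¹ * ((q : G) * b * (q : G)⁻¹) ∈ Z
        have := Baumann.conj_mem_of_le_normalizer hPZ q.2 (show ((a : G))⁻¹ * b ∈ Z from hab)
        rwa [show ((q : G) * a * (q : G)⁻¹)⁻¹ * ((q : G) * b * (q : G)⁻¹) = (q : G) * ((a : G)⁻¹ * b) * (q : G)⁻¹ by group])
  letI : MulAction ↥P (↥W ⧸ Z.subgroupOf W) :=
    { smul := φ
      one_smul := fun x => by
        induction x using QuotientGroup.induction_on with
        | H u =>
          show (QuotientGroup.mk _ : ↥W ⧸ Z.subgroupOf W) = QuotientGroup.mk u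
          congr 1
          exact Subtype.ext (by simp)
      mul_smul := fun a b x => by
        induction x using QuotientGroup.induction_on with
        | H u =>
          show (QuotientGroup.mk _ : ↥W ⧸ Z.subgroupOf W) = QuotientGroup.mk _
          congr 1
          exact Subtype.ext (by simp [mul_assoc]) }
  have hWp : IsPGroup p ↥W := CfsgLib.PGroup.elemAb_isPGroup (CfsgLib.LocalEven.Oz.elemAb (p := p) (pCoreOf p E))
  have hdvd : p ∣ Nat.card (↥W ⧸ Z.subgroupOf W) := by
    obtain ⟨k, hk⟩ := IsPGroup.iff_card.1 (hWp.to_quotient (Z.subgroupOf W))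
    rw [hk]
    refine dvd_pow_self p fun h0 => hWZ ?_
    rw [h0, pow_zero, ← Subgroup.index, index_eq_one, subgroupOf_eq_top] at hk
    exact le_antisymm hk inf_le_left
  have h1fix : ((1 : ↥W ⧸ Z.subgroupOf W)) ∈ MulAction.fixedPoints ↥P (↥W ⧸ Z.subgroupOf W) := fun q => by
    show (QuotientGroup.mk _ : ↥W ⧸ Z.subgroupOf W) = QuotientGroup.mk 1
    congr 1
    exact Subtype.ext (by simp)
  obtain ⟨x, hx, hx1⟩ := (CfsgLib.Cores.isPGroup_pCore p (G := G)).exists_fixed_point_of_prime_dvd_card_of_fixed_point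
    _ hdvd h1fix
  induction x using QuotientGroup.induction_on with
  | H u =>
    have hu : (u : G) ∈ U := ⟨u.2, fun q hq => by
      have h2 : (QuotientGroup.mk _ : ↥W ⧸ Z.subgroupOf W) = QuotientGroup.mk u := hx ⟨q, hq⟩
      rw [QuotientGroup.eq] at h2
      have h3 : ((q : G) * u * q⁻¹)⁻¹ * u ∈ Z := h2
      have h4 := inv_mem h3
      rw [_root_.mul_inv_rev, inv_inv,
        hWc _ (inv_mem u.2) _ (Baumann.conj_mem_of_le_normalizer hPW hq u.2)] at h4
      exact h4⟩
    rw [h] at hu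
    exact hx1 ((QuotientGroup.eq_one_iff u).2 hu).symm

/-- The lemma on the position of `W_E`. -/
theorem block_position (hG : centralizer (pCore p G : Set G) ≤ pCore p G)
    (hE : IsBaumannBlock p (T : Subgroup G) E) :
    pResidualOf p (E ⊔ pCore p G) = E ∧
      ⁅omegaOneCenter p (pCoreOf p E), E⁆ ≤ omegaOneCenter p (pCore p G) ∧
      ⁅⁅omegaOneCenter p (pCoreOf p E), E⁆, thompsonSubgroupOf p (T : Subgroup G)⁆ ≠ ⊥ := by
  classical
  haveI := CfsgLib.Cores.pCore_characteristic (G := G) p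
  have hPE := pCore_le_normalizer hE
  set W := omegaOneCenter p (pCoreOf p E) with hW
  have hQW : ∀ x ∈ pCoreOf p E, ∀ w ∈ W, x * w = w * x := fun x hx w hw =>
    (CfsgLib.LocalEven.Oz.mem_iff.1 hw).2.1 x hx
  have hEW : E ≤ normalizer (W : Set G) :=
    (le_normalizer.trans (normalizer_le_pCoreOf E)).trans (le_normalizer_omegaCentre E)
  have hWE : ⁅W, E⁆ ≤ W := CfsgLib.Solvable.commutator_le_of_le_normalizer hEW
  have hEP : ⁅E, pCore p G⁆ ≤ pCoreOf p E := by
    refine CfsgLib.LocalEven.le_pCoreOf ?_ ?_ ?_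
    · exact CfsgLib.Solvable.commutator_le_of_le_normalizer hPE
    · refine (CfsgLib.Cores.isPGroup_pCore p).to_le ?_
      rw [commutator_comm]
      exact CfsgLib.Solvable.commutator_le_of_le_normalizer (by rw [normalizer_eq_top]; exact le_top)
    · exact CfsgLib.Solvable.le_normalizer_commutator_left E _
  refine ⟨pResidualOf_sup_eq (CfsgLib.Cores.isPGroup_pCore p) hPE hE.1, ?_, ?_⟩
  · -- `W_E` centralises `O_p(G)`
    have hc : ⁅⁅W, E⁆, pCore p G⁆ = ⊥ := by
      refine commutator_commutator_eq_bot_of_rotate ?_ ?_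
      · rw [eq_bot_iff]
        refine le_trans (commutator_mono hEP le_rfl) ?_
        rw [commutator_le]
        intro x hx w hw
        rw [mem_bot, commutatorElement_eq_one_iff_mul_comm]
        exact hQW x hx w hw
      · rw [eq_bot_iff]
        refine le_trans (commutator_mono (le_trans (le_of_eq (commutator_comm _ _)) (commutator_pCore_le hE)) le_rfl) ?_
        rw [commutator_le]
        intro x hx e he
        rw [mem_bot, commutatorElement_eq_one_iff_mul_comm]
        exact (mem_centralizer_iff.1 hx.2 e he).symm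
    intro w hw
    have h1 : ∀ q ∈ pCore p G, q * w = w * q := fun q hq => by
      have := commutator_eq_bot_iff_le_centralizer.1 hc hw
      exact mem_centralizer_iff.1 this q hq
    refine CfsgLib.LocalEven.Oz.mem_iff.2 ⟨hG (mem_centralizer_iff.2 h1), h1, ?_⟩
    exact (CfsgLib.LocalEven.Oz.mem_iff.1 (hWE hw)).2.2
  · intro hJ
    set J := thompsonSubgroupOf p (T : Subgroup G) with hJdef
    have hJE : J ≤ normalizer (E : Set G) :=
      (Baumann.thompson_le_baumann _).trans (baumann_le_normalizer hE)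
    set K := E ⊓ centralizer ((⁅W, E⁆ : Subgroup G) : Set G) with hK
    -- the kernel on `W_E` lies in `O_p(E)`
    have hKQ : K ≤ pCoreOf p E := by
      refine CfsgLib.LocalEven.le_pCoreOf inf_le_left ?_ ?_
      · refine IsPGroup.iff_orderOf.2 fun k => ?_
        obtain ⟨a, m, hm, hkm⟩ := Nat.exists_eq_pow_mul_and_not_dvd (orderOf_pos k).ne' p (Fact.out : p.Prime).ne_one
        refine ⟨a, ?_⟩
        rw [hkm]
        suffices m = 1 by rw [this, mul_one]
        set e := (k : G) ^ p ^ a with he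
        have heE : e ∈ E := pow_mem k.2.1 _
        have heo : orderOf e = m := by
          rw [he, orderOf_pow' _ (pow_ne_zero a (Fact.out : p.Prime).ne_zero), orderOf_coe, hkm,
            Nat.gcd_mul_right_left, Nat.mul_div_cancel_left _ (pow_pos (Fact.out : p.Prime).pos a)]
        have hcop : (Nat.card ↥(zpowers e)).Coprime (Nat.card ↥W) := by
          obtain ⟨n, hn⟩ := (CfsgLib.PGroup.elemAb_isPGroup
            (CfsgLib.LocalEven.Oz.elemAb (p := p) (pCoreOf p E))).exists_card_eq
          rw [Nat.card_zpowers, heo, show Nat.card ↥W = p ^ n from hn]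
          exact ((CfsgLib.Cores.coprime_iff_not_dvd (Fact.out : p.Prime) m).2 hm).pow_right n
        have hcc : ⁅⁅W, zpowers e⁆, zpowers e⁆ = ⊥ := by
          rw [commutator_eq_bot_iff_le_centralizer]
          intro y hy
          have hy' : y ∈ ⁅W, E⁆ := commutator_mono le_rfl (zpowers_le.2 heE) hy
          refine mem_centralizer_iff.2 fun z hz => ?_
          exact (mem_centralizer_iff.1 ((zpowers_le.2 (show e ∈ centralizer ((⁅W, E⁆ : Subgroup G) : Set G) from
            pow_mem k.2.2 _)) hz) y hy').symm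
        have h0 := CfsgLib.Solvable.commutator_commutator_self ((zpowers_le.2 heE).trans hEW) hcop (Or.inl inferInstance)
        rw [hcc] at h0
        have hcw : ∀ w ∈ W, e * w = w * e := fun w hw =>
          mem_centralizer_iff.1 (commutator_eq_bot_iff_le_centralizer.1 h0.symm hw) e (mem_zpowers e)
        obtain ⟨j, hj⟩ := IsPGroup.iff_orderOf.1 (CfsgLib.LocalEven.isPGroup_pCoreOf p E)
          ⟨e, (BlockModule.isBlockModule_of_block hE).2 e heE hcw⟩
        rw [orderOf_mk, heo] at hj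
        rcases Nat.eq_zero_or_pos j with rfl | hj0
        · rw [hj, pow_zero]
        · exact absurd (hj ▸ dvd_pow_self p hj0.ne') hm
      · intro e he
        refine Baumann.normalizer_inf_le E _ ⟨le_normalizer he, ?_⟩
        exact CfsgLib.LocalEven.Oz.mem_normalizer_centralizer
          (CfsgLib.Solvable.le_normalizer_commutator_right hEW he)
    have hJcent : ∀ j ∈ J, ∀ y ∈ ⁅W, E⁆, j * y = y * j := fun j hj y hy =>
      mem_centralizer_iff.1 (commutator_eq_bot_iff_le_centralizer.1 hJ hy) j hj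
    set Q := pCoreOf p E with hQ
    have hJQ : J ≤ normalizer (Q : Set G) := hJE.trans (normalizer_le_pCoreOf E)
    have hR : IsPGroup p ↥(Q ⊔ J) := (CfsgLib.LocalEven.isPGroup_pCoreOf p E).to_sup_of_normal_left'
      (T.2.to_le (CfsgLib.Transfer.thompsonSubgroupOf_le p _)) hJQ
    have hER : E ≤ normalizer ((Q ⊔ J : Subgroup G) : Set G) := by
      intro e he
      refine CfsgLib.LocalEven.mem_normalizer_of_conj_le (le_of_eq_of_le (Subgroup.map_sup _ _ _) (sup_le ?_ ?_))
      · exact (mem_normalizer_iff_map_conj_eq.1 ((le_normalizer.trans (normalizer_le_pCoreOf E)) he)).le.trans le_sup_left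
      · rintro _ ⟨j, hj, rfl⟩
        show e * j * e⁻¹ ∈ Q ⊔ J
        have h1 : ⁅e, j⁆ ∈ K := by
          refine ⟨?_, mem_centralizer_iff.2 fun y hy => ?_⟩
          · rw [show ⁅e, j⁆ = e * (j * e⁻¹ * j⁻¹) by rw [commutatorElement_def]; group]
            exact mul_mem he (Baumann.conj_mem_of_le_normalizer hJE hj (inv_mem he))
          · have hne := CfsgLib.Solvable.le_normalizer_commutator_right hEW
            have h2 := hJcent j hj (e⁻¹ * y * e⁻¹⁻¹) (Baumann.conj_mem_of_le_normalizer hne (inv_mem he) hy)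
            have h3 := hJcent j hj y hy
            have h4 : j⁻¹ * y = y * j⁻¹ := ((show Commute j y from h3).inv_left).eq
            rw [commutatorElement_def]
            calc y * (e * j * e⁻¹ * j⁻¹) = e * (e⁻¹ * y * e⁻¹⁻¹ * j) * e⁻¹ * j⁻¹ := by group
              _ = e * (j * (e⁻¹ * y * e⁻¹⁻¹)) * e⁻¹ * j⁻¹ := by rw [h2]
              _ = e * j * e⁻¹ * (y * j⁻¹) := by group
              _ = e * j * e⁻¹ * (j⁻¹ * y) := by rw [h4]
              _ = e * j * e⁻¹ * j⁻¹ * y := by group
        rw [show e * j * e⁻¹ = ⁅e, j⁆ * j by rw [commutatorElement_def]; group]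
        exact mul_mem (mem_sup_left (hKQ h1)) (mem_sup_right hj)
    set A := omegaOne p (centerThompsonOf p (T : Subgroup G)) with hA
    have hEA : E ≤ normalizer (A : Set G) := by
      intro e he
      refine Baumann.normalizer_le_omegaCentre _ ?_
      rw [← hJdef]
      have hJR : thompsonSubgroupOf p (Q ⊔ J) = J := Baumann.thompson_eq_of_pGroup hR le_sup_right
      rw [mem_normalizer_iff_map_conj_eq]
      have h1 := CfsgLib.Transfer.thompsonSubgroupOf_map (p := p) (MulAut.conj e).toMonoidHom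
        (S := Q ⊔ J) ((MulAut.conj e).injective.injOn)
      rw [hJR] at h1
      refine h1.trans ?_
      have h2 := mem_normalizer_iff_map_conj_eq.1 (hER he)
      exact (congrArg (thompsonSubgroupOf p) h2).trans hJR
    have hEC : E ≤ centralizer (A : Set G) := by
      rw [← hE.2.1, commutator_le]
      intro e he b hb
      have hbC : b ∈ centralizer (A : Set G) := hb.2
      rw [commutatorElement_def]
      exact mul_mem ((mem_normalizer_iff.1 (CfsgLib.LocalEven.Oz.mem_normalizer_centralizer (hEA he)) b).1 hbC)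
        (inv_mem hbC)
    refine hE.2.2.2.1 ?_
    rw [commutator_eq_bot_iff_le_centralizer]
    exact fun e he => mem_centralizer_iff.2 fun z hz =>
      mem_centralizer_iff.1 (hEC he) z (le_of_omegaCentre hz)

end CfsgLib.LocalEven.Block
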