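import Cfsg.Agent.Lib.LocalEven.CoreOf
import Cfsg.Agent.Lib.LocalEven.Basic
import Mathlib.GroupTheory.IsSubnormal

/-!
`O_p` of a subnormal subgroup lies in `O_p` of the group.
-/

set_option autoImplicit false

namespace CfsgLib.LocalEven.Subn

open Subgroup Cfsg

variable {G : Type*} [Group G] [Finite G] {p : ℕ}

theorem pCoreOf_le_pCore {L : Subgroup G} (hL : L.IsSubnormal) : pCoreOf p L ≤ pCore p G := by
  induction hL with
  | top =>
    rintro _ ⟨y, hy, rfl⟩
    exact CfsgLib.Cores.map_pCore_le (Subgroup.topEquiv : (⊤ : Subgroup G) ≃* G).toMonoidHom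
      Subgroup.topEquiv.surjective ⟨y, hy, rfl⟩
  | step A B hAB _ hN ih =>
    refine le_trans (CfsgLib.LocalEven.le_pCoreOf ((CfsgLib.LocalEven.pCoreOf_le p A).trans hAB)
      (CfsgLib.LocalEven.isPGroup_pCoreOf p A) fun b hb => CfsgLib.LocalEven.mem_normalizer_of_conj_le ?_) ih
    have hb' : b ∈ normalizer (A : Set G) := (Subgroup.normal_subgroupOf_iff_le_normalizer hAB).1 hN hb
    rw [← CfsgLib.LocalEven.pCoreOf_map, show A.map (MulAut.conj b).toMonoidHom = A from
      Subgroup.mem_normalizer_iff_map_conj_eq.1 hb']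

end CfsgLib.LocalEven.Subn
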