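import Cfsg.Agent.Lib.LocalEven.S4Section
import Cfsg.Agent.Lib.Solvable.Fitting
import Cfsg.Agent.Lib.Cores.Fitting

/-!
Abelian offenders in solvable groups of characteristic two produce a section `S₄`.
-/

set_option autoImplicit false

namespace CfsgLib.LocalEven.Offender

open Subgroup Cfsg
open scoped commutatorElement

universe u

variable {G : Type u} [Group G] [Finite G]

/-- In a solvable group with trivial `p`-core the `p'`-core contains its centraliser. -/
theorem centralizer_pPrimeCore_le_of_pCore_eq_bot [Group.IsSolvable G] {p : ℕ} [hp : Fact p.Prime]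
    (hO : pCore p G = ⊥) :
    centralizer (pPrimeCore p G : Set G) ≤ pPrimeCore p G := by
  have hF : fittingSubgroup G ≤ pPrimeCore p G := by
    rw [CfsgLib.Cores.fittingSubgroup_eq_iSup_pCore]
    refine iSup_le fun q => ?_
    haveI : Fact (q : ℕ).Prime := ⟨Nat.prime_of_mem_primeFactors q.2⟩
    by_cases hqp : (q : ℕ) = p
    · rw [hqp, hO]; exact bot_le
    · refine CfsgLib.Cores.le_pPrimeCore ?_
      obtain ⟨k, hk⟩ := CfsgLib.Cores.card_pCore_eq_pow (G := G) (q : ℕ)
      rw [hk]
      exact ((Nat.coprime_primes Fact.out hp.out).2 hqp).pow_left k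
  exact (Subgroup.centralizer_le hF).trans (CfsgLib.Solvable.centralizer_fittingSubgroup_le.trans hF)

/-- An abelian offender on `V` in a solvable group with `C(V) = O_2(G)` gives a section `S₄`. -/
theorem involves_of_solvable_offender [Group.IsSolvable G] {V : Subgroup G} [V.Normal]
    (hV : IsElementaryAbelian 2 V) (hCV : centralizer (V : Set G) = pCore 2 G) {A : Subgroup G}
    (hA : IsPGroup 2 A) (hAc : ∀ a ∈ A, ∀ b ∈ A, a * b = b * a) (hAH : ¬ A ≤ pCore 2 G)
    (hoff : Nat.card V * Nat.card ↥(A ⊓ pCore 2 G) ≤ Nat.card A * Nat.card ↥(V ⊓ centralizer (A : Set G))) :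
    Involves (Equiv.Perm (Fin 4)) G := by
  haveI : Fact (Nat.Prime 2) := ⟨Nat.prime_two⟩
  set H := pCore 2 G with hH
  set π := QuotientGroup.mk' H with hπ
  have hπs : Function.Surjective π := QuotientGroup.mk'_surjective H
  set K := (pPrimeCore 2 (G ⧸ H)).comap π with hK
  have hKrel : (H.relIndex K).Coprime 2 := by
    have h1 := Subgroup.relIndex_ker π (K := K)
    rw [QuotientGroup.ker_mk', hK, Subgroup.map_comap_eq_self_of_surjective hπs] at h1
    rw [h1]
    exact CfsgLib.Cores.coprime_card_pPrimeCore 2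
  have hfaith : ∀ y : G, IsPGroup 2 (zpowers y) → (∀ k ∈ K, ⁅y, k⁆ ∈ H) → y ∈ H := by
    intro y hy h
    have h1 : π y ∈ centralizer (pPrimeCore 2 (G ⧸ H) : Set (G ⧸ H)) := by
      refine Subgroup.mem_centralizer_iff.2 fun q hq => ?_
      obtain ⟨k, rfl⟩ := hπs q
      have h2 : π ⁅y, k⁆ = 1 := (QuotientGroup.eq_one_iff _).2 (h k hq)
      rw [map_commutatorElement, commutatorElement_eq_one_iff_mul_comm] at h2
      exact h2.symm
    have h3 := centralizer_pPrimeCore_le_of_pCore_eq_bot (CfsgLib.Cores.pCore_quotient_self (G := G) 2) h1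
    have h4 : π y = 1 := CfsgLib.LocalEven.eq_one_of_pow_eq_one_of_pGroup (hy.map π) ⟨y, mem_zpowers y, rfl⟩
      ((CfsgLib.Cores.coprime_card_pPrimeCore 2).coprime_dvd_left (Subgroup.orderOf_dvd_natCard _ h3))
      (pow_orderOf_eq_one _)
    exact (QuotientGroup.eq_one_iff y).1 h4
  obtain ⟨a, ha, haH, ha2, hcard⟩ :=
    exists_transvection (p := 2) (H := H) (K := K) hV hCV hKrel hfaith hA hAc hAH hoff
  exact involves_perm_four (H := H) (K := K) hV hCV (CfsgLib.Cores.isPGroup_pCore 2) hKrel hfaith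
    ha haH ha2 hcard

end CfsgLib.LocalEven.Offender
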