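import Cfsg.Prelude.Def_BaumannBlocks
import Cfsg.Agent.Lib.PGroup.Counting
import Cfsg.Agent.Lib.LocalEven.Basic

/-!
The Chermak–Delgado lattice: subgroups `R` of a finite group maximising `|R| |C(R)|`, and centrally large subgroups.
-/

namespace CfsgLib.LocalEven

open Subgroup Cfsg Pointwise

variable {G : Type*} [Group G]

theorem centralizer_sup (H K : Subgroup G) :
    Subgroup.centralizer ((H ⊔ K : Subgroup G) : Set G) =
      Subgroup.centralizer (H : Set G) ⊓ Subgroup.centralizer (K : Set G) := by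
  refine le_antisymm (le_inf (Subgroup.centralizer_le (SetLike.coe_subset_coe.2 le_sup_left))
    (Subgroup.centralizer_le (SetLike.coe_subset_coe.2 le_sup_right))) ?_
  exact Subgroup.le_centralizer_iff.1 (sup_le (Subgroup.le_centralizer_iff.1 inf_le_left)
    (Subgroup.le_centralizer_iff.1 inf_le_right))

theorem sup_centralizer_le_centralizer_inf (H K : Subgroup G) :
    Subgroup.centralizer (H : Set G) ⊔ Subgroup.centralizer (K : Set G) ≤
      Subgroup.centralizer ((H ⊓ K : Subgroup G) : Set G) :=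
  sup_le (Subgroup.centralizer_le (SetLike.coe_subset_coe.2 inf_le_left))
    (Subgroup.centralizer_le (SetLike.coe_subset_coe.2 inf_le_right))

theorem coe_sup_eq_mul [Finite G] {A B : Subgroup G}
    (h : Nat.card ↥(A ⊔ B) * Nat.card ↥(A ⊓ B) ≤ Nat.card A * Nat.card B) :
    ((A ⊔ B : Subgroup G) : Set G) = (A : Set G) * (B : Set G) := by
  refine Set.Subset.antisymm (fun x hx => ?_) (Set.mul_subset_iff.2 fun a ha b hb => Subgroup.mul_mem_sup ha hb)
  exact Set.mem_mul.2 (CfsgLib.PGroup.exists_mul_of_card_sup_inf_le h hx)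

theorem card_center_eq (R : Subgroup G) :
    Nat.card ↥(Subgroup.center ↥R) = Nat.card ↥(R ⊓ Subgroup.centralizer (R : Set G)) := by
  have h : Subgroup.center ↥R = (R ⊓ Subgroup.centralizer (R : Set G)).subgroupOf R := by
    ext z
    simp only [Subgroup.mem_center_iff, Subgroup.mem_subgroupOf, Subgroup.mem_inf, z.2, true_and,
      Subgroup.mem_centralizer_iff, SetLike.mem_coe]
    exact ⟨fun h r hr => congrArg Subtype.val (h ⟨r, hr⟩), fun h r => Subtype.ext (h r r.2)⟩
  rw [h]
  exact Nat.card_congr (Subgroup.subgroupOfEquivOfLe inf_le_left).toEquiv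

/-- `|R| |C(R)|`. -/
noncomputable def cdMeasure (R : Subgroup G) : ℕ :=
  Nat.card ↥R * Nat.card ↥(Subgroup.centralizer (R : Set G))

theorem cdMeasure_le [Finite G] (R : Subgroup G) : cdMeasure R ≤ maxCentralizerProduct G := by
  refine le_csSup ?_ ⟨R, rfl⟩
  refine ⟨Nat.card G * Nat.card G, ?_⟩
  rintro k ⟨S, rfl⟩
  exact Nat.mul_le_mul S.card_le_card_group (Subgroup.card_le_card_group _)

theorem exists_centralizerLarge [Finite G] : ∃ R : Subgroup G, IsCentralizerLarge R :=
  Nat.sSup_mem (s := {k : ℕ | ∃ R : Subgroup G,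
      Nat.card ↥R * Nat.card ↥(Subgroup.centralizer (R : Set G)) = k}) ⟨_, ⊥, rfl⟩
    ⟨Nat.card G * Nat.card G, by
      rintro k ⟨S, rfl⟩
      exact Nat.mul_le_mul S.card_le_card_group (Subgroup.card_le_card_group _)⟩

theorem isCentralizerLarge_of_le [Finite G] {R : Subgroup G}
    (h : maxCentralizerProduct G ≤ cdMeasure R) : IsCentralizerLarge R :=
  le_antisymm (cdMeasure_le R) h

theorem cdMeasure_mul_le [Finite G] (H K : Subgroup G) :
    cdMeasure H * cdMeasure K ≤ cdMeasure (H ⊔ K) * cdMeasure (H ⊓ K) := by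
  have h1 := CfsgLib.PGroup.card_mul_card_le_sup_inf H K
  have h2 := CfsgLib.PGroup.card_mul_card_le_sup_inf (Subgroup.centralizer (H : Set G))
    (Subgroup.centralizer (K : Set G))
  rw [← centralizer_sup] at h2
  have h3 := Subgroup.card_le_of_le (sup_centralizer_le_centralizer_inf H K)
  have h4 := Nat.mul_le_mul h1 (h2.trans (Nat.mul_le_mul_right _ h3))
  calc cdMeasure H * cdMeasure K = Nat.card H * Nat.card K *
        (Nat.card ↥(Subgroup.centralizer (H : Set G)) * Nat.card ↥(Subgroup.centralizer (K : Set G))) := by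
        simp only [cdMeasure]; ring
    _ ≤ _ := h4
    _ = _ := by simp only [cdMeasure]; ring

theorem _root_.Cfsg.IsCentralizerLarge.lattice [Finite G] {H K : Subgroup G}
    (hH : IsCentralizerLarge H) (hK : IsCentralizerLarge K) :
    IsCentralizerLarge (H ⊔ K) ∧ IsCentralizerLarge (H ⊓ K) ∧
      ((H ⊔ K : Subgroup G) : Set G) = (H : Set G) * (K : Set G) ∧
      ((Subgroup.centralizer (H : Set G) ⊔ Subgroup.centralizer (K : Set G) : Subgroup G) : Set G) =
        (Subgroup.centralizer (H : Set G) : Set G) * (Subgroup.centralizer (K : Set G) : Set G) ∧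
      Subgroup.centralizer ((H ⊓ K : Subgroup G) : Set G) =
        Subgroup.centralizer (H : Set G) ⊔ Subgroup.centralizer (K : Set G) := by
  have e := cdMeasure_mul_le H K
  have hH' : cdMeasure H = maxCentralizerProduct G := hH
  have hK' : cdMeasure K = maxCentralizerProduct G := hK
  have hs := cdMeasure_le (H ⊔ K)
  have hi := cdMeasure_le (H ⊓ K)
  have hpos : 0 < maxCentralizerProduct G :=
    hH' ▸ Nat.mul_pos Nat.card_pos Nat.card_pos
  rw [hH', hK'] at e
  have hs' : maxCentralizerProduct G ≤ cdMeasure (H ⊔ K) :=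
    Nat.le_of_mul_le_mul_right (e.trans (Nat.mul_le_mul_left _ hi)) hpos
  have hi' : maxCentralizerProduct G ≤ cdMeasure (H ⊓ K) :=
    Nat.le_of_mul_le_mul_left (e.trans (Nat.mul_le_mul_right _ hs)) hpos
  -- all the inequalities are equalities
  have h1 := CfsgLib.PGroup.card_mul_card_le_sup_inf H K
  set CH := Subgroup.centralizer (H : Set G) with hCH
  set CK := Subgroup.centralizer (K : Set G) with hCK
  have h2 := CfsgLib.PGroup.card_mul_card_le_sup_inf CH CK
  have h3 := Subgroup.card_le_of_le (sup_centralizer_le_centralizer_inf H K)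
  rw [← hCH, ← hCK] at h3
  have hprod : Nat.card ↥(H ⊔ K) * Nat.card ↥(H ⊓ K) *
      (Nat.card ↥(Subgroup.centralizer ((H ⊓ K : Subgroup G) : Set G)) * Nat.card ↥(CH ⊓ CK)) =
      Nat.card H * Nat.card K * (Nat.card CH * Nat.card CK) := by
    calc _ = cdMeasure (H ⊔ K) * cdMeasure (H ⊓ K) := by
          simp only [cdMeasure, centralizer_sup, ← hCH, ← hCK]; ring
      _ = cdMeasure H * cdMeasure K := by
          rw [le_antisymm hs hs', le_antisymm hi hi', hH', hK']
      _ = _ := by simp only [cdMeasure, ← hCH, ← hCK]; ring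
  have h2' : Nat.card CH * Nat.card CK ≤
      Nat.card ↥(Subgroup.centralizer ((H ⊓ K : Subgroup G) : Set G)) * Nat.card ↥(CH ⊓ CK) :=
    h2.trans (Nat.mul_le_mul_right _ h3)
  have eq1 : Nat.card ↥(H ⊔ K) * Nat.card ↥(H ⊓ K) ≤ Nat.card H * Nat.card K :=
    Nat.le_of_mul_le_mul_right ((Nat.mul_le_mul_left _ h2').trans hprod.le)
      (Nat.mul_pos Nat.card_pos Nat.card_pos)
  have eq2 : Nat.card ↥(Subgroup.centralizer ((H ⊓ K : Subgroup G) : Set G)) * Nat.card ↥(CH ⊓ CK) ≤
      Nat.card CH * Nat.card CK :=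
    Nat.le_of_mul_le_mul_left ((Nat.mul_le_mul_right _ h1).trans hprod.le)
      (Nat.mul_pos Nat.card_pos Nat.card_pos)
  have eq3 : Nat.card ↥(Subgroup.centralizer ((H ⊓ K : Subgroup G) : Set G)) ≤ Nat.card ↥(CH ⊔ CK) :=
    Nat.le_of_mul_le_mul_right (eq2.trans h2) Nat.card_pos
  refine ⟨isCentralizerLarge_of_le hs', isCentralizerLarge_of_le hi', coe_sup_eq_mul eq1,
    coe_sup_eq_mul ((Nat.mul_le_mul_right _ h3).trans eq2), ?_⟩
  exact (Subgroup.eq_of_le_of_card_ge (sup_centralizer_le_centralizer_inf H K) eq3).symm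

theorem _root_.Cfsg.IsCentralizerLarge.centralizer_centralizer [Finite G] {Q : Subgroup G}
    (hQ : IsCentralizerLarge Q) :
    IsCentralizerLarge (Subgroup.centralizer (Q : Set G)) ∧
      Q = Subgroup.centralizer ((Subgroup.centralizer (Q : Set G) : Subgroup G) : Set G) := by
  have hle : Q ≤ Subgroup.centralizer ((Subgroup.centralizer (Q : Set G) : Subgroup G) : Set G) :=
    Subgroup.le_centralizer_iff.1 le_rfl
  have h1 : maxCentralizerProduct G ≤ cdMeasure (Subgroup.centralizer (Q : Set G)) := by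
    rw [← (hQ : cdMeasure Q = _)]
    simp only [cdMeasure]
    rw [mul_comm]
    exact Nat.mul_le_mul_left _ (Subgroup.card_le_of_le hle)
  refine ⟨isCentralizerLarge_of_le h1, Subgroup.eq_of_le_of_card_ge hle ?_⟩
  have h2 := cdMeasure_le (Subgroup.centralizer (Q : Set G))
  rw [← (hQ : cdMeasure Q = _)] at h2
  simp only [cdMeasure] at h2
  rw [mul_comm (Nat.card ↥Q)] at h2
  exact Nat.le_of_mul_le_mul_left h2 Nat.card_pos

/-- The two maxima agree, and the centrally large subgroups are the members of the lattice containing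
their centralisers. -/
theorem maxCentralProduct_eq [Finite G] : maxCentralProduct G = maxCentralizerProduct G := by
  have hbdd : BddAbove {k : ℕ | ∃ R : Subgroup G, Nat.card ↥R * Nat.card ↥(Subgroup.center ↥R) = k} :=
    ⟨maxCentralizerProduct G, by
      rintro k ⟨S, rfl⟩
      rw [card_center_eq]
      exact (Nat.mul_le_mul_left _ (Subgroup.card_le_of_le inf_le_right)).trans (cdMeasure_le S)⟩
  apply le_antisymm
  · refine csSup_le ⟨_, ⊥, rfl⟩ ?_
    rintro k ⟨S, rfl⟩
    rw [card_center_eq]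
    exact (Nat.mul_le_mul_left _ (Subgroup.card_le_of_le inf_le_right)).trans (cdMeasure_le S)
  · obtain ⟨R, hR⟩ := exists_centralizerLarge (G := G)
    obtain ⟨hC, hCC⟩ := hR.centralizer_centralizer
    obtain ⟨hj, -, -, -, -⟩ := hR.lattice hC
    refine le_csSup hbdd ⟨R ⊔ Subgroup.centralizer (R : Set G), ?_⟩
    rw [card_center_eq, inf_eq_right.2]
    · exact hj
    · rw [centralizer_sup]
      exact inf_le_left.trans le_sup_right

theorem isCentrallyLarge_iff [Finite G] {Q : Subgroup G} :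
    IsCentrallyLarge Q ↔ IsCentralizerLarge Q ∧ Subgroup.centralizer (Q : Set G) ≤ Q := by
  rw [IsCentrallyLarge, maxCentralProduct_eq, card_center_eq]
  constructor
  · intro h
    have h1 : Nat.card ↥Q * Nat.card ↥(Subgroup.centralizer (Q : Set G)) ≤
        Nat.card ↥Q * Nat.card ↥(Q ⊓ Subgroup.centralizer (Q : Set G)) := h ▸ cdMeasure_le Q
    have h2 : Q ⊓ Subgroup.centralizer (Q : Set G) = Subgroup.centralizer (Q : Set G) :=
      Subgroup.eq_of_le_of_card_ge inf_le_right (Nat.le_of_mul_le_mul_left h1 Nat.card_pos)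
    rw [h2] at h
    exact ⟨h, inf_eq_right.1 h2⟩
  · rintro ⟨h1, h2⟩
    rw [inf_eq_right.2 h2]
    exact h1

theorem _root_.Cfsg.IsCentrallyLarge.sup [Finite G] {Q R : Subgroup G}
    (hQ : IsCentrallyLarge Q) (hR : IsCentrallyLarge R) :
    ((Q ⊔ R : Subgroup G) : Set G) = (Q : Set G) * (R : Set G) ∧ IsCentrallyLarge (Q ⊔ R) := by
  rw [isCentrallyLarge_iff] at hQ hR ⊢
  obtain ⟨hs, -, hm, -, -⟩ := hQ.1.lattice hR.1
  refine ⟨hm, hs, ?_⟩
  rw [centralizer_sup]
  exact inf_le_left.trans (hQ.2.trans le_sup_left)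

theorem exists_centrallyLarge [Finite G] : ∃ Q : Subgroup G, IsCentrallyLarge Q := by
  obtain ⟨R, hR⟩ := exists_centralizerLarge (G := G)
  obtain ⟨hC, -⟩ := hR.centralizer_centralizer
  refine ⟨R ⊔ Subgroup.centralizer (R : Set G), isCentrallyLarge_iff.2 ⟨(hR.lattice hC).1, ?_⟩⟩
  rw [centralizer_sup]
  exact inf_le_left.trans le_sup_right

theorem exists_minimalCentrallyLarge [Finite G] {Q : Subgroup G} (hQ : IsCentrallyLarge Q) :
    ∃ R : Subgroup G, R ≤ Q ∧ IsMinimalCentrallyLarge R := by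
  obtain ⟨R, hR, hmin⟩ := wellFounded_lt.has_min {R : Subgroup G | R ≤ Q ∧ IsCentrallyLarge R} ⟨Q, le_rfl, hQ⟩
  refine ⟨R, hR.1, hR.2, fun R' h1 h2 => ?_⟩
  by_contra hne
  exact hmin R' ⟨h1.trans hR.1, h2⟩ (lt_of_le_of_ne h1 hne)

/-- The join of a nonempty set of centrally large subgroups is centrally large. -/
theorem isCentrallyLarge_sSup [Finite G] {S : Set (Subgroup G)} (hS : ∀ R ∈ S, IsCentrallyLarge R)
    (hne : S.Nonempty) : IsCentrallyLarge (sSup S) := by
  obtain ⟨Q₀, hQ₀⟩ := hne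
  have key : ∀ T : Set (Subgroup G), (∀ R ∈ T, IsCentrallyLarge R) → IsCentrallyLarge (Q₀ ⊔ sSup T) := by
    intro T
    induction T, T.toFinite using Set.Finite.induction_on with
    | empty => intro _; rw [sSup_empty, sup_bot_eq]; exact hS Q₀ hQ₀
    | @insert a T _ _ ih =>
      intro hT
      rw [sSup_insert, ← sup_assoc, sup_comm Q₀ a, sup_assoc]
      exact ((hT a (Set.mem_insert _ _)).sup (ih fun R hR => hT R (Set.mem_insert_of_mem _ hR))).2
  have := key S hS
  rwa [sup_eq_right.2 (le_sSup hQ₀)] at this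

end CfsgLib.LocalEven
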