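import Mathlib
import Cfsg.Prelude.Def_PLocal
import Cfsg.Prelude.Def_BaumannBlocks
import Cfsg.Agent.Lib.LocalEven.Measure
import Cfsg.Agent.Lib.PGroup.Counting
import Cfsg.Agent.S3006
import Cfsg.Agent.S3007

/-!
A minimal centrally large subgroup normalised by the Thompson subgroup, by Thompson replacement
inside the product of the centres of two conjugate minimal centrally large subgroups.
-/

set_option autoImplicit false

namespace CfsgLib.LocalEven.CLNormal

open Subgroup Cfsg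
open CfsgLib.LocalEven
open scoped commutatorElement Pointwise

/-- Itô: the commutators of two permutable abelian subgroups commute. -/
theorem commute_commutators {G : Type*} [Group G] {A B : Subgroup G}
    (hA : ∀ a ∈ A, ∀ a' ∈ A, a * a' = a' * a) (hB : ∀ b ∈ B, ∀ b' ∈ B, b * b' = b' * b)
    (h : ∀ b ∈ B, ∀ a ∈ A, ∃ a' ∈ A, ∃ b' ∈ B, b * a = a' * b')
    (h' : ∀ a ∈ A, ∀ b ∈ B, ∃ b' ∈ B, ∃ a' ∈ A, a * b = b' * a')
    {a b a₁ b₁ : G} (ha : a ∈ A) (hb : b ∈ B) (ha₁ : a₁ ∈ A) (hb₁ : b₁ ∈ B) :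
    Commute ⁅a, b⁆ ⁅a₁, b₁⁆ := by
  suffices key : ∀ a₁ ∈ A, ∀ b₁ ∈ B, Commute ⁅a₁⁻¹, b₁⁻¹⁆ ⁅a, b⁆ by
    simpa using (key _ (inv_mem ha₁) _ (inv_mem hb₁)).symm
  clear ha₁ hb₁ a₁ b₁
  intro a₁ ha₁ b₁ hb₁
  obtain ⟨a₃, ha₃, b₃', hb₃', e1⟩ := h b₁ hb₁ a ha
  have hb₃ : b₃' * b₁⁻¹ ∈ B := mul_mem hb₃' (inv_mem hb₁)
  obtain ⟨b₂, hb₂, a₂', ha₂', e2⟩ := h' a₁ ha₁ b hb
  have ha₂ : a₂' * a₁⁻¹ ∈ A := mul_mem ha₂' (inv_mem ha₁)
  have hL : ∀ u ∈ B, b₁ * ⁅a, u⁆ * b₁⁻¹ = ⁅a₃, u⁆ := by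
    intro u hu
    have hu' : b₁ * u * b₁⁻¹ = u := by rw [hB b₁ hb₁ u hu, mul_inv_cancel_right]
    have e1' : b₁ * a * b₁⁻¹ = a₃ * (b₃' * b₁⁻¹) := by rw [e1]; group
    calc b₁ * ⁅a, u⁆ * b₁⁻¹ = ⁅b₁ * a * b₁⁻¹, b₁ * u * b₁⁻¹⁆ := by
          rw [commutatorElement_def, commutatorElement_def]; group
      _ = ⁅a₃ * (b₃' * b₁⁻¹), u⁆ := by rw [hu', e1']
      _ = a₃ * ⁅b₃' * b₁⁻¹, u⁆ * a₃⁻¹ * ⁅a₃, u⁆ := by
          rw [commutatorElement_def, commutatorElement_def, commutatorElement_def]; group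
      _ = ⁅a₃, u⁆ := by rw [commutatorElement_eq_one_iff_mul_comm.2 (hB _ hb₃ u hu)]; group
  have hR : ∀ v ∈ A, a₁ * ⁅v, b⁆ * a₁⁻¹ = ⁅v, b₂⁆ := by
    intro v hv
    have hv' : a₁ * v * a₁⁻¹ = v := by rw [hA a₁ ha₁ v hv, mul_inv_cancel_right]
    have e2' : a₁ * b * a₁⁻¹ = b₂ * (a₂' * a₁⁻¹) := by rw [e2]; group
    calc a₁ * ⁅v, b⁆ * a₁⁻¹ = ⁅a₁ * v * a₁⁻¹, a₁ * b * a₁⁻¹⁆ := by
          rw [commutatorElement_def, commutatorElement_def]; group
      _ = ⁅v, b₂ * (a₂' * a₁⁻¹)⁆ := by rw [hv', e2']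
      _ = ⁅v, b₂⁆ * (b₂ * ⁅v, a₂' * a₁⁻¹⁆ * b₂⁻¹) := by
          rw [commutatorElement_def, commutatorElement_def, commutatorElement_def]; group
      _ = ⁅v, b₂⁆ := by rw [commutatorElement_eq_one_iff_mul_comm.2 (hA v hv _ ha₂)]; group
  have h5 : (b₁ * a₁) * ⁅a, b⁆ * (b₁ * a₁)⁻¹ = (a₁ * b₁) * ⁅a, b⁆ * (a₁ * b₁)⁻¹ := by
    calc (b₁ * a₁) * ⁅a, b⁆ * (b₁ * a₁)⁻¹ = b₁ * (a₁ * ⁅a, b⁆ * a₁⁻¹) * b₁⁻¹ := by group
      _ = ⁅a₃, b₂⁆ := by rw [hR a ha, hL b₂ hb₂]
      _ = a₁ * (b₁ * ⁅a, b⁆ * b₁⁻¹) * a₁⁻¹ := by rw [hL b hb, hR a₃ ha₃]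
      _ = _ := by group
  show ⁅a₁⁻¹, b₁⁻¹⁆ * ⁅a, b⁆ = ⁅a, b⁆ * ⁅a₁⁻¹, b₁⁻¹⁆
  rw [show ⁅a₁⁻¹, b₁⁻¹⁆ = (b₁ * a₁)⁻¹ * (a₁ * b₁) by rw [commutatorElement_def]; group]
  calc (b₁ * a₁)⁻¹ * (a₁ * b₁) * ⁅a, b⁆
      = (b₁ * a₁)⁻¹ * (a₁ * b₁ * ⁅a, b⁆ * (a₁ * b₁)⁻¹) * (a₁ * b₁) := by group
    _ = (b₁ * a₁)⁻¹ * (b₁ * a₁ * ⁅a, b⁆ * (b₁ * a₁)⁻¹) * (a₁ * b₁) := by rw [h5]
    _ = _ := by group

variable {P : Type*} [Group P] [Finite P]

theorem centralizer_eq_of_mem {B : Subgroup P} (hB : B ∈ maxAbelianSubgroups P) :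
    centralizer (B : Set P) = B := by
  refine le_antisymm (fun x hx => ?_) (le_centralizer_iff_isMulCommutative.2 hB.1)
  have hcl : IsMulCommutative ↥(B ⊔ zpowers x) := by
    refine le_centralizer_iff_isMulCommutative.1 (sup_le ?_ ?_) <;> rw [le_centralizer_iff] <;>
      refine sup_le ?_ ?_
    · exact le_centralizer_iff_isMulCommutative.2 hB.1
    · exact zpowers_le.2 hx
    · exact le_centralizer_iff.1 (zpowers_le.2 hx)
    · exact le_centralizer_iff_isMulCommutative.2 inferInstance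
  rw [eq_of_le_of_card_ge (le_sup_left : B ≤ B ⊔ zpowers x) (hB.2 _ hcl)]
  exact mem_sup_right (mem_zpowers x)

theorem exists_maxAbelian : ∃ A : Subgroup P, A ∈ maxAbelianSubgroups P := by
  obtain ⟨A, hA, hmax⟩ := Set.exists_max_image {A : Subgroup P | IsMulCommutative ↥A}
    (fun A => Nat.card A) (Set.toFinite _) ⟨⊥, inferInstanceAs (IsMulCommutative ↥(⊥ : Subgroup P))⟩
  exact ⟨A, hA, hmax⟩

/-- The join of a centrally large subgroup and the Thompson subgroup is centrally large. -/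
theorem isCentrallyLarge_sup_thompson {p : ℕ} [Fact p.Prime] (hP : IsPGroup p P) {Q : Subgroup P}
    (hQ : IsCentrallyLarge Q) : IsCentrallyLarge (Q ⊔ thompsonSubgroupA P) := by
  have key : ∀ T : Set (Subgroup P), T ⊆ maxAbelianSubgroups P → IsCentrallyLarge (Q ⊔ sSup T) := by
    intro T
    induction T, T.toFinite using Set.Finite.induction_on with
    | empty => intro _; rwa [sSup_empty, sup_bot_eq]
    | @insert a T _ _ ih =>
      intro hT
      rw [sSup_insert, sup_comm a, ← sup_assoc]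
      exact (Cfsg.Agent.S3006.result P hP _ a (ih ((Set.subset_insert _ _).trans hT))
        (hT (Set.mem_insert _ _))).2.1
  exact key _ subset_rfl

theorem centralizer_center_thompson_le {p : ℕ} [Fact p.Prime] (hP : IsPGroup p P) {Q : Subgroup P}
    (hQ : IsCentrallyLarge Q) :
    centralizer ((thompsonSubgroupA P ⊓ centralizer (thompsonSubgroupA P : Set P) : Subgroup P) : Set P) ≤
      Q ⊔ thompsonSubgroupA P := by
  obtain ⟨hR, -⟩ := isCentrallyLarge_iff.1 (isCentrallyLarge_sup_thompson hP hQ)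
  set R := Q ⊔ thompsonSubgroupA P
  have hle : centralizer (R : Set P) ≤ thompsonSubgroupA P ⊓ centralizer (thompsonSubgroupA P : Set P) := by
    have h1 : centralizer (R : Set P) ≤ centralizer (thompsonSubgroupA P : Set P) :=
      centralizer_le (SetLike.coe_subset_coe.2 le_sup_right)
    refine le_inf (fun x hx => ?_) h1
    obtain ⟨A, hA⟩ := exists_maxAbelian (P := P)
    have h2 : A ≤ thompsonSubgroupA P := le_sSup hA
    exact h2 ((centralizer_eq_of_mem hA).le (centralizer_le (SetLike.coe_subset_coe.2 h2) (h1 hx)))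
  exact (centralizer_le (SetLike.coe_subset_coe.2 hle)).trans hR.centralizer_centralizer.2.symm.le

theorem center_eq {Q : Subgroup P} (hQ : IsCentrallyLarge Q) :
    Q ⊓ centralizer (Q : Set P) = centralizer (Q : Set P) :=
  inf_eq_right.2 (isCentrallyLarge_iff.1 hQ).2

/-- The centre of a centrally large subgroup lies in the Thompson subgroup. -/
theorem center_le_thompson {p : ℕ} [Fact p.Prime] (hP : IsPGroup p P) {R : Subgroup P}
    (hR : IsCentrallyLarge R) : centralizer (R : Set P) ≤ thompsonSubgroupA P := by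
  obtain ⟨A, hA⟩ := exists_maxAbelian (P := P)
  obtain ⟨hmul, hCL, -⟩ := Cfsg.Agent.S3006.result P hP R A hR hA
  obtain ⟨hRl, hRC⟩ := isCentrallyLarge_iff.1 hR
  obtain ⟨hJl, -⟩ := isCentrallyLarge_iff.1 hCL
  set Z := centralizer (R : Set P) with hZ
  set D := R ⊓ A with hD
  have hAA := centralizer_eq_of_mem hA
  have hab : IsMulCommutative ↥(D ⊔ Z) := by
    refine le_centralizer_iff_isMulCommutative.1 (sup_le ?_ ?_) <;> rw [le_centralizer_iff] <;>
      refine sup_le ?_ ?_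
    · exact (inf_le_right.trans_eq hAA.symm).trans (centralizer_le (SetLike.coe_subset_coe.2 inf_le_right))
    · exact le_trans le_rfl (centralizer_le (SetLike.coe_subset_coe.2 inf_le_left))
    · exact le_centralizer_iff.1 (centralizer_le (SetLike.coe_subset_coe.2 inf_le_left))
    · exact centralizer_le (SetLike.coe_subset_coe.2 hRC)
  have hCJ : centralizer ((R ⊔ A : Subgroup P) : Set P) = Z ⊓ A := by
    rw [centralizer_sup, hAA]
  have hDZ : D ⊓ Z = Z ⊓ A := by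
    rw [hD, inf_assoc, inf_comm A Z, ← inf_assoc, inf_eq_right.2 hRC]
  have h1 : Nat.card R * Nat.card Z = Nat.card ↥(R ⊔ A) * Nat.card ↥(Z ⊓ A) := by
    rw [← hCJ]; exact hRl.trans hJl.symm
  have h2 : Nat.card ↥(R ⊔ A) * Nat.card D = Nat.card R * Nat.card A := by
    have := CfsgLib.PGroup.card_setMul_mul_card_inf R A
    rwa [← hmul] at this
  have h3 := CfsgLib.PGroup.card_mul_card_le_sup_inf D Z
  rw [hDZ] at h3
  have h4 : Nat.card A ≤ Nat.card ↥(D ⊔ Z) := by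
    refine Nat.le_of_mul_le_mul_right ?_ (Nat.mul_pos (Nat.card_pos (α := ↥R)) (Nat.card_pos (α := ↥(Z ⊓ A))))
    calc Nat.card A * (Nat.card R * Nat.card ↥(Z ⊓ A)) = Nat.card R * Nat.card A * Nat.card ↥(Z ⊓ A) := by ring
      _ = Nat.card ↥(R ⊔ A) * Nat.card D * Nat.card ↥(Z ⊓ A) := by rw [h2]
      _ = Nat.card ↥(R ⊔ A) * Nat.card ↥(Z ⊓ A) * Nat.card D := by ring
      _ = Nat.card R * Nat.card Z * Nat.card D := by rw [h1]
      _ = Nat.card R * (Nat.card D * Nat.card Z) := by ring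
      _ ≤ Nat.card R * (Nat.card ↥(D ⊔ Z) * Nat.card ↥(Z ⊓ A)) := Nat.mul_le_mul_left _ h3
      _ = _ := by ring
  exact le_sup_right.trans (le_sSup ⟨hab, fun B hB => (hA.2 B hB).trans h4⟩)

theorem isMCL_map {Q : Subgroup P} (hQ : IsMinimalCentrallyLarge Q) (e : P ≃* P) :
    IsMinimalCentrallyLarge (Q.map e.toMonoidHom) := by
  have key : ∀ (f : P ≃* P) (R : Subgroup P), IsCentrallyLarge R → IsCentrallyLarge (R.map f.toMonoidHom) := by
    intro f R hR
    have e1 : Nat.card ↥(R.map f.toMonoidHom) = Nat.card ↥R := card_map_of_injective f.injective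
    have e2 : Nat.card ↥(center ↥(R.map f.toMonoidHom)) = Nat.card ↥(center ↥R) :=
      (Nat.card_congr (Subgroup.centerCongr (R.equivMapOfInjective f.toMonoidHom f.injective)).toEquiv).symm
    unfold IsCentrallyLarge
    rw [e1, e2]
    exact hR
  refine ⟨key e Q hQ.1, fun R' hle hR' => ?_⟩
  have hid : ∀ S : Subgroup P, (S.map e.symm.toMonoidHom).map e.toMonoidHom = S := fun S => by
    ext x
    simp [Subgroup.mem_map]
  have h1 : R'.map e.symm.toMonoidHom ≤ Q := by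
    rintro _ ⟨y, hy, rfl⟩
    obtain ⟨q, hq, rfl⟩ := hle hy
    simpa using hq
  rw [← hQ.2 _ h1 (key e.symm R' hR'), hid]

/-- The facts used about two minimal centrally large subgroups. -/
theorem pair {p : ℕ} [Fact p.Prime] (hP : IsPGroup p P) {Q R : Subgroup P}
    (hQ : IsMinimalCentrallyLarge Q) (hR : IsMinimalCentrallyLarge R) :
    Q = (Q ⊓ R) ⊔ centralizer (Q : Set P) ∧
      ((centralizer (Q : Set P) ⊔ centralizer (R : Set P) : Subgroup P) : Set P) =
        (centralizer (Q : Set P) : Set P) * (centralizer (R : Set P) : Set P) ∧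
      centralizer ((Q ⊓ R : Subgroup P) : Set P) = centralizer (Q : Set P) ⊔ centralizer (R : Set P) ∧
      Nat.card Q * Nat.card ↥((Q ⊓ R) ⊓ centralizer (Q : Set P)) ≤
        Nat.card ↥(Q ⊓ R) * Nat.card ↥(centralizer (Q : Set P)) := by
  obtain ⟨hQl, hQC⟩ := isCentrallyLarge_iff.1 hQ.1
  obtain ⟨hRl, -⟩ := isCentrallyLarge_iff.1 hR.1
  have h1 := (Cfsg.Agent.S3007.result P hP Q R hQ hR).1
  rw [inf_eq_right.2 hQC] at h1
  obtain ⟨-, hIl, -, h3, h4⟩ := hQl.lattice hRl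
  obtain ⟨hCQl, -⟩ := hQl.centralizer_centralizer
  obtain ⟨-, -, hjm, -, -⟩ := hIl.lattice hCQl
  refine ⟨h1.symm, h3, h4, ?_⟩
  have := CfsgLib.PGroup.card_setMul_mul_card_inf (Q ⊓ R) (centralizer (Q : Set P))
  rw [← hjm, h1] at this
  exact this.le

/-- Replacement: if `[x, Z(Q)]` is commutative there is a minimal centrally large subgroup whose
centre contains `[x, Z(Q)]` and the elements of `Z(Q)` centralising it. -/
theorem exists_replacement {p : ℕ} [Fact p.Prime] (hP : IsPGroup p P) {Q : Subgroup P}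
    (hQ : IsMinimalCentrallyLarge Q) (x : P)
    (hM : ∀ a ∈ centralizer (Q : Set P), ∀ b ∈ centralizer (Q : Set P), Commute ⁅x, a⁆ ⁅x, b⁆) :
    ∃ R : Subgroup P, IsMinimalCentrallyLarge R ∧
      (∀ a ∈ centralizer (Q : Set P), ⁅x, a⁆ ∈ centralizer (R : Set P)) ∧
      ∀ k ∈ centralizer (Q : Set P), (∀ a ∈ centralizer (Q : Set P), Commute ⁅x, a⁆ k) →
        k ∈ centralizer (R : Set P) := by
  set e : P ≃* P := MulAut.conj x
  set Q' := Q.map e.toMonoidHom with hQ'def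
  have hQ' : IsMinimalCentrallyLarge Q' := isMCL_map hQ e
  set Z := centralizer (Q : Set P) with hZdef
  set Z' := centralizer (Q' : Set P) with hZ'def
  obtain ⟨hQsup, hYmul, hCI, hcardQ⟩ := pair hP hQ hQ'
  obtain ⟨hQ'sup, -, -, -⟩ := pair hP hQ' hQ
  rw [← hZdef] at hQsup hcardQ
  rw [← hZdef, ← hZ'def] at hYmul hCI
  rw [← hZ'def] at hQ'sup
  set I := Q ⊓ Q' with hI
  set Y := Z ⊔ Z' with hY
  have hZQ : Z ≤ Q := (isCentrallyLarge_iff.1 hQ.1).2
  have hZ'Q' : Z' ≤ Q' := (isCentrallyLarge_iff.1 hQ'.1).2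
  have hZab : ∀ a ∈ Z, ∀ b ∈ Z, a * b = b * a := fun a ha b hb => mem_centralizer_iff.1 hb a (hZQ ha)
  have hZ'ab : ∀ a ∈ Z', ∀ b ∈ Z', a * b = b * a := fun a ha b hb => mem_centralizer_iff.1 hb a (hZ'Q' ha)
  have hconjZ : ∀ a ∈ Z, x * a * x⁻¹ ∈ Z' := by
    intro a ha
    rw [hZ'def, mem_centralizer_iff]
    rintro _ ⟨q, hq, rfl⟩
    show x * q * x⁻¹ * (x * a * x⁻¹) = x * a * x⁻¹ * (x * q * x⁻¹)
    calc x * q * x⁻¹ * (x * a * x⁻¹) = x * (q * a) * x⁻¹ := by group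
      _ = x * (a * q) * x⁻¹ := by rw [mem_centralizer_iff.1 ha q hq]
      _ = _ := by group
  -- `Q` meets `Y` in `Z`
  have hYQ : ∀ y ∈ Y, y ∈ Q → y ∈ Z := by
    intro y hy hyQ
    rw [← SetLike.mem_coe, hYmul] at hy
    obtain ⟨a, ha, b, hb, rfl⟩ := Set.mem_mul.1 hy
    have hbQ : b ∈ Q := by simpa using mul_mem (inv_mem (hZQ ha)) hyQ
    refine mul_mem ha ?_
    have hle : Q ≤ centralizer ({b} : Set P) := by
      conv_lhs => rw [hQsup]
      refine sup_le (fun i hi => ?_) (fun z hz => ?_) <;> rw [mem_centralizer_singleton_iff]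
      · exact mem_centralizer_iff.1 hb i (mem_inf.1 hi).2
      · exact (mem_centralizer_iff.1 hz b hbQ).symm
    exact mem_centralizer_iff.2 fun q hq => mem_centralizer_singleton_iff.1 (hle hq)
  have hYQ' : ∀ y ∈ Y, y ∈ Q' → y ∈ Z' := by
    intro y hy hyQ
    have hy' : y ∈ ((Y : Subgroup P) : Set P) := hy
    rw [hYmul] at hy'
    obtain ⟨a, ha, b, hb, rfl⟩ := Set.mem_mul.1 hy'
    have haQ : a ∈ Q' := by simpa using mul_mem hyQ (inv_mem (hZ'Q' hb))
    refine mul_mem ?_ hb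
    have hle : Q' ≤ centralizer ({a} : Set P) := by
      conv_lhs => rw [hQ'sup]
      refine sup_le (fun i hi => ?_) (fun z hz => ?_) <;> rw [mem_centralizer_singleton_iff]
      · exact mem_centralizer_iff.1 ha i (mem_inf.1 hi).2
      · exact (mem_centralizer_iff.1 hz a haQ).symm
    exact mem_centralizer_iff.2 fun q hq => mem_centralizer_singleton_iff.1 (hle hq)
  -- the replacement
  set S : Set P := (fun a => ⁅x, a⁆) '' (Z : Set P) with hS
  set M := closure S with hMdef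
  have hMY : M ≤ Y := (closure_le _).2 (by
    rintro _ ⟨a, ha, rfl⟩
    exact mul_mem (mem_sup_right (hconjZ a ha)) (inv_mem (mem_sup_left ha)))
  have hMab : M ≤ centralizer (M : Set P) := by
    rw [hMdef, centralizer_closure, closure_le]
    rintro _ ⟨a, ha, rfl⟩
    rw [SetLike.mem_coe, mem_centralizer_iff]
    rintro _ ⟨b, hb, rfl⟩
    exact hM b hb a ha
  set K := Z ⊓ centralizer (M : Set P) with hK
  have hKmem : ∀ k ∈ Z, (∀ a ∈ Z, Commute ⁅x, a⁆ k) → k ∈ K := fun k hk h => mem_inf.2 ⟨hk, by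
    rw [hMdef, centralizer_closure, mem_centralizer_iff]
    rintro _ ⟨a, ha, rfl⟩
    exact h a ha⟩
  set L := M ⊔ K with hL
  have hLab : L ≤ centralizer (L : Set P) := by
    refine sup_le ?_ ?_ <;> rw [le_centralizer_iff] <;> refine sup_le ?_ ?_
    · exact hMab
    · exact inf_le_right
    · exact le_centralizer_iff.1 inf_le_right
    · exact fun a ha => mem_centralizer_iff.2 fun b hb => hZab b (mem_inf.1 hb).1 a (mem_inf.1 ha).1
  have hLY : L ≤ Y := sup_le hMY (inf_le_left.trans le_sup_left)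
  have hZI : ∀ z ∈ Z, z ∈ Z' → z ∈ L := fun z hz hz' => mem_sup_right (hKmem z hz fun a ha => by
    have h1 : Commute z (x * a * x⁻¹) := hZ'ab z hz' _ (hconjZ a ha)
    have h2 : Commute z a⁻¹ := hZab z hz _ (inv_mem ha)
    exact (h1.mul_right h2).symm)
  -- Thompson's count
  have hsymm : ∀ a ∈ Z, ∀ b ∈ Z, Commute ⁅x, a⁆ b → Commute ⁅x, b⁆ a := by
    intro a ha b hb hab
    have e1 : ⁅x, a * b⁆ = ⁅x, a⁆ * (a * ⁅x, b⁆ * a⁻¹) := by
      rw [commutatorElement_def, commutatorElement_def, commutatorElement_def]; group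
    have e2 : ⁅x, b * a⁆ = ⁅x, b⁆ * (b * ⁅x, a⁆ * b⁻¹) := by
      rw [commutatorElement_def, commutatorElement_def, commutatorElement_def]; group
    rw [← hab.eq, mul_inv_cancel_right, ← hZab a ha b hb, e1] at e2
    have e3 : a * ⁅x, b⁆ * a⁻¹ = ⁅x, b⁆ := by
      rw [← hM a ha b hb |>.eq] at e2
      exact mul_left_cancel e2
    exact (mul_inv_eq_iff_eq_mul.1 e3).symm
  have hMZ : M ⊓ Z ≤ K := le_inf inf_le_right (inf_le_left.trans hMab)
  have hcount : Nat.card Z ≤ Nat.card L := by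
    have h1 := CfsgLib.PGroup.card_mul_card_le_sup_inf M K
    rw [← hL] at h1
    have h2 : M ⊓ K = M ⊓ Z := le_antisymm (inf_le_inf_left _ inf_le_left) (le_inf inf_le_left hMZ)
    rw [h2] at h1
    let f : ↥Z ⧸ K.subgroupOf Z → ↥M ⧸ (M ⊓ Z).subgroupOf M := fun c =>
      QuotientGroup.mk ⟨⁅x, ((c.out : ↥Z) : P)⁆, subset_closure ⟨_, (c.out : ↥Z).2, rfl⟩⟩
    have hf : Function.Injective f := by
      intro c d hcd
      rw [← c.out_eq, ← d.out_eq]
      refine (QuotientGroup.eq).2 ?_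
      have h3 := (mem_inf.1 ((QuotientGroup.eq).1 hcd : _)).2
      set u := ((c.out : ↥Z) : P)
      set v := ((d.out : ↥Z) : P)
      have hu : u ∈ Z := (c.out : ↥Z).2
      have hv : v ∈ Z := (d.out : ↥Z).2
      show u⁻¹ * v ∈ K
      refine hKmem _ (mul_mem (inv_mem hu) hv) fun a ha => hsymm _ (mul_mem (inv_mem hu) hv) a ha ?_
      have h4 : ⁅x, u⁆⁻¹ * ⁅x, v⁆ = u * ⁅x, u⁻¹ * v⁆ * u⁻¹ := by
        rw [commutatorElement_def, commutatorElement_def, commutatorElement_def]; group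
      have h5 : ⁅x, u⁻¹ * v⁆ ∈ Z := by
        have h6 : u * ⁅x, u⁻¹ * v⁆ * u⁻¹ ∈ Z := h4 ▸ h3
        have := mul_mem (mul_mem (inv_mem hu) h6) hu
        simpa [mul_assoc] using this
      exact hZab _ h5 a ha
    have h7 := Nat.card_le_card_of_injective f hf
    have h8 := (K.subgroupOf Z).card_mul_index
    have h9 := ((M ⊓ Z).subgroupOf M).card_mul_index
    rw [Nat.card_congr (subgroupOfEquivOfLe (inf_le_left : K ≤ Z)).toEquiv] at h8
    rw [Nat.card_congr (subgroupOfEquivOfLe (inf_le_left : M ⊓ Z ≤ M)).toEquiv] at h9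
    refine Nat.le_of_mul_le_mul_right ?_ (Nat.card_pos (α := ↥(M ⊓ Z)))
    calc Nat.card Z * Nat.card ↥(M ⊓ Z) = Nat.card K * ((K.subgroupOf Z).index * Nat.card ↥(M ⊓ Z)) := by
          rw [← h8]; ring
      _ ≤ Nat.card K * (((M ⊓ Z).subgroupOf M).index * Nat.card ↥(M ⊓ Z)) :=
          Nat.mul_le_mul_left _ (Nat.mul_le_mul_right _ h7)
      _ = Nat.card M * Nat.card K := by rw [← h9]; ring
      _ ≤ _ := h1
  -- the new subgroup
  set R := I ⊔ L with hR
  have hIC : I ⊓ L ≤ Z ⊓ Z' := fun y hy => by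
    obtain ⟨hyI, hyL⟩ := mem_inf.1 hy
    exact mem_inf.2 ⟨hYQ y (hLY hyL) (mem_inf.1 hyI).1, hYQ' y (hLY hyL) (mem_inf.1 hyI).2⟩
  have hILC : L ≤ centralizer (R : Set P) := by
    rw [hR, centralizer_sup, hCI]
    exact le_inf hLY hLab
  have hIZ : Nat.card ↥(I ⊓ L) ≤ Nat.card ↥(I ⊓ Z) := card_le_of_le fun y hy =>
    mem_inf.2 ⟨(mem_inf.1 hy).1, (mem_inf.1 (hIC hy)).1⟩
  obtain ⟨hQl, -⟩ := isCentrallyLarge_iff.1 hQ.1
  have hQm : Nat.card Q * Nat.card Z = maxCentralizerProduct P := hQl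
  have hRm := cdMeasure_le R
  rw [← hQm] at hRm
  unfold cdMeasure at hRm
  have h1 := CfsgLib.PGroup.card_mul_card_le_sup_inf I L
  rw [← hR] at h1
  have hchain : Nat.card Q * Nat.card L ≤ Nat.card R * Nat.card ↥(centralizer (R : Set P)) ∧
      (Nat.card Z ≤ Nat.card L → Nat.card Q ≤ Nat.card R) := by
    have hC := card_le_of_le hILC
    constructor
    · refine le_trans ?_ (Nat.mul_le_mul_left _ hC)
      refine Nat.le_of_mul_le_mul_right ?_ (Nat.mul_pos (Nat.card_pos (α := ↥(I ⊓ Z))) (Nat.card_pos (α := ↥(I ⊓ L))))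
      calc Nat.card Q * Nat.card L * (Nat.card ↥(I ⊓ Z) * Nat.card ↥(I ⊓ L))
          = (Nat.card Q * Nat.card ↥(I ⊓ Z)) * (Nat.card L * Nat.card ↥(I ⊓ L)) := by ring
        _ ≤ (Nat.card I * Nat.card Z) * (Nat.card L * Nat.card ↥(I ⊓ L)) := Nat.mul_le_mul_right _ hcardQ
        _ ≤ (Nat.card I * Nat.card L) * (Nat.card L * Nat.card ↥(I ⊓ Z)) := by
            calc _ = (Nat.card I * Nat.card L) * (Nat.card Z * Nat.card ↥(I ⊓ L)) := by ring
              _ ≤ _ := Nat.mul_le_mul_left _ (Nat.mul_le_mul hcount hIZ)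
        _ ≤ (Nat.card R * Nat.card ↥(I ⊓ L)) * (Nat.card L * Nat.card ↥(I ⊓ Z)) := Nat.mul_le_mul_right _ h1
        _ = _ := by ring
    · intro hZL
      refine Nat.le_of_mul_le_mul_right ?_ (Nat.mul_pos (Nat.card_pos (α := ↥Z)) (Nat.card_pos (α := ↥(I ⊓ Z))))
      calc Nat.card Q * (Nat.card Z * Nat.card ↥(I ⊓ Z)) = (Nat.card Q * Nat.card ↥(I ⊓ Z)) * Nat.card Z := by ring
        _ ≤ (Nat.card I * Nat.card Z) * Nat.card Z := Nat.mul_le_mul_right _ hcardQ
        _ ≤ (Nat.card I * Nat.card L) * Nat.card Z := Nat.mul_le_mul_right _ (Nat.mul_le_mul_left _ hZL)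
        _ ≤ (Nat.card R * Nat.card ↥(I ⊓ L)) * Nat.card Z := Nat.mul_le_mul_right _ h1
        _ ≤ (Nat.card R * Nat.card ↥(I ⊓ Z)) * Nat.card Z := Nat.mul_le_mul_right _ (Nat.mul_le_mul_left _ hIZ)
        _ = _ := by ring
  have hRQ := hchain.2 hcount
  have hLZ : Nat.card L = Nat.card Z := by
    refine le_antisymm (Nat.le_of_mul_le_mul_left ((hchain.1).trans hRm) Nat.card_pos) hcount
  have hCRL : centralizer (R : Set P) = L := by
    refine (eq_of_le_of_card_ge hILC ?_).symm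
    rw [hLZ]
    exact Nat.le_of_mul_le_mul_left ((Nat.mul_le_mul_right _ hRQ).trans hRm) Nat.card_pos
  have hRcl : IsCentrallyLarge R := by
    refine isCentrallyLarge_iff.2 ⟨isCentralizerLarge_of_le ?_, hCRL.le.trans le_sup_right⟩
    rw [← hQm]
    unfold cdMeasure
    rw [hCRL, hLZ]
    exact Nat.mul_le_mul_right _ hRQ
  have hReq : Nat.card R = Nat.card Q := by
    refine le_antisymm ?_ hRQ
    rw [hCRL, hLZ] at hRm
    exact Nat.le_of_mul_le_mul_right hRm Nat.card_pos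
  refine ⟨R, ⟨hRcl, fun R' hle hR' => ?_⟩, fun a ha => hILC (mem_sup_left (subset_closure ⟨a, ha, rfl⟩)),
    fun k hk h => hILC (mem_sup_right (hKmem k hk h))⟩
  obtain ⟨T, hT, hTm⟩ := exists_minimalCentrallyLarge hR'
  refine eq_of_le_of_card_ge hle ?_
  rw [hReq, (Cfsg.Agent.S3007.result P hP Q T hQ hTm).2.2.1]
  exact card_le_of_le hT

/-- The upper central series traces. -/
noncomputable def trace (Q : Subgroup P) (i : ℕ) : ℕ :=
  Nat.card ↥(centralizer (Q : Set P) ⊓ Subgroup.upperCentralSeries P i)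

theorem exists_lex_max {α : Type*} [Finite α] [Nonempty α] (f : α → ℕ → ℕ) (n : ℕ) :
    ∃ a : α, ∀ b : α, ∀ i < n, (∀ j < i, f a j ≤ f b j) → f b i ≤ f a i := by
  induction n generalizing α with
  | zero => exact ⟨Classical.arbitrary α, fun b i hi => absurd hi (Nat.not_lt_zero i)⟩
  | succ n ih =>
    obtain ⟨a₀, -, ha₀⟩ := Set.exists_max_image (Set.univ : Set α) (fun a => f a 0) (Set.toFinite _) Set.univ_nonempty
    haveI : Nonempty {a : α // f a₀ 0 ≤ f a 0} := ⟨⟨a₀, le_rfl⟩⟩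
    obtain ⟨⟨a, ha⟩, hmax⟩ := ih (α := {a : α // f a₀ 0 ≤ f a 0}) (fun a i => f a.1 (i + 1))
    refine ⟨a, fun b i hi hj => ?_⟩
    cases i with
    | zero => exact (ha₀ b (Set.mem_univ _)).trans ha
    | succ i =>
      exact hmax ⟨b, ha.trans (hj 0 (Nat.succ_pos i))⟩ i (Nat.lt_of_succ_lt_succ hi)
        fun j hjj => hj (j + 1) (Nat.succ_lt_succ hjj)

/-- Some minimal centrally large subgroup is normalised by the Thompson subgroup and by all minimal
centrally large subgroups. -/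
theorem exists_normalized {p : ℕ} [Fact p.Prime] (hP : IsPGroup p P) :
    ∃ Q : Subgroup P, IsMinimalCentrallyLarge Q ∧ thompsonSubgroupA P ≤ normalizer (Q : Set P) ∧
      minimalCentrallyLargeJoin P ≤ normalizer (Q : Set P) := by
  haveI : Group.IsNilpotent P := hP.isNilpotent
  set c := Group.nilpotencyClass P
  obtain ⟨Q₀, hQ₀⟩ := exists_centrallyLarge (G := P)
  obtain ⟨Q₁, -, hQ₁⟩ := exists_minimalCentrallyLarge hQ₀
  haveI : Nonempty {Q : Subgroup P // IsMinimalCentrallyLarge Q} := ⟨⟨Q₁, hQ₁⟩⟩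
  obtain ⟨⟨Q, hQ⟩, hmax⟩ := exists_lex_max (fun Q : {Q : Subgroup P // IsMinimalCentrallyLarge Q} => trace Q.1) (c + 1)
  set Z := centralizer (Q : Set P) with hZ
  have hJ : thompsonSubgroupA P ≤ normalizer (Q : Set P) := by
    refine sSup_le fun A hA => ?_
    have hAab : ∀ a ∈ A, ∀ b ∈ A, a * b = b * a := fun a ha b hb =>
      mem_centralizer_iff.1 ((centralizer_eq_of_mem hA).ge hb) a ha
    have hZab : ∀ a ∈ Z, ∀ b ∈ Z, a * b = b * a := fun a ha b hb =>
      mem_centralizer_iff.1 hb a ((isCentrallyLarge_iff.1 hQ.1).2 ha)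
    obtain ⟨-, -, -, hmul, -⟩ := Cfsg.Agent.S3006.result P hP Q A hQ.1 hA
    rw [← hZ] at hmul
    have hQZ' : Q ⊓ Z = Z := inf_eq_right.2 (isCentrallyLarge_iff.1 hQ.1).2
    have hQZ : ((Q : Set P) ⊓ (Z : Set P)) = (Z : Set P) :=
      inf_eq_right.2 (SetLike.coe_subset_coe.2 (isCentrallyLarge_iff.1 hQ.1).2)
    rw [hQZ', hQZ] at hmul
    have h' : ∀ z ∈ Z, ∀ a ∈ A, ∃ a' ∈ A, ∃ z' ∈ Z, z * a = a' * z' := by
      intro z hz a ha
      have : (z * a)⁻¹ ∈ ((Z ⊔ A : Subgroup P) : Set P) := inv_mem (mul_mem_sup hz ha)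
      rw [hmul] at this
      obtain ⟨z', hz', a', ha', e⟩ := Set.mem_mul.1 this
      exact ⟨a'⁻¹, inv_mem ha', z'⁻¹, inv_mem hz', by rw [← mul_inv_rev, e, inv_inv]⟩
    have h : ∀ a ∈ A, ∀ z ∈ Z, ∃ z' ∈ Z, ∃ a' ∈ A, a * z = z' * a' := by
      intro a ha z hz
      have : a * z ∈ ((Z ⊔ A : Subgroup P) : Set P) := mul_mem (mem_sup_right ha) (mem_sup_left hz)
      rw [hmul] at this
      obtain ⟨z', hz', a', ha', e⟩ := Set.mem_mul.1 this
      exact ⟨z', hz', a', ha', e.symm⟩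
    have hstable : ∀ i ≤ c, ∀ x ∈ A, ∀ k ∈ Z, k ∈ Subgroup.upperCentralSeries P i → x * k * x⁻¹ ∈ Z := by
      intro i
      induction i with
      | zero =>
        intro _ x _ k hk hki
        rw [Subgroup.upperCentralSeries_zero, mem_bot] at hki
        subst hki
        simp
      | succ i ih =>
        intro hi x hx k hk hki
        by_contra hout
        obtain ⟨R, hR, hMR, hKR⟩ := exists_replacement hP hQ x fun a ha b hb => by
          have := commute_commutators hAab hZab h' h hx ha hx hb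
          exact this
        have hsub : ∀ j ≤ i, Z ⊓ Subgroup.upperCentralSeries P j ≤ centralizer (R : Set P) ⊓ Subgroup.upperCentralSeries P j := by
          intro j hj y hy
          obtain ⟨hyZ, hyj⟩ := mem_inf.1 hy
          refine mem_inf.2 ⟨hKR y hyZ fun a ha => ?_, hyj⟩
          have hy' : x⁻¹ * y * x ∈ Z := by
            have := ih (by omega) x⁻¹ (inv_mem hx) y hyZ (Subgroup.upperCentralSeries_mono P hj hyj)
            rwa [inv_inv] at this
          have h1 : Commute (x * a * x⁻¹) y := by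
            have := hZab a ha _ hy'
            show x * a * x⁻¹ * y = y * (x * a * x⁻¹)
            calc x * a * x⁻¹ * y = x * (a * (x⁻¹ * y * x)) * x⁻¹ := by group
              _ = x * ((x⁻¹ * y * x) * a) * x⁻¹ := by rw [this]
              _ = _ := by group
          exact h1.mul_left (hZab _ (inv_mem ha) y hyZ)
        have hlt : ∀ j ≤ i, trace Q j ≤ trace R j := fun j hj => card_le_of_le (hsub j hj)
        have hge := hmax ⟨R, hR⟩ i (by omega) fun j hj => hlt j hj.le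
        have heq : Z ⊓ Subgroup.upperCentralSeries P i = centralizer (R : Set P) ⊓ Subgroup.upperCentralSeries P i :=
          eq_of_le_of_card_ge (hsub i le_rfl) hge
        have hm : ⁅x, k⁆ ∈ Subgroup.upperCentralSeries P i := by
          have h1 := Subgroup.mem_upperCentralSeries_succ_iff.1 hki x⁻¹
          have h2 : ⁅x, k⁆ = x * (k * x⁻¹ * k⁻¹ * x⁻¹⁻¹) * x⁻¹ := by rw [commutatorElement_def]; group
          rw [h2]
          exact (inferInstance : (Subgroup.upperCentralSeries P i).Normal).conj_mem _ h1 x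
        have hmem := (mem_inf.1 (heq.ge (mem_inf.2 ⟨hMR k hk, hm⟩))).1
        apply hout
        have := mul_mem hmem hk
        rwa [commutatorElement_def, inv_mul_cancel_right] at this
    intro x hx
    have hxZ : ∀ k ∈ Z, x * k * x⁻¹ ∈ Z := fun k hk => hstable c le_rfl x hx k hk
      (by rw [Subgroup.upperCentralSeries_nilpotencyClass]; exact mem_top k)
    refine CfsgLib.LocalEven.mem_normalizer_of_conj_le ?_
    rw [(isCentrallyLarge_iff.1 hQ.1).1.centralizer_centralizer.2, ← hZ]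
    rintro _ ⟨q, hq, rfl⟩
    rw [mem_centralizer_iff]
    intro z hz
    show z * (x * q * x⁻¹) = x * q * x⁻¹ * z
    have hz' : x⁻¹ * z * x ∈ Z := by
      have := hstable c le_rfl x⁻¹ (inv_mem hx) z hz (by rw [Subgroup.upperCentralSeries_nilpotencyClass]; exact mem_top z)
      rwa [inv_inv] at this
    calc z * (x * q * x⁻¹) = x * ((x⁻¹ * z * x) * q) * x⁻¹ := by group
      _ = x * (q * (x⁻¹ * z * x)) * x⁻¹ := by rw [mem_centralizer_iff.1 hq _ hz']
      _ = _ := by group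
  refine ⟨Q, hQ, hJ, sSup_le fun R hR => ?_⟩
  obtain ⟨hRsup, -, -, -⟩ := pair hP hR hQ
  rw [hRsup]
  exact sup_le (inf_le_right.trans le_normalizer) ((center_le_thompson hP hR.1).trans hJ)

theorem isMulCommutative_of_top {p : ℕ} [Fact p.Prime] (hP : IsPGroup p P) (hJ : thompsonSubgroupA P = ⊤)
    (hd : ∀ A ∈ maxAbelianSubgroups P, Nat.card ↥A ^ 2 = Nat.card P * Nat.card ↥(center P))
    {Q : Subgroup P} (hQ : IsMinimalCentrallyLarge Q) : IsMulCommutative ↥Q := by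
  obtain ⟨A, hA⟩ := exists_maxAbelian (P := P)
  have htop := isCentrallyLarge_sup_thompson hP hQ.1
  rw [hJ, sup_top_eq] at htop
  have hf : Nat.card P * Nat.card ↥(center P) = maxCentralProduct P := by
    have h1 : Nat.card ↥(⊤ : Subgroup P) * Nat.card ↥(center ↥(⊤ : Subgroup P)) = maxCentralProduct P := htop
    rwa [Subgroup.card_top, Nat.card_congr (Subgroup.centerCongr (Subgroup.topEquiv : (⊤ : Subgroup P) ≃* P)).toEquiv] at h1
  haveI := hA.1
  have hAcl : IsCentrallyLarge A := by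
    show Nat.card A * Nat.card ↥(center ↥A) = _
    rw [← hf, ← hd A hA, sq, Subgroup.center_eq_top_iff.2 hA.1, Subgroup.card_top]
  obtain ⟨T, hTA, hT⟩ := exists_minimalCentrallyLarge hAcl
  have hcomm : ⁅T, T⁆ = ⊥ := by
    rw [commutator_eq_bot_iff_le_centralizer]
    exact hTA.trans ((centralizer_eq_of_mem hA).ge.trans (centralizer_le (SetLike.coe_subset_coe.2 hTA)))
  have h2 := (Cfsg.Agent.S3007.result P hP Q T hQ hT).2.1
  rw [hcomm, commutator_eq_bot_iff_le_centralizer] at h2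
  exact le_centralizer_iff_isMulCommutative.1 h2

theorem centralizer_center_thompson_eq {p : ℕ} [Fact p.Prime] (hP : IsPGroup p P)
    (h : ∀ Q : Subgroup P, IsMinimalCentrallyLarge Q → IsMulCommutative ↥Q) :
    centralizer ((thompsonSubgroupA P ⊓ centralizer (thompsonSubgroupA P : Set P) : Subgroup P) : Set P) =
      thompsonSubgroupA P := by
  obtain ⟨Q₀, hQ₀⟩ := exists_centrallyLarge (G := P)
  obtain ⟨T, -, hT⟩ := exists_minimalCentrallyLarge hQ₀
  have hTA := ((Cfsg.Agent.S3007.result P hP T T hT hT).2.2.2.2 (h T hT) T).1 hT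
  refine le_antisymm ?_ (le_centralizer_iff.1 inf_le_right)
  have := centralizer_center_thompson_le hP hT.1
  have hle : T ≤ thompsonSubgroupA P := le_sSup hTA
  rwa [sup_eq_right.2 hle] at this

end CfsgLib.LocalEven.CLNormal
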