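import Cfsg.Agent.Lib.LocalEven.PClosed
import Cfsg.Agent.Lib.LocalEven.Basic
import Cfsg.Agent.Lib.Transfer.SubnormalJoin

/-!
Subgroups lying in a unique maximal subgroup.
-/

set_option autoImplicit false

namespace CfsgLib.LocalEven.MinOver

open Subgroup Cfsg

variable {H : Type*} [Group H] [Finite H]

theorem isCoatom_map_conj {M : Subgroup H} (hM : IsCoatom M) (g : H) :
    IsCoatom (M.map (MulAut.conj g).toMonoidHom) :=
  (OrderIso.isCoatom_iff (MulEquiv.mapSubgroup (MulAut.conj g)) M).2 hM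

theorem le_of_ne_top {Y M X : Subgroup H} (huniq : ∀ M' : Subgroup H, IsCoatom M' ∧ Y ≤ M' → M' = M)
    (hY : Y ≤ X) (hX : X ≠ ⊤) : X ≤ M := by
  obtain rfl | ⟨M', hM', hle⟩ := eq_top_or_exists_le_coatom X
  · exact absurd rfl hX
  · exact huniq M' ⟨hM', hY.trans hle⟩ ▸ hle

variable {p : ℕ} [hp : Fact p.Prime]

/-- For `T` in the unique maximal `M`, a normal `N ≤ M` has `T ∩ N ≤ O_p(H)`. -/
theorem inf_le_pCore {M : Subgroup H} (T : Sylow p H) (hM : IsCoatom M)
    (huniq : ∀ M' : Subgroup H, IsCoatom M' ∧ (T : Subgroup H) ≤ M' → M' = M)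
    (N : Subgroup H) [N.Normal] (hN : N ≤ M) : (T : Subgroup H) ⊓ N ≤ pCore p H := by
  obtain ⟨Q, hQ⟩ := exists_sylow_eq_inf_of_isSubnormal T (K := N) (Subgroup.Normal.isSubnormal ‹_›)
  have hfr := Sylow.normalizer_sup_eq_top Q
  rw [hQ, Subgroup.subgroupOf_map_subtype] at hfr
  set D := (T : Subgroup H) ⊓ N
  have hTD : (T : Subgroup H) ≤ normalizer (D : Set H) := fun t ht => by
    refine Subgroup.mem_normalizer_iff.2 fun x => and_congr
      (Subgroup.mem_normalizer_iff.1 (Subgroup.le_normalizer ht) x)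
      (Subgroup.mem_normalizer_iff.1 ?_ x)
    rw [Subgroup.normalizer_eq_top]
    exact Subgroup.mem_top t
  by_cases h : normalizer (D : Set H) = ⊤
  · haveI : D.Normal := Subgroup.normalizer_eq_top_iff.1 h
    exact CfsgLib.Cores.le_pCore (T.2.to_le inf_le_left)
  · exact absurd (eq_top_iff.2 (hfr ▸ sup_le (le_of_ne_top huniq hTD h) hN)) hM.1

/-- A subnormal subgroup in the unique maximal subgroup over `T` lies in its core. -/
theorem le_normalCore_of_isSubnormal {M : Subgroup H} {T : Subgroup H} (hM : IsCoatom M) (hTM : T ≤ M)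
    (huniq : ∀ M' : Subgroup H, IsCoatom M' ∧ T ≤ M' → M' = M)
    {N : Subgroup H} (hN : N.IsSubnormal) (hNM : N ≤ M) : N ≤ M.normalCore := by
  classical
  obtain ⟨K, hNK, hK⟩ := Finite.exists_le_maximal
    (p := fun K : Subgroup H => K.IsSubnormal ∧ K ≤ M) (a := N) ⟨hN, hNM⟩
  refine hNK.trans (Subgroup.normal_le_normalCore (hN := ?_) |>.2 hK.1.2)
  obtain ⟨⟨hKs, hKM⟩, hKmax⟩ := hK
  have hTK : T ≤ normalizer (K : Set H) := fun t ht => by
    refine CfsgLib.LocalEven.mem_normalizer_of_conj_le ?_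
    have hsn : (K.map (MulAut.conj t).toMonoidHom).IsSubnormal :=
      hKs.map (f := (MulAut.conj t).toMonoidHom) (MulAut.conj t).surjective
    have hle : K.map (MulAut.conj t).toMonoidHom ≤ M := by
      rintro _ ⟨k, hk, rfl⟩
      exact mul_mem (mul_mem (hTM ht) (hKM hk)) (inv_mem (hTM ht))
    exact le_sup_right.trans (hKmax ⟨CfsgLib.Transfer.sup_isSubnormal hKs hsn, sup_le hKM hle⟩ le_sup_left)
  by_contra hn
  have hne : K ≠ ⊤ := fun h => hM.1 (eq_top_iff.2 (h ▸ hKM))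
  have hNKM : normalizer (K : Set H) ≤ M := le_of_ne_top huniq hTK fun h => hn (Subgroup.normalizer_eq_top_iff.1 h)
  rcases Subgroup.IsSubnormal.iff_eq_top_or_exists.1 hKs with h | ⟨K', hlt, hK', hnorm⟩
  · exact hne h
  · exact hlt.not_ge (hKmax ⟨hK', ((Subgroup.normal_subgroupOf_iff_le_normalizer hlt.le).1 hnorm).trans hNKM⟩ hlt.le)

end CfsgLib.LocalEven.MinOver
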