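import Cfsg.Agent.Lib.PStab.Complement
import Cfsg.Agent.Lib.Transfer.CentralHall
import Cfsg.Agent.Lib.LocalEven.Basic
import Cfsg.Agent.Lib.LocalEven.Isolated

/-!
For odd `p`, a self-centralising characteristic subgroup of a `p`-group whose normaliser controls
the existence of a normal `p`-complement.
-/

set_option autoImplicit false

namespace CfsgLib.LocalEven

open Cfsg Subgroup CfsgLib.PStab

universe u

variable {p : ℕ}

/-- A central `p`-extension of a group with a normal `p`-complement has one. -/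
theorem npc_of_central_quotient {C : Type u} [Group C] [Finite C] [Fact p.Prime] {Z : Subgroup C}
    [Z.Normal] (hZ : IsPGroup p ↥Z) (hc : Z ≤ Subgroup.center C)
    (h : HasNormalPComplement p (C ⧸ Z)) : HasNormalPComplement p C := by
  obtain ⟨N, hN, hNc, k, hk⟩ := CfsgLib.Transfer.hasNormalPComplement_iff.1 h
  obtain ⟨j, hj⟩ := hZ.exists_card_eq
  set L := N.comap (QuotientGroup.mk' Z) with hL
  haveI : L.Normal := hN.comap _
  have hZL : Z ≤ L := fun z hz => by
    show (z : C ⧸ Z) ∈ N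
    rw [(QuotientGroup.eq_one_iff z).2 hz]; exact one_mem _
  have hLidx : L.index = p ^ k := by
    rw [hL, Subgroup.index_comap_of_surjective _ (QuotientGroup.mk'_surjective Z), hk]
  have hZidx : (Z.subgroupOf L).index = Nat.card N := by
    show Z.relIndex L = _
    rw [show Z.relIndex L = (QuotientGroup.mk' Z).ker.relIndex L by rw [QuotientGroup.ker_mk'],
      Subgroup.relIndex_ker, hL, Subgroup.map_comap_eq_self_of_surjective (QuotientGroup.mk'_surjective Z)]
  have hcard : Nat.card ↥(Z.subgroupOf L) = p ^ j := by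
    rw [Nat.card_congr (Subgroup.subgroupOfEquivOfLe hZL).toEquiv, hj]
  obtain ⟨R, hRn, hR⟩ := CfsgLib.Transfer.exists_normal_complement_of_central_hall (Z.subgroupOf L)
    (by rw [hcard, hZidx]; exact (hNc.symm.pow_left j))
    (fun g _ => Subgroup.mem_centralizer_iff.2 fun z hz =>
      Subtype.ext (Subgroup.mem_center_iff.1 (hc hz) (g : C)).symm)
  have hRcard : Nat.card R = Nat.card N := by rw [← hZidx, hR.index_eq_card]
  have hRidx : R.index = p ^ j := by rw [hR.symm.index_eq_card, hcard]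
  refine CfsgLib.Transfer.hasNormalPComplement_of (N := R.map L.subtype)
    (CfsgLib.Transfer.normal_map_of_coprime_index (by rw [hRcard, hRidx]; exact hNc.pow_right j)) ?_
    (k := j + k) ?_
  · rw [Subgroup.card_map_of_injective L.subtype_injective, hRcard]; exact hNc
  · rw [Subgroup.index_map_subtype, hRidx, hLidx, pow_add]

theorem char_map_comap {S : Type u} [Group S] {Z : Subgroup S} [Z.Characteristic] {T : Subgroup S}
    [T.Characteristic] (hZT : Z ≤ T) [(Z.subgroupOf T).Normal] {K : Subgroup (↥T ⧸ Z.subgroupOf T)}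
    [K.Characteristic] : ((K.comap (QuotientGroup.mk' (Z.subgroupOf T))).map T.subtype).Characteristic := by
  refine Subgroup.characteristic_iff_map_le.2 fun φ => ?_
  have hT : T.map φ.toMonoidHom = T := Subgroup.characteristic_iff_map_eq.1 inferInstance φ
  have hZ : Z.map φ.toMonoidHom = Z := Subgroup.characteristic_iff_map_eq.1 inferInstance φ
  let ψ : ↥T ≃* ↥T := (T.equivMapOfInjective φ.toMonoidHom φ.injective).trans (MulEquiv.subgroupCongr hT)
  have hψ : ∀ t : ↥T, ((ψ t : ↥T) : S) = φ t := fun t => rfl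
  have hψZ : (Z.subgroupOf T).map ψ.toMonoidHom = Z.subgroupOf T := by
    ext t
    constructor
    · rintro ⟨u, hu, rfl⟩
      show ((ψ u : ↥T) : S) ∈ Z
      rw [hψ, ← hZ]; exact ⟨u, hu, rfl⟩
    · intro ht
      have ht' : (t : S) ∈ Z.map φ.toMonoidHom := hZ.symm ▸ ht
      obtain ⟨z, hz, hzt⟩ := ht'
      exact ⟨⟨z, hZT hz⟩, hz, Subtype.ext hzt⟩
  let ψbar := QuotientGroup.congr (Z.subgroupOf T) (Z.subgroupOf T) ψ hψZ
  have hK : K.map ψbar.toMonoidHom = K := Subgroup.characteristic_iff_map_eq.1 inferInstance ψbar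
  rintro _ ⟨_, ⟨t, ht, rfl⟩, rfl⟩
  refine ⟨ψ t, ?_, hψ t⟩
  show ((ψ t : ↥T) : ↥T ⧸ Z.subgroupOf T) ∈ K
  rw [← hK]
  exact ⟨_, ht, rfl⟩

theorem exists_char_npc (hp2 : p ≠ 2) [Fact p.Prime] :
    ∀ (n : ℕ) (S : Type u) [Group S] [Finite S], Nat.card S = n → IsPGroup p S →
      ∃ K : Subgroup S, K.Characteristic ∧ Subgroup.centralizer (K : Set S) ≤ K ∧
        ∀ (G : Type u) [Group G] [Finite G] (P : Sylow p G) (f : S →* G), Function.Injective f →
          f.range = (P : Subgroup G) →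
          (∀ g ∈ Subgroup.normalizer ((K.map f : Subgroup G) : Set G), (orderOf g).Coprime p →
            g ∈ Subgroup.centralizer ((K.map f : Subgroup G) : Set G)) →
          HasNormalPComplement p G := by
  intro n
  induction n using Nat.strong_induction_on with
  | _ n IH =>
  intro S _ _ hn hS
  rcases subsingleton_or_nontrivial S with hsub | hnt
  · refine ⟨⊤, inferInstance, le_top, fun G _ _ P f _ hr _ => ?_⟩
    have hP : Nat.card ↥(P : Subgroup G) = 1 := by
      rw [← hr, ← Nat.card_congr (MonoidHom.ofInjective (f := f) ‹_›).toEquiv]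
      exact Nat.card_of_subsingleton 1
    refine CfsgLib.Transfer.hasNormalPComplement_of (N := ⊤) inferInstance ?_ (k := 0) (by simp)
    rw [Subgroup.card_top, ← P.card_mul_index, hP, one_mul]
    exact CfsgLib.Transfer.coprime_of_not_dvd P.not_dvd_index
  have htop : IsPGroup p ↥(⊤ : Subgroup S) := hS.to_subgroup ⊤
  set Z := zjGen 0 (⊤ : Subgroup S) with hZdef
  have hZne : Z ≠ ⊥ := zjGen_ne_bot (Or.inl rfl) htop top_ne_bot
  haveI hZchar : Z.Characteristic := Subgroup.characteristic_iff_map_eq.2 fun φ => by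
    rw [hZdef, ← zjGen_map φ.injective, Subgroup.map_top_of_surjective φ.toMonoidHom φ.surjective]
  set T := Subgroup.centralizer (Z : Set S) with hT
  haveI : T.Characteristic := inferInstance
  have hZT : Z ≤ T := fun z hz => Subgroup.mem_centralizer_iff.2 fun y hy => zjGen_comm hy hz
  haveI : (Z.subgroupOf T).Normal := (inferInstance : Z.Normal).subgroupOf T
  have hlt : Nat.card (↥T ⧸ Z.subgroupOf T) < n := by
    have h1 := Subgroup.card_eq_card_quotient_mul_card_subgroup (Z.subgroupOf T)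
    rw [Nat.card_congr (Subgroup.subgroupOfEquivOfLe hZT).toEquiv] at h1
    calc Nat.card (↥T ⧸ Z.subgroupOf T) < Nat.card (↥T ⧸ Z.subgroupOf T) * Nat.card Z :=
          lt_mul_of_one_lt_right Nat.card_pos ((Subgroup.one_lt_card_iff_ne_bot Z).2 hZne)
      _ = Nat.card T := h1.symm
      _ ≤ n := hn ▸ Subgroup.card_le_card_group T
  obtain ⟨K₀, hK₀char, hK₀c, hK₀⟩ := IH _ hlt _ rfl ((hS.to_subgroup T).to_quotient _)
  set π := QuotientGroup.mk' (Z.subgroupOf T) with hπ
  set K := (K₀.comap π).map T.subtype with hK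
  haveI hKchar : K.Characteristic := char_map_comap hZT
  have hZK : Z ≤ K := fun z hz => ⟨⟨z, hZT hz⟩, by
    show ((⟨z, hZT hz⟩ : ↥T) : ↥T ⧸ Z.subgroupOf T) ∈ K₀
    rw [(QuotientGroup.eq_one_iff _).2 (show (⟨z, hZT hz⟩ : ↥T) ∈ Z.subgroupOf T from hz)]
    exact one_mem _, rfl⟩
  refine ⟨K, hKchar, ?_, ?_⟩
  · intro s hs
    have hsT : s ∈ T := Subgroup.centralizer_le hZK hs
    refine ⟨⟨s, hsT⟩, hK₀c (Subgroup.mem_centralizer_iff.2 ?_), rfl⟩
    intro q hq
    obtain ⟨t, rfl⟩ := QuotientGroup.mk'_surjective _ q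
    show π t * π ⟨s, hsT⟩ = π ⟨s, hsT⟩ * π t
    rw [← map_mul, ← map_mul]
    congr 1
    exact Subtype.ext (Subgroup.mem_centralizer_iff.1 hs _ ⟨t, hq, rfl⟩)
  intro G _ _ P f hf hr hyp
  have hD : IsStronglyClosed (P : Subgroup G) (P : Subgroup G) := ⟨le_rfl, fun _ _ _ h => h⟩
  refine hasNormalPComplement_of_normalizer_zjGen hp2 (Or.inl rfl) P hD ?_
  have hfZ : zjGen 0 (P : Subgroup G) = Z.map f := by
    rw [← hr, MonoidHom.range_eq_map, zjGen_map hf]
  rw [hfZ]
  set H := Subgroup.normalizer ((Z.map f : Subgroup G) : Set G) with hH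
  set C := Subgroup.centralizer ((Z.map f : Subgroup G) : Set G) with hC
  have hCH : C ≤ H := Subgroup.centralizer_le_normalizer _
  have hPH : (P : Subgroup G) ≤ H := by
    rw [hH, ← hfZ]
    exact Subgroup.le_normalizer.trans (normalizer_le_normalizer_zjGen 0 _)
  have hCn : ∀ h ∈ H, ∀ c ∈ C, h * c * h⁻¹ ∈ C := by
    intro h hh c hc
    refine Subgroup.mem_centralizer_iff.2 fun z hz => ?_
    have hz' := conj_mem_of_mem_normalizer (H.inv_mem hh) hz
    have e := Subgroup.mem_centralizer_iff.1 hc _ hz'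
    calc z * (h * c * h⁻¹) = h * (h⁻¹ * z * h⁻¹⁻¹ * c) * h⁻¹ := by group
      _ = h * (c * (h⁻¹ * z * h⁻¹⁻¹)) * h⁻¹ := by rw [e]
      _ = h * c * h⁻¹ * z := by group
  -- `f T` is a Sylow subgroup of `C`
  have hfT : (P : Subgroup G) ⊓ C = T.map f := by
    ext x
    constructor
    · rintro ⟨hxP, hxC⟩
      have hxr : x ∈ f.range := hr ▸ hxP
      obtain ⟨s, rfl⟩ := hxr
      refine ⟨s, Subgroup.mem_centralizer_iff.2 fun z hz => hf ?_, rfl⟩
      rw [map_mul, map_mul]
      exact Subgroup.mem_centralizer_iff.1 hxC _ ⟨z, hz, rfl⟩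
    · rintro ⟨t, ht, rfl⟩
      refine ⟨hr ▸ ⟨t, rfl⟩, Subgroup.mem_centralizer_iff.2 ?_⟩
      rintro _ ⟨z, hz, rfl⟩
      rw [← map_mul, ← map_mul, Subgroup.mem_centralizer_iff.1 ht z hz]
  have hfTC : T.map f ≤ C := hfT ▸ inf_le_right
  have hfTp : IsPGroup p ↥(T.map f) := (hS.to_subgroup T).map f
  obtain ⟨Q, hQ⟩ := (hfTp.of_equiv (Subgroup.subgroupOfEquivOfLe hfTC).symm).exists_le_sylow
  have hQle : Nat.card Q ≤ Nat.card ↥(T.map f) := by
    obtain ⟨c, hc, R, hR, -, hPR, hQR⟩ := exists_conj_common_pGroup (p := p) hPH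
      ((Subgroup.map_subtype_le (Q : Subgroup ↥C)).trans hCH) P.2 (Q.2.map _)
    obtain rfl := P.is_maximal' hR hPR
    rw [← Subgroup.card_map_of_injective C.subtype_injective,
      ← card_map_conj ((Q : Subgroup ↥C).map C.subtype) c, ← hfT]
    refine Subgroup.card_le_of_le (le_inf hQR ?_)
    rintro _ ⟨x, hx, rfl⟩
    exact hCn c hc x (Subgroup.map_subtype_le _ hx)
  have hQeq : (T.map f).subgroupOf C = (Q : Subgroup ↥C) := Subgroup.eq_of_le_of_card_ge hQ
    (by rwa [Nat.card_congr (Subgroup.subgroupOfEquivOfLe hfTC).toEquiv])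
  -- the quotient of `C` by `f Z`
  have hfZC : Z.map f ≤ C := (Subgroup.map_mono hZT).trans hfTC
  set Zc := (Z.map f).subgroupOf C with hZc
  have hZcent : Zc ≤ Subgroup.center ↥C := fun z hz => Subgroup.mem_center_iff.2 fun c =>
    Subtype.ext (Subgroup.mem_centralizer_iff.1 c.2 _ hz).symm
  haveI : Zc.Normal := ⟨fun z hz c => by
    rwa [Subgroup.mem_center_iff.1 (hZcent hz) c, mul_inv_cancel_right]⟩
  let fT : ↥T →* ↥C := (f.comp T.subtype).codRestrict C fun t => hfTC ⟨t, t.2, rfl⟩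
  have hfTinj : Function.Injective fT := fun a b e => Subtype.ext (hf (congrArg Subtype.val e))
  have hker : Z.subgroupOf T = ((QuotientGroup.mk' Zc).comp fT).ker := by
    ext t
    rw [MonoidHom.mem_ker, MonoidHom.comp_apply, QuotientGroup.mk'_apply, QuotientGroup.eq_one_iff]
    show (t : S) ∈ Z ↔ f (t : S) ∈ Z.map f
    rw [Subgroup.mem_map]
    exact ⟨fun h => ⟨_, h, rfl⟩, fun ⟨z, hz, e⟩ => hf e ▸ hz⟩
  let g₀ : ↥T ⧸ Z.subgroupOf T →* ↥C ⧸ Zc :=
    QuotientGroup.lift _ ((QuotientGroup.mk' Zc).comp fT) hker.le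
  have hg₀ : Function.Injective g₀ := by
    rw [← MonoidHom.ker_eq_bot_iff, eq_bot_iff]
    intro q hq
    obtain ⟨t, rfl⟩ := QuotientGroup.mk'_surjective _ q
    rw [Subgroup.mem_bot, QuotientGroup.mk'_apply, QuotientGroup.eq_one_iff, hker]
    exact hq
  have hg₀r : g₀.range = (Q.mapSurjective (f := QuotientGroup.mk' Zc) (QuotientGroup.mk'_surjective Zc) : Subgroup (↥C ⧸ Zc)) := by
    ext q
    constructor
    · rintro ⟨q', rfl⟩
      obtain ⟨t, rfl⟩ := QuotientGroup.mk'_surjective _ q'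
      exact ⟨fT t, hQeq ▸ (show f (t : S) ∈ T.map f from ⟨t, t.2, rfl⟩), rfl⟩
    · rintro ⟨c, hc, rfl⟩
      have hc' : c ∈ (T.map f).subgroupOf C := hQeq.symm ▸ hc
      obtain ⟨t, ht, htc⟩ := hc'
      exact ⟨((⟨t, ht⟩ : ↥T) : ↥T ⧸ Z.subgroupOf T), congrArg _ (Subtype.ext htc)⟩
  have hquot : HasNormalPComplement p (↥C ⧸ Zc) := by
    refine hK₀ _ _ g₀ hg₀ hg₀r fun q hq hqp => ?_
    -- lift `q` to an element of order prime to `p`
    obtain ⟨c₀, rfl⟩ := QuotientGroup.mk'_surjective Zc q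
    obtain ⟨a, m, hm, ham⟩ := Nat.exists_eq_pow_mul_and_not_dvd (orderOf_pos c₀).ne' p
      (Fact.out : p.Prime).ne_one
    set o := orderOf (QuotientGroup.mk' Zc c₀) with ho
    obtain ⟨u, hu⟩ : ∃ u, (p ^ a * u) % o = 1 % o := by
      rcases Nat.lt_or_ge 1 o with h1 | h1
      · obtain ⟨u, -, hu⟩ := Nat.exists_mul_mod_eq_one_of_coprime (hqp.symm.pow_left a) h1
        exact ⟨u, by rw [hu, Nat.one_mod_eq_one.2 h1.ne']⟩
      · interval_cases o
        · exact absurd ho.symm (orderOf_pos _).ne'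
        · exact ⟨0, by simp [Nat.mod_one]⟩
    set c := c₀ ^ (p ^ a * u) with hc
    have hcc : QuotientGroup.mk' Zc c = QuotientGroup.mk' Zc c₀ := by
      rw [hc, map_pow, ← pow_mod_orderOf, ← ho, hu, ho, pow_mod_orderOf, pow_one]
    have hcp : (orderOf c).Coprime p := by
      refine Nat.Coprime.coprime_dvd_left ?_ (CfsgLib.Transfer.coprime_of_not_dvd hm)
      refine orderOf_dvd_of_pow_eq_one ?_
      rw [hc, ← pow_mul, show p ^ a * u * m = orderOf c₀ * u by rw [ham]; ring, pow_mul,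
        pow_orderOf_eq_one, one_pow]
    rw [← hcc] at hq ⊢
    have hcN : (c : G) ∈ Subgroup.normalizer ((K.map f : Subgroup G) : Set G) := by
      refine mem_normalizer_of_conj_le ?_
      rintro _ ⟨_, ⟨_, ⟨t, ht, rfl⟩, rfl⟩, rfl⟩
      obtain ⟨q', hq', hqe⟩ := conj_mem_of_mem_normalizer hq
        (⟨π t, ht, rfl⟩ : g₀ (π t) ∈ K₀.map g₀)
      obtain ⟨t', rfl⟩ := QuotientGroup.mk'_surjective _ q'
      have hdiv : ((fT t')⁻¹ * (c * fT t * c⁻¹) : ↥C) ∈ Zc := by
        rw [← QuotientGroup.eq]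
        exact hqe
      obtain ⟨z, hz, hze⟩ := hdiv
      refine ⟨(t' : S) * z, K.mul_mem ⟨t', hq', rfl⟩ (hZK hz), ?_⟩
      rw [map_mul, hze]
      simp [fT]
    have hcC := hyp (c : G) hcN (by rwa [Subgroup.orderOf_coe])
    rw [Subgroup.mem_centralizer_iff]
    rintro _ ⟨q', hq', rfl⟩
    obtain ⟨t, rfl⟩ := QuotientGroup.mk'_surjective _ q'
    show QuotientGroup.mk' Zc (fT t) * QuotientGroup.mk' Zc c = QuotientGroup.mk' Zc c * QuotientGroup.mk' Zc (fT t)
    rw [← map_mul, ← map_mul]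
    congr 1
    exact Subtype.ext (Subgroup.mem_centralizer_iff.1 hcC _ ⟨_, ⟨t, hq', rfl⟩, rfl⟩)
  have hZp : IsPGroup p ↥Zc := ((hS.to_subgroup Z).map f).of_equiv (Subgroup.subgroupOfEquivOfLe hfZC).symm
  have hCnpc : HasNormalPComplement p ↥C := npc_of_central_quotient hZp hZcent hquot
  -- up to `H`
  haveI hCHn : (C.subgroupOf H).Normal := ⟨fun c hc h => hCn h h.2 c hc⟩
  have hCH' : HasNormalPComplement p ↥(C.subgroupOf H) :=
    (CfsgLib.Transfer.hasNormalPComplement_congr (Subgroup.subgroupOfEquivOfLe hCH)).2 hCnpc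
  obtain ⟨N, hN, hNc, k, hk⟩ := CfsgLib.Transfer.hasNormalPComplement_iff.1 hCH'
  -- `H / C` is a `p`-group
  have hHC : IsPGroup p (↥H ⧸ C.subgroupOf H) := by
    by_contra hne
    rw [IsPGroup.iff_card] at hne
    obtain ⟨r, hr', hrd, hrp⟩ : ∃ r, r.Prime ∧ r ∣ Nat.card (↥H ⧸ C.subgroupOf H) ∧ r ≠ p := by
      by_contra hno
      push Not at hno
      exact hne ⟨_, Nat.eq_prime_pow_of_unique_prime_dvd Nat.card_pos.ne' fun {d} hd hdd => hno d hd hdd⟩
    haveI := Fact.mk hr'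
    obtain ⟨q, hq⟩ := exists_prime_orderOf_dvd_card' r hrd
    obtain ⟨h₀, rfl⟩ := QuotientGroup.mk'_surjective _ q
    obtain ⟨d, hd, R, hR, hRC, hTR, hTd⟩ := exists_conj_common_pGroup (p := p) hfTC
      (show (T.map f).map (MulAut.conj (h₀ : G)).toMonoidHom ≤ C by
        rintro _ ⟨x, hx, rfl⟩; exact hCn _ h₀.2 x (hfTC hx)) hfTp (hfTp.map _)
    have hRT : R = T.map f := by
      refine le_antisymm (fun x hx => ?_) hTR
      have hle : (Q : Subgroup ↥C) ≤ R.subgroupOf C := hQeq ▸ Subgroup.comap_mono hTR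
      have := Q.is_maximal' (hR.of_equiv (Subgroup.subgroupOfEquivOfLe hRC).symm) hle
      have hx' : (⟨x, hRC hx⟩ : ↥C) ∈ (Q : Subgroup ↥C) := this ▸ hx
      rw [← hQeq] at hx'
      exact hx'
    set h₁ : ↥H := ⟨d, hCH hd⟩ * h₀ with hh₁
    have hh₁N : (h₁ : G) ∈ Subgroup.normalizer ((T.map f : Subgroup G) : Set G) := by
      refine mem_normalizer_of_conj_le ?_
      rintro _ ⟨x, hx, rfl⟩
      refine hRT ▸ hTd ⟨_, ⟨x, hx, rfl⟩, ?_⟩
      simp [hh₁, mul_assoc]
    have hh₁eq : QuotientGroup.mk' (C.subgroupOf H) h₁ = QuotientGroup.mk' (C.subgroupOf H) h₀ := by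
      rw [hh₁, map_mul, show QuotientGroup.mk' (C.subgroupOf H) ⟨d, hCH hd⟩ = 1 from
        (QuotientGroup.eq_one_iff _).2 hd, one_mul]
    obtain ⟨a, m, hm, ham⟩ := Nat.exists_eq_pow_mul_and_not_dvd (orderOf_pos h₁).ne' p
      (Fact.out : p.Prime).ne_one
    set h₂ := h₁ ^ p ^ a with hh₂
    have hh₂p : (orderOf h₂).Coprime p := Nat.Coprime.coprime_dvd_left
      (orderOf_dvd_of_pow_eq_one (by rw [hh₂, ← pow_mul, ← ham, pow_orderOf_eq_one]))
      (CfsgLib.Transfer.coprime_of_not_dvd hm)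
    have hh₂C : (h₂ : G) ∈ C := by
      have hN2 : (h₂ : G) ∈ Subgroup.normalizer ((T.map f : Subgroup G) : Set G) := by
        rw [hh₂, SubmonoidClass.coe_pow]; exact pow_mem hh₁N _
      have hKN : (h₂ : G) ∈ Subgroup.normalizer ((K.map f : Subgroup G) : Set G) := by
        refine mem_normalizer_of_conj_le ?_
        let e₁ := T.equivMapOfInjective f hf
        have hTT : (T.map f).map (MulAut.conj (h₂ : G)).toMonoidHom = T.map f :=
          Subgroup.eq_of_le_of_card_ge (by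
            rintro _ ⟨x, hx, rfl⟩; exact conj_mem_of_mem_normalizer hN2 hx) (card_map_conj _ _).ge
        let ψ : MulAut ↥T := e₁.trans
          ((((T.map f).equivMapOfInjective (MulAut.conj (h₂ : G)).toMonoidHom
            (MulAut.conj (h₂ : G)).injective).trans (MulEquiv.subgroupCongr hTT)).trans e₁.symm)
        have hψf : ∀ t : ↥T, f (ψ t : S) = (h₂ : G) * f (t : S) * (h₂ : G)⁻¹ := fun t => by
          have := congrArg Subtype.val (e₁.apply_symm_apply ((((T.map f).equivMapOfInjective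
            (MulAut.conj (h₂ : G)).toMonoidHom (MulAut.conj (h₂ : G)).injective).trans
              (MulEquiv.subgroupCongr hTT)) (e₁ t)))
          exact this
        have hψZ : (Z.subgroupOf T).map ψ.toMonoidHom = Z.subgroupOf T := by
          refine Subgroup.eq_of_le_of_card_ge ?_ (Subgroup.card_map_of_injective ψ.injective).ge
          rintro _ ⟨t, ht, rfl⟩
          have hmem := conj_mem_of_mem_normalizer (SetLike.coe_mem h₂ : (h₂ : G) ∈ H)
            (⟨t, ht, rfl⟩ : f (t : S) ∈ Z.map f)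
          rw [← hψf] at hmem
          obtain ⟨z, hz, hze⟩ := hmem
          show (ψ t : S) ∈ Z
          rwa [← hf hze]
        have hKK : K₀.map (QuotientGroup.congr _ _ ψ hψZ).toMonoidHom = K₀ :=
          Subgroup.characteristic_iff_map_eq.1 hK₀char _
        rintro _ ⟨_, ⟨_, ⟨t, ht, rfl⟩, rfl⟩, rfl⟩
        refine ⟨(ψ t : S), ⟨ψ t, ?_, rfl⟩, hψf t⟩
        show π (ψ t) ∈ K₀
        rw [← hKK]
        exact ⟨_, ht, rfl⟩
      exact Subgroup.centralizer_le (Subgroup.map_mono hZK)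
        (hyp _ hKN (by rwa [Subgroup.orderOf_coe]))
    have h1 : (QuotientGroup.mk' (C.subgroupOf H) h₀) ^ p ^ a = 1 := by
      rw [← hh₁eq, ← map_pow, ← hh₂]; exact (QuotientGroup.eq_one_iff _).2 hh₂C
    have h2 : r ∣ p ^ a := hq ▸ orderOf_dvd_of_pow_eq_one h1
    exact hrp ((Nat.prime_dvd_prime_iff_eq hr' Fact.out).1 (hr'.dvd_of_dvd_pow h2))
  obtain ⟨l, hl⟩ := hHC.exists_card_eq
  haveI := hN
  refine CfsgLib.Transfer.hasNormalPComplement_of (N := N.map (C.subgroupOf H).subtype)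
    (CfsgLib.Transfer.normal_map_of_coprime_index (by rw [hk]; exact hNc.pow_right k)) ?_
    (k := k + l) ?_
  · rwa [Subgroup.card_map_of_injective (Subgroup.subtype_injective _)]
  · rw [Subgroup.index_map_subtype, hk, Subgroup.index_eq_card, hl, pow_add]

end CfsgLib.LocalEven
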