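import Mathlib.GroupTheory.Commutator.Basic
import Mathlib.Algebra.Group.Subgroup.ZPowers.Basic
import Mathlib.Tactic.Group

/-!
A subgroup generated by elements with central commutators has class at most two.
-/

namespace CfsgLib.LocalEven

open Subgroup
open scoped commutatorElement

variable {G : Type*} [Group G]

theorem classTwo_of_generators {S : Set G}
    (h : ∀ s ∈ S, ∀ t ∈ S, ⁅s, t⁆ ∈ Subgroup.centralizer S) :
    ⁅⁅Subgroup.closure S, Subgroup.closure S⁆, Subgroup.closure S⁆ = ⊥ := by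
  have hC : Subgroup.centralizer S = Subgroup.centralizer (Subgroup.closure S : Set G) :=
    (Subgroup.centralizer_closure S).symm
  rw [hC] at h
  set X := Subgroup.closure S with hX
  set C := Subgroup.centralizer (X : Set G) with hCdef
  have hmul : ∀ g a b : G, a ∈ X → ⁅g, b⁆ ∈ C → ⁅g, a * b⁆ = ⁅g, a⁆ * ⁅g, b⁆ := by
    intro g a b ha hb
    have e : a * ⁅g, b⁆ = ⁅g, b⁆ * a := Subgroup.mem_centralizer_iff.1 hb a ha
    calc ⁅g, a * b⁆ = ⁅g, a⁆ * (a * ⁅g, b⁆) * a⁻¹ := by simp only [commutatorElement_def]; group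
      _ = ⁅g, a⁆ * ⁅g, b⁆ := by rw [e]; group
  have key : ∀ g : G, (∀ t ∈ S, ⁅g, t⁆ ∈ C) → ∀ x ∈ X, ⁅g, x⁆ ∈ C := by
    intro g hg x hx
    induction hx using Subgroup.closure_induction with
    | mem t ht => exact hg t ht
    | one => simp
    | mul a b ha hb iha ihb =>
      rw [hmul g a b ha ihb]; exact C.mul_mem iha ihb
    | inv a ha iha =>
      have e : a * ⁅g, a⁆ = ⁅g, a⁆ * a := Subgroup.mem_centralizer_iff.1 iha a ha
      have : ⁅g, a⁻¹⁆ = (⁅g, a⁆)⁻¹ := by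
        calc ⁅g, a⁻¹⁆ = a⁻¹ * (⁅g, a⁆)⁻¹ * a := by simp only [commutatorElement_def]; group
          _ = (a * ⁅g, a⁆)⁻¹ * a := by rw [e]; group
          _ = (⁅g, a⁆)⁻¹ := by group
      rw [this]; exact C.inv_mem iha
  have h1 : ∀ s ∈ S, ∀ x ∈ X, ⁅x, s⁆ ∈ C := fun s hs x hx => by
    rw [← commutatorElement_inv]; exact C.inv_mem (key s (h s hs) x hx)
  rw [Subgroup.commutator_eq_bot_iff_le_centralizer, Subgroup.commutator_le]
  exact fun x hx y hy => key x (fun t ht => h1 t ht x hx) y hy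

theorem classTwo_sup_zpowers {A Z : Subgroup G} {b : G} (hA : ∀ a ∈ A, ∀ c ∈ A, a * c = c * a)
    (hI : ∀ a ∈ A, a * b * a⁻¹ * b⁻¹ ∈ Z)
    (hZA : ∀ z ∈ Z, ∀ a ∈ A, a * z = z * a) (hZb : ∀ z ∈ Z, b * z = z * b) :
    ⁅⁅A ⊔ Subgroup.zpowers b, A ⊔ Subgroup.zpowers b⁆, A ⊔ Subgroup.zpowers b⁆ = ⊥ := by
  have he : A ⊔ Subgroup.zpowers b = Subgroup.closure ((A : Set G) ∪ {b}) := by
    rw [Subgroup.closure_union, Subgroup.closure_eq, Subgroup.zpowers_eq_closure]
  rw [he]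
  refine classTwo_of_generators fun s hs t ht => ?_
  have hone : ∀ a ∈ A, ⁅a, b⁆ ∈ Subgroup.centralizer ((A : Set G) ∪ {b}) := fun a ha => by
    refine Subgroup.mem_centralizer_iff.2 ?_
    rintro u (hu | rfl)
    · exact hZA _ (hI a ha) u hu
    · exact hZb _ (hI a ha)
  rcases hs with hs | rfl <;> rcases ht with ht | rfl
  · rw [commutatorElement_eq_one_iff_mul_comm.2 (hA s hs t ht)]; exact one_mem _
  · exact hone s hs
  · rw [← commutatorElement_inv]; exact inv_mem (hone t ht)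
  · simp

end CfsgLib.LocalEven
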