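import Cfsg.Prelude.Def_PLocal
import Cfsg.Agent.Lib.Solvable.CoprimeAction

/-!
`[P, B] ≤ [P, A]` with `A` a commuting `p`-group forces a `p'`-group `B` to centralize `P`.
-/

set_option autoImplicit false

namespace CfsgLib.LocalEven.CommLe

open Subgroup Cfsg
open scoped commutatorElement

variable {G : Type*} [Group G] {p : ℕ}

theorem commutator_eq_bot_of_le [Finite G] [hp : Fact p.Prime] {P A B : Subgroup G} (hP : IsPGroup p P)
    (hA : IsPGroup p A) (hB : ¬ p ∣ Nat.card B) (hnA : A ≤ normalizer (P : Set G))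
    (hnB : B ≤ normalizer (P : Set G)) (hAB : ∀ a ∈ A, ∀ b ∈ B, a * b = b * a)
    (hle : ⁅P, B⁆ ≤ ⁅P, A⁆) : ⁅P, B⁆ = ⊥ := by
  set J := P ⊔ A with hJ
  have hJp : IsPGroup p J := by
    rw [hJ, sup_comm]
    exact IsPGroup.to_sup_of_normal_right' hA hP hnA
  have hPJ : P ≤ J := le_sup_left
  have hAJ : A ≤ J := le_sup_right
  have hJP : J ≤ normalizer (P : Set G) := sup_le Subgroup.le_normalizer hnA
  have hBA : ∀ b ∈ B, A.map (MulAut.conj b).toMonoidHom = A := by
    intro b hb
    ext x
    constructor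
    · rintro ⟨a, ha, rfl⟩
      show b * a * b⁻¹ ∈ A
      rwa [← hAB a ha b hb, mul_inv_cancel_right]
    · intro hx
      exact ⟨x, hx, by show b * x * b⁻¹ = x; rw [← hAB x hx b hb, mul_inv_cancel_right]⟩
  set M : ℕ → Subgroup G := iterCommutator P J with hM
  have hMP : ∀ k, M k ≤ P := by
    intro k
    induction k with
    | zero => exact le_rfl
    | succ k ih =>
      exact (Subgroup.commutator_mono ih le_rfl).trans (CfsgLib.Solvable.commutator_le_of_le_normalizer hJP)
  have hMn : ∀ k, ∀ g, g ∈ J ∨ g ∈ B → (M k).map (MulAut.conj g).toMonoidHom = M k := by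
    intro k g hg
    have hgP : P.map (MulAut.conj g).toMonoidHom = P :=
      Subgroup.mem_normalizer_iff_map_conj_eq.1 (hg.elim (fun h => hJP h) (fun h => hnB h))
    have hgJ : J.map (MulAut.conj g).toMonoidHom = J := by
      rcases hg with h | h
      · exact Subgroup.mem_normalizer_iff_map_conj_eq.1 (Subgroup.le_normalizer h)
      · rw [hJ, Subgroup.map_sup, hgP, hBA g h]
    induction k with
    | zero => exact hgP
    | succ k ih => show Subgroup.map _ ⁅M k, J⁆ = ⁅M k, J⁆; rw [Subgroup.map_commutator, ih, hgJ]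
  haveI : Group.IsNilpotent J := hJp.isNilpotent
  obtain ⟨n, hn⟩ := (Subgroup.isNilpotent_iff_lowerCentralSeries J).1 (inferInstance : Group.IsNilpotent ↥J)
  have hMl : ∀ k, M k ≤ J.lowerCentralSeries k := by
    intro k
    induction k with
    | zero => exact hPJ
    | succ k ih => exact Subgroup.commutator_mono ih le_rfl
  haveI : Group.IsNilpotent P := hP.isNilpotent
  have hcop : (Nat.card B).Coprime (Nat.card P) := by
    obtain ⟨k, hk⟩ := IsPGroup.iff_card.1 hP
    rw [hk]
    exact (Nat.coprime_comm.1 (hp.out.coprime_iff_not_dvd.2 hB)).pow_right k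
  have hself := CfsgLib.Solvable.commutator_commutator_self hnB hcop (Or.inr inferInstance)
  have hstep : ∀ k, ⁅P, B⁆ ≤ M k := by
    intro k
    induction k with
    | zero => exact CfsgLib.Solvable.commutator_le_of_le_normalizer hnB
    | succ k ih =>
      have hconj : ∀ g, g ∈ J ∨ g ∈ B → ∀ x ∈ M (k + 1), g * x * g⁻¹ ∈ M (k + 1) := fun g hg x hx =>
        (hMn (k + 1) g hg).le ⟨x, hx, rfl⟩
      let S : Subgroup G :=
        { carrier := {d | d ∈ P ∧ ∀ b ∈ B, ⁅b, d⁆ ∈ M (k + 1)}
          one_mem' := ⟨one_mem P, fun b _ => by rw [commutatorElement_one_right]; exact one_mem _⟩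
          mul_mem' := fun {d e} hd he => ⟨mul_mem hd.1 he.1, fun b hb => by
            have h : ⁅b, d * e⁆ = ⁅b, d⁆ * (d * ⁅b, e⁆ * d⁻¹) := by
              simp only [commutatorElement_def]; group
            rw [h]
            exact mul_mem (hd.2 b hb) (hconj d (Or.inl (hPJ hd.1)) _ (he.2 b hb))⟩
          inv_mem' := fun {d} hd => ⟨inv_mem hd.1, fun b hb => by
            have h : ⁅b, d⁻¹⁆ = d⁻¹ * ⁅b, d⁆⁻¹ * d⁻¹⁻¹ := by
              simp only [commutatorElement_def]; group
            rw [h]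
            exact hconj d⁻¹ (Or.inl (hPJ (inv_mem hd.1))) _ (inv_mem (hd.2 b hb))⟩ }
      have hgen : ⁅P, A⁆ ≤ S := by
        rw [Subgroup.commutator_le]
        intro x hx a ha
        have hd : ⁅x, a⁆ ∈ P :=
          CfsgLib.Solvable.commutator_le_of_le_normalizer hnA (Subgroup.commutator_mem_commutator hx ha)
        refine ⟨hd, fun b hb => ?_⟩
        set c := ⁅b, x⁆ with hc
        have hc' : c ∈ M k := by
          refine ih ?_
          rw [Subgroup.commutator_comm]
          exact Subgroup.commutator_mem_commutator hb hx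
        have hba : b * a * b⁻¹ = a := by rw [← hAB a ha b hb, mul_inv_cancel_right]
        have h : ⁅b, ⁅x, a⁆⁆ = ⁅c, ⁅x, a⁆⁆ * (⁅x, a⁆ * ⁅c, a⁆ * ⁅x, a⁆⁻¹) := by
          have h1 : b * ⁅x, a⁆ * b⁻¹ = ⁅c * x, a⁆ := by
            rw [hc, ← MulAut.conj_apply, map_commutatorElement, MulAut.conj_apply, MulAut.conj_apply, hba]
            simp only [commutatorElement_def]; group
          calc ⁅b, ⁅x, a⁆⁆ = b * ⁅x, a⁆ * b⁻¹ * ⁅x, a⁆⁻¹ := commutatorElement_def _ _
            _ = ⁅c * x, a⁆ * ⁅x, a⁆⁻¹ := by rw [h1]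
            _ = _ := by simp only [commutatorElement_def]; group
        rw [h]
        exact mul_mem (Subgroup.commutator_mem_commutator hc' (hPJ hd))
          (hconj _ (Or.inl (hPJ hd)) _ (Subgroup.commutator_mem_commutator hc' (hAJ ha)))
      calc ⁅P, B⁆ = ⁅⁅P, B⁆, B⁆ := hself.symm
        _ ≤ M (k + 1) := by
          rw [Subgroup.commutator_le]
          intro d hd b hb
          rw [← commutatorElement_inv]
          exact inv_mem ((hgen (hle hd)).2 b hb)
  have hfin := (hstep n).trans (hMl n)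
  rw [hn] at hfin
  exact le_bot_iff.1 hfin

end CfsgLib.LocalEven.CommLe
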