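import Mathlib
import Cfsg.Prelude.Def_DStar
import Cfsg.Prelude.Def_PLocal
import Cfsg.Agent.Lib.LocalEven.Basic
import Cfsg.Agent.Lib.Transfer.Basic
import Cfsg.Agent.Lib.Transfer.Sections
import Cfsg.Agent.Lib.Cores.Basic

/-!
The subgroup `D*` and its normality in `p`-stable groups (Glauberman–Solomon).
-/

set_option autoImplicit false

namespace CfsgLib.LocalEven.DStarThm

open Subgroup Cfsg
open scoped commutatorElement

variable {P : Type*} [Group P]

theorem classTwo_mono {H K : Subgroup P} (hHK : H ≤ K) (h : ⁅⁅K, K⁆, K⁆ = ⊥) : ⁅⁅H, H⁆, H⁆ = ⊥ :=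
  le_bot_iff.1 (h ▸ commutator_mono (commutator_mono hHK hHK) hHK)

/-- An element normalising an abelian subgroup and acting quadratically gives class at most two. -/
theorem classTwo_of_quad {A : Subgroup P} (hA : IsMulCommutative A) {x : P}
    (hx : x ∈ normalizer (A : Set P)) (hq : ⁅⁅A, zpowers x⁆, zpowers x⁆ = ⊥) :
    ⁅⁅A ⊔ zpowers x, A ⊔ zpowers x⁆, A ⊔ zpowers x⁆ = ⊥ := by
  have hAA : A ≤ centralizer (A : Set P) := le_centralizer_iff_isMulCommutative.2 hA
  set H := A ⊔ zpowers x
  set X := zpowers x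
  have hN : X ≤ normalizer (A : Set P) := zpowers_le.2 hx
  have hC1 : ∀ y ∈ X, ∀ a ∈ A, ⁅y, a⁆ ∈ centralizer (H : Set P) := by
    intro y hy a ha
    have h1 : ⁅y, a⁆ ∈ ⁅A, X⁆ := commutator_comm A X ▸ commutator_mem_commutator hy ha
    have h2 : ⁅y, a⁆ ∈ A := mul_mem ((mem_normalizer_iff.1 (hN hy) a).1 ha) (inv_mem ha)
    have hsup : H ≤ centralizer ({⁅y, a⁆} : Set P) :=
      sup_le (fun b hb => mem_centralizer_singleton_iff.2 (mem_centralizer_iff.1 (hAA h2) b hb))
        fun z hz => mem_centralizer_singleton_iff.2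
          (commutatorElement_eq_one_iff_mul_comm.1 (mem_bot.1 (hq.le (commutator_mem_commutator h1 hz)))).symm
    exact mem_centralizer_iff.2 fun h hh => mem_centralizer_singleton_iff.1 (hsup hh)
  rw [commutator_eq_bot_iff_le_centralizer, commutator_le]
  intro g hg h hh
  have key : ∀ k ∈ H, ∃ a ∈ A, ∃ y ∈ X, a * y = k := fun k hk => by
    have h' : k ∈ ((A ⊔ X : Subgroup P) : Set P) := hk
    rw [coe_mul_of_right_le_normalizer_left A X hN] at h'
    exact h'
  obtain ⟨a, ha, y, hy, rfl⟩ := key g hg
  obtain ⟨b, hb, z, hz, rfl⟩ := key h hh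
  set c := ⁅y, b⁆ with hc
  set c' := ⁅z, a⁆ with hc'
  have hcH := mem_centralizer_iff.1 (hC1 y hy b hb)
  have hcH' := mem_centralizer_iff.1 (hC1 z hz a ha)
  have hAH : A ≤ H := le_sup_left
  have hyz : y * z = z * y := by
    obtain ⟨i, rfl⟩ := hy
    obtain ⟨j, rfl⟩ := hz
    exact (Commute.refl x).zpow_zpow i j
  have hab : a * b = b * a := (mem_centralizer_iff.1 (hAA hb) a ha)
  have e1 : (a * y) * (b * z) = c * (a * b * (y * z)) := by
    calc (a * y) * (b * z) = a * (c * b) * (y * z) := by rw [hc, commutatorElement_def]; group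
      _ = (a * c) * (b * (y * z)) := by group
      _ = (c * a) * (b * (y * z)) := by rw [hcH a (hAH ha)]
      _ = _ := by group
  have e2 : (b * z) * (a * y) = c' * (a * b * (y * z)) := by
    calc (b * z) * (a * y) = b * (c' * a) * (z * y) := by rw [hc', commutatorElement_def]; group
      _ = (b * c') * (a * (z * y)) := by group
      _ = (c' * b) * (a * (z * y)) := by rw [hcH' b (hAH hb)]
      _ = c' * (b * a * (z * y)) := by group
      _ = _ := by rw [← hab, ← hyz]
  have e3 : ⁅a * y, b * z⁆ = c * c'⁻¹ := by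
    rw [commutatorElement_def]
    calc a * y * (b * z) * (a * y)⁻¹ * (b * z)⁻¹ = (a * y * (b * z)) * ((b * z) * (a * y))⁻¹ := by group
      _ = _ := by rw [e1, e2]; group
  rw [e3]
  exact mul_mem (hC1 y hy b hb) (inv_mem (hC1 z hz a ha))

theorem mem_family_sup {A B : Subgroup P} (hA : A ∈ dStarFamily P) (hB : B ∈ dStarFamily P)
    (hcomm : A ≤ centralizer (B : Set P)) : A ⊔ B ∈ dStarFamily P := by
  have hA' := le_centralizer_iff_isMulCommutative.2 hA.1
  have hB' := le_centralizer_iff_isMulCommutative.2 hB.1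
  refine ⟨le_centralizer_iff_isMulCommutative.1 ?_, fun x hx a ha => ?_⟩
  · have hBA : B ≤ centralizer (A : Set P) := le_centralizer_iff.1 hcomm
    refine sup_le ?_ ?_ <;> rw [le_centralizer_iff] <;> exact sup_le (by assumption) (by assumption)
  · have h : A ⊔ B ≤ centralizer ({x} : Set P) :=
      sup_le (fun a ha => mem_centralizer_singleton_iff.2 (hA.2 x (classTwo_mono (sup_le_sup_right le_sup_left _) hx) a ha))
        fun a ha => mem_centralizer_singleton_iff.2 (hB.2 x (classTwo_mono (sup_le_sup_right le_sup_right _) hx) a ha)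
    exact mem_centralizer_singleton_iff.1 (h ha)

theorem mem_family_map_equiv {Q : Type*} [Group Q] (e : P ≃* Q) {A : Subgroup P}
    (hA : A ∈ dStarFamily P) : A.map e.toMonoidHom ∈ dStarFamily Q := by
  refine ⟨?_, fun x hx => ?_⟩
  · haveI := hA.1
    exact Subgroup.map_isMulCommutative A e.toMonoidHom
  · rintro _ ⟨a, ha, rfl⟩
    obtain ⟨y, rfl⟩ := e.surjective x
    have h1 : (A ⊔ zpowers y).map e.toMonoidHom = A.map e.toMonoidHom ⊔ zpowers (e y) := by
      rw [Subgroup.map_sup, MonoidHom.map_zpowers]; rfl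
    rw [← h1, ← map_commutator, ← map_commutator,
      Subgroup.map_eq_bot_iff_of_injective _ e.injective] at hx
    show e a * e y = e y * e a
    rw [← map_mul, ← map_mul, hA.2 y hx a ha]

/-- Two members normalising each other commute. -/
theorem commute_of_normalize {A B : Subgroup P} (hA : A ∈ dStarFamily P) (hB : B ∈ dStarFamily P)
    (hAB : A ≤ normalizer (B : Set P)) (hBA : B ≤ normalizer (A : Set P)) :
    A ≤ centralizer (B : Set P) := by
  have hB' := le_centralizer_iff_isMulCommutative.2 hB.1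
  intro a ha
  rw [mem_centralizer_iff]
  intro b hb
  refine (hA.2 b (classTwo_of_quad hA.1 (hBA hb) (le_bot_iff.1 ?_)) a ha).symm
  have hle : ⁅A, zpowers b⁆ ≤ B := commutator_le.2 fun c hc z hz =>
    mul_mem ((mem_normalizer_iff.1 (hAB hc) z).1 (zpowers_le.2 hb hz)) (inv_mem (zpowers_le.2 hb hz))
  refine (commutator_mono hle (zpowers_le.2 hb)).trans ?_
  exact le_of_eq (commutator_eq_bot_iff_le_centralizer.2 hB')

/-- `D*(P)` is a member of the family and is normal. -/
theorem dStar_mem_and_normal [Finite P] {p : ℕ} [Fact p.Prime] (hP : IsPGroup p P) :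
    dStar P ∈ dStarFamily P ∧ (dStar P).Normal := by
  have hbot : (⊥ : Subgroup P) ∈ dStarFamily P :=
    ⟨inferInstance, fun x _ a ha => by rw [mem_bot.1 ha]; simp⟩
  have hnorm : ∀ A, Maximal (· ∈ dStarFamily P) A → A.Normal := by
    intro A hA
    refine normalizer_eq_top_iff.1 ?_
    have hkey : normalizer ((normalizer (A : Set P) : Subgroup P) : Set P) ≤ normalizer (A : Set P) := by
      intro g hg
      set A' := A.map (MulAut.conj g).toMonoidHom with hA'
      have hA'm : A' ∈ dStarFamily P := mem_family_map_equiv (MulAut.conj g) hA.1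
      have hN : (normalizer (A : Set P) : Subgroup P).map (MulAut.conj g).toMonoidHom = normalizer (A : Set P) :=
        mem_normalizer_iff_map_conj_eq.1 hg
      have h1 : A' ≤ normalizer (A : Set P) := hN ▸ map_mono le_normalizer
      have h2 : A ≤ normalizer (A' : Set P) := by
        refine le_trans ?_ (le_normalizer_map (MulAut.conj g).toMonoidHom)
        rw [hN]; exact le_normalizer
      have h3 := mem_family_sup hA.1 hA'm (commute_of_normalize hA.1 hA'm h2 h1)
      have h4 : A' ≤ A := le_sup_right.trans (hA.2 h3 le_sup_left)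
      exact CfsgLib.LocalEven.mem_normalizer_of_conj_le h4
    haveI := hP.isNilpotent
    by_contra hne
    exact (normalizerCondition_of_isNilpotent (G := P) _ (lt_top_iff_ne_top.2 hne)).not_ge hkey
  obtain ⟨D, hDle, hD⟩ := (Set.toFinite (dStarFamily P)).exists_le_maximal hbot
  haveI := hnorm D hD
  have hall : ∀ A ∈ dStarFamily P, A ≤ D := by
    intro A hA
    obtain ⟨B, hAB, hB⟩ := (Set.toFinite (dStarFamily P)).exists_le_maximal hA
    haveI := hnorm B hB
    have h := mem_family_sup hB.1 hD.1 (commute_of_normalize hB.1 hD.1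
      (by rw [normalizer_eq_top]; exact le_top) (by rw [normalizer_eq_top]; exact le_top))
    exact hAB.trans (le_sup_left.trans (hD.2 h le_sup_right))
  have heq : dStar P = D := le_antisymm (sSup_le hall) (le_sSup hD.1)
  rw [heq]
  exact ⟨hD.1, inferInstance⟩

variable {G : Type*} [Group G] [Finite G] {p : ℕ} [Fact p.Prime]

/-- `D*` of a Sylow subgroup is normal in a `p`-stable group. -/
theorem dStarOf_normal (hc : centralizer (pCore p G : Set G) ≤ pCore p G)
    (hst : ∀ (Q : Subgroup G) [Q.Normal], IsPGroup p Q → IsPStableOn p Q) (S : Sylow p G) :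
    (dStarOf (S : Subgroup G)).Normal := by
  set D := dStarOf (S : Subgroup G) with hD
  obtain ⟨hmem, hn⟩ := dStar_mem_and_normal S.2
  have hDS : D ≤ (S : Subgroup G) := map_subtype_le _
  have hDab : D ≤ centralizer (D : Set G) := by
    haveI := hmem.1
    exact le_centralizer_iff_isMulCommutative.2 (Subgroup.map_isMulCommutative (dStar ↥(S : Subgroup G)) _)
  have hSD : (S : Subgroup G) ≤ normalizer (D : Set G) := fun s hs =>
    CfsgLib.LocalEven.mem_normalizer_of_conj_le (by
      rintro _ ⟨_, ⟨d, hd, rfl⟩, rfl⟩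
      exact ⟨(⟨s, hs⟩ : ↥(S : Subgroup G)) * d * (⟨s, hs⟩ : ↥(S : Subgroup G))⁻¹, hn.conj_mem d hd _, rfl⟩)
  -- quadratic elements of `S` centralise `D`
  have hquad : ∀ x ∈ (S : Subgroup G), ⁅⁅D, zpowers x⁆, zpowers x⁆ = ⊥ → x ∈ centralizer (D : Set G) := by
    intro x hx hq
    rw [mem_centralizer_iff]
    rintro _ ⟨d, hd, rfl⟩
    set x' : ↥(S : Subgroup G) := ⟨x, hx⟩
    have hq' : ⁅⁅dStar ↥(S : Subgroup G), zpowers x'⁆, zpowers x'⁆ = ⊥ := by
      rw [← Subgroup.map_eq_bot_iff_of_injective _ (S : Subgroup G).subtype_injective, map_commutator,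
        map_commutator, MonoidHom.map_zpowers]
      exact hq
    exact congrArg Subtype.val (hmem.2 x' (classTwo_of_quad hmem.1
      (by rw [normalizer_eq_top]; exact mem_top _) hq') d hd)
  -- `D ≤ O_p(G)`
  set Q := pCore p G with hQ
  have hQp : IsPGroup p ↥Q := (CfsgLib.Cores.isPGroup_pCore p)
  have hQS : Q ≤ (S : Subgroup G) := CfsgLib.Cores.pCore_le_sylow S
  have hDQ : D ≤ Q := by
    intro d hd
    have hle : zpowers d ≤ D := zpowers_le.2 hd
    have h1 : ⁅Q, zpowers d⁆ ≤ D := (commutator_mono hQS hle).trans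
      (commutator_le.2 fun s hs z hz => mul_mem ((mem_normalizer_iff.1 (hSD hs) z).1 hz) (inv_mem hz))
    have h2 : ⁅⁅Q, zpowers d⁆, zpowers d⁆ = ⊥ := by
      refine le_bot_iff.1 ((commutator_mono h1 hle).trans ?_)
      exact le_of_eq (commutator_eq_bot_iff_le_centralizer.2 hDab)
    have h3 := hst Q hQp d h2
    set π := QuotientGroup.mk' (centralizer (Q : Set G))
    have hker : IsPGroup p π.ker := by
      rw [QuotientGroup.ker_mk']; exact hQp.to_le hc
    have h4 : IsPGroup p ↥((pCore p (G ⧸ centralizer (Q : Set G))).comap π) :=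
      (CfsgLib.Cores.isPGroup_pCore p).comap_of_ker_isPGroup π hker
    haveI : ((pCore p (G ⧸ centralizer (Q : Set G))).comap π).Normal :=
      Subgroup.Normal.comap inferInstance π
    exact CfsgLib.Cores.le_pCore h4 h3
  -- the normal closure
  set V := normalClosure (D : Set G) with hV
  have hDV : D ≤ V := le_normalClosure
  have hVQ : V ≤ Q := normalClosure_le_normal hDQ
  have hVp : IsPGroup p ↥V := hQp.to_le hVQ
  have hVS : V ≤ (S : Subgroup G) := hVQ.trans hQS
  haveI : V.Normal := normalClosure_normal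
  suffices hVD : V ≤ D by
    rw [le_antisymm hDV hVD]
    infer_instance
  have hQab : ∀ g : G, D.map (MulAut.conj g).toMonoidHom ≤ V := fun g =>
    ((map_mono hDV).trans (mem_normalizer_iff_map_conj_eq.1 (by rw [normalizer_eq_top]; exact mem_top g)).le)
  -- conjugates of `D` commute
  have hcl : ∀ (C : Set G), (∀ g : G, ∀ d ∈ D, g * d * g⁻¹ ∈ centralizer C) → V ≤ centralizer C := by
    intro C hC
    rw [hV, normalClosure, closure_le]
    intro y hy
    obtain ⟨d, hd, hdy⟩ := Group.mem_conjugatesOfSet_iff.1 hy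
    obtain ⟨g, rfl⟩ := isConj_iff.1 hdy
    exact hC g d hd
  have hVab : V ≤ centralizer (V : Set G) := by
    refine hcl _ fun g d hd => ?_
    have h1 : D ≤ centralizer (V : Set G) := by
      refine le_centralizer_iff.1 (hcl _ fun k e he => ?_)
      -- `D^k` is normal in `Q`, so is quadratic on `D`
      have hkS : k * e * k⁻¹ ∈ (S : Subgroup G) := hVS (hQab k ⟨e, he, rfl⟩)
      refine hquad _ hkS (le_bot_iff.1 ?_)
      set D' := D.map (MulAut.conj k).toMonoidHom
      have hle : zpowers (k * e * k⁻¹) ≤ D' := zpowers_le.2 ⟨e, he, rfl⟩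
      have hQn : Q ≤ normalizer (D' : Set G) := by
        refine le_trans ?_ (le_normalizer_map (MulAut.conj k).toMonoidHom)
        refine (le_of_eq ?_).trans (map_mono (hQS.trans hSD))
        exact (mem_normalizer_iff_map_conj_eq.1 (by rw [normalizer_eq_top]; exact mem_top k)).symm
      have h2 : ⁅D, zpowers (k * e * k⁻¹)⁆ ≤ D' := commutator_le.2 fun c hc' z hz =>
        mul_mem ((mem_normalizer_iff.1 (hQn (hDQ hc')) z).1 (hle hz)) (inv_mem (hle hz))
      refine (commutator_mono h2 hle).trans ?_
      rw [← map_commutator, commutator_eq_bot_iff_le_centralizer.2 hDab, Subgroup.map_bot]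
    have hgn : g ∈ normalizer ((centralizer (V : Set G) : Subgroup G) : Set G) := by
      rw [normalizer_eq_top]; exact mem_top g
    exact (mem_normalizer_iff.1 hgn d).1 (h1 hd)
  -- the elements of `S` acting quadratically on `V` centralise it
  have hVquad : ∀ x ∈ (S : Subgroup G), ⁅⁅V, zpowers x⁆, zpowers x⁆ = ⊥ → x ∈ centralizer (V : Set G) := by
    intro x hx hq
    set π := QuotientGroup.mk' (centralizer (V : Set G))
    set K := (pCore p (G ⧸ centralizer (V : Set G))).comap π with hK
    haveI : K.Normal := Subgroup.Normal.comap inferInstance π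
    have hCK : centralizer (V : Set G) ≤ K := fun c hcm => by
      rw [hK, mem_comap, show π c = 1 from (QuotientGroup.eq_one_iff c).2 hcm]
      exact one_mem _
    have hCn : centralizer (V : Set G) ≤ normalizer (D : Set G) := fun c hcm =>
      CfsgLib.LocalEven.mem_normalizer_of_conj_le (by
        rintro _ ⟨d, hd, rfl⟩
        show c * d * c⁻¹ ∈ D
        rw [← mem_centralizer_iff.1 hcm d (hDV hd), mul_inv_cancel_right]
        exact hd)
    have hxK : x ∈ K := hst V hVp x hq
    obtain ⟨T, hT⟩ := CfsgLib.Transfer.exists_sylow_map_eq_inf K S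
    set N := normalizer (((T : Subgroup ↥K).map K.subtype : Subgroup G) : Set G) with hN
    have hfr : N ⊔ centralizer (V : Set G) = ⊤ := by
      refine eq_top_iff.2 ((Sylow.normalizer_sup_eq_top T).ge.trans (sup_le le_sup_left ?_))
      refine le_trans ?_ (sup_le_sup_right (le_normalizer : (T : Subgroup ↥K).map K.subtype ≤ N) _)
      rw [hT]
      have hM : K ≤ ((S : Subgroup G) ⊓ K) ⊔ centralizer (V : Set G) := by
        set M := ((S : Subgroup G) ⊓ K) ⊔ centralizer (V : Set G)
        have h1 : (T : Subgroup ↥K) ≤ M.subgroupOf K := fun z hz =>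
          mem_sup_left (hT.le ⟨z, hz, rfl⟩)
        have h2 : (centralizer (V : Set G)).subgroupOf K ≤ M.subgroupOf K := fun z hz => mem_sup_right hz
        have h3 : IsPGroup p (↥K ⧸ (centralizer (V : Set G)).subgroupOf K) := by
          intro q
          induction q using QuotientGroup.induction_on with
          | H z =>
            obtain ⟨n, hn⟩ := (CfsgLib.Cores.isPGroup_pCore p) (⟨π z, z.2⟩ : ↥(pCore p (G ⧸ centralizer (V : Set G))))
            refine ⟨n, ?_⟩
            rw [← QuotientGroup.mk_pow, QuotientGroup.eq_one_iff, mem_subgroupOf,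
              ← QuotientGroup.eq_one_iff (N := centralizer (V : Set G)), SubmonoidClass.coe_pow]
            show π ((z : G) ^ p ^ n) = 1
            rw [map_pow]
            exact congrArg Subtype.val hn
        obtain ⟨j, hj⟩ := IsPGroup.iff_card.1 h3
        have h4 : (M.subgroupOf K).index = 1 := by
          refine CfsgLib.Transfer.eq_one_of_coprime_of_pow (p := p) (k := j) ?_ (hj ▸ index_dvd_of_le h2)
          exact Nat.Coprime.coprime_dvd_left (index_dvd_of_le h1)
            (CfsgLib.Transfer.coprime_of_not_dvd T.not_dvd_index)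
        exact fun k hk => (index_eq_one.1 h4).ge (mem_top (⟨k, hk⟩ : K))
      exact hM
    refine mem_centralizer_iff.2 fun v hv => ?_
    have h5 : V ≤ centralizer ({x} : Set G) := by
      refine hcl _ fun g d hd => ?_
      haveI : (centralizer (V : Set G)).Normal := inferInstance
      obtain ⟨n, hn, c, hc', rfl⟩ := mem_sup_of_normal_right.1 (hfr.ge (mem_top g))
      have hcd : c * d * c⁻¹ = d := by
        rw [← mem_centralizer_iff.1 hc' d (hDV hd), mul_inv_cancel_right]
      rw [show n * c * d * (n * c)⁻¹ = n * (c * d * c⁻¹) * n⁻¹ by group, hcd]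
      have hxn : n⁻¹ * x * n ∈ (S : Subgroup G) ⊓ K := by
        rw [← hT]
        have hxT : x ∈ (T : Subgroup ↥K).map K.subtype := hT.ge ⟨hx, hxK⟩
        have := (mem_normalizer_iff.1 (inv_mem hn) x).1 hxT
        rwa [inv_inv] at this
      have hqn : ⁅⁅D, zpowers (n⁻¹ * x * n)⁆, zpowers (n⁻¹ * x * n)⁆ = ⊥ := by
        refine le_bot_iff.1 ((commutator_mono (commutator_mono hDV le_rfl) le_rfl).trans (le_of_eq ?_))
        have hVc : V.map (MulAut.conj n⁻¹).toMonoidHom = V :=
          mem_normalizer_iff_map_conj_eq.1 (by rw [normalizer_eq_top]; exact mem_top _)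
        have hxc : zpowers (n⁻¹ * x * n) = (zpowers x).map (MulAut.conj n⁻¹).toMonoidHom := by
          rw [MonoidHom.map_zpowers]; simp
        rw [hxc, ← hVc, ← map_commutator, ← map_commutator, hq, Subgroup.map_bot]
      have h6 := mem_centralizer_iff.1 (hquad _ hxn.1 hqn) d hd
      rw [mem_centralizer_singleton_iff]
      calc n * d * n⁻¹ * x = n * (d * (n⁻¹ * x * n)) * n⁻¹ := by group
        _ = n * ((n⁻¹ * x * n) * d) * n⁻¹ := by rw [h6]
        _ = x * (n * d * n⁻¹) := by group
    exact mem_centralizer_singleton_iff.1 (h5 hv)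
  -- so `V` is in the family
  have hmemV : V.subgroupOf (S : Subgroup G) ∈ dStarFamily ↥(S : Subgroup G) := by
    refine ⟨le_centralizer_iff_isMulCommutative.1 fun a ha => mem_centralizer_iff.2 fun b hb =>
      Subtype.ext (mem_centralizer_iff.1 (hVab ha) b hb), fun x hx a ha => Subtype.ext ?_⟩
    refine mem_centralizer_iff.1 (hVquad x x.2 (le_bot_iff.1 ?_)) a ha
    set H := V.subgroupOf (S : Subgroup G) ⊔ zpowers x
    have hxH : zpowers (x : G) ≤ H.map (S : Subgroup G).subtype := by
      rw [← coe_subtype, ← MonoidHom.map_zpowers]; exact map_mono le_sup_right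
    have hVH : V ≤ H.map (S : Subgroup G).subtype := by
      conv_lhs => rw [← inf_eq_left.2 hVS, ← subgroupOf_map_subtype]
      exact map_mono le_sup_left
    refine (commutator_mono (commutator_mono hVH hxH) hxH).trans ?_
    rw [← map_commutator, ← map_commutator, hx, Subgroup.map_bot]
  intro v hv
  exact ⟨⟨v, hVS hv⟩, le_sSup hmemV hv, rfl⟩

end CfsgLib.LocalEven.DStarThm
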