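import Cfsg.Agent.Lib.LocalEven.SplitPairCount

/-!
Lines of `K²` that are eigenlines of elements of large projective order in a finite subgroup of
`GL(2, K)` of order prime to the characteristic.
-/

set_option autoImplicit false

namespace CfsgLib.LocalEven

open MulAction Matrix
open scoped LinearAlgebra.Projectivization

variable {K : Type*} [Field K]

/-- A nonscalar matrix of finite order prime to the characteristic has two eigenlines. -/
theorem exists_two_eigen [IsAlgClosed K] {M : Matrix (Fin 2) (Fin 2) K} {N : ℕ} (hN : (N : K) ≠ 0)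
    (hMN : M ^ N = 1) (hns : ∀ a : K, M ≠ a • (1 : Matrix (Fin 2) (Fin 2) K)) :
    ∃ (v w : Fin 2 → K) (a b : K), v 0 * w 1 - v 1 * w 0 ≠ 0 ∧ a ≠ b ∧ M *ᵥ v = a • v ∧ M *ᵥ w = b • w := by
  obtain ⟨a, ha⟩ := Module.End.exists_eigenvalue (Matrix.toLin' M)
  obtain ⟨v, hv⟩ := ha.exists_hasEigenvector
  have hv0 : v ≠ 0 := hv.2
  have hva : M *ᵥ v = a • v := by rw [← Matrix.toLin'_apply]; exact hv.apply_eq_smul
  obtain ⟨w, hd⟩ : ∃ w : Fin 2 → K, v 0 * w 1 - v 1 * w 0 ≠ 0 := by
    by_cases h1 : v 1 = 0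
    · refine ⟨![0, 1], fun h => hv0 ?_⟩
      simp [h1] at h
      ext i; fin_cases i <;> simp [h, h1]
    · exact ⟨![1, 0], by simpa using h1⟩
  obtain ⟨b, e, hw⟩ : ∃ b e : K, M *ᵥ w = b • v + e • w := by
    set u := M *ᵥ w
    refine ⟨(u 0 * w 1 - u 1 * w 0) / (v 0 * w 1 - v 1 * w 0),
      (v 0 * u 1 - v 1 * u 0) / (v 0 * w 1 - v 1 * w 0), ?_⟩
    ext i
    simp only [Pi.add_apply, Pi.smul_apply, smul_eq_mul]
    rw [div_mul_eq_mul_div, div_mul_eq_mul_div, ← add_div, eq_div_iff hd]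
    fin_cases i <;> simp <;> ring
  by_cases hea : e = a
  · exfalso
    subst hea
    have hp : ∀ n : ℕ, M ^ n *ᵥ v = e ^ n • v ∧ M ^ n *ᵥ w = ((n : K) * e ^ (n - 1) * b) • v + e ^ n • w := by
      intro n
      induction n with
      | zero => simp
      | succ n ih =>
        rw [pow_succ', ← Matrix.mulVec_mulVec, ← Matrix.mulVec_mulVec, ih.1, ih.2, Matrix.mulVec_add,
          Matrix.mulVec_smul, Matrix.mulVec_smul, Matrix.mulVec_smul, hva, hw, smul_smul, smul_smul,
          smul_add, smul_smul, smul_smul, ← add_assoc, ← add_smul]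
        refine ⟨by rw [pow_succ], ?_⟩
        congr 2
        · rcases n with _ | n
          · simp
          · simp [pow_succ]; ring
        · rw [pow_succ]
    obtain ⟨h1, h2⟩ := hp N
    rw [hMN, Matrix.one_mulVec] at h1 h2
    have he : e ^ N = 1 := smul_left_injective K hv0 (show e ^ N • v = (1 : K) • v by rw [one_smul, ← h1])
    have he0 : e ≠ 0 := fun h => by
      rw [h, zero_pow (fun h0 => hN (by rw [h0, Nat.cast_zero]))] at he
      exact zero_ne_one he
    rw [he, one_smul] at h2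
    have hb : b = 0 := by
      have h3 : ((N : K) * e ^ (N - 1) * b) • v = 0 := by
        have h4 := h2.symm
        rwa [add_eq_right] at h4
      simpa [hN, he0, hv0] using h3
    subst hb
    rw [zero_smul, zero_add] at hw
    exact hns e (CfsgLib.PStab.eq_smul_one_of_two_eigen hva hw hd)
  · refine ⟨v, w + (b / (e - a)) • v, a, e, ?_, Ne.symm hea, hva, ?_⟩
    · intro h
      apply hd
      simp only [Pi.add_apply, Pi.smul_apply, smul_eq_mul] at h
      linear_combination h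
    · have hne : e - a ≠ 0 := sub_ne_zero.2 hea
      rw [Matrix.mulVec_add, Matrix.mulVec_smul, hva, hw, smul_add, smul_smul, smul_smul,
        add_right_comm, ← add_smul, add_comm]
      congr 2
      field_simp
      ring

theorem card_fixed_lines [IsAlgClosed K] {M : Matrix (Fin 2) (Fin 2) K} {N : ℕ} (hN : (N : K) ≠ 0)
    (hMN : M ^ N = 1) (hns : ∀ a : K, M ≠ a • (1 : Matrix (Fin 2) (Fin 2) K)) :
    ∃ A B : ℙ K (Fin 2 → K), A ≠ B ∧
      ∀ L : ℙ K (Fin 2 → K), (∃ c : K, M *ᵥ L.rep = c • L.rep) ↔ L = A ∨ L = B := by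
  obtain ⟨v, w, a, b, hd, hab, hv, hw⟩ := exists_two_eigen hN hMN hns
  have hv0 : v ≠ 0 := fun h => hd (by simp [h])
  have hw0 : w ≠ 0 := fun h => hd (by simp [h])
  refine ⟨Projectivization.mk K v hv0, Projectivization.mk K w hw0, fun h => hd ?_, fun L => ⟨?_, ?_⟩⟩
  · obtain ⟨t, ht⟩ := (Projectivization.mk_eq_mk_iff' K v w hv0 hw0).1 h
    rw [← ht]; simp only [Pi.smul_apply, smul_eq_mul]; ring
  · rintro ⟨c, hc⟩
    have hr0 := L.rep_nonzero
    rw [← L.mk_rep]
    obtain ⟨α, β, hu⟩ : ∃ α β : K, L.rep = α • v + β • w := by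
      refine ⟨(L.rep 0 * w 1 - L.rep 1 * w 0) / (v 0 * w 1 - v 1 * w 0),
        (v 0 * L.rep 1 - v 1 * L.rep 0) / (v 0 * w 1 - v 1 * w 0), ?_⟩
      ext i
      simp only [Pi.add_apply, Pi.smul_apply, smul_eq_mul]
      rw [div_mul_eq_mul_div, div_mul_eq_mul_div, ← add_div, eq_div_iff hd]
      fin_cases i <;> simp <;> ring
    rw [hu, Matrix.mulVec_add, Matrix.mulVec_smul, Matrix.mulVec_smul, hv, hw, smul_add, smul_smul,
      smul_smul, smul_smul, smul_smul] at hc
    have h0 : (α * (a - c)) • v + (β * (b - c)) • w = 0 := by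
      have : (α * a) • v + (β * b) • w - ((c * α) • v + (c * β) • w) = 0 := by rw [hc, sub_self]
      rw [← this, mul_sub, mul_sub, sub_smul, sub_smul, mul_comm c, mul_comm c]
      abel
    have e0 := congrFun h0 0
    have e1 := congrFun h0 1
    simp only [Pi.add_apply, Pi.smul_apply, Pi.zero_apply, smul_eq_mul] at e0 e1
    have hα : α * (a - c) = 0 := (mul_eq_zero.1 (show (α * (a - c)) * (v 0 * w 1 - v 1 * w 0) = 0 by
      linear_combination (w 1) * e0 - (w 0) * e1)).resolve_right hd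
    have hβ : β * (b - c) = 0 := (mul_eq_zero.1 (show (β * (b - c)) * (v 0 * w 1 - v 1 * w 0) = 0 by
      linear_combination (v 0) * e1 - (v 1) * e0)).resolve_right hd
    by_cases hac : a = c
    · have : β = 0 := (mul_eq_zero.1 hβ).resolve_right (sub_ne_zero.2 fun h => hab (hac.trans h.symm))
      left
      refine (Projectivization.mk_eq_mk_iff' K _ _ _ _).2 ⟨α, ?_⟩
      rw [hu, this, zero_smul, add_zero]
    · have : α = 0 := (mul_eq_zero.1 hα).resolve_right (sub_ne_zero.2 hac)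
      right
      refine (Projectivization.mk_eq_mk_iff' K _ _ _ _).2 ⟨β, ?_⟩
      rw [hu, this, zero_smul, zero_add]
  · have key : ∀ (u : Fin 2 → K) (hu : u ≠ 0) (c : K), M *ᵥ u = c • u → L = Projectivization.mk K u hu →
        ∃ c : K, M *ᵥ L.rep = c • L.rep := by
      intro u hu c hc hL
      rw [← L.mk_rep] at hL
      obtain ⟨t, ht⟩ := (Projectivization.mk_eq_mk_iff' K _ _ _ _).1 hL
      exact ⟨c, by rw [← ht, Matrix.mulVec_smul, hc, smul_comm]⟩
    rintro (h | h)
    · exact key v hv0 a hv h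
    · exact key w hw0 b hw h

/-- Few lines are eigenlines of elements of large projective order. -/
theorem card_lines_le [IsAlgClosed K] {H : Type*} [Group H] [Finite H]
    (ρ : H →* Matrix (Fin 2) (Fin 2) K) {N : ℕ} (hN : (N : K) ≠ 0) (hρN : ∀ g, ρ g ^ N = 1)
    {ι : Type*} (v : ι → Fin 2 → K) (hv : ∀ i, v i ≠ 0)
    (hind : ∀ i j, i ≠ j → v i 0 * v j 1 - v i 1 * v j 0 ≠ 0) {d : ℕ} (hd : 3 < d)
    (hgood : ∀ i, ∃ g : H, (∃ c : K, ρ g *ᵥ v i = c • v i) ∧
      ∀ k : ℕ, (∃ a : K, ρ g ^ k = a • (1 : Matrix (Fin 2) (Fin 2) K)) → d ∣ 3 * k) :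
    (d = 10 ∨ 16 ≤ d → Nat.card ι ≤ 2) ∧ (d = 12 → Nat.card ι ≤ 6) := by
  classical
  letI act : DistribMulAction H (Fin 2 → K) :=
    { smul := fun g v => ρ g *ᵥ v
      one_smul := fun v => by show ρ 1 *ᵥ v = v; simp
      mul_smul := fun a b v => by
        show ρ (a * b) *ᵥ v = ρ a *ᵥ (ρ b *ᵥ v); rw [map_mul, Matrix.mulVec_mulVec]
      smul_zero := fun a => Matrix.mulVec_zero _
      smul_add := fun a v w => Matrix.mulVec_add _ v w }
  haveI : SMulCommClass H K (Fin 2 → K) := ⟨fun g c v => (Matrix.mulVec_smul (ρ g) c v).trans rfl⟩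
  have fix_iff : ∀ (g : H) (L : ℙ K (Fin 2 → K)), g • L = L ↔ ∃ c : K, ρ g *ᵥ L.rep = c • L.rep := by
    intro g L
    conv_lhs => rw [← L.mk_rep]
    rw [Projectivization.smul_mk, Projectivization.mk_eq_mk_iff']
    constructor
    · rintro ⟨c, hc⟩; exact ⟨c, hc.symm⟩
    · rintro ⟨c, hc⟩; exact ⟨c, hc.symm⟩
  set Γ := (MulAction.toPermHom H (ℙ K (Fin 2 → K))).range with hΓ
  haveI : Finite Γ := Finite.of_surjective _ (MonoidHom.rangeRestrict_surjective _)
  let P : H → Γ := fun g => (MulAction.toPermHom H (ℙ K (Fin 2 → K))).rangeRestrict g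
  have hsmul : ∀ (g : H) (L : ℙ K (Fin 2 → K)), P g • L = g • L := fun g L => rfl
  have hsurj : ∀ γ : Γ, ∃ g, P g = γ := MonoidHom.rangeRestrict_surjective _
  have hscal : ∀ (g : H) (a : K), ρ g = a • (1 : Matrix (Fin 2) (Fin 2) K) → P g = 1 := by
    intro g a hga
    apply Subtype.ext
    refine Equiv.ext fun L => ?_
    show g • L = L
    exact (fix_iff g L).2 ⟨a, by rw [hga, Matrix.smul_mulVec, Matrix.one_mulVec]⟩
  have htwo : ∀ γ : Γ, γ ≠ 1 → ∃ A B : ℙ K (Fin 2 → K), A ≠ B ∧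
      ∀ L : ℙ K (Fin 2 → K), γ • L = L ↔ L = A ∨ L = B := by
    intro γ hγ
    obtain ⟨g, rfl⟩ := hsurj γ
    obtain ⟨A, B, hAB, h⟩ := card_fixed_lines hN (hρN g) (fun a ha => hγ (hscal g a ha))
    exact ⟨A, B, hAB, fun L => by rw [hsmul, fix_iff]; exact h L⟩
  let Ω₀ : SubMulAction Γ (ℙ K (Fin 2 → K)) :=
    { carrier := {L | ∃ γ : Γ, γ ≠ 1 ∧ γ • L = L}
      smul_mem' := by
        rintro δ L ⟨γ, hγ, hL⟩
        refine ⟨δ * γ * δ⁻¹, fun h => hγ (conj_eq_one_iff.1 h), ?_⟩
        rw [mul_smul, mul_smul, inv_smul_smul, hL] }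
  haveI : Finite Ω₀ := by
    choose A B hAB h using htwo
    have hsub : (Ω₀ : Set (ℙ K (Fin 2 → K))) ⊆
        ⋃ γ : {γ : Γ // γ ≠ 1}, {A γ.1 γ.2, B γ.1 γ.2} := by
      rintro L ⟨γ, hγ, hL⟩
      exact Set.mem_iUnion.2 ⟨⟨γ, hγ⟩, (h γ hγ L).1 hL⟩
    exact ((Set.finite_iUnion fun γ => Set.toFinite _).subset hsub).to_subtype
  have hsv : ∀ (γ : Γ) (ω : Ω₀), γ • ω = ω ↔ γ • (ω : ℙ K (Fin 2 → K)) = ω := fun γ ω =>
    ⟨fun h => congrArg Subtype.val h, fun h => Subtype.ext h⟩
  obtain ⟨hsix, hfour⟩ := card_special_points (Γ := Γ) (Ω := Ω₀) (fun γ hγ => by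
      obtain ⟨A, B, hAB, h⟩ := htwo γ hγ
      refine (Nat.card_eq_two_iff).2 ⟨⟨⟨A, γ, hγ, (h A).2 (Or.inl rfl)⟩, Subtype.ext ((h A).2 (Or.inl rfl))⟩,
        ⟨⟨B, γ, hγ, (h B).2 (Or.inr rfl)⟩, Subtype.ext ((h B).2 (Or.inr rfl))⟩, fun e => hAB ?_, ?_⟩
      · exact congrArg (fun x : ↥(fixedBy (↥Ω₀) γ) => ((x : ↥Ω₀) : ℙ K (Fin 2 → K))) e
      · refine Set.eq_univ_of_forall fun x => ?_
        rcases (h _).1 ((hsv γ x).1 x.2) with e | e
        · exact Or.inl (Subtype.ext (Subtype.ext e))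
        · exact Or.inr (Subtype.ext (Subtype.ext e)))
    (fun ω => by
      obtain ⟨γ, hγ, hL⟩ := ω.2
      exact fun e => hγ (Subgroup.mem_bot.1 (e ▸ (Subtype.ext hL : γ • ω = ω))))
  -- the given lines
  have hline : ∀ i, ∃ ω : Ω₀, (ω : ℙ K (Fin 2 → K)) = Projectivization.mk K (v i) (hv i) ∧
      d ∣ 3 * Nat.card (stabilizer Γ ω) := by
    intro i
    obtain ⟨g, ⟨c, hc⟩, hk⟩ := hgood i
    have hfixv : P g • Projectivization.mk K (v i) (hv i) = Projectivization.mk K (v i) (hv i) := by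
      rw [hsmul, Projectivization.smul_mk, Projectivization.mk_eq_mk_iff']
      exact ⟨c, hc.symm⟩
    have hord : ∀ k, P g ^ k = 1 → d ∣ 3 * k := by
      intro k hk1
      refine hk k ?_
      by_contra hno
      push Not at hno
      obtain ⟨A, B, hAB, h⟩ := card_fixed_lines hN
        (show (ρ g ^ k) ^ N = 1 by rw [← map_pow]; exact hρN _) hno
      have hall : ∀ L : ℙ K (Fin 2 → K), L = A ∨ L = B := fun L => (h L).1 (by
        have : (P g ^ k) • L = L := by rw [hk1, one_smul]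
        rw [← map_pow, ← fix_iff, ← hsmul (g ^ k) L]
        rwa [show P (g ^ k) = P g ^ k from map_pow _ g k])
      have e0 : ![(1 : K), 0] ≠ 0 := fun e => one_ne_zero (congrFun e 0)
      have e1 : ![(0 : K), 1] ≠ 0 := fun e => one_ne_zero (congrFun e 1)
      have e2 : ![(1 : K), 1] ≠ 0 := fun e => one_ne_zero (congrFun e 0)
      have n01 : Projectivization.mk K _ e0 ≠ Projectivization.mk K _ e1 := fun e => by
        obtain ⟨t, ht⟩ := (Projectivization.mk_eq_mk_iff' K _ _ _ _).1 e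
        simpa using congrFun ht 0
      have n02 : Projectivization.mk K _ e0 ≠ Projectivization.mk K _ e2 := fun e => by
        obtain ⟨t, ht⟩ := (Projectivization.mk_eq_mk_iff' K _ _ _ _).1 e
        have h0 := congrFun ht 0
        have h1 := congrFun ht 1
        simp at h0 h1
        rw [h0] at h1
        exact one_ne_zero h1
      have n12 : Projectivization.mk K _ e1 ≠ Projectivization.mk K _ e2 := fun e => by
        obtain ⟨t, ht⟩ := (Projectivization.mk_eq_mk_iff' K _ _ _ _).1 e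
        have h0 := congrFun ht 0
        have h1 := congrFun ht 1
        simp at h0 h1
        rw [h0] at h1
        exact zero_ne_one h1
      rcases hall (Projectivization.mk K _ e0) with r0 | r0 <;>
        rcases hall (Projectivization.mk K _ e1) with r1 | r1 <;>
        rcases hall (Projectivization.mk K _ e2) with r2 | r2
      all_goals first
        | exact n01 (r0.trans r1.symm)
        | exact n02 (r0.trans r2.symm)
        | exact n12 (r1.trans r2.symm)
    have hne : P g ≠ 1 := fun e => by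
      have := hord 1 (by rw [pow_one, e])
      have := Nat.le_of_dvd (by omega) this
      omega
    refine ⟨⟨_, P g, hne, hfixv⟩, rfl, ?_⟩
    have hmem : P g ∈ stabilizer Γ (⟨_, P g, hne, hfixv⟩ : Ω₀) := Subtype.ext hfixv
    exact (hord _ (pow_orderOf_eq_one _)).trans
      (Nat.mul_dvd_mul_left 3 (Subgroup.orderOf_dvd_natCard _ hmem))
  choose ω hω hdω using hline
  have hinj : Function.Injective ω := by
    intro i j e
    by_contra hne
    refine hind i j hne ?_
    have e' := congrArg (fun x : ↥Ω₀ => (x : ℙ K (Fin 2 → K))) e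
    simp only [hω] at e'
    obtain ⟨t, ht⟩ := (Projectivization.mk_eq_mk_iff' K _ _ _ _).1 e'
    rw [← ht]; simp only [Pi.smul_apply, smul_eq_mul]; ring
  refine ⟨fun hd' => ?_, fun hd' => ?_⟩
  · refine le_trans (Nat.card_le_card_of_injective (β := {x : Ω₀ // 6 ≤ Nat.card (stabilizer Γ x)})
      (fun i => ⟨ω i, ?_⟩) (fun i j e => hinj (congrArg Subtype.val e))) hsix
    have hpos : 0 < Nat.card (stabilizer Γ (ω i)) := Nat.card_pos
    rcases hd' with rfl | h16
    · have := hdω i; omega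
    · have := Nat.le_of_dvd (by omega) (hdω i); omega
  · refine le_trans (Nat.card_le_card_of_injective (β := {x : Ω₀ // 4 ∣ Nat.card (stabilizer Γ x)})
      (fun i => ⟨ω i, ?_⟩) (fun i j e => hinj (congrArg Subtype.val e))) hfour
    have := hdω i
    rw [hd'] at this
    omega

end CfsgLib.LocalEven
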