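import Mathlib
import Cfsg.Agent.Lib.LocalEven.SplitPairLines
import Cfsg.Agent.Lib.PGroup.Extraspecial

/-!
Transvections on maximal abelian subgroups of a Sylow subgroup of order `p ^ 3`: the induced
elements of the normalizer have large projective order on `P / Z(P)`.
-/

set_option autoImplicit false

namespace CfsgLib.LocalEven.ExtLines

open Subgroup
open scoped Matrix
open scoped Pointwise commutatorElement

variable {G : Type*} [Group G] {p : ℕ}

theorem pow_congr [NeZero p] {z : G} (hz : z ^ p = 1) {m n : ℕ} (h : (m : ZMod p) = n) : z ^ m = z ^ n := by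
  rw [pow_eq_pow_mod m hz, pow_eq_pow_mod n hz, (ZMod.natCast_eq_natCast_iff' m n p).1 h]

/-- Some element acts on `⟨z, x⟩` with the matrix `(a b; c d)`. -/
def Realizes (z x : G) (a b c d : ZMod p) : Prop :=
  ∃ g : G, g * z * g⁻¹ = z ^ a.val * x ^ c.val ∧ g * x * g⁻¹ = z ^ b.val * x ^ d.val

theorem realizes_mul [NeZero p] {z x : G} (hz : z ^ p = 1) (hx : x ^ p = 1) (hzx : Commute z x)
    {a b c d a' b' c' d' : ZMod p} (h : Realizes z x a b c d) (h' : Realizes z x a' b' c' d') :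
    Realizes z x (a * a' + b * c') (a * b' + b * d') (c * a' + d * c') (c * b' + d * d') := by
  obtain ⟨g, hg1, hg2⟩ := h
  obtain ⟨k, hk1, hk2⟩ := h'
  have key : ∀ m n : ℕ, g * (z ^ m * x ^ n) * g⁻¹ =
      z ^ (a.val * m + b.val * n) * x ^ (c.val * m + d.val * n) := by
    intro m n
    rw [← conj_mul, ← conj_pow, ← conj_pow, hg1, hg2, (hzx.pow_pow _ _).mul_pow, (hzx.pow_pow _ _).mul_pow,
      ← pow_mul, ← pow_mul, ← pow_mul, ← pow_mul, (hzx.symm.pow_pow _ _).mul_mul_mul_comm, ← pow_add,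
      ← pow_add]
  refine ⟨g * k, ?_, ?_⟩
  · rw [show g * k * z * (g * k)⁻¹ = g * (k * z * k⁻¹) * g⁻¹ by group, hk1, key]
    exact congrArg₂ _ (pow_congr hz (by simp)) (pow_congr hx (by simp))
  · rw [show g * k * x * (g * k)⁻¹ = g * (k * x * k⁻¹) * g⁻¹ by group, hk2, key]
    exact congrArg₂ _ (pow_congr hz (by simp)) (pow_congr hx (by simp))

theorem realizes_one [hp : Fact p.Prime] {z x : G} : Realizes z x (1 : ZMod p) 0 0 1 :=
  ⟨1, by simp [ZMod.val_one], by simp [ZMod.val_one]⟩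

theorem realizes_diag [hp : Fact p.Prime] {z x : G} (hz : z ^ p = 1) (hx : x ^ p = 1) (hzx : Commute z x)
    {t s : ZMod p} (ht : t ≠ 0) (hs : s ≠ 0)
    (hu : Realizes z x 1 t 0 1) (hv : Realizes z x 1 0 s 1) (l : ZMod p) (hl : l ≠ 0) :
    Realizes z x l 0 0 l⁻¹ := by
  have hU : ∀ r : ZMod p, Realizes z x 1 r 0 1 := by
    intro r
    have hn : ∀ n : ℕ, Realizes z x 1 ((n : ZMod p) * t) 0 1 := by
      intro n
      induction n with
      | zero => simpa using realizes_one
      | succ n ih =>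
        have := realizes_mul hz hx hzx hu ih
        convert this using 1 <;> push_cast <;> ring
    simpa [div_mul_cancel₀ r ht] using hn (r / t).val
  have hV : ∀ r : ZMod p, Realizes z x 1 0 r 1 := by
    intro r
    have hn : ∀ n : ℕ, Realizes z x 1 0 ((n : ZMod p) * s) 1 := by
      intro n
      induction n with
      | zero => simpa using realizes_one
      | succ n ih =>
        have := realizes_mul hz hx hzx hv ih
        convert this using 1 <;> push_cast <;> ring
    simpa [div_mul_cancel₀ r hs] using hn (r / s).val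
  have hw : ∀ r : ZMod p, r ≠ 0 → Realizes z x 0 r (-r⁻¹) 0 := by
    intro r hr
    have := realizes_mul hz hx hzx (realizes_mul hz hx hzx (hU r) (hV (-r⁻¹))) (hU r)
    convert this using 1 <;> simp [hr]
  have := realizes_mul hz hx hzx (hw l hl) (hw (-1) (by simp))
  convert this using 1 <;> simp [inv_neg]

theorem exists_normalizer_elt [Finite G] [hp : Fact p.Prime] (P : Sylow p G) {z x : G}
    (hzP : z ∈ (P : Subgroup G)) (hxP : x ∈ (P : Subgroup G)) (hz : z ^ p = 1) (hx : x ^ p = 1)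
    (hzc : ∀ q ∈ (P : Subgroup G), Commute q z) (hxc : ∀ q ∈ (P : Subgroup G), q * x * q⁻¹ * x⁻¹ ∈ zpowers z)
    (hu : ∃ t : ZMod p, t ≠ 0 ∧ Realizes z x 1 t 0 1) (hv : ∃ s : ZMod p, s ≠ 0 ∧ Realizes z x 1 0 s 1)
    (l : ZMod p) (hl : l ≠ 0) :
    ∃ h ∈ normalizer ((P : Subgroup G) : Set G),
      h * z * h⁻¹ = z ^ l.val ∧ h * x * h⁻¹ * (x ^ (l⁻¹).val)⁻¹ ∈ zpowers z := by
  classical
  have hzx : Commute z x := (hzc x hxP).symm
  obtain ⟨t, ht, hu⟩ := hu
  obtain ⟨s, hs, hv⟩ := hv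
  obtain ⟨g, hg1, hg2⟩ := realizes_diag hz hx hzx ht hs hu hv l hl
  rw [ZMod.val_zero, pow_zero, mul_one] at hg1
  rw [ZMod.val_zero, pow_zero, one_mul] at hg2
  let K : Subgroup G :=
    { carrier := {c | Commute c z ∧ c * x * c⁻¹ * x⁻¹ ∈ zpowers z}
      one_mem' := ⟨Commute.one_left z, by simp⟩
      mul_mem' := by
        rintro a b ⟨ha, ha'⟩ ⟨hb, hb'⟩
        refine ⟨ha.mul_left hb, ?_⟩
        obtain ⟨n, hn⟩ := mem_zpowers_iff.1 hb'
        rw [show a * b * x * (a * b)⁻¹ * x⁻¹ = a * (b * x * b⁻¹ * x⁻¹) * a⁻¹ * (a * x * a⁻¹ * x⁻¹) by group,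
          ← hn, (ha.zpow_right n).eq, mul_inv_cancel_right]
        exact mul_mem ⟨n, rfl⟩ ha'
      inv_mem' := by
        rintro a ⟨ha, ha'⟩
        refine ⟨ha.inv_left, ?_⟩
        obtain ⟨n, hn⟩ := mem_zpowers_iff.1 ha'
        rw [show a⁻¹ * x * a⁻¹⁻¹ * x⁻¹ = a⁻¹ * (a * x * a⁻¹ * x⁻¹)⁻¹ * a by group, ← hn,
          ← zpow_neg, (ha.inv_left.zpow_right (-n)).eq, inv_mul_cancel_right]
        exact ⟨-n, rfl⟩ }
  have hPK : (P : Subgroup G) ≤ K := fun q hq => ⟨hzc q hq, hxc q hq⟩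
  have hgPK : ((g • P : Sylow p G) : Subgroup G) ≤ K := by
    intro q' hq'
    rw [Sylow.coe_subgroup_smul, Subgroup.mem_pointwise_smul_iff_inv_smul_mem, ← map_inv,
      MulAut.smul_def, MulAut.conj_apply, inv_inv] at hq'
    obtain ⟨q, hq, rfl⟩ : ∃ q ∈ (P : Subgroup G), g * q * g⁻¹ = q' := ⟨_, hq', by group⟩
    have hinvz : g⁻¹ * z * g = z ^ (l⁻¹).val := by
      have : g * z ^ (l⁻¹).val * g⁻¹ = z := by
        rw [← conj_pow, hg1, ← pow_mul]
        conv_rhs => rw [← pow_one z]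
        exact pow_congr hz (by simp [hl])
      nth_rewrite 1 [← this]
      group
    have hinvx : g⁻¹ * x * g = x ^ l.val := by
      have : g * x ^ l.val * g⁻¹ = x := by
        rw [← conj_pow, hg2, ← pow_mul]
        conv_rhs => rw [← pow_one x]
        exact pow_congr hx (by simp [hl])
      nth_rewrite 1 [← this]
      group
    refine ⟨?_, ?_⟩
    · rw [Commute, SemiconjBy]
      have h1 : g * q * g⁻¹ * z = g * (q * (g⁻¹ * z * g)) * g⁻¹ := by group
      have h2 : z * (g * q * g⁻¹) = g * ((g⁻¹ * z * g) * q) * g⁻¹ := by group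
      rw [h1, h2, hinvz, ((hzc q hq).pow_right _).eq]
    · obtain ⟨i, hi⟩ := mem_zpowers_iff.1 (hxc q hq)
      have hqx : q * x * q⁻¹ = z ^ i * x := by rw [hi]; group
      rw [show g * q * g⁻¹ * x * (g * q * g⁻¹)⁻¹ = g * (q * (g⁻¹ * x * g) * q⁻¹) * g⁻¹ by group, hinvx,
        ← conj_pow, hqx, (hzx.zpow_left i).mul_pow, ← conj_mul, ← hinvx,
        show g * (g⁻¹ * x * g) * g⁻¹ = x by group, mul_inv_cancel_right, ← zpow_natCast, ← zpow_mul,
        ← conj_zpow, hg1]
      exact zpow_mem (pow_mem (mem_zpowers z) _) _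
  obtain ⟨⟨c, hcK⟩, hc⟩ := MulAction.exists_smul_eq K ((g • P).subtype hgPK) (P.subtype hPK)
  rw [Sylow.smul_subtype] at hc
  have hfix : (c * g) • P = P := by
    rw [mul_smul]
    exact Sylow.subtype_injective hc
  refine ⟨c * g, Sylow.smul_eq_iff_mem_normalizer.1 hfix, ?_, ?_⟩
  · rw [show c * g * z * (c * g)⁻¹ = c * (g * z * g⁻¹) * c⁻¹ by group, hg1, (hcK.1.pow_right _).eq,
      mul_inv_cancel_right]
  · obtain ⟨i, hi⟩ := mem_zpowers_iff.1 hcK.2
    have hcx : c * x * c⁻¹ = z ^ i * x := by rw [hi]; group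
    rw [show c * g * x * (c * g)⁻¹ = c * (g * x * g⁻¹) * c⁻¹ by group, hg2, ← conj_pow, hcx,
      (hzx.zpow_left i).mul_pow, mul_inv_cancel_right]
    exact pow_mem (zpow_mem (mem_zpowers z) i) _

theorem center_eq_zpowers [Finite G] [hp : Fact p.Prime] (hE : Cfsg.IsExtraspecial p G) {z : G}
    (hz : z ∈ center G) (hz1 : z ≠ 1) : center G = zpowers z := by
  refine (Subgroup.eq_of_le_of_card_ge (Subgroup.zpowers_le.2 hz) ?_).symm
  rw [Nat.card_zpowers, hE.2, orderOf_eq_prime (CfsgLib.PGroup.special_center_pow hE.1 hz) hz1]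

theorem card_lines_extraspecial [Finite G] [hp : Fact p.Prime] (P : Sylow p G)
    (hE : Cfsg.IsExtraspecial p ↥P) (hcard : Nat.card ↥P = p ^ 3) (hexp : Monoid.exponent ↥P = p)
    (z : ↥P) (hzc : z ∈ center ↥P) (hz1 : z ≠ 1) {ι : Type*} (x : ι → ↥P) (hx : ∀ i, x i ∉ center ↥P)
    (hind : ∀ i j, i ≠ j → ¬ Commute (x i) (x j))
    (hv : ∀ i, ∃ s : ZMod p, s ≠ 0 ∧ Realizes (z : G) (x i : G) 1 0 s 1) :
    (p = 11 ∨ 17 ≤ p → Nat.card ι ≤ 2) ∧ (p = 13 → Nat.card ι ≤ 6) := by
  classical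
  by_cases hp5 : p < 5
  · exact ⟨fun h => by omega, fun h => by omega⟩
  have hpw : ∀ a : ↥P, a ^ p = 1 := fun a => by
    conv_lhs => arg 2; rw [← hexp]
    exact Monoid.pow_exponent_eq_one a
  have hcomm : ∀ a b : ↥P, ⁅a, b⁆ ∈ center ↥P := fun a b => by
    rw [← hE.1.2.2]; exact commutator_mem_commutator (mem_top a) (mem_top b)
  have hZ := center_eq_zpowers hE hzc hz1
  -- the module
  have hpv : ∀ v : Additive (Abelianization ↥P), p • v = 0 := by
    intro v
    obtain ⟨a, ha⟩ := QuotientGroup.mk_surjective (Additive.toMul v)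
    rw [show v = Additive.ofMul (Abelianization.of a) from congrArg Additive.ofMul ha.symm,
      ← ofMul_pow, ← map_pow, hpw, map_one, ofMul_one]
  have hmod0 : Module (ZMod p) (Additive (Abelianization ↥P)) := AddCommGroup.zmodModule hpv
  have hmodfin : Module.Finite (ZMod p) (Additive (Abelianization ↥P)) := Module.Finite.of_finite
  have hcardV : Nat.card (Additive (Abelianization ↥P)) = p ^ 2 := by
    have h1 : Nat.card (Additive (Abelianization ↥P)) = (commutator ↥P).index := rfl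
    have h2 := card_mul_index (commutator ↥P)
    rw [hE.1.2.2, hE.2, hcard, pow_succ' p 2] at h2
    rw [h1, hE.1.2.2]
    exact Nat.eq_of_mul_eq_mul_left hp.out.pos h2
  have hrank : Module.finrank (ZMod p) (Additive (Abelianization ↥P)) = 2 := by
    have h := Module.natCard_eq_pow_finrank (K := ZMod p) (V := Additive (Abelianization ↥P))
    rw [hcardV, Nat.card_zmod] at h
    exact (Nat.pow_right_injective hp.out.two_le h).symm
  let b := Module.finBasisOfFinrankEq (ZMod p) (Additive (Abelianization ↥P)) hrank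
  let π : ↥P → Additive (Abelianization ↥P) := fun a => Additive.ofMul (Abelianization.of a)
  have hπsurj : Function.Surjective π := fun v => by
    obtain ⟨a, ha⟩ := QuotientGroup.mk_surjective (Additive.toMul v)
    exact ⟨a, congrArg Additive.ofMul ha⟩
  have hsmul : ∀ (c : ZMod p) (a : ↥P), c • π a = π (a ^ c.val) := fun c a => by
    conv_lhs => rw [← ZMod.natCast_zmod_val c, Nat.cast_smul_eq_nsmul]
    show c.val • Additive.ofMul (Abelianization.of a) = Additive.ofMul (Abelianization.of (a ^ c.val))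
    rw [map_pow, ofMul_pow]
  have hπeq : ∀ a a' : ↥P, π a = π a' → ∃ c ∈ center ↥P, a = a' * c := by
    intro a a' h
    refine ⟨a'⁻¹ * a, ?_, by group⟩
    rw [← hE.1.2.2, ← Abelianization.ker_of, MonoidHom.mem_ker, map_mul, map_inv, Additive.ofMul.injective h,
      inv_mul_cancel]
  have hπeq' : ∀ a a' : ↥P, a * a'⁻¹ ∈ center ↥P → π a = π a' := by
    intro a a' h
    rw [← hE.1.2.2, ← Abelianization.ker_of, MonoidHom.mem_ker, map_mul, map_inv, mul_inv_eq_one] at h
    exact congrArg Additive.ofMul h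
  -- the representation
  let conjP : ↥(normalizer ((P : Subgroup G) : Set G)) →* MulAut ↥P := (P : Subgroup G).normalizerMonoidHom
  let T : ↥(normalizer ((P : Subgroup G) : Set G)) → Module.End (ZMod p) (Additive (Abelianization ↥P)) :=
    fun h => AddMonoidHom.toZModLinearMap p (Abelianization.map (conjP h).toMonoidHom).toAdditive
  have hTπ : ∀ (h : ↥(normalizer ((P : Subgroup G) : Set G))) (a : ↥P), T h (π a) = π (conjP h a) :=
    fun h a => rfl
  let ρ₀ : ↥(normalizer ((P : Subgroup G) : Set G)) →* Module.End (ZMod p) (Additive (Abelianization ↥P)) :=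
    { toFun := T
      map_one' := LinearMap.ext fun v => by
        obtain ⟨a, rfl⟩ := hπsurj v
        rw [hTπ, map_one]; rfl
      map_mul' := fun h k => LinearMap.ext fun v => by
        obtain ⟨a, rfl⟩ := hπsurj v
        rw [Module.End.mul_apply, hTπ, hTπ, hTπ, map_mul]; rfl }
  let f := algebraMap (ZMod p) (AlgebraicClosure (ZMod p))
  have hf : Function.Injective f := f.injective
  let ρ : ↥(normalizer ((P : Subgroup G) : Set G)) →* Matrix (Fin 2) (Fin 2) (AlgebraicClosure (ZMod p)) :=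
    f.mapMatrix.toMonoidHom.comp ((LinearMap.toMatrixAlgEquiv b).toMonoidHom.comp ρ₀)
  let coord : Additive (Abelianization ↥P) → Fin 2 → AlgebraicClosure (ZMod p) := fun v i => f (b.repr v i)
  have hcoord : ∀ (h : ↥(normalizer ((P : Subgroup G) : Set G))) (v : Additive (Abelianization ↥P)),
      ρ h *ᵥ coord v = coord (ρ₀ h v) := by
    intro h v
    funext i
    show (((LinearMap.toMatrixAlgEquiv b (ρ₀ h)).map f) *ᵥ (f ∘ fun i => b.repr v i)) i = f (b.repr (ρ₀ h v) i)
    rw [← RingHom.map_mulVec, ← LinearMap.toMatrix_mulVec_repr b b (ρ₀ h) v]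
    rfl
  have hcoord0 : ∀ v, coord v = 0 → v = 0 := fun v h => by
    refine b.repr.map_eq_zero_iff.1 (Finsupp.ext fun i => ?_)
    have h' : f (b.repr v i) = 0 := congrFun h i
    simpa using (map_eq_zero f).1 h'
  have hcoord1 : Function.Injective coord := fun v w h =>
    b.repr.injective (Finsupp.ext fun i => hf (congrFun h i))
  have hcoord_smul : ∀ (c : ZMod p) v, coord (c • v) = f c • coord v := fun c v => by
    funext i; simp [coord]
  have hNdvd : ¬ p ∣ ((P : Subgroup G).subgroupOf (normalizer ((P : Subgroup G) : Set G))).index := fun h =>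
    P.not_dvd_index (h.trans (relIndex_dvd_index_of_le le_normalizer))
  have hρN : ∀ h, ρ h ^ ((P : Subgroup G).subgroupOf (normalizer ((P : Subgroup G) : Set G))).index = 1 := by
    intro h
    rw [← map_pow]
    have hmem := Subgroup.pow_index_mem ((P : Subgroup G).subgroupOf (normalizer ((P : Subgroup G) : Set G))) h
    rw [mem_subgroupOf] at hmem
    show f.mapMatrix (LinearMap.toMatrixAlgEquiv b (ρ₀ _)) = 1
    rw [show ρ₀ (h ^ _) = 1 from LinearMap.ext fun v => ?_, map_one, map_one]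
    obtain ⟨a, rfl⟩ := hπsurj v
    show T _ (π a) = π a
    rw [hTπ]
    refine hπeq' _ _ ?_
    have : conjP (h ^ _) a = (⟨_, hmem⟩ : ↥P) * a * (⟨_, hmem⟩ : ↥P)⁻¹ := Subtype.ext rfl
    rw [this, ← commutatorElement_def]
    exact hcomm _ _
  have hNK : (((P : Subgroup G).subgroupOf (normalizer ((P : Subgroup G) : Set G))).index :
      AlgebraicClosure (ZMod p)) ≠ 0 := by
    rw [← map_natCast f, Ne, map_eq_zero, ZMod.natCast_eq_zero_iff]
    exact hNdvd
  have hvne : ∀ i, coord (π (x i)) ≠ 0 := by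
    intro i h
    obtain ⟨c, hc, e⟩ := hπeq (x i) 1 (by rw [hcoord0 _ h]; simp [π])
    exact hx i (by rw [e, one_mul]; exact hc)
  have hvind : ∀ i j, i ≠ j →
      coord (π (x i)) 0 * coord (π (x j)) 1 - coord (π (x i)) 1 * coord (π (x j)) 0 ≠ 0 := by
    intro i j hij hdet
    have hdet' : b.repr (π (x i)) 0 * b.repr (π (x j)) 1 - b.repr (π (x i)) 1 * b.repr (π (x j)) 0 = 0 :=
      hf (by rw [map_sub, map_mul, map_mul, map_zero f]; exact hdet)
    obtain ⟨c, hc⟩ : ∃ c : ZMod p, π (x j) = c • π (x i) := by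
      by_cases h0 : b.repr (π (x i)) 0 = 0
      · have h1 : b.repr (π (x i)) 1 ≠ 0 := fun h1 => hvne i (funext fun k => by
          fin_cases k <;> simp [coord, h0, h1])
        refine ⟨b.repr (π (x j)) 1 / b.repr (π (x i)) 1, b.repr.injective (Finsupp.ext fun k => ?_)⟩
        have hj0 : b.repr (π (x j)) 0 = 0 := by
          rw [h0, zero_mul, zero_sub, neg_eq_zero] at hdet'
          exact (mul_eq_zero.1 hdet').resolve_left h1
        fin_cases k <;> simp [h0, hj0, h1]
      · refine ⟨b.repr (π (x j)) 0 / b.repr (π (x i)) 0, b.repr.injective (Finsupp.ext fun k => ?_)⟩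
        fin_cases k
        · simp [h0]
        · simp
          field_simp
          linear_combination hdet'
    rw [hsmul] at hc
    obtain ⟨d, hd, e⟩ := hπeq _ _ hc
    refine hind i j hij ?_
    rw [e]
    exact ((Commute.refl (x i)).pow_right _).mul_right (Subgroup.mem_center_iff.1 hd (x i))
  obtain ⟨l, hl⟩ := IsCyclic.exists_ofOrder_eq_natCard (α := (ZMod p)ˣ)
  rw [Nat.card_eq_fintype_card, ZMod.card_units] at hl
  have key : ∀ i, ∃ h : ↥(normalizer ((P : Subgroup G) : Set G)),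
      (∃ c : AlgebraicClosure (ZMod p), ρ h *ᵥ coord (π (x i)) = c • coord (π (x i))) ∧
      ∀ k : ℕ, (∃ a : AlgebraicClosure (ZMod p), ρ h ^ k = a • (1 : Matrix (Fin 2) (Fin 2) (AlgebraicClosure (ZMod p)))) → p - 1 ∣ 3 * k := by
    intro i
    obtain ⟨y, hy⟩ : ∃ y, ¬ Commute (x i) y := by
      by_contra! h
      exact hx i (Subgroup.mem_center_iff.2 fun g => ((h g).eq).symm)
    have hzP : ∀ q ∈ (P : Subgroup G), Commute q (z : G) := fun q hq =>
      congrArg Subtype.val (Subgroup.mem_center_iff.1 hzc ⟨q, hq⟩)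
    have hzG : (z : G) ^ p = 1 := by rw [← SubgroupClass.coe_pow, hpw, OneMemClass.coe_one]
    have hxG : (x i : G) ^ p = 1 := by rw [← SubgroupClass.coe_pow, hpw, OneMemClass.coe_one]
    have hu : ∃ t : ZMod p, t ≠ 0 ∧ Realizes (z : G) (x i : G) 1 t 0 1 := by
      have hmem := hcomm y (x i)
      rw [hZ] at hmem
      obtain ⟨n, hn⟩ := mem_powers_iff_mem_zpowers.2 hmem
      simp only at hn
      refine ⟨(n : ZMod p), fun h0 => hy (commutatorElement_eq_one_iff_mul_comm.1 ?_ : y * x i = x i * y).symm,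
        (y : G), ?_, ?_⟩
      · rw [← hn, pow_congr (hpw z) (show (n : ZMod p) = ((0 : ℕ) : ZMod p) by rw [h0, Nat.cast_zero]), pow_zero]
      · rw [ZMod.val_zero, pow_zero, mul_one, ZMod.val_one, pow_one, (hzP (y : G) y.2).eq, mul_inv_cancel_right]
      · rw [ZMod.val_one, pow_one, ← pow_congr hzG (show ((n : ℕ) : ZMod p) = (((n : ZMod p)).val : ZMod p) by
          rw [ZMod.natCast_zmod_val])]
        have h1 : ((z ^ n : ↥P) : G) * (x i : G) = (y : G) * (x i : G) * (y : G)⁻¹ := by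
          rw [hn, commutatorElement_def]; push_cast; group
        rw [← h1, SubgroupClass.coe_pow]
    obtain ⟨g, hgN, hgz, hgx⟩ := exists_normalizer_elt P z.2 (x i).2 hzG hxG hzP (fun q hq => by
      have hmem := hcomm ⟨q, hq⟩ (x i)
      rw [hZ] at hmem
      obtain ⟨n, hn⟩ := mem_zpowers_iff.1 hmem
      refine ⟨n, ?_⟩
      have h1 := congrArg Subtype.val hn
      rw [commutatorElement_def] at h1
      push_cast at h1
      exact h1) hu (hv i) (l : ZMod p) l.ne_zero
    refine ⟨⟨g, hgN⟩, ⟨f (((l : ZMod p))⁻¹), ?_⟩, ?_⟩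
    · rw [hcoord, ← hcoord_smul, hsmul]
      refine congrArg coord ?_
      show T _ (π (x i)) = _
      rw [hTπ]
      refine hπeq' _ _ ?_
      rw [hZ]
      obtain ⟨n, hn⟩ := mem_zpowers_iff.1 hgx
      refine ⟨n, Subtype.ext ?_⟩
      show ((z ^ n : ↥P) : G) = _
      push_cast
      exact hn
    have hstepx : ρ₀ ⟨g, hgN⟩ (π (x i)) = ((l : ZMod p))⁻¹ • π (x i) := by
      rw [hsmul]
      show T _ (π (x i)) = _
      rw [hTπ]
      refine hπeq' _ _ ?_
      rw [hZ]
      obtain ⟨n, hn⟩ := mem_zpowers_iff.1 hgx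
      refine ⟨n, Subtype.ext ?_⟩
      show ((z ^ n : ↥P) : G) = _
      push_cast
      exact hn
    intro k hk
    obtain ⟨a, ha⟩ := hk
    have hxk : ∀ m : ℕ, ρ₀ (⟨g, hgN⟩ ^ m) (π (x i)) = (((l : ZMod p))⁻¹ ^ m) • π (x i) := by
      intro m
      induction m with
      | zero => rw [pow_zero, pow_zero, map_one, one_smul]; rfl
      | succ m ih => rw [pow_succ, map_mul, Module.End.mul_apply, hstepx, map_smul, ih, smul_smul, ← pow_succ']
    have hzk : ∀ m : ℕ, conjP (⟨g, hgN⟩ ^ m) z = z ^ (((l : ZMod p) ^ m)).val := by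
      intro m
      induction m with
      | zero => simp [ZMod.val_one]
      | succ m ih =>
        have h1 : conjP ⟨g, hgN⟩ z = z ^ (l : ZMod p).val := Subtype.ext (by
          rw [SubgroupClass.coe_pow]; exact hgz)
        rw [pow_succ, map_mul, MulAut.mul_apply, h1, map_pow, ih, ← pow_mul]
        exact pow_congr (hpw z) (by push_cast; simp [pow_succ])
    have hall : ∀ q, π (conjP (⟨g, hgN⟩ ^ k) q) = (((l : ZMod p))⁻¹ ^ k) • π q := by
      intro q
      have hX := hcoord (⟨g, hgN⟩ ^ k) (π (x i))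
      rw [map_pow, ha, Matrix.smul_mulVec, Matrix.one_mulVec, hxk k, hcoord_smul] at hX
      have hak : a = f (((l : ZMod p))⁻¹ ^ k) := smul_left_injective _ (hvne i) hX
      apply hcoord1
      rw [hcoord_smul, ← hak, ← hTπ]
      have hQ := hcoord (⟨g, hgN⟩ ^ k) (π q)
      rw [map_pow, ha, Matrix.smul_mulVec, Matrix.one_mulVec] at hQ
      exact hQ.symm
    have h1 := hall (x i)
    have h2 := hall y
    rw [hsmul] at h1 h2
    obtain ⟨c1, hc1, e1⟩ := hπeq _ _ h1
    obtain ⟨c2, hc2, e2⟩ := hπeq _ _ h2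
    obtain ⟨n, hn⟩ := mem_powers_iff_mem_zpowers.2 (hZ ▸ hcomm (x i) y : ⁅x i, y⁆ ∈ zpowers z)
    simp only at hn
    set m := (((l : ZMod p))⁻¹ ^ k).val with hm
    have hbil : ⁅conjP (⟨g, hgN⟩ ^ k) (x i), conjP (⟨g, hgN⟩ ^ k) y⁆ = ⁅x i, y⁆ ^ (m * m) := by
      rw [e1, e2, CfsgLib.PGroup.comm_mul_left (hcomm _ _), CfsgLib.PGroup.comm_mul_right (hcomm _ _),
        CfsgLib.PGroup.comm_mul_right (hcomm _ _),
        commutatorElement_eq_one_iff_mul_comm.2 (Subgroup.mem_center_iff.1 hc1 _).symm,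
        commutatorElement_eq_one_iff_mul_comm.2 (Subgroup.mem_center_iff.1 hc1 _).symm,
        commutatorElement_eq_one_iff_mul_comm.2 (Subgroup.mem_center_iff.1 hc2 _),
        mul_one, mul_one, mul_one,
        CfsgLib.PGroup.comm_pow_left (hcomm _ _), CfsgLib.PGroup.comm_pow_right (hcomm _ _), ← pow_mul]
    rw [← map_commutatorElement, ← hn, map_pow, hzk k, ← pow_mul, ← pow_mul] at hbil
    have hord : orderOf z = p := orderOf_eq_prime (hpw z) hz1
    have hmod := (pow_eq_pow_iff_modEq.1 hbil)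
    rw [hord, ← ZMod.natCast_eq_natCast_iff] at hmod
    push_cast [hm, ZMod.natCast_zmod_val] at hmod
    have hn0 : (n : ZMod p) ≠ 0 := fun h0 => hy (commutatorElement_eq_one_iff_mul_comm.1 (by
      rw [← hn, pow_congr (hpw z) (show (n : ZMod p) = ((0 : ℕ) : ZMod p) by rw [h0, Nat.cast_zero]), pow_zero]))
    have hl3 : (l : ZMod p) ^ (3 * k) = 1 := by
      have h3 : (l : ZMod p) ^ k = ((l : ZMod p))⁻¹ ^ k * ((l : ZMod p))⁻¹ ^ k :=
        mul_right_cancel₀ hn0 (hmod.trans (mul_comm _ _))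
      have hl0 : (l : ZMod p) ≠ 0 := l.ne_zero
      rw [inv_pow] at h3
      field_simp at h3
      rw [← h3]; ring
    rw [← hl]
    exact orderOf_dvd_of_pow_eq_one (Units.ext (by rw [Units.val_pow_eq_pow_val, hl3, Units.val_one]))
  obtain ⟨hA, hB⟩ := card_lines_le ρ hNK hρN (fun i => coord (π (x i))) hvne hvind
    (show 3 < p - 1 by omega) key
  exact ⟨fun h => hA (by omega), fun h => hB (by omega)⟩

/-- When `z` is conjugate to `x`, some element fixes `x` and moves `z` inside `z⟨x⟩`. -/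
theorem exists_lower_of_conj [Finite G] [hp : Fact p.Prime] (P : Sylow p G) (hE : Cfsg.IsExtraspecial p ↥P)
    (hexp : Monoid.exponent ↥P = p) (z : ↥P) (hzc : z ∈ center ↥P) (hz1 : z ≠ 1) (x : ↥P)
    (hx : x ∉ center ↥P) (g : G) (hg : g * (z : G) * g⁻¹ = x) :
    ∃ s : ZMod p, s ≠ 0 ∧ Realizes (z : G) (x : G) 1 0 s 1 := by
  classical
  have hpw : ∀ a : ↥P, a ^ p = 1 := fun a => by
    conv_lhs => arg 2; rw [← hexp]
    exact Monoid.pow_exponent_eq_one a
  have hzP : ∀ q ∈ (P : Subgroup G), Commute q (z : G) := fun q hq =>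
    congrArg Subtype.val (Subgroup.mem_center_iff.1 hzc ⟨q, hq⟩)
  have hgPC : ((g • P : Sylow p G) : Subgroup G) ≤ centralizer ({(x : G)} : Set G) := by
    intro q' hq'
    rw [Sylow.coe_subgroup_smul, Subgroup.mem_pointwise_smul_iff_inv_smul_mem, ← map_inv,
      MulAut.smul_def, MulAut.conj_apply, inv_inv] at hq'
    rw [mem_centralizer_singleton_iff, ← hg]
    have h := (hzP _ hq').eq
    calc q' * (g * (z : G) * g⁻¹) = g * ((g⁻¹ * q' * g) * (z : G)) * g⁻¹ := by group
      _ = g * ((z : G) * (g⁻¹ * q' * g)) * g⁻¹ := by rw [h]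
      _ = g * (z : G) * g⁻¹ * q' := by group
  have hQ : IsPGroup p (((P : Subgroup G) ⊓ centralizer ({(x : G)} : Set G)).subgroupOf
      (centralizer ({(x : G)} : Set G))) :=
    (P.isPGroup'.to_le inf_le_left).of_equiv (Subgroup.subgroupOfEquivOfLe inf_le_right).symm
  obtain ⟨S, hS⟩ := hQ.exists_le_sylow
  obtain ⟨c, hc⟩ := MulAction.exists_smul_eq (centralizer ({(x : G)} : Set G)) ((g • P).subtype hgPC) S
  have hin : ∀ a : G, a ∈ (P : Subgroup G) → a ∈ centralizer ({(x : G)} : Set G) →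
      ((c : G) * g)⁻¹ * a * ((c : G) * g) ∈ (P : Subgroup G) := by
    intro a haP haC
    have h := hS (show (⟨a, haC⟩ : ↥(centralizer ({(x : G)} : Set G))) ∈
      ((P : Subgroup G) ⊓ centralizer ({(x : G)} : Set G)).subgroupOf _ from ⟨haP, haC⟩)
    rw [← hc, Sylow.smul_subtype, Sylow.coe_subtype, mem_subgroupOf, Subgroup.smul_def, smul_smul,
      Sylow.coe_subgroup_smul, Subgroup.mem_pointwise_smul_iff_inv_smul_mem, ← map_inv,
      MulAut.smul_def, MulAut.conj_apply, inv_inv] at h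
    exact h
  set g' := (c : G) * g with hg'
  have hg'z : g' * (z : G) * g'⁻¹ = x := by
    rw [hg', show (c : G) * g * (z : G) * ((c : G) * g)⁻¹ = (c : G) * (g * (z : G) * g⁻¹) * (c : G)⁻¹ by group,
      hg, mem_centralizer_singleton_iff.1 c.2, mul_inv_cancel_right]
  set a : ↥P := ⟨g'⁻¹ * (z : G) * g', hin _ z.2 (mem_centralizer_singleton_iff.2 (hzP _ x.2).eq.symm)⟩ with ha
  have hZ := center_eq_zpowers hE hzc hz1
  have hanc : a ∉ center ↥P := by
    intro h
    rw [hZ] at h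
    obtain ⟨n, hn⟩ := mem_zpowers_iff.1 h
    have h1 : g' * ((z ^ n : ↥P) : G) * g'⁻¹ = (z : G) := by rw [hn, ha]; group
    push_cast at h1
    rw [← conj_zpow, hg'z] at h1
    refine hx ?_
    have h2 : zpowers z = zpowers x := by
      refine Subgroup.eq_of_le_of_card_ge (zpowers_le.2 ⟨n, Subtype.ext (by push_cast; exact h1)⟩) ?_
      rw [Nat.card_zpowers, Nat.card_zpowers, orderOf_eq_prime (hpw z) hz1]
      exact Nat.le_of_dvd hp.out.pos (orderOf_dvd_of_pow_eq_one (hpw x))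
    rw [hZ, h2]
    exact mem_zpowers x
  obtain ⟨b, hb⟩ : ∃ b, ¬ Commute b a := by
    by_contra! h
    exact hanc (Subgroup.mem_center_iff.2 fun w => h w)
  have hba : ⁅b, a⁆ ∈ zpowers z := by
    rw [← hZ, ← hE.1.2.2]; exact commutator_mem_commutator (mem_top b) (mem_top a)
  obtain ⟨n, hn⟩ := mem_powers_iff_mem_zpowers.2 hba
  simp only at hn
  refine ⟨(n : ZMod p), fun h0 => hb (commutatorElement_eq_one_iff_mul_comm.1 ?_), g' * (b : G) * g'⁻¹, ?_, ?_⟩
  · rw [← hn, pow_congr (hpw z) (show (n : ZMod p) = ((0 : ℕ) : ZMod p) by rw [h0, Nat.cast_zero]), pow_zero]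
  · have h1 : (b : G) * (a : G) * (b : G)⁻¹ = (z : G) ^ n * (a : G) := by
      rw [← SubgroupClass.coe_pow, hn, commutatorElement_def]; push_cast; group
    have h2 : (z : G) = g' * (a : G) * g'⁻¹ := by rw [ha]; group
    have hxG : (x : G) ^ p = 1 := by rw [← SubgroupClass.coe_pow, hpw, OneMemClass.coe_one]
    calc g' * (b : G) * g'⁻¹ * (z : G) * (g' * (b : G) * g'⁻¹)⁻¹
        = g' * ((b : G) * (a : G) * (b : G)⁻¹) * g'⁻¹ := by rw [h2]; group
      _ = (x : G) ^ n * (z : G) := by rw [h1, ← conj_mul, ← conj_pow, hg'z, ← h2]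
      _ = (z : G) ^ (1 : ZMod p).val * (x : G) ^ (n : ZMod p).val := by
          rw [ZMod.val_one, pow_one, ← pow_congr hxG (show ((n : ℕ) : ZMod p) = (((n : ZMod p)).val : ZMod p) by
            rw [ZMod.natCast_zmod_val])]
          exact (((hzP _ x.2).pow_left n).eq)
  · rw [ZMod.val_zero, pow_zero, one_mul, ZMod.val_one, pow_one]
    calc g' * (b : G) * g'⁻¹ * (x : G) * (g' * (b : G) * g'⁻¹)⁻¹
        = g' * ((b : G) * (g'⁻¹ * (x : G) * g') * (b : G)⁻¹) * g'⁻¹ := by group
      _ = g' * (z : G) * g'⁻¹ := by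
          rw [show g'⁻¹ * (x : G) * g' = (z : G) by rw [← hg'z]; group, (hzP _ b.2).eq, mul_inv_cancel_right]
      _ = (x : G) := hg'z

theorem exists_noncentral_pair [Finite G] [hp : Fact p.Prime] (hE : Cfsg.IsExtraspecial p G) :
    ∃ x y : G, ¬ Commute x y := by
  by_contra! h
  have hG1 : commutator G = ⊥ := by
    rw [commutator_def, eq_bot_iff, commutator_le]
    exact fun a _ b _ => mem_bot.2 (commutatorElement_eq_one_iff_mul_comm.2 (h a b))
  have := hE.2
  rw [← hE.1.2.2, hG1, card_bot] at this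
  exact hp.out.ne_one this.symm

end CfsgLib.LocalEven.ExtLines
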