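import Mathlib
import Cfsg.Agent.Lib.PGroup.Extraspecial

/-!
Smallest modules on which an extraspecial group acts with nontrivial centre.
-/

set_option autoImplicit false

namespace CfsgLib.LocalEven.ExtMod

open Polynomial
open scoped commutatorElement

/-- Some irreducible factor `f` of `q` has nonzero kernel at `Z` when `q` has. -/
theorem exists_irreducible_factor {F V : Type*} [Field F] [AddCommGroup V] [Module F V]
    (Z : Module.End F V) (q : F[X]) (hq : q ≠ 0) (h : ∃ v : V, v ≠ 0 ∧ aeval Z q v = 0) :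
    ∃ f : F[X], Irreducible f ∧ f ∣ q ∧ ∃ v : V, v ≠ 0 ∧ aeval Z f v = 0 := by
  induction q using UniqueFactorizationMonoid.induction_on_prime with
  | h₁ => exact absurd rfl hq
  | h₂ x hx =>
    obtain ⟨v, hv, hv0⟩ := h
    obtain ⟨u, rfl⟩ := hx
    refine absurd ?_ hv
    have h1 : aeval Z (((u⁻¹ : F[X]ˣ) : F[X]) * (u : F[X])) v = v := by rw [Units.inv_mul, map_one]; rfl
    rw [← h1, map_mul, Module.End.mul_apply, hv0, map_zero]
  | h₃ a f ha hf ih =>
    obtain ⟨v, hv, hv0⟩ := h
    rw [map_mul, Module.End.mul_apply] at hv0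
    by_cases hav : aeval Z a v = 0
    · obtain ⟨g, hg, hga, w⟩ := ih ha ⟨v, hv, hav⟩
      exact ⟨g, hg, dvd_mul_of_dvd_right hga _, w⟩
    · exact ⟨f, hf.irreducible, dvd_mul_right _ _, _, hav, hv0⟩

/-- Distinct eigen-characters give independent vectors. -/
theorem independent_of_separated {K M ι : Type*} [Field K] [AddCommGroup M] [Module K M]
    (v : ι → M) (hv : ∀ i, v i ≠ 0)
    (hsep : ∀ i j, i ≠ j → ∃ (T : M →ₗ[K] M) (c : ι → K), (∀ k, T (v k) = c k • v k) ∧ c i ≠ c j) :
    LinearIndependent K v := by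
  classical
  rw [linearIndependent_iff']
  intro s
  induction s using Finset.strongInduction with
  | H s ih =>
    intro a ha i hi
    by_cases hother : ∀ j ∈ s, j = i
    · have hs : s = {i} := Finset.eq_singleton_iff_unique_mem.2 ⟨hi, hother⟩
      rw [hs, Finset.sum_singleton, smul_eq_zero] at ha
      exact ha.resolve_right (hv i)
    push Not at hother
    obtain ⟨j, hj, hji⟩ := hother
    obtain ⟨T, c, hT, hc⟩ := hsep i j hji.symm
    have h1 : ∑ k ∈ s, (a k * (c k - c j)) • v k = 0 := by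
      have h2 : T (∑ k ∈ s, a k • v k) - c j • ∑ k ∈ s, a k • v k = 0 := by
        rw [ha, map_zero, smul_zero, sub_zero]
      rw [map_sum, Finset.smul_sum, ← Finset.sum_sub_distrib] at h2
      rw [← h2]
      refine Finset.sum_congr rfl fun k _ => ?_
      rw [map_smul, hT, smul_smul, smul_smul, ← sub_smul, mul_sub, mul_comm (c j)]
    rw [← Finset.sum_erase_add s _ hj, sub_self, mul_zero, zero_smul, add_zero] at h1
    have h3 := ih _ (Finset.erase_ssubset hj) (fun k => a k * (c k - c j)) h1 i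
      (Finset.mem_erase.2 ⟨hji.symm, hi⟩)
    exact (mul_eq_zero.1 h3).resolve_right (sub_ne_zero.2 hc)

variable {E V : Type*} [Group E] [AddCommGroup V] {p r : ℕ}

set_option maxHeartbeats 1000000 in
theorem card_le [Finite E] [hp : Fact p.Prime] [hr : Fact r.Prime] (hpr : p ≠ r) [Module (ZMod r) V]
    [Finite V] (hE : Cfsg.IsExtraspecial p E) (w : ℕ) (hEcard : Nat.card E = p ^ (2 * w + 1))
    (ρ : E →* Module.End (ZMod r) V) (z : E) (hz : z ∈ Subgroup.center E) (hzρ : ρ z ≠ 1)
    (n : ℕ) (hmin : ∀ k : ℕ, 1 ≤ k → p ∣ r ^ k - 1 → n ≤ k) :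
    r ^ (n * p ^ w) ≤ Nat.card V := by
  classical
  have hz1 : z ≠ 1 := fun h => hzρ (by rw [h, map_one])
  have hzp : z ^ p = 1 := CfsgLib.PGroup.special_center_pow hE.1 hz
  have hZ : Subgroup.center E = Subgroup.zpowers z := by
    refine (Subgroup.eq_of_le_of_card_ge (Subgroup.zpowers_le.2 hz) ?_).symm
    rw [Nat.card_zpowers, hE.2, orderOf_eq_prime hzp hz1]
  set Z : Module.End (ZMod r) V := ρ z with hZdef
  set q : (ZMod r)[X] := ∑ i ∈ Finset.range p, X ^ i with hq
  have hqX : q * (X - 1) = X ^ p - 1 := geom_sum_mul X p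
  have hp0 : (p : ZMod r) ≠ 0 := by
    rw [Ne, ZMod.natCast_eq_zero_iff, Nat.prime_dvd_prime_iff_eq hr.out hp.out]
    exact Ne.symm hpr
  have hq1 : q.eval 1 = (p : ZMod r) := by simp [hq, eval_finset_sum]
  have hq0 : q ≠ 0 := fun h => hp0 (by rw [← hq1, h, eval_zero])
  have hex : ∃ v : V, v ≠ 0 ∧ aeval Z q v = 0 := by
    obtain ⟨v, hv⟩ : ∃ v, (Z - 1) v ≠ 0 := by
      by_contra h
      push Not at h
      exact hzρ (sub_eq_zero.1 (LinearMap.ext h))
    refine ⟨(Z - 1) v, hv, ?_⟩
    have h1 : aeval Z q * (Z - 1) = 0 := by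
      have h2 := congrArg (aeval Z) hqX
      rw [map_mul, map_sub, map_sub, aeval_X, map_pow, aeval_X, map_one, hZdef, ← map_pow, hzp, map_one,
        sub_self] at h2
      exact h2
    exact congrArg (fun T : Module.End (ZMod r) V => T v) h1
  obtain ⟨f, hf, hfq, v₀, hv₀, hfv₀⟩ := exists_irreducible_factor Z q hq0 hex
  haveI := Fact.mk hf
  -- `U = ker f(z)` is invariant and a module over `K`
  set U : Submodule (ZMod r) V := LinearMap.ker (aeval Z f) with hU
  have hcomm : ∀ e : E, Commute (ρ e) Z := fun e => by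
    rw [hZdef, Commute, SemiconjBy, ← map_mul, ← map_mul, Subgroup.mem_center_iff.1 hz e]
  have hcommf : ∀ (e : E) (g : (ZMod r)[X]), Commute (ρ e) (aeval Z g) := by
    intro e g
    induction g using Polynomial.induction_on' with
    | add a b ha hb => rw [map_add]; exact ha.add_right hb
    | monomial k c =>
      rw [aeval_monomial]
      exact Commute.mul_right (Algebra.commutes c (ρ e)).symm ((hcomm e).pow_right k)
  have hinv : ∀ (e : E), ∀ x ∈ U, ρ e x ∈ U := fun e x hx => by
    rw [hU, LinearMap.mem_ker] at hx ⊢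
    rw [← Module.End.mul_apply, ← (hcommf e f).eq, Module.End.mul_apply, hx, map_zero]
  have hZU : ∀ x ∈ U, Z x ∈ U := fun x hx => hinv z x hx
  let ZU : Module.End (ZMod r) U := Z.restrict hZU
  have haev : ∀ (g : (ZMod r)[X]) (x : U), ((aeval ZU g x : U) : V) = aeval Z g x := by
    intro g
    induction g using Polynomial.induction_on' with
    | add a b ha hb => intro x; rw [map_add, map_add, LinearMap.add_apply, LinearMap.add_apply, Submodule.coe_add, ha, hb]
    | monomial k c =>
      intro x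
      have hk : ∀ (k : ℕ) (x : U), (((ZU ^ k) x : U) : V) = (Z ^ k) x := by
        intro k
        induction k with
        | zero => intro x; rfl
        | succ k ihk =>
          intro x
          rw [pow_succ', pow_succ', Module.End.mul_apply, Module.End.mul_apply, ← ihk x]
          rfl
      rw [aeval_monomial, aeval_monomial, Module.End.mul_apply, Module.End.mul_apply,
        Module.algebraMap_end_apply, Module.algebraMap_end_apply, Submodule.coe_smul, hk]
  let φ : AdjoinRoot f →+* Module.End (ZMod r) U :=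
    Ideal.Quotient.lift (Ideal.span {f}) (aeval ZU).toRingHom fun g hg => by
      obtain ⟨h, rfl⟩ := Ideal.mem_span_singleton'.1 hg
      ext x
      show ((aeval ZU (h * f) x : U) : V) = ((0 : U) : V)
      rw [haev, map_mul, Module.End.mul_apply, LinearMap.mem_ker.1 x.2, map_zero]
      rfl
  letI : Module (AdjoinRoot f) U := Module.compHom U φ
  have hsmul : ∀ (g : (ZMod r)[X]) (x : U), ((AdjoinRoot.mk f g • x : U) : V) = aeval Z g x :=
    fun g x => haev g x
  set ζ := AdjoinRoot.root f with hζ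
  have hζsmul : ∀ x : U, ((ζ • x : U) : V) = Z x := fun x => by
    rw [hζ, ← AdjoinRoot.mk_X, hsmul, aeval_X]
  -- `ζ` has order `p`
  have hqf : AdjoinRoot.mk f q = 0 := AdjoinRoot.mk_eq_zero.2 hfq
  have hsum : ∑ i ∈ Finset.range p, ζ ^ i = 0 := by
    rw [← hqf, hq, map_sum]
    exact Finset.sum_congr rfl fun i _ => by rw [map_pow, AdjoinRoot.mk_X]
  have hζp : ζ ^ p = 1 := by
    have h := geom_sum_mul ζ p
    rw [hsum, zero_mul] at h
    exact sub_eq_zero.1 h.symm
  have hζ1 : ζ ≠ 1 := fun h => hp0 <| by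
    rw [h] at hsum
    simp only [one_pow, Finset.sum_const, Finset.card_range, nsmul_eq_mul, mul_one] at hsum
    have h' : algebraMap (ZMod r) (AdjoinRoot f) (p : ZMod r) = 0 := by rw [map_natCast]; exact hsum
    exact (map_eq_zero _).1 h'
  have hζord : orderOf ζ = p := orderOf_eq_prime hζp hζ1
  set m := f.natDegree with hm
  have hKcard : Nat.card (AdjoinRoot f) = r ^ m := by
    haveI := Module.Finite.of_basis (AdjoinRoot.powerBasis hf.ne_zero).basis
    rw [Module.natCard_eq_pow_finrank (K := ZMod r), Nat.card_zmod, (AdjoinRoot.powerBasis hf.ne_zero).finrank,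
      AdjoinRoot.powerBasis_dim]
  haveI : Finite (AdjoinRoot f) := Nat.finite_of_card_ne_zero (by rw [hKcard]; exact pow_ne_zero _ hr.out.ne_zero)
  haveI : Fintype (AdjoinRoot f) := Fintype.ofFinite _
  have hnm : n ≤ m := by
    refine hmin m hf.natDegree_pos ?_
    rw [← hKcard, Nat.card_eq_fintype_card, ← hζord]
    refine orderOf_dvd_of_pow_eq_one (FiniteField.pow_card_sub_one_eq_one ζ ?_)
    intro h
    rw [h, zero_pow hp.out.ne_zero] at hζp
    exact zero_ne_one hζp
  -- the action on `U`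
  have hlin : ∀ (e : E) (a : AdjoinRoot f) (x : U),
      ρ e ((a • x : U) : V) = ((a • (⟨ρ e x, hinv e x x.2⟩ : U) : U) : V) := by
    intro e a x
    obtain ⟨g, rfl⟩ := AdjoinRoot.mk_surjective a
    rw [hsmul, hsmul, ← Module.End.mul_apply, (hcommf e g).eq, Module.End.mul_apply]
  let σ : E →* Module.End (AdjoinRoot f) U :=
    { toFun := fun e =>
        { toFun := fun x => ⟨ρ e x, hinv e x x.2⟩
          map_add' := fun x y => Subtype.ext (by simp)
          map_smul' := fun a x => Subtype.ext (hlin e a x) }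
      map_one' := by ext x; simp
      map_mul' := fun a b => by ext x; simp }
  have hσz : ∀ x : U, σ z x = ζ • x := fun x => Subtype.ext (hζsmul x).symm
  have hσzk : ∀ (k : ℕ) (x : U), σ (z ^ k) x = ζ ^ k • x := by
    intro k
    induction k with
    | zero => intro x; simp
    | succ k ihk => intro x; rw [pow_succ', map_mul, Module.End.mul_apply, ihk, hσz, pow_succ', mul_smul]
  haveI : Nontrivial U := ⟨⟨⟨v₀, hfv₀⟩, 0, fun h => hv₀ (congrArg Subtype.val h)⟩⟩
  have hσne : ∀ e, σ e ≠ 0 := by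
    intro e h
    have h1 : σ e * σ e⁻¹ = 1 := by rw [← map_mul, mul_inv_cancel, map_one]
    rw [h, zero_mul] at h1
    exact zero_ne_one h1
  -- translates by representatives of `E / Z(E)` are independent
  have hk : ∀ (g e : E), ∃ k : ℕ, ⁅g, e⁆ = z ^ k := fun g e => by
    obtain ⟨k, hk⟩ := mem_powers_iff_mem_zpowers.2 (hZ ▸ CfsgLib.PGroup.special_comm_mem_center hE.1 g e)
    exact ⟨k, hk.symm⟩
  choose κ hκ using hk
  let v : E ⧸ Subgroup.center E → Module.End (AdjoinRoot f) U := fun i => σ i.out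
  have hindep : LinearIndependent (AdjoinRoot f) v := by
    refine independent_of_separated v (fun i => hσne _) fun i j hij => ?_
    obtain ⟨g, hg⟩ : ∃ g : E, ⁅g, (i.out : E)⁆ ≠ ⁅g, (j.out : E)⁆ := by
      by_contra h
      push Not at h
      refine hij ?_
      rw [← QuotientGroup.out_eq' i, ← QuotientGroup.out_eq' j, QuotientGroup.eq]
      refine Subgroup.mem_center_iff.2 fun g => ?_
      have h' := h g
      simp only [commutatorElement_def] at h'
      calc g * (i.out⁻¹ * j.out) = g * i.out⁻¹ * g⁻¹ * (g * j.out * g⁻¹ * j.out⁻¹) * j.out * g := by group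
        _ = g * i.out⁻¹ * g⁻¹ * (g * i.out * g⁻¹ * i.out⁻¹) * j.out * g := by rw [h']
        _ = i.out⁻¹ * j.out * g := by group
    refine ⟨(LinearMap.mulLeft (AdjoinRoot f) (σ g)).comp (LinearMap.mulRight (AdjoinRoot f) (σ g⁻¹)),
      fun k => ζ ^ κ g k.out, fun k => ?_, fun hc => hg ?_⟩
    · have h1 : g * k.out * g⁻¹ = z ^ κ g k.out * k.out := by rw [← hκ, commutatorElement_def]; group
      show σ g * (σ k.out * σ g⁻¹) = ζ ^ κ g k.out • σ k.out
      rw [← map_mul, ← map_mul, ← mul_assoc, h1, map_mul]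
      ext x
      rw [Module.End.mul_apply, hσzk, LinearMap.smul_apply]
    · rw [hκ, hκ, pow_eq_pow_iff_modEq, orderOf_eq_prime hzp hz1, ← hζord]
      exact (isOfFinOrder_iff_pow_eq_one.2 ⟨p, hp.out.pos, hζp⟩).pow_eq_pow_iff_modEq.1 (show ζ ^ κ g i.out = ζ ^ κ g j.out from hc)
  haveI : Module.Finite (AdjoinRoot f) U := Module.Finite.of_finite
  haveI : Fintype (E ⧸ Subgroup.center E) := Fintype.ofFinite _
  have hd := hindep.fintype_card_le_finrank
  rw [Module.finrank_linearMap, ← Nat.card_eq_fintype_card] at hd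
  have hquot : Nat.card (E ⧸ Subgroup.center E) = p ^ (2 * w) := by
    have h := Subgroup.card_eq_card_quotient_mul_card_subgroup (Subgroup.center E)
    rw [hEcard, hE.2, pow_succ] at h
    exact (Nat.eq_of_mul_eq_mul_right hp.out.pos h).symm
  rw [hquot] at hd
  set d := Module.finrank (AdjoinRoot f) U with hd'
  have hpw : p ^ w ≤ d := by
    have h : (p ^ w) * (p ^ w) ≤ d * d := by rwa [← pow_add, ← two_mul]
    exact Nat.mul_self_le_mul_self_iff.1 h
  calc r ^ (n * p ^ w) ≤ r ^ (m * d) := Nat.pow_le_pow_right hr.out.pos (Nat.mul_le_mul hnm hpw)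
    _ = Nat.card U := by rw [Module.natCard_eq_pow_finrank (K := AdjoinRoot f) (V := U), hKcard, pow_mul]
    _ ≤ Nat.card V := Nat.card_le_card_of_injective _ Subtype.val_injective

/-- Additive form of `card_le`, without a given module structure. -/
theorem card_le_addEnd' {E V : Type*} [Group E] [Finite E] [AddCommGroup V] [Finite V] {p r : ℕ}
    [hp : Fact p.Prime] [hr : Fact r.Prime] [Module (ZMod r) V] (hpr : p ≠ r)
    (hE : Cfsg.IsExtraspecial p E) (w : ℕ) (hEcard : Nat.card E = p ^ (2 * w + 1))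
    (φ : E →* AddMonoid.End V) (z : E) (hz : z ∈ Subgroup.center E) (hzφ : φ z ≠ 1)
    (n : ℕ) (hmin : ∀ k : ℕ, 1 ≤ k → p ∣ r ^ k - 1 → n ≤ k) :
    r ^ (n * p ^ w) ≤ Nat.card V := by
  let lin : E → Module.End (ZMod r) V := fun e =>
    { toFun := φ e
      map_add' := map_add (φ e)
      map_smul' := fun c x => ZMod.map_smul (φ e) c x }
  have hlin : ∀ e (x : V), lin e x = φ e x := fun _ _ => rfl
  let ρ : E →* Module.End (ZMod r) V :=
    { toFun := lin
      map_one' := by
        refine LinearMap.ext fun x => ?_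
        rw [hlin, Module.End.one_apply, map_one]
        rfl
      map_mul' := fun a b => by
        refine LinearMap.ext fun x => ?_
        rw [hlin, Module.End.mul_apply, hlin, hlin, map_mul]
        rfl }
  have hzρ : ρ z ≠ 1 := fun h => hzφ (DFunLike.ext _ _ fun x => by
    have h1 : lin z x = (1 : Module.End (ZMod r) V) x := LinearMap.congr_fun h x
    rw [hlin, Module.End.one_apply] at h1
    exact h1)
  exact card_le hpr hE w hEcard ρ z hz hzρ n hmin

theorem card_le_addEnd {E V : Type*} [Group E] [Finite E] [AddCommGroup V] [Finite V] {p r : ℕ}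
    [hp : Fact p.Prime] [hr : Fact r.Prime] (hpr : p ≠ r) (hV : ∀ v : V, r • v = 0)
    (hE : Cfsg.IsExtraspecial p E) (w : ℕ) (hEcard : Nat.card E = p ^ (2 * w + 1))
    (φ : E →* AddMonoid.End V) (z : E) (hz : z ∈ Subgroup.center E) (hzφ : φ z ≠ 1)
    (n : ℕ) (hmin : ∀ k : ℕ, 1 ≤ k → p ∣ r ^ k - 1 → n ≤ k) :
    r ^ (n * p ^ w) ≤ Nat.card V :=
  @card_le_addEnd' E V _ _ _ _ p r _ _ (AddCommGroup.zmodModule hV) hpr hE w hEcard φ z hz hzφ n hmin

/-- Group form of `card_le`: the centre acts nontrivially on an abelian group of exponent `r`. -/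
theorem card_le_mulAut {E B : Type*} [Group E] [Finite E] [CommGroup B] [Finite B] {p r : ℕ}
    [hp : Fact p.Prime] [hr : Fact r.Prime] (hpr : p ≠ r) (hB : ∀ b : B, b ^ r = 1)
    (hE : Cfsg.IsExtraspecial p E) (w : ℕ) (hEcard : Nat.card E = p ^ (2 * w + 1))
    (φ : E →* MulAut B) (z : E) (hz : z ∈ Subgroup.center E) (hzφ : φ z ≠ 1)
    (n : ℕ) (hmin : ∀ k : ℕ, 1 ≤ k → p ∣ r ^ k - 1 → n ≤ k) :
    r ^ (n * p ^ w) ≤ Nat.card B := by
  let ψ : E →* AddMonoid.End (Additive B) :=
    { toFun := fun e => MonoidHom.toAdditive (φ e).toMonoidHom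
      map_one' := by rw [map_one]; rfl
      map_mul' := fun a b => by rw [map_mul]; rfl }
  refine (card_le_addEnd hpr ?_ hE w hEcard ψ z hz ?_ n hmin).trans_eq (Nat.card_congr Additive.toMul)
  · intro v
    apply Additive.toMul.injective
    simpa using hB (Additive.toMul v)
  · exact fun h => hzφ (MulEquiv.ext fun b =>
      Additive.ofMul.injective (DFunLike.congr_fun h (Additive.ofMul b)))

end CfsgLib.LocalEven.ExtMod
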