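import Cfsg.Agent.Lib.Cores.Components
import Cfsg.Agent.Lib.Cores.Layer2
import Cfsg.Agent.Lib.Cores.Layer
import Cfsg.Agent.Lib.Solvable.CoprimeAction

/-!
A `p`-group acting on a group equal to its generalized Fitting subgroup, with Fitting subgroup of order prime to `p`,
splits it as commutator times fixed points.
-/

set_option autoImplicit false

namespace CfsgLib.LocalEven.FStar

open Subgroup Cfsg
open scoped commutatorElement

variable {G : Type*} [Group G] [Finite G] {L Y : Subgroup G}

theorem commutator_commutator_of_split (hYL : Y ≤ normalizer (L : Set G))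
    (h : ⁅L, Y⁆ ⊔ (L ⊓ centralizer (Y : Set G)) = L) : ⁅⁅L, Y⁆, Y⁆ = ⁅L, Y⁆ := by
  refine le_antisymm (CfsgLib.Solvable.commutator_le_of_le_normalizer
    (CfsgLib.Solvable.le_normalizer_commutator_right hYL)) (commutator_le.2 fun k hk a ha => ?_)
  rw [← h, ← SetLike.mem_coe, coe_mul_of_right_le_normalizer_left _ _
    (inf_le_left.trans (CfsgLib.Solvable.le_normalizer_commutator_left L Y))] at hk
  obtain ⟨x, hx, c, hc, rfl⟩ := hk
  have h1 : c * a * c⁻¹ = a := by
    rw [← mem_centralizer_iff.1 hc.2 a ha, mul_inv_cancel_right]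
  have h2 : ⁅x * c, a⁆ = ⁅x, a⁆ := by
    calc ⁅x * c, a⁆ = x * (c * a * c⁻¹) * x⁻¹ * a⁻¹ := by rw [commutatorElement_def]; group
      _ = ⁅x, a⁆ := by rw [h1, commutatorElement_def]
  rw [h2]
  exact commutator_mem_commutator hx ha

/-- A component of `L` lies in `[L, Y]` or is centralized by `Y`. -/
theorem component_le_commutator_or_centralizer (hYL : Y ≤ normalizer (L : Set G)) {K : Subgroup ↥L}
    (hK : IsComponent K) :
    K.map L.subtype ≤ ⁅L, Y⁆ ∨ K.map L.subtype ≤ centralizer (Y : Set G) := by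
  set D := ⁅L, Y⁆ with hD
  set K' := K.map L.subtype with hK'
  have hDL : D ≤ L := CfsgLib.Solvable.commutator_le_of_le_normalizer hYL
  have hDn : (D.subgroupOf L).Normal :=
    (normal_subgroupOf_iff_le_normalizer hDL).2 (CfsgLib.Solvable.le_normalizer_commutator_left L Y)
  rcases CfsgLib.Cores.component_le_or_commutator_eq_bot hK (Normal.isSubnormal hDn) with h | h
  · exact Or.inl ((map_mono h).trans (by rw [subgroupOf_map_subtype]; exact inf_le_left))
  right
  have hKD : ⁅K', D⁆ = ⊥ := by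
    have h' := congrArg (Subgroup.map L.subtype) h
    rwa [map_commutator, subgroupOf_map_subtype, inf_eq_left.2 hDL, Subgroup.map_bot] at h'
  have hperf : ⁅K', K'⁆ = K' := by rw [hK', ← map_commutator, CfsgLib.Cores.component_commutator_self hK]
  have hcK : ∀ d ∈ D, ∀ b ∈ K', b * d = d * b := fun d hd b hb =>
    (mem_centralizer_iff.1 (commutator_eq_bot_iff_le_centralizer.1 hKD hb) d hd).symm
  have hnorm : ∀ y ∈ Y, y ∈ normalizer (K' : Set G) := by
    intro y hy
    let φ : ↥L ≃* ↥L :=
      ((MulAut.conj y).subgroupMap L).trans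
        (MulEquiv.subgroupCongr (mem_normalizer_iff_map_conj_eq.1 (hYL hy)))
    have hsn : (K.map φ.toMonoidHom).IsSubnormal := hK.1.map (f := φ.toMonoidHom) φ.surjective
    rcases CfsgLib.Cores.component_le_or_commutator_eq_bot hK hsn with hle | hbot
    · refine mem_normalizer_iff_map_conj_eq.2 ?_
      have hcard : Nat.card ↥(K.map φ.toMonoidHom) = Nat.card ↥K :=
        card_map_of_injective (f := φ.toMonoidHom) φ.injective
      have heq : K = K.map φ.toMonoidHom := Subgroup.eq_of_le_of_card_ge hle hcard.le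
      have h2 : (K.map φ.toMonoidHom).map L.subtype = K'.map (MulAut.conj y).toMonoidHom := by
        rw [hK', Subgroup.map_map, Subgroup.map_map]
        rfl
      rw [← heq] at h2
      exact h2.symm
    · exfalso
      have h3 : ⁅K', K'⁆ ≤ ⁅K', K'.map (MulAut.conj y).toMonoidHom⁆ := by
        refine commutator_le.2 fun a ha b hb => ?_
        have hd : ⁅b, y⁆ ∈ D := commutator_mem_commutator (map_subtype_le K hb) hy
        have hmem : ⁅a, y * b * y⁻¹⁆ ∈ ⁅K', K'.map (MulAut.conj y).toMonoidHom⁆ :=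
          commutator_mem_commutator ha ⟨b, hb, rfl⟩
        have hyb : y * b * y⁻¹ = ⁅b, y⁆⁻¹ * b := by rw [commutatorElement_def]; group
        have hab : ⁅a, y * b * y⁻¹⁆ = ⁅a, b⁆ := by
          rw [hyb]
          have hc : a * ⁅b, y⁆⁻¹ = ⁅b, y⁆⁻¹ * a := hcK _ (inv_mem hd) a ha
          have hc2 : ∀ z ∈ K', Commute ⁅b, y⁆⁻¹ z := fun z hz => (hcK _ (inv_mem hd) z hz).symm
          have hmemK : a * b * a⁻¹ * b⁻¹ ∈ K' :=
            mul_mem (mul_mem (mul_mem ha hb) (inv_mem ha)) (inv_mem hb)
          calc ⁅a, ⁅b, y⁆⁻¹ * b⁆ = (a * ⁅b, y⁆⁻¹) * b * a⁻¹ * b⁻¹ * ⁅b, y⁆ := by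
                rw [commutatorElement_def, mul_inv_rev, inv_inv]; group
            _ = ⁅b, y⁆⁻¹ * (a * b * a⁻¹ * b⁻¹) * ⁅b, y⁆ := by rw [hc]; group
            _ = a * b * a⁻¹ * b⁻¹ := by rw [(hc2 _ hmemK).eq]; group
            _ = ⁅a, b⁆ := (commutatorElement_def a b).symm
        rwa [hab] at hmem
      have h4 : ⁅K', K'.map (MulAut.conj y).toMonoidHom⁆ = ⊥ := by
        have h' := congrArg (Subgroup.map L.subtype) hbot
        rw [map_commutator, Subgroup.map_bot] at h'
        have h2 : (K.map φ.toMonoidHom).map L.subtype = K'.map (MulAut.conj y).toMonoidHom := by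
          rw [hK', Subgroup.map_map, Subgroup.map_map]
          rfl
        rwa [h2] at h'
      rw [hperf, h4, le_bot_iff] at h3
      exact CfsgLib.Cores.component_ne_bot hK
        ((map_eq_bot_iff_of_injective _ L.subtype_injective).1 h3)
  have hKY : ⁅K', Y⁆ ≤ K' := CfsgLib.Solvable.commutator_le_of_le_normalizer hnorm
  have h1 : ⁅⁅K', Y⁆, K'⁆ = ⊥ := by
    rw [commutator_eq_bot_iff_le_centralizer]
    intro x hx
    have hxD : x ∈ D := (commutator_mono (map_subtype_le K) le_rfl : ⁅K', Y⁆ ≤ ⁅L, Y⁆) hx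
    exact mem_centralizer_iff.2 fun k hk => hcK x hxD k hk
  have h2 : ⁅⁅K', K'⁆, Y⁆ = ⊥ :=
    commutator_commutator_eq_bot_of_rotate h1 (by rw [commutator_comm Y K']; exact h1)
  rw [hperf] at h2
  exact commutator_eq_bot_iff_le_centralizer.1 h2

/-- `L = [L, Y] C_L(Y)` when `L = F*(L)` and `|F(L)|` is prime to the order of `Y`. -/
theorem commutator_sup_centralizer (hYL : Y ≤ normalizer (L : Set G))
    (hL : generalizedFittingSubgroup ↥L = ⊤)
    (hcop : (Nat.card ↥Y).Coprime (Nat.card ↥(fittingSubgroup ↥L))) :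
    ⁅L, Y⁆ ⊔ (L ⊓ centralizer (Y : Set G)) = L := by
  refine le_antisymm (sup_le (CfsgLib.Solvable.commutator_le_of_le_normalizer hYL) inf_le_left) ?_
  conv_lhs => rw [← L.range_subtype, MonoidHom.range_eq_map, ← hL, generalizedFittingSubgroup, Subgroup.map_sup]
  refine sup_le ?_ ?_
  · rw [layer, sSup_eq_iSup', Subgroup.map_iSup]
    refine iSup_le fun K => ?_
    rcases component_le_commutator_or_centralizer hYL K.2 with h | h
    · exact h.trans le_sup_left
    · exact le_sup_of_le_right (le_inf (map_subtype_le _) h)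
  · set F := (fittingSubgroup ↥L).map L.subtype with hF
    have hFL : F ≤ L := map_subtype_le _
    have hYF : Y ≤ normalizer (F : Set G) := fun y hy => by
      refine mem_normalizer_iff_map_conj_eq.2 ?_
      let φ : ↥L ≃* ↥L :=
        ((MulAut.conj y).subgroupMap L).trans
          (MulEquiv.subgroupCongr (mem_normalizer_iff_map_conj_eq.1 (hYL hy)))
      have h1 : (fittingSubgroup ↥L).map φ.toMonoidHom = fittingSubgroup ↥L :=
        Subgroup.characteristic_iff_map_eq.1 CfsgLib.Cores.fittingSubgroup_characteristic φ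
      calc F.map (MulAut.conj y).toMonoidHom = ((fittingSubgroup ↥L).map φ.toMonoidHom).map L.subtype := by
            rw [hF, Subgroup.map_map, Subgroup.map_map]
            rfl
        _ = F := by rw [h1]
    have hs : Group.IsSolvable ↥Y ∨ Group.IsSolvable ↥F := Or.inr (by
      have := CfsgLib.Cores.isNilpotent_map (CfsgLib.Cores.isNilpotent_fittingSubgroup (G := ↥L)) L.subtype
      infer_instance)
    rw [← CfsgLib.Solvable.commutator_sup_centralizer hYF
      (by rwa [hF, card_map_of_injective L.subtype_injective]) hs]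
    exact sup_le_sup (commutator_mono hFL le_rfl) (inf_le_inf_right _ hFL)

omit [Finite G] in
private theorem fitting_normal' : (fittingSubgroup G).Normal := CfsgLib.Cores.fittingSubgroup_normal

/-- With `O_p = 1` a normal nilpotent subgroup has order prime to `p`. -/
theorem coprime_card_of_normal_nilpotent {p : ℕ} [hp : Fact p.Prime] (hO : pCore p G = ⊥) (N : Subgroup G)
    [N.Normal] (hN : Group.IsNilpotent ↥N) : (Nat.card ↥N).Coprime p := by
  rw [CfsgLib.Cores.coprime_iff_not_dvd hp.out]
  intro hd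
  obtain ⟨P⟩ : Nonempty (Sylow p ↥N) := inferInstance
  have h : Group.IsNilpotent ↥N ↔ ∀ (q : ℕ) (_ : Fact q.Prime) (P : Sylow q ↥N), (P : Subgroup ↥N).Normal :=
    (Group.isNilpotent_of_finite_tfae (G := ↥N)).out 0 3
  have hPn := h.1 hN p hp P
  have hPc : (P : Subgroup ↥N).Characteristic := P.characteristic_of_normal hPn
  have : ((P : Subgroup ↥N).map N.subtype).Normal := inferInstance
  have h1 : (P : Subgroup ↥N).map N.subtype ≤ ⊥ := hO ▸ CfsgLib.Cores.le_pCore (P.2.map _)
  rw [le_bot_iff, map_eq_bot_iff_of_injective _ N.subtype_injective] at h1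
  exact P.ne_bot_of_dvd_card hd h1

theorem coprime_card_fitting {p : ℕ} [Fact p.Prime] (hO : pCore p G = ⊥) :
    (Nat.card ↥(fittingSubgroup G)).Coprime p :=
  haveI := fitting_normal' (G := G)
  coprime_card_of_normal_nilpotent hO _ CfsgLib.Cores.isNilpotent_fittingSubgroup

/-- Splitting for a subnormal subgroup of `F*(H)` when `O_p(H) = 1`. -/
theorem split_subnormal {p : ℕ} [Fact p.Prime] {H : Subgroup G} (hO : pCore p ↥H = ⊥) (hY : IsPGroup p ↥Y)
    (hLF : L ≤ (generalizedFittingSubgroup ↥H).map H.subtype) (hLsn : (L.subgroupOf H).IsSubnormal)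
    (hYL : Y ≤ normalizer (L : Set G)) :
    ⁅L, Y⁆ ⊔ (L ⊓ centralizer (Y : Set G)) = L ∧ ⁅⁅L, Y⁆, Y⁆ = ⁅L, Y⁆ := by
  have hLH : L ≤ H := hLF.trans (map_subtype_le _)
  set L' := L.subgroupOf H with hL'
  let e : ↥L' ≃* ↥L := subgroupOfEquivOfLe hLH
  have hle : L' ≤ generalizedFittingSubgroup ↥H := fun x hx => by
    obtain ⟨y, hy, hyx⟩ := hLF hx
    rwa [← H.subtype_injective hyx]
  have htop' : generalizedFittingSubgroup ↥L' = ⊤ := by
    apply map_injective L'.subtype_injective
    rw [CfsgLib.Cores.map_generalizedFittingSubgroup_of_isSubnormal_le hLsn hle, ← MonoidHom.range_eq_map,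
      L'.range_subtype]
  have htop : generalizedFittingSubgroup ↥L = ⊤ := by
    rw [← CfsgLib.Cores.map_generalizedFittingSubgroup_equiv e, htop', map_top_of_surjective _ e.surjective]
  have hc : (Nat.card ↥(fittingSubgroup ↥L)).Coprime p := by
    rw [← CfsgLib.Cores.map_fittingSubgroup_equiv e, card_map_of_injective (f := e.toMonoidHom) e.injective,
      ← card_map_of_injective (K := fittingSubgroup ↥L') L'.subtype_injective,
      CfsgLib.Cores.fittingSubgroup_of_isSubnormal hLsn]
    exact (coprime_card_fitting hO).coprime_dvd_left (card_dvd_of_le inf_le_left)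
  have hcop : (Nat.card ↥Y).Coprime (Nat.card ↥(fittingSubgroup ↥L)) := by
    obtain ⟨n, hn⟩ := IsPGroup.iff_card.1 hY
    rw [hn]
    exact hc.symm.pow_left n
  exact ⟨commutator_sup_centralizer hYL htop hcop,
    commutator_commutator_of_split hYL (commutator_sup_centralizer hYL htop hcop)⟩

theorem map_top_eq_of {L : Subgroup G} : (⊤ : Subgroup ↥L).map L.subtype = L := by
  rw [← MonoidHom.range_eq_map, L.range_subtype]

/-- A subgroup of `F*(G)` normalized by `F*(G)` is its own generalized Fitting subgroup. -/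
theorem top_and_coprime_of_le {p : ℕ} [Fact p.Prime] (hO : pCore p G = ⊥)
    (hle : L ≤ generalizedFittingSubgroup G)
    (hn : generalizedFittingSubgroup G ≤ normalizer (L : Set G)) :
    generalizedFittingSubgroup ↥L = ⊤ ∧ (Nat.card ↥(fittingSubgroup ↥L)).Coprime p := by
  have hs : L.IsSubnormal := Subgroup.IsSubnormal.step L _ hle
    (Subgroup.Normal.isSubnormal CfsgLib.Cores.generalizedFittingSubgroup_normal)
    ((normal_subgroupOf_iff_le_normalizer hle).2 hn)
  refine ⟨map_injective L.subtype_injective ?_, ?_⟩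
  · rw [CfsgLib.Cores.map_generalizedFittingSubgroup_of_isSubnormal_le hs hle, map_top_eq_of]
  · rw [← card_map_of_injective (K := fittingSubgroup ↥L) L.subtype_injective,
      CfsgLib.Cores.fittingSubgroup_of_isSubnormal hs]
    exact (coprime_card_fitting hO).coprime_dvd_left (card_dvd_of_le inf_le_left)

/-- If `L = [L, Y]` and `L = F*(L)` with `F(L)` prime to `Y`, then the fixed points of `Y` in `L` lie in `L'`. -/
theorem inf_centralizer_le_commutator (hYL : Y ≤ normalizer (L : Set G)) (hLY : ⁅L, Y⁆ = L)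
    (hL : generalizedFittingSubgroup ↥L = ⊤)
    (hcop : (Nat.card ↥Y).Coprime (Nat.card ↥(fittingSubgroup ↥L))) :
    L ⊓ centralizer (Y : Set G) ≤ ⁅L, L⁆ := by
  classical
  have := Fintype.ofFinite ↥Y
  let c : ↥Y → ↥L → ↥L := fun q x => ⟨(q : G) * x * (q : G)⁻¹, (mem_normalizer_iff.1 (hYL q.2) x).1 x.2⟩
  let φ : ↥L →* Abelianization ↥L :=
    { toFun := fun x => ∏ q : ↥Y, Abelianization.of (c q x)
      map_one' := by
        refine Finset.prod_eq_one fun q _ => ?_
        rw [show c q 1 = 1 from Subtype.ext (by simp [c]), map_one]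
      map_mul' := fun x y => by
        rw [← Finset.prod_mul_distrib]
        refine Finset.prod_congr rfl fun q _ => ?_
        rw [← map_mul, show c q x * c q y = c q (x * y) from Subtype.ext (by simp [c, mul_assoc])] }
  have hinv : ∀ (r : ↥Y) (x : ↥L), φ (c r x) = φ x := fun r x =>
    Fintype.prod_equiv (Equiv.mulRight r) _ _ fun q => congrArg Abelianization.of
      (Subtype.ext (by simp [c, mul_assoc]))
  have hker : φ.ker.map L.subtype = L := by
    refine le_antisymm (map_subtype_le _) ?_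
    conv_lhs => rw [← hLY]
    refine commutator_le.2 fun x hx r hr => ⟨⟨x, hx⟩ * (c ⟨r, hr⟩ ⟨x, hx⟩)⁻¹, ?_, ?_⟩
    · show φ _ = 1
      rw [map_mul, map_inv, hinv, mul_inv_cancel]
    · simp [c, commutatorElement_def, mul_assoc]
  have hcard : (Nat.card (Abelianization ↥L)).Coprime (Nat.card ↥Y) := by
    refine hcop.symm.coprime_dvd_left ?_
    have h1 : (⊤ : Subgroup ↥L).map Abelianization.of = ⊤ :=
      map_top_of_surjective _ (QuotientGroup.mk'_surjective _)
    rw [← hL, generalizedFittingSubgroup, Subgroup.map_sup,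
      (Subgroup.map_eq_bot_iff (layer ↥L)).2 (CfsgLib.Cores.layer_le_iff.2 fun K hK => by
        rw [Abelianization.ker_of, ← CfsgLib.Cores.component_commutator_self hK, commutator_def]
        exact commutator_mono le_top le_top), bot_sup_eq] at h1
    rw [← Subgroup.card_top (G := Abelianization ↥L), ← h1]
    exact card_map_dvd _ _
  intro z hz
  have hzk : φ ⟨z, hz.1⟩ = 1 := by
    have : (⟨z, hz.1⟩ : ↥L) ∈ φ.ker := by
      obtain ⟨w, hw, hwz⟩ := hker.ge hz.1
      rwa [show (⟨z, hz.1⟩ : ↥L) = w from Subtype.ext hwz.symm]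
    exact this
  have hz2 : φ ⟨z, hz.1⟩ = Abelianization.of (⟨z, hz.1⟩ : ↥L) ^ Nat.card ↥Y := by
    show (∏ q : ↥Y, Abelianization.of (c q ⟨z, hz.1⟩)) = _
    rw [Finset.prod_congr rfl (fun q _ => congrArg Abelianization.of (show c q ⟨z, hz.1⟩ = ⟨z, hz.1⟩ from
      Subtype.ext (by
        show (q : G) * z * (q : G)⁻¹ = z
        rw [mem_centralizer_iff.1 hz.2 q q.2, mul_inv_cancel_right]))), Finset.prod_const, Finset.card_univ,
      Nat.card_eq_fintype_card]
  have h1 : Abelianization.of (⟨z, hz.1⟩ : ↥L) = 1 := by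
    rw [← orderOf_eq_one_iff]
    exact Nat.eq_one_of_dvd_coprimes hcard (orderOf_dvd_natCard _)
      (orderOf_dvd_of_pow_eq_one (hz2.symm.trans hzk))
  have h2 : (⟨z, hz.1⟩ : ↥L) ∈ commutator ↥L := by rwa [← Abelianization.ker_of]
  rw [← CfsgLib.Cores.map_commutator_top_le]
  exact ⟨_, h2, rfl⟩

/-- A `p`-subgroup centralizing `F*(G)` is trivial when `O_p(G) = 1`. -/
theorem eq_bot_of_centralizer {p : ℕ} [Fact p.Prime] (hO : pCore p G = ⊥) (hY : IsPGroup p ↥Y)
    (h : Y ≤ centralizer (generalizedFittingSubgroup G : Set G)) : Y = ⊥ := by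
  set F := generalizedFittingSubgroup G
  have hFn : F.Normal := CfsgLib.Cores.generalizedFittingSubgroup_normal
  have hle : Y ≤ (center ↥F).map F.subtype := by
    rw [CfsgLib.Cores.map_center_eq_inf_centralizer]
    exact le_inf (h.trans CfsgLib.Cores.centralizer_generalizedFittingSubgroup_le) h
  have hn := CfsgLib.Cores.map_center_normal F
  have hcop := coprime_card_of_normal_nilpotent hO _ (CfsgLib.Cores.isNilpotent_center_map F)
  obtain ⟨n, hn'⟩ := IsPGroup.iff_card.1 hY
  refine card_eq_one.1 ?_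
  rw [hn']
  exact Nat.eq_one_of_dvd_coprimes (hcop.pow_right n) (hn' ▸ card_dvd_of_le hle) dvd_rfl

end CfsgLib.LocalEven.FStar
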