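import Mathlib
import Cfsg.Agent.Lib.FGS.CoprimeNilpotentMaximal

/-!
An automorphism of coprime order fixing the centralizer of an involution: the involution commutes
with every element of the fixed point subgroup, modulo the core of that subgroup.

The key facts: a pair of cosets of the fixed point subgroup has a unique "midpoint" among the
fixed points of the conjugates of the involution, so conjugates with equal fixed point act equally.
-/

set_option autoImplicit false

namespace CfsgLib.LocalEven.FixedInvCent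

open Subgroup

variable {G : Type*} [Group G] [Finite G]

/-- The fixed points of an automorphism. -/
def coprimeFixed (α : MulAut G) : Subgroup G where
  carrier := {g | α g = g}
  one_mem' := map_one α
  mul_mem' {a b} (ha : α a = a) (hb : α b = b) := by
    show α (a * b) = a * b
    rw [map_mul, ha, hb]
  inv_mem' {a} (ha : α a = a) := by
    show α a⁻¹ = a⁻¹
    rw [map_inv, ha]

omit [Finite G] in
theorem mem_coprimeFixed {α : MulAut G} {g : G} : g ∈ coprimeFixed α ↔ α g = g := Iff.rfl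

variable {α : MulAut G} (hcop : (orderOf α).Coprime (Nat.card G))

include hcop in
/-- If `g⁻¹ * α g` is fixed then so is `g`. -/
theorem eq_of_fixed_left {g : G} (h : α (g⁻¹ * α g) = g⁻¹ * α g) : α g = g := by
  have key : ∀ n : ℕ, (α ^ n) g = g * (g⁻¹ * α g) ^ n := by
    intro n
    induction n with
    | zero => simp
    | succ n ih =>
      rw [pow_succ', MulAut.mul_apply, ih, map_mul, map_pow, h, pow_succ' (g⁻¹ * α g),
        ← mul_assoc g, mul_inv_cancel_left]
  have h1 := key (orderOf α)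
  rw [pow_orderOf_eq_one, MulAut.one_apply] at h1
  have h2 : (g⁻¹ * α g) ^ orderOf α = 1 := left_eq_mul.mp h1
  have h3 : g⁻¹ * α g = 1 :=
    orderOf_eq_one_iff.mp (Nat.eq_one_of_dvd_coprimes hcop (orderOf_dvd_of_pow_eq_one h2)
      (orderOf_dvd_natCard _))
  exact (inv_mul_eq_one.mp h3).symm

include hcop in
/-- If `α g * g⁻¹` is fixed then so is `g`. -/
theorem eq_of_fixed_right {g : G} (h : α (α g * g⁻¹) = α g * g⁻¹) : α g = g := by
  have h1 : α (g⁻¹) = g⁻¹ := by
    refine eq_of_fixed_left hcop ?_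
    have : (g⁻¹)⁻¹ * α g⁻¹ = (α g * g⁻¹)⁻¹ := by
      rw [map_inv]; group
    rw [this, map_inv, h]
  simpa using congrArg (·⁻¹) h1

variable {τ : G} (hτ : τ * τ = 1) (hC : centralizer ({τ} : Set G) ≤ coprimeFixed α)

include hC in
omit [Finite G] in
theorem tau_mem : τ ∈ coprimeFixed α :=
  hC (mem_centralizer_singleton_iff.mpr rfl)

include hcop hC in
/-- A conjugate of `τ` is fixed only if the conjugating element is. -/
theorem mem_of_conj_mem {g : G} (h : g * τ * g⁻¹ ∈ coprimeFixed α) : g ∈ coprimeFixed α := by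
  refine eq_of_fixed_left hcop (mem_coprimeFixed.mp (hC ?_))
  rw [mem_centralizer_singleton_iff]
  have h1 : α g * τ * (α g)⁻¹ = g * τ * g⁻¹ := by
    rw [mem_coprimeFixed, map_mul, map_mul, map_inv, mem_coprimeFixed.mp (tau_mem hC)] at h
    exact h
  calc g⁻¹ * α g * τ = g⁻¹ * (α g * τ * (α g)⁻¹) * α g := by group
    _ = g⁻¹ * (g * τ * g⁻¹) * α g := by rw [h1]
    _ = τ * (g⁻¹ * α g) := by group

include hcop hC in
/-- The normalizer of a fixed two-group containing `τ` is fixed. -/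
theorem normalizer_le {Q : Subgroup G} (hQ : Q ≤ coprimeFixed α) (hτQ : τ ∈ Q) :
    normalizer (Q : Set G) ≤ coprimeFixed α := by
  intro g hg
  exact mem_of_conj_mem hcop hC (hQ ((mem_normalizer_iff.mp hg τ).mp hτQ))

include hcop in
/-- An invariant subgroup has an invariant Sylow two-subgroup. -/
theorem exists_invariant_sylow_two (H : Subgroup G) (h : ∀ x ∈ H, α x ∈ H) :
    ∃ P : Sylow 2 H, ∀ x ∈ (P : Subgroup H), ∀ y : H, (y : G) = α x → y ∈ (P : Subgroup H) := by
  have hmap : H.map α.toMonoidHom = H := by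
    refine eq_of_le_of_card_ge ?_ (by rw [card_map_of_injective (f := α.toMonoidHom) α.injective])
    rintro _ ⟨x, hx, rfl⟩
    exact h x hx
  let β : MulAut H :=
    (H.equivMapOfInjective α.toMonoidHom α.injective).trans (MulEquiv.subgroupCongr hmap)
  have hβ : ∀ x : H, ((β x : H) : G) = α x := fun x => rfl
  have hdvd : orderOf β ∣ orderOf α := by
    refine orderOf_dvd_of_pow_eq_one ?_
    have key : ∀ (n : ℕ) (x : H), (((β ^ n) x : H) : G) = (α ^ n) x := by
      intro n
      induction n with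
      | zero => simp
      | succ n ih =>
        intro x
        rw [pow_succ', pow_succ', MulAut.mul_apply, MulAut.mul_apply, hβ, ih]
    ext x
    rw [key, pow_orderOf_eq_one, MulAut.one_apply, MulAut.one_apply]
  have : Fact (Nat.Prime 2) := ⟨Nat.prime_two⟩
  obtain ⟨P, hP⟩ := CfsgLib.FGS.NilpotentMaximal.exists_invariant_sylow
    (A := zpowers β) (G := H) (zpowers β).subtype
    (by
      rw [Nat.card_zpowers]
      exact (hcop.coprime_dvd_left hdvd).coprime_dvd_right (card_subgroup_dvd_card H))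
    (Or.inl inferInstance) 2
  refine ⟨P, fun x hx y hy => ?_⟩
  have := hP ⟨β, mem_zpowers β⟩ x hx
  have hyx : y = β x := Subtype.ext (by rw [hy, hβ])
  rw [hyx]
  exact this

include hτ in
omit [Finite G] in
theorem isPGroup_zpowers_tau : IsPGroup 2 (zpowers τ) := by
  intro x
  obtain ⟨n, hn⟩ := mem_zpowers_iff.mp x.2
  refine ⟨1, Subtype.ext ?_⟩
  rw [SubmonoidClass.coe_pow, ← hn, pow_one, pow_two, ← (Commute.refl τ).mul_zpow, hτ, one_zpow]
  rfl

include hcop hτ hC in
/-- The fixed point subgroup contains a Sylow two-subgroup of the group. -/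
theorem exists_sylow_le : ∃ S : Sylow 2 G, (S : Subgroup G) ≤ coprimeFixed α ∧ τ ∈ S := by
  have : Fact (Nat.Prime 2) := ⟨Nat.prime_two⟩
  obtain ⟨Q, ⟨hQp, hτQ, hQF⟩, hmax⟩ := Set.Finite.exists_maximal
    (s := {Q : Subgroup G | IsPGroup 2 Q ∧ τ ∈ Q ∧ Q ≤ coprimeFixed α}) (Set.toFinite _)
    ⟨zpowers τ, isPGroup_zpowers_tau hτ, mem_zpowers τ, zpowers_le.mpr (tau_mem hC)⟩
  obtain ⟨S, hS⟩ := hQp.exists_le_sylow
  refine ⟨S, ?_, hS hτQ⟩
  by_contra hne
  have hlt : Q.subgroupOf (S : Subgroup G) < ⊤ := by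
    rw [lt_top_iff_ne_top, Ne, subgroupOf_eq_top]
    exact fun h => hne (h.trans hQF)
  haveI := S.2.isNilpotent
  obtain ⟨x, hxn, hxQ⟩ := SetLike.exists_of_lt (Group.normalizerCondition_of_isNilpotent _ hlt)
  have hxN : (x : G) ∈ normalizer (Q : Set G) := by
    refine CfsgLib.Solvable.mem_normalizer_of_conj_mem fun u hu => ?_
    exact (mem_normalizer_iff.mp hxn ⟨u, hS hu⟩).mp hu
  have hV : Q ⊔ zpowers (x : G) ≤ (S : Subgroup G) := sup_le hS (zpowers_le.mpr x.2)
  have hle := hmax ⟨S.2.to_le hV, mem_sup_left hτQ,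
    sup_le hQF (zpowers_le.mpr (normalizer_le hcop hC hQF hτQ hxN))⟩ le_sup_left
  exact hxQ (mem_subgroupOf.mpr (hle (mem_sup_right (mem_zpowers _))))

include hcop hτ hC in
/-- Every invariant two-subgroup is fixed pointwise. -/
theorem le_fixed_of_invariant {P : Subgroup G} (hP : IsPGroup 2 P) (h : ∀ x ∈ P, α x ∈ P) :
    P ≤ coprimeFixed α := by
  have : Fact (Nat.Prime 2) := ⟨Nat.prime_two⟩
  obtain ⟨Q, ⟨hQp, hPQ, hQi⟩, hmax⟩ := Set.Finite.exists_maximal
    (s := {Q : Subgroup G | IsPGroup 2 Q ∧ P ≤ Q ∧ ∀ x ∈ Q, α x ∈ Q}) (Set.toFinite _)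
    ⟨P, hP, le_rfl, h⟩
  refine hPQ.trans ?_
  -- a maximal invariant two-subgroup is a Sylow subgroup
  set N := normalizer (Q : Set G)
  have hmapQ : Q.map α.toMonoidHom = Q := by
    refine eq_of_le_of_card_ge ?_ (by rw [card_map_of_injective (f := α.toMonoidHom) α.injective])
    rintro _ ⟨x, hx, rfl⟩
    exact hQi x hx
  have hNi : ∀ x ∈ N, α x ∈ N := by
    intro x hx
    refine CfsgLib.Solvable.mem_normalizer_of_conj_mem fun u hu => ?_
    rw [← hmapQ] at hu
    obtain ⟨v, hv, rfl⟩ := hu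
    have := hQi _ ((mem_normalizer_iff.mp hx v).mp hv)
    simpa using this
  obtain ⟨R, hR⟩ := exists_invariant_sylow_two hcop N hNi
  set R' := (R : Subgroup N).map N.subtype
  have hQR : Q ≤ R' := by
    haveI hnorm : (Q.subgroupOf N).Normal :=
      (normal_subgroupOf_iff_le_normalizer le_normalizer).2 le_rfl
    have h1 : Q.subgroupOf N ≤ (R : Subgroup N) := by
      obtain ⟨T, hT⟩ := (hQp.of_equiv (subgroupOfEquivOfLe le_normalizer).symm).exists_le_sylow
      obtain ⟨g, rfl⟩ := MulAction.exists_smul_eq N T R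
      rw [Sylow.coe_subgroup_smul]
      intro x hx
      rw [mem_smul_pointwise_iff_exists]
      refine ⟨g⁻¹ * x * g, hT ?_, by simp [MulAut.smul_def, mul_assoc]⟩
      simpa using hnorm.conj_mem x hx g⁻¹
    intro u hu
    exact ⟨⟨u, le_normalizer hu⟩, h1 hu, rfl⟩
  have hR'i : ∀ x ∈ R', α x ∈ R' := by
    rintro _ ⟨x, hx, rfl⟩
    exact ⟨⟨α x, hNi x x.2⟩, hR x hx _ rfl, rfl⟩
  have hRQ : R' ≤ Q := hmax ⟨R.2.map _, hPQ.trans hQR, hR'i⟩ hQR
  -- hence `Q` is Sylow in `G`
  obtain ⟨T, hT⟩ := hQp.exists_le_sylow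
  have hTQ : (T : Subgroup G) ≤ Q := by
    by_contra hne
    have hlt : Q.subgroupOf (T : Subgroup G) < ⊤ := by
      rw [lt_top_iff_ne_top, Ne, subgroupOf_eq_top]
      exact hne
    haveI := T.2.isNilpotent
    obtain ⟨x, hxn, hxQ⟩ := SetLike.exists_of_lt (Group.normalizerCondition_of_isNilpotent _ hlt)
    have hxN : (x : G) ∈ N := by
      refine CfsgLib.Solvable.mem_normalizer_of_conj_mem fun u hu => ?_
      exact (mem_normalizer_iff.mp hxn ⟨u, hT hu⟩).mp hu
    have hVT : Q ⊔ zpowers (x : G) ≤ (T : Subgroup G) := sup_le hT (zpowers_le.mpr x.2)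
    have hVN : Q ⊔ zpowers (x : G) ≤ N := sup_le le_normalizer (zpowers_le.mpr hxN)
    obtain ⟨U, hU⟩ := ((T.2.to_le hVT).of_equiv (subgroupOfEquivOfLe hVN).symm).exists_le_sylow
    have hcard : Nat.card (Q ⊔ zpowers (x : G) : Subgroup G) ≤ Nat.card Q := by
      calc Nat.card (Q ⊔ zpowers (x : G) : Subgroup G)
          = Nat.card ((Q ⊔ zpowers (x : G)).subgroupOf N) :=
            (Nat.card_congr (subgroupOfEquivOfLe hVN).toEquiv).symm
        _ ≤ Nat.card (U : Subgroup N) := card_le_of_le hU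
        _ = Nat.card (R : Subgroup N) := by rw [U.card_eq_multiplicity, R.card_eq_multiplicity]
        _ = Nat.card R' := (card_map_of_injective N.subtype_injective).symm
        _ ≤ Nat.card Q := card_le_of_le hRQ
    exact hxQ (mem_subgroupOf.mpr
      ((eq_of_le_of_card_ge le_sup_left hcard).symm ▸ mem_sup_right (mem_zpowers _)))
  obtain ⟨S, hSF, hτS⟩ := exists_sylow_le hcop hτ hC
  obtain ⟨g, hg⟩ := MulAction.exists_smul_eq G S T
  have hQT : Q = (T : Subgroup G) := le_antisymm hT hTQ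
  have hmem : ∀ s ∈ (S : Subgroup G), g * s * g⁻¹ ∈ Q := by
    intro s hs
    rw [hQT, ← hg, Sylow.coe_subgroup_smul, mem_smul_pointwise_iff_exists]
    exact ⟨s, hs, rfl⟩
  -- conjugation by `g⁻¹ * α g` carries `τ` into `S`
  have hd : g⁻¹ * α g ∈ coprimeFixed α := by
    refine mem_of_conj_mem hcop hC (hSF ?_)
    have h1 : α g * τ * (α g)⁻¹ ∈ Q := by
      have := hQi _ (hmem τ hτS)
      rwa [map_mul, map_mul, map_inv, mem_coprimeFixed.mp (tau_mem hC)] at this
    rw [hQT, ← hg, Sylow.coe_subgroup_smul, mem_smul_pointwise_iff_exists] at h1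
    obtain ⟨s, hs, hse⟩ := h1
    have hse' : g * s * g⁻¹ = α g * τ * (α g)⁻¹ := hse
    have : g⁻¹ * α g * τ * (g⁻¹ * α g)⁻¹ = s := by
      calc g⁻¹ * α g * τ * (g⁻¹ * α g)⁻¹ = g⁻¹ * (α g * τ * (α g)⁻¹) * g := by group
        _ = g⁻¹ * (g * s * g⁻¹) * g := by rw [hse']
        _ = s := by group
    rwa [this]
  have hgF : g ∈ coprimeFixed α := eq_of_fixed_left hcop hd
  intro q hq
  rw [hQT, ← hg, Sylow.coe_subgroup_smul, mem_smul_pointwise_iff_exists] at hq
  obtain ⟨s, hs, hse⟩ := hq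
  rw [← hse]
  exact mul_mem (mul_mem hgF (hSF hs)) (inv_mem hgF)

include hcop hτ hC in
/-- If a conjugate of `τ` normalizes a fixed subgroup then the conjugated subgroup is fixed. -/
theorem conj_le_of_normalizes {W : Subgroup G} (hW : W ≤ coprimeFixed α) {g : G}
    (hg : g * τ * g⁻¹ ∈ normalizer (W : Set G)) {w : G} (hw : w ∈ W) :
    g⁻¹ * w * g ∈ coprimeFixed α := by
  have : Fact (Nat.Prime 2) := ⟨Nat.prime_two⟩
  set N := normalizer (W : Set G)
  have hNi : ∀ x ∈ N, α x ∈ N := by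
    intro x hx
    refine CfsgLib.Solvable.mem_normalizer_of_conj_mem fun u hu => ?_
    have h2 := (mem_normalizer_iff.mp hx u).mp hu
    have e := mem_coprimeFixed.mp (hW h2)
    rw [map_mul, map_mul, map_inv, mem_coprimeFixed.mp (hW hu)] at e
    rw [e]; exact h2
  obtain ⟨R, hR⟩ := exists_invariant_sylow_two hcop N hNi
  have hRF : (R : Subgroup N).map N.subtype ≤ coprimeFixed α := by
    refine le_fixed_of_invariant hcop hτ hC (R.2.map _) ?_
    rintro _ ⟨x, hx, rfl⟩
    exact ⟨⟨α x, hNi x x.2⟩, hR x hx _ rfl, rfl⟩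
  set t : N := ⟨g * τ * g⁻¹, hg⟩
  have htp : IsPGroup 2 (zpowers t) := by
    refine isPGroup_zpowers_tau (τ := t) (Subtype.ext ?_)
    show g * τ * g⁻¹ * (g * τ * g⁻¹) = 1
    calc g * τ * g⁻¹ * (g * τ * g⁻¹) = g * (τ * τ) * g⁻¹ := by group
      _ = 1 := by rw [hτ]; group
  obtain ⟨U, hU⟩ := htp.exists_le_sylow
  obtain ⟨h, hh⟩ := MulAction.exists_smul_eq N U R
  have h1 : (h : G) * (g * τ * g⁻¹) * (h : G)⁻¹ ∈ coprimeFixed α := by
    refine hRF ⟨h * t * h⁻¹, ?_, rfl⟩
    rw [← hh, Sylow.coe_subgroup_smul, SetLike.mem_coe, mem_smul_pointwise_iff_exists]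
    exact ⟨t, hU (mem_zpowers t), rfl⟩
  have h2 : (h : G) * g ∈ coprimeFixed α := by
    refine mem_of_conj_mem hcop hC ?_
    have : (h : G) * g * τ * ((h : G) * g)⁻¹ = (h : G) * (g * τ * g⁻¹) * (h : G)⁻¹ := by group
    rwa [this]
  have h3 : (h : G) * w * (h : G)⁻¹ ∈ W := (mem_normalizer_iff.mp h.2 w).mp hw
  have : g⁻¹ * w * g = ((h : G) * g)⁻¹ * ((h : G) * w * (h : G)⁻¹) * ((h : G) * g) := by group
  rw [this]
  exact mul_mem (mul_mem (inv_mem h2) (hW h3)) h2

omit [Finite G] in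
theorem conj_invol {g : G} (h : τ * τ = 1) : g * τ * g⁻¹ * (g * τ * g⁻¹) = 1 := by
  calc g * τ * g⁻¹ * (g * τ * g⁻¹) = g * (τ * τ) * g⁻¹ := by group
    _ = 1 := by rw [h]; group

include hcop hτ hC in
/-- Elements fixing two cosets swapped by a conjugate of `τ` fix the fixed coset of that conjugate. -/
theorem smul_eq_of_swap {g : G} {y z : G ⧸ coprimeFixed α} (hsw : (g * τ * g⁻¹) • y = z)
    {u : G} (hy : u • y = y) (hz : u • z = z) :
    u • (g : G ⧸ coprimeFixed α) = (g : G ⧸ coprimeFixed α) := by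
  induction y using QuotientGroup.induction_on with
  | _ a =>
  set x : G ⧸ coprimeFixed α := ((1 : G) : G ⧸ coprimeFixed α) with hx
  set q : G ⧸ coprimeFixed α := a⁻¹ • z with hq
  have hax : ((a : G) : G ⧸ coprimeFixed α) = a • x := by
    rw [hx, MulAction.Quotient.smul_coe, smul_eq_mul, mul_one]
  set t := (a⁻¹ * g) * τ * (a⁻¹ * g)⁻¹ with ht
  have htt : t * t = 1 := conj_invol hτ
  have htx : t • x = q := by
    rw [hq, ← hsw, hax, smul_smul, smul_smul, ht]
    congr 1; group
  have htq : t • q = x := by rw [← htx, smul_smul, htt, one_smul]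
  set W := MulAction.stabilizer G x ⊓ MulAction.stabilizer G q
  have hW : W ≤ coprimeFixed α := by
    rintro v ⟨hv, -⟩
    have h1 : v • x = x := hv
    rw [hx, MulAction.Quotient.smul_coe, smul_eq_mul, mul_one, QuotientGroup.eq, mul_one] at h1
    simpa using inv_mem h1
  have htW : t ∈ normalizer (W : Set G) := by
    refine CfsgLib.Solvable.mem_normalizer_of_conj_mem fun v hv => ?_
    obtain ⟨hvx, hvq⟩ := hv
    have hvx' : v • x = x := hvx
    have hvq' : v • q = q := hvq
    have hti : t⁻¹ = t := inv_eq_of_mul_eq_one_right htt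
    refine ⟨?_, ?_⟩
    · show (t * v * t⁻¹) • x = x
      rw [hti, mul_smul, mul_smul, htx, hvq', htq]
    · show (t * v * t⁻¹) • q = q
      rw [hti, mul_smul, mul_smul, htq, hvx', htx]
  have huW : a⁻¹ * u * a ∈ W := by
    refine ⟨?_, ?_⟩
    · show (a⁻¹ * u * a) • x = x
      rw [mul_smul, mul_smul, ← hax, hy, hax, inv_smul_smul]
    · show (a⁻¹ * u * a) • q = q
      rw [hq, mul_smul, mul_smul, smul_inv_smul, hz]
  have key := conj_le_of_normalizes hcop hτ hC hW htW huW
  rw [show (a⁻¹ * g)⁻¹ * (a⁻¹ * u * a) * (a⁻¹ * g) = g⁻¹ * u * g by group] at key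
  rw [MulAction.Quotient.smul_coe, smul_eq_mul, QuotientGroup.eq]
  have := inv_mem key
  simpa [mul_assoc] using this

include hcop hC in
/-- A conjugate of `τ` fixes only one coset. -/
theorem coset_eq_of_smul_eq {g h : G}
    (he : (g * τ * g⁻¹) • (h : G ⧸ coprimeFixed α) = (h : G ⧸ coprimeFixed α)) :
    (h : G ⧸ coprimeFixed α) = (g : G ⧸ coprimeFixed α) := by
  rw [MulAction.Quotient.smul_coe, smul_eq_mul, QuotientGroup.eq] at he
  rw [QuotientGroup.eq]
  refine mem_of_conj_mem hcop hC ?_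
  have := inv_mem he
  simpa [mul_assoc] using this

include hcop hτ hC in
/-- Two cosets have at most one midpoint. -/
theorem midpoint_unique {g h : G} {y z : G ⧸ coprimeFixed α}
    (hg : (g * τ * g⁻¹) • y = z) (hh : (h * τ * h⁻¹) • y = z) :
    (g : G ⧸ coprimeFixed α) = (h : G ⧸ coprimeFixed α) := by
  set s := g * τ * g⁻¹
  set t := h * τ * h⁻¹
  have hs : s * s = 1 := conj_invol hτ
  have ht : t * t = 1 := conj_invol hτ
  have hsz : s • z = y := by rw [← hg, smul_smul, hs, one_smul]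
  have htz : t • z = y := by rw [← hh, smul_smul, ht, one_smul]
  have key := smul_eq_of_swap hcop hτ hC hg (u := s * t)
    (by rw [mul_smul, hh, hsz]) (by rw [mul_smul, htz, hg])
  have hfix : s • (g : G ⧸ coprimeFixed α) = (g : G ⧸ coprimeFixed α) := by
    rw [MulAction.Quotient.smul_coe, smul_eq_mul, QuotientGroup.eq]
    have : (s * g)⁻¹ * g = τ⁻¹ := by simp only [s]; group
    rw [this]
    exact inv_mem (tau_mem hC)
  have h2 : t • (g : G ⧸ coprimeFixed α) = (g : G ⧸ coprimeFixed α) := by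
    calc t • (g : G ⧸ coprimeFixed α) = (s * s * t) • (g : G ⧸ coprimeFixed α) := by
          rw [hs, one_mul]
      _ = s • (g : G ⧸ coprimeFixed α) := by rw [mul_assoc, mul_smul, key]
      _ = _ := hfix
  exact coset_eq_of_smul_eq hcop hC h2

include hcop hτ hC in
/-- Conjugates of `τ` with the same fixed coset act equally. -/
theorem smul_eq_smul {g h : G} (he : (g : G ⧸ coprimeFixed α) = (h : G ⧸ coprimeFixed α))
    (y : G ⧸ coprimeFixed α) : (g * τ * g⁻¹) • y = (h * τ * h⁻¹) • y := by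
  let f : G ⧸ coprimeFixed α → G ⧸ coprimeFixed α :=
    fun q => (Quotient.out q * τ * (Quotient.out q)⁻¹) • y
  have hinj : Function.Injective f := fun p q hpq => by
    have := midpoint_unique hcop hτ hC (y := y) (z := f q) hpq rfl
    rwa [QuotientGroup.out_eq', QuotientGroup.out_eq'] at this
  have hsurj : Function.Surjective f := Finite.injective_iff_surjective.mp hinj
  have key : ∀ k : G, (k * τ * k⁻¹) • y = f k := by
    intro k
    obtain ⟨q, hq⟩ := hsurj ((k * τ * k⁻¹) • y)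
    have := midpoint_unique hcop hτ hC (y := y) hq rfl
    rw [QuotientGroup.out_eq'] at this
    rw [← hq, this]
  rw [key g, key h, he]

include hcop hτ hC in
/-- Modulo the core, `τ` is central in the fixed point subgroup. -/
theorem commutator_mem_normalCore {f : G} (hf : f ∈ coprimeFixed α) :
    f * τ * f⁻¹ * τ ∈ (coprimeFixed α).normalCore := by
  rw [normalCore_eq_ker, MonoidHom.mem_ker]
  refine Equiv.ext fun y => ?_
  have he : (f : G ⧸ coprimeFixed α) = ((1 : G) : G ⧸ coprimeFixed α) := by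
    rw [QuotientGroup.eq, mul_one]; exact inv_mem hf
  show (f * τ * f⁻¹ * τ) • y = y
  rw [mul_smul, smul_eq_smul hcop hτ hC he, one_mul, inv_one, mul_one, smul_smul, hτ, one_smul]

end CfsgLib.LocalEven.FixedInvCent
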