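import Cfsg.Prelude.Def_LocalStructure
import Cfsg.Agent.Lib.Cores.Basic
import Cfsg.Agent.Lib.Transfer.Basic
import Cfsg.Agent.Lib.LocalEven.SubnormalSylow

/-!
`p`-closed groups, normal subgroups that are not `p`-closed, `O^p` tools.
-/

set_option autoImplicit false

namespace CfsgLib.LocalEven.PClosed

open Subgroup Cfsg CfsgLib.Cores

variable {H : Type*} [Group H] [Finite H] {p : ℕ} [hp : Fact p.Prime]

theorem iff_forall_le_pCore :
    IsPClosed p H ↔ ∀ Q : Subgroup H, IsPGroup p Q → Q ≤ pCore p H := by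
  constructor
  · intro h Q hQ
    obtain ⟨P, hP⟩ := hQ.exists_le_sylow
    haveI := h P
    exact hP.trans (le_pCore P.2)
  · intro h P
    have : (P : Subgroup H) = pCore p H := le_antisymm (h _ P.2) (pCore_le_sylow P)
    rw [this]
    infer_instance

theorem iff_sylow_le (T : Sylow p H) : IsPClosed p H ↔ (T : Subgroup H) ≤ pCore p H := by
  refine ⟨fun h => iff_forall_le_pCore.1 h _ T.2, fun h => iff_forall_le_pCore.2 fun Q hQ => ?_⟩
  obtain ⟨P, hP⟩ := hQ.exists_le_sylow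
  obtain ⟨g, hg⟩ := MulAction.exists_smul_eq H T P
  refine hP.trans (hg ▸ fun x hx => ?_)
  rw [Sylow.coe_subgroup_smul] at hx
  obtain ⟨y, hy, rfl⟩ := hx
  exact Subgroup.Normal.conj_mem inferInstance y (h hy) g

/-- A normal subgroup is `p`-closed iff its part of `T` lies in `O_p(H)`. -/
theorem iff_of_normal (T : Sylow p H) (N : Subgroup H) [N.Normal] :
    IsPClosed p ↥N ↔ (T : Subgroup H) ⊓ N ≤ pCore p H := by
  obtain ⟨Q, hQ⟩ := exists_sylow_eq_inf_of_isSubnormal T (K := N) (Subgroup.Normal.isSubnormal ‹_›)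
  rw [iff_sylow_le Q, ← Subgroup.map_subtype_le_map_subtype, pCore_of_normal p N, hQ,
    Subgroup.subgroupOf_map_subtype, le_inf_iff]
  exact and_iff_left inf_le_right

theorem le_pCore_of_normal {N : Subgroup H} [N.Normal] (h : IsPClosed p ↥N) {Q : Subgroup H}
    (hQ : IsPGroup p Q) (hQN : Q ≤ N) : Q ≤ pCore p H := by
  have h1 := Subgroup.map_mono (f := N.subtype)
    (iff_forall_le_pCore.1 h (Q.subgroupOf N) hQ.comap_subtype)
  rw [Subgroup.map_subgroupOf_eq_of_le hQN, pCore_of_normal p N] at h1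
  exact h1.trans inf_le_left

/-- Elements of order prime to `p` lie in any normal subgroup of `p`-power index. -/
theorem mem_of_coprime {N : Subgroup H} [N.Normal] (h : IsPGroup p (H ⧸ N)) {x : H}
    (hx : (orderOf x).Coprime p) : x ∈ N :=
  CfsgLib.Transfer.pResidual_le h (CfsgLib.Transfer.mem_pResidual_of_coprime hx)

/-- `N T = H` puts `O^p(H)` in `N`. -/
theorem pResidual_le_of_sup_eq_top {N : Subgroup H} [N.Normal] {T : Subgroup H} (hT : IsPGroup p T)
    (h : N ⊔ T = ⊤) : pResidual p H ≤ N := by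
  refine CfsgLib.Transfer.pResidual_le fun y => ?_
  obtain ⟨g, rfl⟩ := QuotientGroup.mk'_surjective N y
  have hg : g ∈ N ⊔ T := h ▸ Subgroup.mem_top g
  rw [Subgroup.mem_sup_of_normal_left] at hg
  obtain ⟨n, hn, t, ht, rfl⟩ := hg
  obtain ⟨k, hk⟩ := hT ⟨t, ht⟩
  have hn1 : QuotientGroup.mk' N n = 1 := (QuotientGroup.eq_one_iff n).2 hn
  refine ⟨k, ?_⟩
  rw [map_mul, hn1, one_mul, ← map_pow, show t ^ p ^ k = 1 from congrArg Subtype.val hk, map_one]

/-- `p'`-elements of `N ⊔ Q` lie in `N` for a normal `N` and a `p`-subgroup `Q`. -/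
theorem mem_of_mem_sup {N Q : Subgroup H} [N.Normal] (hQ : IsPGroup p Q) {x : H}
    (hx : x ∈ N ⊔ Q) (hxo : (orderOf x).Coprime p) : x ∈ N := by
  have h := pResidual_le_of_sup_eq_top (H := ↥(N ⊔ Q)) (N := N.subgroupOf (N ⊔ Q))
    (T := Q.subgroupOf (N ⊔ Q)) hQ.comap_subtype
    (by rw [← Subgroup.subgroupOf_sup le_sup_left le_sup_right, Subgroup.subgroupOf_self])
  exact h (CfsgLib.Transfer.mem_pResidual_of_coprime (g := (⟨x, hx⟩ : ↥(N ⊔ Q)))
    (by rwa [Subgroup.orderOf_mk]))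

theorem pResidual_le_of_le_sup {N Q : Subgroup H} [N.Normal] (hQ : IsPGroup p Q)
    (h : pResidual p H ≤ N ⊔ Q) : pResidual p H ≤ N :=
  (Subgroup.closure_le _).2 fun _ hx =>
    mem_of_mem_sup hQ (h (CfsgLib.Transfer.mem_pResidual_of_coprime hx)) hx

theorem pCore_map_mk {D : Subgroup H} [D.Normal] (hD : IsPGroup p D) :
    (pCore p (H ⧸ D)).comap (QuotientGroup.mk' D) = pCore p H := by
  refine le_antisymm (le_pCore ?_) (Subgroup.map_le_iff_le_comap.1
    (map_pCore_le _ (QuotientGroup.mk'_surjective D)))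
  exact (isPGroup_pCore p).comap_of_ker_isPGroup _ (by rwa [QuotientGroup.ker_mk'])

end CfsgLib.LocalEven.PClosed

namespace CfsgLib.LocalEven.PClosed

open Subgroup Cfsg CfsgLib.Cores

theorem congr_equiv {A B : Type*} [Group A] [Group B] [Finite A] {p : ℕ} [Fact p.Prime] (e : A ≃* B)
    (h : IsPClosed p A) : IsPClosed p B := by
  haveI : Finite B := Finite.of_equiv A e.toEquiv
  refine iff_forall_le_pCore.2 fun Q hQ x hx => ?_
  rw [← map_pCore_equiv e]
  exact ⟨e.symm x, iff_forall_le_pCore.1 h _ (hQ.map e.symm.toMonoidHom) ⟨x, hx, rfl⟩, e.apply_symm_apply x⟩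

end CfsgLib.LocalEven.PClosed
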