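import Cfsg.Prelude.Def_LocalEven
import Cfsg.Prelude.Def_LocalStructure
import Cfsg.Prelude.Def_Amalgam
import Cfsg.Agent.Lib.Cores.Basic
import Cfsg.Agent.Lib.PGroup.ElemAbelian
import Cfsg.Agent.Lib.Transfer.Basic
import Cfsg.Agent.Lib.LocalEven.SubnormalSylow

/-!
`p`-reduced normal subgroups and the largest one `Y_L`.
-/

set_option autoImplicit false

namespace CfsgLib.LocalEven.PRed

open Subgroup Cfsg CfsgLib.Cores

variable {L : Type*} [Group L] {p : ℕ}

/-- Elementwise form of `O_p(L / C_L(V)) = 1`. -/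
theorem isPReducedNormal_iff [Finite L] {V : Subgroup L} :
    IsPReducedNormal p V ↔ V.Normal ∧ IsElementaryAbelian p V ∧
      ∀ N : Subgroup L, N.Normal → (∀ x ∈ N, ∃ k : ℕ, x ^ p ^ k ∈ centralizer (V : Set L)) →
        N ≤ centralizer (V : Set L) := by
  constructor
  · rintro ⟨hVn, hVe, hC, hO⟩
    refine ⟨hVn, hVe, fun N hN hpow => ?_⟩
    haveI := hC
    haveI : (N.map (QuotientGroup.mk' (centralizer (V : Set L)))).Normal :=
      hN.map _ (QuotientGroup.mk'_surjective _)
    have hp' : IsPGroup p (N.map (QuotientGroup.mk' (centralizer (V : Set L)))) := by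
      rintro ⟨-, x, hx, rfl⟩
      obtain ⟨k, hk⟩ := hpow x hx
      refine ⟨k, Subtype.ext ?_⟩
      show ((QuotientGroup.mk' (centralizer (V : Set L))) x) ^ p ^ k = 1
      rw [← map_pow, QuotientGroup.mk'_apply, QuotientGroup.eq_one_iff]
      exact hk
    have h := pCore_eq_bot_iff.1 hO _ inferInstance hp'
    rw [Subgroup.map_eq_bot_iff, QuotientGroup.ker_mk'] at h
    exact h
  · rintro ⟨hVn, hVe, hN⟩
    haveI := hVn
    refine ⟨hVn, hVe, inferInstance, pCore_eq_bot_iff.2 fun M hM hMp => ?_⟩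
    have hle : M.comap (QuotientGroup.mk' (centralizer (V : Set L))) ≤ centralizer (V : Set L) := by
      refine hN _ (hM.comap _) fun x hx => ?_
      obtain ⟨k, hk⟩ := hMp ⟨_, hx⟩
      refine ⟨k, ?_⟩
      have h1 : ((QuotientGroup.mk' (centralizer (V : Set L))) x) ^ p ^ k = 1 :=
        congrArg Subtype.val hk
      rw [← map_pow, QuotientGroup.mk'_apply, QuotientGroup.eq_one_iff] at h1
      exact h1
    rw [← Subgroup.map_comap_eq_self_of_surjective (QuotientGroup.mk'_surjective _) M,
      Subgroup.map_eq_bot_iff, QuotientGroup.ker_mk']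
    exact hle

theorem centralizer_le_of_le {V W : Subgroup L} (h : V ≤ W) :
    centralizer (W : Set L) ≤ centralizer (V : Set L) :=
  Subgroup.centralizer_le h

theorem normal {V : Subgroup L} (h : IsPReducedNormal p V) : V.Normal := h.1

theorem elemAb {V : Subgroup L} (h : IsPReducedNormal p V) : IsElementaryAbelian p V := h.2.1

theorem le_centralizer_of_isPGroup [Finite L] {V N : Subgroup L} [N.Normal]
    (h : IsPReducedNormal p V) (hN : IsPGroup p N) : N ≤ centralizer (V : Set L) := by
  refine (isPReducedNormal_iff.1 h).2.2 N inferInstance fun x hx => ?_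
  obtain ⟨k, hk⟩ := hN ⟨x, hx⟩
  refine ⟨k, ?_⟩
  have h1 := congrArg Subtype.val hk
  rw [SubgroupClass.coe_pow] at h1
  rw [h1]
  exact one_mem _

theorem le_pCore_of [Finite L] {V : Subgroup L} (h : IsPReducedNormal p V) : V ≤ pCore p L := by
  haveI := h.1
  exact le_pCore (CfsgLib.PGroup.elemAb_isPGroup h.2.1)

theorem pCore_le_centralizer [Finite L] {V : Subgroup L} (h : IsPReducedNormal p V) :
    pCore p L ≤ centralizer (V : Set L) :=
  le_centralizer_of_isPGroup h (isPGroup_pCore p)

theorem le_center_pCore [Finite L] {V : Subgroup L} (h : IsPReducedNormal p V) :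
    V ≤ centralizer (pCore p L : Set L) :=
  Subgroup.le_centralizer_iff.1 (pCore_le_centralizer h)

/-- The join of any family of `p`-reduced normal subgroups is `p`-reduced. -/
theorem isPReducedNormal_sSup [Finite L] (S : Set (Subgroup L))
    (hS : ∀ V ∈ S, IsPReducedNormal p V) : IsPReducedNormal p (sSup S) := by
  refine sSup_normal_induction (fun V => IsPReducedNormal p V) ?_ ?_ S
    (fun V hV => ⟨(hS V hV).1, hS V hV⟩)
  · refine isPReducedNormal_iff.2 ⟨inferInstance, CfsgLib.PGroup.elemAb_bot p, fun N _ _ x _ => ?_⟩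
    rw [Subgroup.mem_centralizer_iff]
    intro y hy
    rw [SetLike.mem_coe, Subgroup.mem_bot] at hy
    rw [hy, one_mul, mul_one]
  · intro V W _ _ hV hW
    haveI := hV.1
    haveI := hW.1
    have hcomm : W ≤ centralizer (V : Set L) := (le_pCore_of hW).trans (pCore_le_centralizer hV)
    refine isPReducedNormal_iff.2 ⟨inferInstance, CfsgLib.PGroup.elemAb_sup hV.2.1 hW.2.1
      (fun a ha b hb => Subgroup.mem_centralizer_iff.1 (hcomm hb) a ha), fun N hN hpow => ?_⟩
    have hNV : N ≤ centralizer (V : Set L) := (isPReducedNormal_iff.1 hV).2.2 N hN fun x hx =>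
      (hpow x hx).imp fun k hk => centralizer_le_of_le le_sup_left hk
    have hNW : N ≤ centralizer (W : Set L) := (isPReducedNormal_iff.1 hW).2.2 N hN fun x hx =>
      (hpow x hx).imp fun k hk => centralizer_le_of_le le_sup_right hk
    rw [Subgroup.le_centralizer_iff]
    exact sup_le (Subgroup.le_centralizer_iff.1 hNV) (Subgroup.le_centralizer_iff.1 hNW)

theorem isPReducedNormal_largestPReduced [Finite L] : IsPReducedNormal p (largestPReduced p L) :=
  isPReducedNormal_sSup _ fun _ h => h

theorem le_largestPReduced {V : Subgroup L} (h : IsPReducedNormal p V) :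
    V ≤ largestPReduced p L :=
  le_sSup h

theorem eq_largestPReduced [Finite L] {Y : Subgroup L}
    (hY : IsPReducedNormal p Y ∧ ∀ V : Subgroup L, IsPReducedNormal p V → V ≤ Y) :
    Y = largestPReduced p L :=
  le_antisymm (le_largestPReduced hY.1) (hY.2 _ isPReducedNormal_largestPReduced)

/-- A normal subgroup that is a `p`-group modulo the normal subgroup `C` lies in `C (T ∩ N)`. -/
theorem le_sup_inf_sylow [Finite L] [Fact p.Prime] (T : Sylow p L) {C N : Subgroup L} [C.Normal]
    [N.Normal] (hpow : ∀ x ∈ N, ∃ k : ℕ, x ^ p ^ k ∈ C) : N ≤ C ⊔ ((T : Subgroup L) ⊓ N) := by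
  obtain ⟨P, hP⟩ := exists_sylow_eq_inf_of_isSubnormal T (K := N) (Subgroup.Normal.isSubnormal ‹_›)
  haveI : (C.subgroupOf N).Normal := Subgroup.normal_subgroupOf
  have hq : IsPGroup p (↥N ⧸ C.subgroupOf N) := by
    intro y
    obtain ⟨x, rfl⟩ := QuotientGroup.mk'_surjective (C.subgroupOf N) y
    obtain ⟨k, hk⟩ := hpow x x.2
    refine ⟨k, ?_⟩
    rw [← map_pow, QuotientGroup.mk'_apply, QuotientGroup.eq_one_iff, Subgroup.mem_subgroupOf,
      SubgroupClass.coe_pow]
    exact hk
  obtain ⟨k, hk⟩ := IsPGroup.iff_card.1 hq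
  have htop := CfsgLib.Transfer.sup_sylow_eq_top P (N := C.subgroupOf N) (k := k) hk
  intro x hx
  have hmem : (⟨x, hx⟩ : N) ∈ C.subgroupOf N ⊔ (P : Subgroup ↥N) := htop ▸ Subgroup.mem_top _
  rw [Subgroup.mem_sup_of_normal_left] at hmem
  obtain ⟨c, hc, t, ht, hct⟩ := hmem
  rw [hP, Subgroup.mem_subgroupOf] at ht
  rw [Subgroup.mem_subgroupOf] at hc
  have he : (c : L) * (t : L) = x := congrArg Subtype.val hct
  exact he ▸ Subgroup.mul_mem_sup hc (Subgroup.mem_inf.2 ⟨ht, t.2⟩)

/-- If `X` is `p`-reduced in a subgroup `R` containing a Sylow subgroup, so is its normal closure. -/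
theorem isPReducedNormal_normalClosure [Finite L] [Fact p.Prime]
    (hchar : centralizer (pCore p L : Set L) ≤ pCore p L) (T : Sylow p L) (R : Subgroup L)
    (hTR : (T : Subgroup L) ≤ R) (X : Subgroup ↥R) (hX : IsPReducedNormal p X) :
    IsPReducedNormal p (Subgroup.normalClosure ((X.map R.subtype : Subgroup L) : Set L)) := by
  set X' := X.map R.subtype with hX'
  set W := Subgroup.normalClosure (X' : Set L) with hW
  have hOR : pCore p L ≤ R := (pCore_le_sylow T).trans hTR
  have hXC : X' ≤ centralizer (pCore p L : Set L) := by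
    rintro _ ⟨x, hx, rfl⟩
    rw [Subgroup.mem_centralizer_iff]
    intro q hq
    have h := Subgroup.mem_centralizer_iff.1 (le_center_pCore hX hx) ⟨q, hOR hq⟩
      (pCore_subgroupOf_le p R hq)
    exact congrArg Subtype.val h
  have hWC : W ≤ centralizer (pCore p L : Set L) := by
    haveI : (centralizer (pCore p L : Set L)).Normal := inferInstance
    exact Subgroup.normalClosure_le_normal hXC
  have hWO : W ≤ pCore p L := hWC.trans hchar
  have hc : ∀ a ∈ W, ∀ b ∈ W, a * b = b * a := fun a ha b hb =>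
    Subgroup.mem_centralizer_iff.1 (hWC hb) a (hWO ha)
  have hexp : ∀ a ∈ W, a ^ p = 1 := by
    intro a ha
    have : W ≤ omegaOne p W := by
      haveI : (omegaOne p W).Normal := CfsgLib.PGroup.omegaOne_normal p W
      refine Subgroup.normalClosure_le_normal fun y hy => ?_
      refine CfsgLib.PGroup.mem_omegaOne (Subgroup.subset_normalClosure hy) ?_
      obtain ⟨x, hx, rfl⟩ := hy
      rw [← map_pow, (elemAb hX).2 x hx, map_one]
    exact ((CfsgLib.PGroup.mem_omegaOne_iff_of_comm hc).1 (this ha)).2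
  refine isPReducedNormal_iff.2 ⟨inferInstance, CfsgLib.PGroup.isElementaryAbelian_mk hc hexp, ?_⟩
  intro N hN hpow
  have hXW : X' ≤ W := Subgroup.subset_normalClosure
  have hCX : centralizer (W : Set L) ≤ centralizer (X' : Set L) := centralizer_le_of_le hXW
  have hNR : N.subgroupOf R ≤ centralizer (X : Set ↥R) := by
    refine (isPReducedNormal_iff.1 hX).2.2 _ (hN.subgroupOf R) fun x hx => ?_
    obtain ⟨k, hk⟩ := hpow x hx
    refine ⟨k, Subgroup.mem_centralizer_iff.2 fun y hy => Subtype.ext ?_⟩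
    simpa using Subgroup.mem_centralizer_iff.1 (hCX hk) y ⟨y, hy, rfl⟩
  have hTN : (T : Subgroup L) ⊓ N ≤ centralizer (X' : Set L) := by
    rintro t ⟨htT, htN⟩
    rw [Subgroup.mem_centralizer_iff]
    rintro _ ⟨y, hy, rfl⟩
    exact congrArg Subtype.val
      (Subgroup.mem_centralizer_iff.1 (hNR (x := ⟨t, hTR htT⟩) htN) y hy)
  have hNX : N ≤ centralizer (X' : Set L) := (le_sup_inf_sylow T hpow).trans (sup_le hCX hTN)
  have hXN : W ≤ centralizer (N : Set L) :=
    Subgroup.normalClosure_le_normal (Subgroup.le_centralizer_iff.1 hNX)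
  exact Subgroup.le_centralizer_iff.1 hXN

/-- Transfer between a subgroup and the group: `V` is `p`-reduced normal in `L₀`. -/
theorem isPReducedNormal_subgroupOf_iff {H : Type*} [Group H] {p : ℕ} {L₀ V : Subgroup H}
    [Finite L₀] (hV : V ≤ L₀) :
    IsPReducedNormal p (V.subgroupOf L₀) ↔ L₀ ≤ normalizer (V : Set H) ∧ IsElementaryAbelian p V ∧
      ∀ N : Subgroup H, N ≤ L₀ → L₀ ≤ normalizer (N : Set H) →
        (∀ x ∈ N, ∃ k : ℕ, x ^ p ^ k ∈ centralizer (V : Set H)) → N ≤ centralizer (V : Set H) := by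
  have hcent : ∀ x : L₀, x ∈ centralizer (V.subgroupOf L₀ : Set L₀) ↔ (x : H) ∈ centralizer (V : Set H) := by
    intro x
    simp only [Subgroup.mem_centralizer_iff]
    constructor
    · intro h v hv
      exact congrArg Subtype.val (h ⟨v, hV hv⟩ hv)
    · intro h v hv
      exact Subtype.ext (h v hv)
  rw [isPReducedNormal_iff]
  constructor
  · rintro ⟨hn, he, hN⟩
    refine ⟨(Subgroup.normal_subgroupOf_iff_le_normalizer hV).1 hn, ?_, fun N hNL hNn hpow x hx => ?_⟩
    · have := CfsgLib.PGroup.elemAb_map he L₀.subtype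
      rwa [Subgroup.subgroupOf_map_subtype, inf_eq_left.2 hV] at this
    · have h := hN (N.subgroupOf L₀) ((Subgroup.normal_subgroupOf_iff_le_normalizer hNL).2 hNn)
        (fun y hy => by
          obtain ⟨k, hk⟩ := hpow y hy
          exact ⟨k, (hcent _).2 (by simpa using hk)⟩)
      exact (hcent ⟨x, hNL hx⟩).1 (h hx)
  · rintro ⟨hn, he, hN⟩
    refine ⟨(Subgroup.normal_subgroupOf_iff_le_normalizer hV).2 hn,
      CfsgLib.PGroup.elemAb_subgroupOf he, fun N hNn hpow x hx => ?_⟩
    refine (hcent x).2 (hN (N.map L₀.subtype) (Subgroup.map_subtype_le _) ?_ ?_ ⟨x, hx, rfl⟩)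
    · intro g hg
      have h1 := Subgroup.le_normalizer_map (H := N) L₀.subtype
      refine h1 ⟨⟨g, hg⟩, ?_, rfl⟩
      haveI := hNn
      rw [Subgroup.normalizer_eq_top]
      exact Subgroup.mem_top _
    · rintro _ ⟨y, hy, rfl⟩
      obtain ⟨k, hk⟩ := hpow y hy
      exact ⟨k, by simpa using (hcent _).1 hk⟩

variable {H : Type*} [Group H]

theorem largestPReducedOf_le (p : ℕ) (L₀ : Subgroup H) : largestPReducedOf p L₀ ≤ L₀ :=
  Subgroup.map_subtype_le _

theorem subgroupOf_largestPReducedOf (p : ℕ) (L₀ : Subgroup H) :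
    (largestPReducedOf p L₀).subgroupOf L₀ = largestPReduced p ↥L₀ :=
  Subgroup.comap_map_eq_self_of_injective L₀.subtype_injective _

theorem isPReducedNormal_largestPReducedOf (p : ℕ) (L₀ : Subgroup H) [Finite L₀] :
    IsPReducedNormal p ((largestPReducedOf p L₀).subgroupOf L₀) := by
  rw [subgroupOf_largestPReducedOf]
  exact isPReducedNormal_largestPReduced

theorem le_largestPReducedOf {L₀ V : Subgroup H} (hV : V ≤ L₀)
    (h : IsPReducedNormal p (V.subgroupOf L₀)) : V ≤ largestPReducedOf p L₀ := by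
  have := Subgroup.map_mono (f := L₀.subtype) (le_largestPReduced h)
  rwa [Subgroup.subgroupOf_map_subtype, inf_eq_left.2 hV] at this

theorem le_normalizer_largestPReducedOf (p : ℕ) (L₀ : Subgroup H) [Finite L₀] :
    L₀ ≤ normalizer (largestPReducedOf p L₀ : Set H) :=
  ((isPReducedNormal_subgroupOf_iff (largestPReducedOf_le p L₀)).1
    (isPReducedNormal_largestPReducedOf p L₀)).1

end CfsgLib.LocalEven.PRed
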