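import Cfsg.Agent.Lib.LocalEven.PReduced
import Cfsg.Agent.Lib.LocalEven.Offender
import Cfsg.Agent.Lib.LocalEven.Basic
import Cfsg.Agent.Lib.Cores.Coprime

/-!
`Y_H` and subnormal subgroups: `C_L(Y_L) = C_L(Y_H) = C_L(Y_H ∩ L)`.
-/

set_option autoImplicit false

namespace CfsgLib.LocalEven.PRed

open Subgroup Cfsg
open scoped commutatorElement

variable {H : Type*} [Group H] [Finite H] {p : ℕ} [Fact p.Prime]

/-- A subnormal subgroup that is a `p`-group modulo the centraliser of a `p`-reduced subgroup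
centralises it. -/
theorem le_centralizer_of_isSubnormal {Y N : Subgroup H} (hY : IsPReducedNormal p Y)
    (hN : N.IsSubnormal) (hpow : ∀ x ∈ N, ∃ k : ℕ, x ^ p ^ k ∈ centralizer (Y : Set H)) :
    N ≤ centralizer (Y : Set H) := by
  obtain ⟨-, -, hn, hO⟩ := hY
  have := hn
  set π := QuotientGroup.mk' (centralizer (Y : Set H))
  have hsn : (N.map π).IsSubnormal := hN.map (QuotientGroup.mk'_surjective _)
  have hp' : IsPGroup p ↥(N.map π) := by
    rintro ⟨-, x, hx, rfl⟩
    obtain ⟨k, hk⟩ := hpow x hx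
    refine ⟨k, Subtype.ext ?_⟩
    show (π x) ^ p ^ k = 1
    rw [← map_pow, QuotientGroup.mk'_apply, QuotientGroup.eq_one_iff]
    exact hk
  have h := CfsgLib.Cores.le_pCore_of_isSubnormal hsn hp'
  rw [hO, le_bot_iff, Subgroup.map_eq_bot_iff, QuotientGroup.ker_mk'] at h
  exact h

/-- An element of `L` centralising `Y ∩ L` has a power centralising `Y ∩ M` when `L` is normal in `M`. -/
theorem pow_mem_centralizer_inf {Y L M : Subgroup H} (hYn : Y.Normal)
    (hYe : IsElementaryAbelian p Y) (hLM : L ≤ M) (hML : M ≤ normalizer (L : Set H)) {c : H}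
    (hcL : c ∈ L) (hc : c ∈ centralizer ((Y ⊓ L : Subgroup H) : Set H)) :
    c ^ p ∈ centralizer ((Y ⊓ M : Subgroup H) : Set H) := by
  rw [Subgroup.mem_centralizer_iff]
  intro y hy
  obtain ⟨hyY, hyM⟩ := Subgroup.mem_inf.1 hy
  set a := y⁻¹ * (c * y * c⁻¹) with ha
  have haY : a ∈ Y := mul_mem (inv_mem hyY) (hYn.conj_mem y hyY c)
  have haL : a ∈ L := by
    rw [ha, show y⁻¹ * (c * y * c⁻¹) = y⁻¹ * c * y⁻¹⁻¹ * c⁻¹ by group]
    exact mul_mem ((Subgroup.mem_normalizer_iff.1 (hML (inv_mem hyM)) c).1 hcL) (inv_mem hcL)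
  have hca : c * a * c⁻¹ = a := by
    rw [mul_inv_eq_iff_eq_mul]
    exact (Subgroup.mem_centralizer_iff.1 hc a (Subgroup.mem_inf.2 ⟨haY, haL⟩)).symm
  have hn : ∀ n : ℕ, c ^ n * y * (c ^ n)⁻¹ = y * a ^ n := by
    intro n
    induction n with
    | zero => simp
    | succ n ih =>
      calc c ^ (n + 1) * y * (c ^ (n + 1))⁻¹ = c * (c ^ n * y * (c ^ n)⁻¹) * c⁻¹ := by
            rw [pow_succ']; group
        _ = (c * y * c⁻¹) * (c * a ^ n * c⁻¹) := by rw [ih]; group
        _ = y * a * a ^ n := by rw [← conj_pow, hca, ha]; group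
        _ = y * a ^ (n + 1) := by rw [pow_succ', mul_assoc]
  have h1 := hn p
  rw [hYe.2 a haY, mul_one] at h1
  exact (mul_inv_eq_iff_eq_mul.1 h1).symm

/-- `C_L(Y ∩ L) ≤ C(Y)` for subnormal `L` and `p`-reduced `Y`. -/
theorem inf_centralizer_inf_le {Y : Subgroup H} (hY : IsPReducedNormal p Y) {L : Subgroup H}
    (hL : L.IsSubnormal) :
    L ⊓ centralizer ((Y ⊓ L : Subgroup H) : Set H) ≤ centralizer (Y : Set H) := by
  induction hL with
  | top => rw [inf_top_eq]; exact inf_le_right
  | step L M hLM hM hN ih =>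
    have hML := (Subgroup.normal_subgroupOf_iff_le_normalizer hLM).1 hN
    have hLs : L.IsSubnormal := .step L M hLM hM hN
    refine le_centralizer_of_isSubnormal hY (.step _ L inf_le_left hLs ?_) fun c hc => ?_
    · rw [Subgroup.normal_subgroupOf_iff_le_normalizer inf_le_left]
      intro g hg
      refine CfsgLib.LocalEven.mem_normalizer_of_conj_le ?_
      rintro _ ⟨z, hz, rfl⟩
      refine Subgroup.mem_inf.2 ⟨mul_mem (mul_mem hg hz.1) (inv_mem hg),
        Subgroup.mem_centralizer_iff.2 fun y hy => ?_⟩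
      obtain ⟨hyY, hyL⟩ := Subgroup.mem_inf.1 hy
      have h := Subgroup.mem_centralizer_iff.1 hz.2 (g⁻¹ * y * g) (Subgroup.mem_inf.2
        ⟨by simpa using hY.1.conj_mem y hyY g⁻¹, mul_mem (mul_mem (inv_mem hg) hyL) hg⟩)
      show y * (g * z * g⁻¹) = g * z * g⁻¹ * y
      calc y * (g * z * g⁻¹) = g * ((g⁻¹ * y * g) * z) * g⁻¹ := by group
        _ = g * (z * (g⁻¹ * y * g)) * g⁻¹ := by rw [h]
        _ = g * z * g⁻¹ * y := by group
    · exact ⟨1, ih (Subgroup.mem_inf.2 ⟨hLM (pow_mem hc.1 _), by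
        rw [pow_one]; exact pow_mem_centralizer_inf hY.1 hY.2.1 hLM hML hc.1 hc.2⟩)⟩

/-- `Y ∩ L` is `p`-reduced in the subnormal subgroup `L`. -/
theorem isPReducedNormal_inf {Y : Subgroup H} (hY : IsPReducedNormal p Y) {L : Subgroup H}
    (hL : L.IsSubnormal) : IsPReducedNormal p ((Y ⊓ L).subgroupOf L) := by
  have := hY.1
  refine (isPReducedNormal_subgroupOf_iff inf_le_right).2
    ⟨fun g hg => CfsgLib.LocalEven.mem_normalizer_of_conj_le ?_,
      CfsgLib.PGroup.elemAb_mono hY.2.1 inf_le_left, fun N hNL hNn hpow => ?_⟩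
  · rintro _ ⟨z, hz, rfl⟩
    exact Subgroup.mem_inf.2 ⟨hY.1.conj_mem z hz.1 g, mul_mem (mul_mem hg hz.2) (inv_mem hg)⟩
  · exact (le_centralizer_of_isSubnormal hY
      (.step N L hNL hL ((Subgroup.normal_subgroupOf_iff_le_normalizer hNL).2 hNn))
      fun x hx => (hpow x hx).imp fun k hk =>
        inf_centralizer_inf_le hY hL ⟨pow_mem (hNL hx) _, hk⟩).trans
      (centralizer_le_of_le inf_le_left)

/-- Key induction: a normal elementary abelian subgroup which is `p`-reduced with respect to the normal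
subgroup `L` is centralised by `C_L(Y_H)`. -/
theorem inf_centralizer_largest_le_aux (L : Subgroup H) [L.Normal] (n : ℕ) :
    ∀ W : Subgroup H, Nat.card W = n → W.Normal → IsElementaryAbelian p W →
      (∀ N : Subgroup H, N ≤ L → L ≤ normalizer (N : Set H) →
        (∀ x ∈ N, ∃ k : ℕ, x ^ p ^ k ∈ centralizer (W : Set H)) → N ≤ centralizer (W : Set H)) →
      L ⊓ centralizer (largestPReduced p H : Set H) ≤ centralizer (W : Set H) := by
  induction n using Nat.strong_induction_on with
  | _ n ih =>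
    intro W hn hWn hWe hred
    have := hWn
    set C := centralizer (W : Set H) with hC
    set π := QuotientGroup.mk' C with hπ
    set P := (Cfsg.pCore p (H ⧸ C)).comap π with hP
    have hPpow : ∀ x ∈ P, ∃ k : ℕ, x ^ p ^ k ∈ C := by
      intro x hx
      obtain ⟨k, hk⟩ := CfsgLib.Cores.isPGroup_pCore p ⟨π x, hx⟩
      refine ⟨k, (QuotientGroup.eq_one_iff _).1 ?_⟩
      show π (x ^ p ^ k) = 1
      rw [map_pow]
      exact congrArg Subtype.val hk
    have hPn : P.Normal := (inferInstance : (Cfsg.pCore p (H ⧸ C)).Normal).comap π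
    by_cases hPC : P ≤ C
    · have hWred : IsPReducedNormal p W := ⟨hWn, hWe, inferInstance, by
        rw [← Subgroup.map_comap_eq_self_of_surjective (QuotientGroup.mk'_surjective C) (Cfsg.pCore p (H ⧸ C)),
          Subgroup.map_eq_bot_iff, QuotientGroup.ker_mk']
        exact hPC⟩
      exact inf_le_right.trans (centralizer_le_of_le (le_largestPReduced hWred))
    obtain ⟨T⟩ : Nonempty (Sylow p H) := inferInstance
    set B := (T : Subgroup H) ⊓ P with hB
    have hPCB : P ≤ C ⊔ B := le_sup_inf_sylow T hPpow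
    set W₀ := W ⊓ centralizer (P : Set H) with hW₀
    have hW₀n : W₀.Normal := inferInstance
    have hfixB : ∀ v ∈ W, (∀ b ∈ B, b * v = v * b) → v ∈ W₀ := by
      intro v hv hb
      refine Subgroup.mem_inf.2 ⟨hv, Subgroup.mem_centralizer_iff.2 fun y hy => ?_⟩
      have hy' : y ∈ (C ⊔ B : Subgroup H) := hPCB hy
      rw [Subgroup.mem_sup_of_normal_left] at hy'
      obtain ⟨c, hc, b, hbB, rfl⟩ := hy'
      have h1 : Commute v c := (Subgroup.mem_centralizer_iff.1 hc v hv)
      exact (h1.mul_right (hb b hbB).symm).eq.symm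
    have hlt : W₀ < W := lt_of_le_of_ne inf_le_left fun h => hPC fun y hy => by
      refine Subgroup.mem_centralizer_iff.2 fun v hv => ?_
      have hv' : v ∈ W₀ := h.ge hv
      exact (Subgroup.mem_centralizer_iff.1 (Subgroup.mem_inf.1 hv').2 y hy).symm
    have hcardlt : Nat.card W₀ < n := by
      rw [← hn]
      exact lt_of_le_of_ne (Subgroup.card_le_of_le hlt.le) fun h =>
        hlt.ne (Subgroup.eq_of_le_of_card_ge hlt.le h.ge)
    -- `L` commutes with `P` modulo `C`
    have hPL : P ⊓ L ≤ C := hred (P ⊓ L) inf_le_right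
      (by rw [Subgroup.normalizer_eq_top]; exact le_top) fun x hx => hPpow x hx.1
    have hkey : L ⊓ centralizer (W₀ : Set H) ≤ C := by
      refine hred _ inf_le_left (by rw [Subgroup.normalizer_eq_top]; exact le_top) fun x hx => ?_
      obtain ⟨k, m, hm, hkm⟩ := Nat.exists_eq_pow_mul_and_not_dvd (orderOf_pos x).ne' p (Fact.out : p.Prime).ne_one
      refine ⟨k, CfsgLib.LocalEven.Offender.mem_centralizer_of_fixed hWe (B := B) (T.2.to_le inf_le_left)
        ?_ (fun b hb => hPL ?_) fun v hv hb => ?_⟩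
      · rw [orderOf_pow' x (pow_ne_zero _ (Fact.out : p.Prime).ne_zero), hkm,
          Nat.gcd_eq_right (dvd_mul_right _ _), Nat.mul_div_cancel_left _ (pow_pos (Fact.out : p.Prime).pos k)]
        exact ((Fact.out : p.Prime).coprime_iff_not_dvd.2 hm).symm
      · have hxL : x ^ p ^ k ∈ L := pow_mem hx.1 _
        rw [commutatorElement_def]
        refine Subgroup.mem_inf.2 ⟨?_, ?_⟩
        · rw [mul_assoc, mul_assoc]
          refine mul_mem hb.2 ?_
          rw [← mul_assoc]
          exact hPn.conj_mem _ (inv_mem hb.2) _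
        · exact mul_mem ((inferInstance : L.Normal).conj_mem _ hxL b) (inv_mem hxL)
      · exact ((Subgroup.mem_centralizer_iff.1 (pow_mem hx.2 _) v (hfixB v hv hb))).symm
    refine fun x hx => hkey ⟨hx.1, ih _ hcardlt W₀ rfl hW₀n (CfsgLib.PGroup.elemAb_mono hWe inf_le_left) ?_ hx⟩
    intro N hNL hNn hpow
    refine (hred N hNL hNn fun y hy => (hpow y hy).imp fun k hk => hkey ⟨pow_mem (hNL hy) _, hk⟩).trans ?_
    exact centralizer_le_of_le inf_le_left

omit [Fact p.Prime] in
theorem isPReducedNormal_map {G' : Type*} [Group G'] [Finite G'] {f : G' ≃* H} {V : Subgroup G'}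
    (h : IsPReducedNormal p V) : IsPReducedNormal p (V.map f.toMonoidHom) := by
  obtain ⟨hn, he, hN⟩ := isPReducedNormal_iff.1 h
  have hcent : ∀ x, x ∈ centralizer (V : Set G') ↔ f x ∈ centralizer ((V.map f.toMonoidHom : Subgroup H) : Set H) := by
    intro x
    simp only [Subgroup.mem_centralizer_iff]
    constructor
    · rintro hx _ ⟨v, hv, rfl⟩
      show f v * f x = f x * f v
      rw [← map_mul, ← map_mul, hx v hv]
    · intro hx v hv
      exact f.injective (by rw [map_mul, map_mul]; exact hx (f v) ⟨v, hv, rfl⟩)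
  refine isPReducedNormal_iff.2 ⟨hn.map _ f.surjective, CfsgLib.PGroup.elemAb_map he _, fun N hNn hpow x hx => ?_⟩
  obtain ⟨y, rfl⟩ := f.surjective x
  exact (hcent y).1 (hN (N.comap f.toMonoidHom) (hNn.comap _)
    (fun z hz => (hpow (f z) hz).imp fun k hk => (hcent _).2 (by rwa [map_pow])) hx)

/-- `C_L(Y_H) ≤ C(Y_L)` for normal `L`. -/
theorem inf_centralizer_largest_le_of_normal (L : Subgroup H) [hLn : L.Normal] :
    L ⊓ centralizer (largestPReduced p H : Set H) ≤ centralizer (largestPReducedOf p L : Set H) := by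
  have hle := largestPReducedOf_le p L
  obtain ⟨-, he, hN⟩ := (isPReducedNormal_subgroupOf_iff hle).1 (isPReducedNormal_largestPReducedOf p L)
  refine inf_centralizer_largest_le_aux L _ _ rfl ⟨fun v hv g => ?_⟩ he hN
  obtain ⟨w, hw, rfl⟩ := hv
  let e : ↥L ≃* ↥L :=
    { toFun := fun a => ⟨g * a * g⁻¹, hLn.conj_mem _ a.2 g⟩
      invFun := fun a => ⟨g⁻¹ * a * g, by simpa using hLn.conj_mem _ a.2 g⁻¹⟩
      left_inv := fun a => Subtype.ext (by simp [mul_assoc])
      right_inv := fun a => Subtype.ext (by simp [mul_assoc])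
      map_mul' := fun a b => Subtype.ext (by simp [mul_assoc]) }
  exact ⟨e w, le_largestPReduced (isPReducedNormal_map (f := e) isPReducedNormal_largestPReduced)
    ⟨w, hw, rfl⟩, rfl⟩

/-- `Y` of a subgroup computed inside an intermediate subgroup. -/
theorem map_largestPReducedOf_subgroupOf {L M : Subgroup H} (hLM : L ≤ M) :
    (largestPReducedOf p (L.subgroupOf M)).map M.subtype = largestPReducedOf p L := by
  let e : ↥(L.subgroupOf M) ≃* ↥L := Subgroup.subgroupOfEquivOfLe hLM
  have h : (largestPReduced p ↥(L.subgroupOf M)).map e.toMonoidHom = largestPReduced p ↥L := by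
    refine le_antisymm (le_largestPReduced (isPReducedNormal_map isPReducedNormal_largestPReduced)) fun x hx => ?_
    refine ⟨e.symm x, le_largestPReduced (isPReducedNormal_map (f := e.symm) isPReducedNormal_largestPReduced)
      ⟨x, hx, rfl⟩, e.apply_symm_apply x⟩
  rw [largestPReducedOf, largestPReducedOf, ← h, Subgroup.map_map, Subgroup.map_map]
  rfl

/-- `C_L(Y_H) ≤ C(Y_L)` for subnormal `L`. -/
theorem inf_centralizer_largest_le {L : Subgroup H} (hL : L.IsSubnormal) :
    L ⊓ centralizer (largestPReduced p H : Set H) ≤ centralizer (largestPReducedOf p L : Set H) := by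
  induction hL with
  | top =>
    refine inf_le_right.trans (centralizer_le_of_le ?_)
    refine fun x hx => ?_
    obtain ⟨w, hw, rfl⟩ := hx
    exact le_largestPReduced (isPReducedNormal_map (f := Subgroup.topEquiv) isPReducedNormal_largestPReduced)
      ⟨w, hw, rfl⟩
  | step L M hLM _ hN ih =>
    intro x hx
    have hxM : x ∈ centralizer (largestPReducedOf p M : Set H) := ih ⟨hLM hx.1, hx.2⟩
    have hxM' : (⟨x, hLM hx.1⟩ : M) ∈ centralizer (largestPReduced p ↥M : Set M) :=
      Subgroup.mem_centralizer_iff.2 fun y hy =>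
        Subtype.ext (Subgroup.mem_centralizer_iff.1 hxM y ⟨y, hy, rfl⟩)
    have := hN
    have h1 := inf_centralizer_largest_le_of_normal (p := p) (L.subgroupOf M)
      (show (⟨x, hLM hx.1⟩ : M) ∈ _ from ⟨hx.1, hxM'⟩)
    rw [← map_largestPReducedOf_subgroupOf hLM, Subgroup.mem_centralizer_iff]
    rintro _ ⟨y, hy, rfl⟩
    exact congrArg Subtype.val (Subgroup.mem_centralizer_iff.1 h1 y hy)

/-- Elements of order dividing `p` which commute among themselves and are centralised by the part of a
Sylow subgroup centralising `Y_L` lie in `Y_L`. -/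
theorem le_largestPReduced_of_centralized (hchar : centralizer (pCore p H : Set H) ≤ pCore p H)
    (T : Sylow p H) (X : Subgroup H) (hexp : ∀ x ∈ X, x ^ p = 1)
    (hX : X ≤ centralizer (((T : Subgroup H) ⊓ centralizer (largestPReduced p H : Set H) : Subgroup H) : Set H)) :
    X ≤ largestPReduced p H := by
  set Y := largestPReduced p H with hY
  have hYr : IsPReducedNormal p Y := isPReducedNormal_largestPReduced
  have := hYr.1
  set T₀ := (T : Subgroup H) ⊓ centralizer (Y : Set H) with hT₀
  have hOT : pCore p H ≤ T₀ := le_inf (CfsgLib.Cores.pCore_le_sylow T) (pCore_le_centralizer hYr)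
  have hXO : X ≤ centralizer (pCore p H : Set H) := hX.trans (Subgroup.centralizer_le hOT)
  set W := Subgroup.normalClosure (X : Set H) with hW
  have hWC : W ≤ centralizer (pCore p H : Set H) := Subgroup.normalClosure_le_normal hXO
  have hWO : W ≤ pCore p H := hWC.trans hchar
  set V := W ⊔ Y with hV
  have hWY : ∀ a ∈ W, ∀ b ∈ Y, a * b = b * a := fun a ha b hb =>
    Subgroup.mem_centralizer_iff.1 (le_center_pCore hYr hb) a (hWO ha)
  have hWe : IsElementaryAbelian p W := by
    have hc : ∀ a ∈ W, ∀ b ∈ W, a * b = b * a := fun a ha b hb =>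
      Subgroup.mem_centralizer_iff.1 (hWC hb) a (hWO ha)
    refine CfsgLib.PGroup.isElementaryAbelian_mk hc fun a ha => ?_
    have : W ≤ omegaOne p W := by
      have : (omegaOne p W).Normal := CfsgLib.PGroup.omegaOne_normal p W
      exact Subgroup.normalClosure_le_normal fun y hy =>
        CfsgLib.PGroup.mem_omegaOne (Subgroup.subset_normalClosure hy) (hexp y hy)
    exact ((CfsgLib.PGroup.mem_omegaOne_iff_of_comm hc).1 (this ha)).2
  have hVr : IsPReducedNormal p V := by
    refine isPReducedNormal_iff.2 ⟨inferInstance, CfsgLib.PGroup.elemAb_sup hWe hYr.2.1 hWY, fun N hN hpow => ?_⟩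
    have hVc : centralizer (V : Set H) ≤ centralizer (X : Set H) :=
      centralizer_le_of_le (le_trans (b := W) (fun y hy => Subgroup.subset_normalClosure hy) le_sup_left)
    have hNY : N ≤ centralizer (Y : Set H) := (isPReducedNormal_iff.1 hYr).2.2 N hN fun x hx =>
      (hpow x hx).imp fun k hk => centralizer_le_of_le le_sup_right hk
    have hNX : N ≤ centralizer (X : Set H) := (le_sup_inf_sylow T hpow).trans
      (sup_le hVc ((show (T : Subgroup H) ⊓ N ≤ T₀ from inf_le_inf_left _ hNY).trans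
        (Subgroup.le_centralizer_iff.1 hX)))
    rw [Subgroup.le_centralizer_iff]
    exact sup_le (Subgroup.normalClosure_le_normal (Subgroup.le_centralizer_iff.1 hNX))
      (Subgroup.le_centralizer_iff.1 hNY)
  exact (le_trans (b := W) (fun y hy => Subgroup.subset_normalClosure hy) (le_sup_left (b := Y))).trans (le_largestPReduced hVr)

end CfsgLib.LocalEven.PRed
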