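import Cfsg.Agent.Lib.LocalEven.WeaklyClosed
import Cfsg.Agent.Lib.LocalEven.PReduced
import Cfsg.Agent.Lib.LocalEven.PReducedSubnormal
import Cfsg.Agent.Lib.LocalEven.PClosed
import Cfsg.Agent.Lib.LocalEven.CoreOf
import Cfsg.Agent.Lib.LocalEven.CharP

/-!
The family `𝔐` (basic property): the dagger subgroup `M C(Y_M)`, `O_p(M)` as a Sylow subgroup of `C(Y_M)`,
and the consequences of asymmetry of `Y_M`.
-/

set_option autoImplicit false

namespace CfsgLib.LocalEven.FrakM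

open Subgroup Cfsg

variable {G : Type*} [Group G] [Finite G] {p : ℕ} [hp : Fact p.Prime]

/-- Parabolic subgroups with nontrivial `p`-core are in `𝓛_G`. -/
def ParabolicCharP (p : ℕ) (G : Type*) [Group G] : Prop :=
  ∀ R : Subgroup G, Cfsg.IsParabolic p R → Cfsg.pCore p ↥R ≠ ⊥ → R ∈ Cfsg.charPSubgroups p G

omit [Finite G] hp in
theorem pCore_ne_bot_iff {R : Subgroup G} : Cfsg.pCore p ↥R ≠ ⊥ ↔ Cfsg.pCoreOf p R ≠ ⊥ :=
  (Subgroup.map_eq_bot_iff_of_injective _ R.subtype_injective).not.symm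

omit [Finite G] hp in
theorem hasCharP_of_mem {L : Subgroup G} (hL : L ∈ Cfsg.charPSubgroups p G) : HasCharP p ↥L := by
  intro x hx
  obtain ⟨y, hy, hyx⟩ := hL.2 (Subgroup.mem_centralizer_iff.2 (by
    rintro _ ⟨v, hv, rfl⟩
    exact congrArg Subtype.val (Subgroup.mem_centralizer_iff.1 hx v hv)) : (x : G) ∈ _)
  rwa [← Subtype.ext hyx]

omit hp in
theorem exists_max {L : Subgroup G} (hL : L ∈ Cfsg.charPSubgroups p G) :
    ∃ X ∈ Cfsg.maxCharPSubgroups p G, L ≤ X := by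
  obtain ⟨X, hLX, hX⟩ := Finite.exists_le_maximal (p := fun X => X ∈ Cfsg.charPSubgroups p G) hL
  exact ⟨X, ⟨hX.1, fun K hK hXK => le_antisymm (hX.2 hK hXK) hXK⟩, hLX⟩

omit hp in
theorem le_dagger {M R : Subgroup G} (hM : Cfsg.IsInFrakM p M) (hR : R ∈ Cfsg.charPSubgroups p G)
    (hMR : M ≤ R) : R ≤ M ⊔ centralizer (Cfsg.largestPReducedOf p M : Set G) := by
  obtain ⟨X, hX, hRX⟩ := exists_max hR
  rwa [hM.2.2.1 X hX (hMR.trans hRX)] at hRX

theorem largest_ne_bot {L : Subgroup G} (hL : L ∈ Cfsg.charPSubgroups p G) :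
    Cfsg.largestPReducedOf p L ≠ ⊥ := by
  have hc := hasCharP_of_mem hL
  obtain ⟨T⟩ := (Sylow.nonempty : Nonempty (Sylow p ↥L))
  obtain ⟨⟨x, hx⟩, hx1⟩ := Subgroup.ne_bot_iff_exists_ne_one.1 hL.1
  have hdvd : p ∣ Nat.card (⊤ : Subgroup ↥L) := by
    obtain ⟨k, hk⟩ := IsPGroup.iff_card.1 (CfsgLib.Cores.isPGroup_pCore (G := ↥L) p)
    rcases k with _ | k
    · exact absurd (Subgroup.eq_bot_of_card_eq _ (by simpa using hk)) hL.1
    · rw [Subgroup.card_top]
      exact (dvd_pow_self p k.succ_ne_zero).trans (hk ▸ Subgroup.card_subgroup_dvd_card _)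
  obtain ⟨z, -, hzT, hzo, hzc⟩ := CfsgLib.LocalEven.exists_orderOf_inf_center_sylow T (K := ⊤) hdvd
  intro hbot
  have hb : Cfsg.largestPReduced p ↥L = ⊥ :=
    (Subgroup.map_eq_bot_iff_of_injective _ L.subtype_injective).1 hbot
  have hle : zpowers z ≤ Cfsg.largestPReduced p ↥L := by
    refine CfsgLib.LocalEven.PRed.le_largestPReduced_of_centralized hc T _ ?_ ?_
    · intro a ha
      obtain ⟨i, rfl⟩ := Subgroup.mem_zpowers_iff.1 ha
      rw [← zpow_natCast, zpow_comm, zpow_natCast, ← hzo, pow_orderOf_eq_one, one_zpow]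
    · exact Subgroup.zpowers_le.2 (Subgroup.mem_centralizer_iff.2 fun t ht => hzc t ht.1)
  rw [hb, le_bot_iff, Subgroup.zpowers_eq_bot] at hle
  rw [hle, orderOf_one] at hzo
  exact hp.out.ne_one hzo.symm

omit hp in
theorem largest_le_pCoreOf {L : Subgroup G} : Cfsg.largestPReducedOf p L ≤ Cfsg.pCoreOf p L :=
  Subgroup.map_mono (CfsgLib.LocalEven.PRed.le_pCore_of CfsgLib.LocalEven.PRed.isPReducedNormal_largestPReduced)

omit hp in
theorem pCoreOf_le_centralizer (L : Subgroup G) :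
    Cfsg.pCoreOf p L ≤ centralizer (Cfsg.largestPReducedOf p L : Set G) := by
  rintro _ ⟨x, hx, rfl⟩
  refine Subgroup.mem_centralizer_iff.2 ?_
  rintro _ ⟨y, hy, rfl⟩
  exact congrArg Subtype.val (Subgroup.mem_centralizer_iff.1
    (CfsgLib.LocalEven.PRed.pCore_le_centralizer CfsgLib.LocalEven.PRed.isPReducedNormal_largestPReduced hx) y hy)

omit [Finite G] hp in
theorem pCore_ne_bot_of_le {R N : Subgroup G} (hN : IsPGroup p N) (hN1 : N ≠ ⊥) (hNR : N ≤ R)
    (h : R ≤ normalizer (N : Set G)) : Cfsg.pCore p ↥R ≠ ⊥ :=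
  pCore_ne_bot_iff.2 fun hb => hN1 (le_bot_iff.1 (hb ▸ CfsgLib.LocalEven.le_pCoreOf hNR hN h))

section

variable {M : Subgroup G} (S : Sylow p G) (hSM : (S : Subgroup G) ≤ M) (hM : Cfsg.IsInFrakM p M)

include S hSM hM

theorem pCoreOf_le_sylow : Cfsg.pCoreOf p M ≤ (S : Subgroup G) := by
  rintro _ ⟨y, hy, rfl⟩
  exact Subgroup.mem_subgroupOf.1 (CfsgLib.Cores.pCore_le_sylow (S.subtype hSM) hy)

theorem normalizer_largest (hpc : ParabolicCharP p G) :
    normalizer (Cfsg.largestPReducedOf p M : Set G) =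
      M ⊔ centralizer (Cfsg.largestPReducedOf p M : Set G) := by
  have hMN := CfsgLib.LocalEven.PRed.le_normalizer_largestPReducedOf p M
  refine le_antisymm (le_dagger hM (hpc _ ⟨S, hSM.trans hMN⟩ ?_) hMN)
    (sup_le hMN (Subgroup.centralizer_le_normalizer _))
  exact pCore_ne_bot_of_le ((CfsgLib.LocalEven.isPGroup_pCoreOf p M).to_le largest_le_pCoreOf)
    (largest_ne_bot hM.1) Subgroup.le_normalizer le_rfl

omit hp in
theorem normalizer_pCoreOf_le (hpc : ParabolicCharP p G) :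
    normalizer (Cfsg.pCoreOf p M : Set G) ≤ M ⊔ centralizer (Cfsg.largestPReducedOf p M : Set G) := by
  have hMN := CfsgLib.LocalEven.le_normalizer_pCoreOf p M
  refine le_dagger hM (hpc _ ⟨S, hSM.trans hMN⟩ ?_) hMN
  exact pCore_ne_bot_of_le (CfsgLib.LocalEven.isPGroup_pCoreOf p M) (pCore_ne_bot_iff.1 hM.1.1)
    Subgroup.le_normalizer le_rfl

/-- `O_p(M)` is a Sylow subgroup of `C(Y_M)`. -/
theorem eq_of_le_centralizer {R : Subgroup G} (hR : IsPGroup p R) (hPR : Cfsg.pCoreOf p M ≤ R)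
    (hRC : R ≤ centralizer (Cfsg.largestPReducedOf p M : Set G)) : R = Cfsg.pCoreOf p M := by
  set C := centralizer (Cfsg.largestPReducedOf p M : Set G) with hC
  set N := normalizer (Cfsg.largestPReducedOf p M : Set G) with hN
  have hMN : M ≤ N := CfsgLib.LocalEven.PRed.le_normalizer_largestPReducedOf p M
  have hCN : C ≤ N := Subgroup.centralizer_le_normalizer _
  haveI : (C.subgroupOf N).Normal := by
    refine Subgroup.normal_subgroupOf_of_le_normalizer fun n hn => ?_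
    refine CfsgLib.LocalEven.mem_normalizer_of_conj_le ?_
    rintro _ ⟨c, hc, rfl⟩
    refine Subgroup.mem_centralizer_iff.2 fun v hv => ?_
    have h4 := Subgroup.mem_centralizer_iff.1 hc (n⁻¹ * v * n)
      ((Subgroup.mem_normalizer_iff''.1 hn v).1 hv)
    show v * (n * c * n⁻¹) = n * c * n⁻¹ * v
    calc v * (n * c * n⁻¹) = n * ((n⁻¹ * v * n) * c) * n⁻¹ := by group
      _ = n * (c * (n⁻¹ * v * n)) * n⁻¹ := by rw [h4]
      _ = n * c * n⁻¹ * v := by group
  haveI : ((M ⊓ C).subgroupOf M).Normal := by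
    have : (M ⊓ C).subgroupOf M = ((C.subgroupOf N).comap (Subgroup.inclusion hMN)) := by
      ext x
      simp [Subgroup.mem_subgroupOf]
    rw [this]
    infer_instance
  have hcl : Cfsg.IsPClosed p ↥((M ⊓ C).subgroupOf M) :=
    CfsgLib.LocalEven.PClosed.congr_equiv (Subgroup.subgroupOfEquivOfLe inf_le_left).symm hM.2.2.2.2.1
  have hSC : (S : Subgroup G) ⊓ C ≤ Cfsg.pCoreOf p M := by
    have h1 := CfsgLib.LocalEven.PClosed.le_pCore_of_normal hcl
      (Q := ((S : Subgroup G) ⊓ C).subgroupOf M) (S.2.to_le inf_le_left).comap_subtype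
      (Subgroup.comap_mono (le_inf (inf_le_left.trans hSM) inf_le_right))
    intro x hx
    exact ⟨⟨x, hSM hx.1⟩, h1 hx, rfl⟩
  obtain ⟨U, hU⟩ := (hR.comap_subtype (K := N)).exists_le_sylow
  obtain ⟨n, hn⟩ := MulAction.exists_smul_eq ↥N U (S.subtype (hSM.trans hMN))
  have hle : R.map (MulAut.conj (n : G)).toMonoidHom ≤ (S : Subgroup G) ⊓ C := by
    rintro _ ⟨r, hr, rfl⟩
    refine Subgroup.mem_inf.2 ⟨?_, ?_⟩
    · have h1 : (⟨r, hCN (hRC hr)⟩ : ↥N) ∈ (U : Subgroup ↥N) := hU hr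
      have h2 : n * ⟨r, hCN (hRC hr)⟩ * n⁻¹ ∈ ((n • U : Sylow p ↥N) : Subgroup ↥N) := by
        rw [Sylow.coe_subgroup_smul]
        exact ⟨_, h1, rfl⟩
      rw [hn] at h2
      exact h2
    · exact Subgroup.Normal.conj_mem ‹(C.subgroupOf N).Normal› ⟨r, hCN (hRC hr)⟩ (hRC hr) n
  refine (Subgroup.eq_of_le_of_card_ge hPR ?_).symm
  rw [← CfsgLib.LocalEven.card_map_conj R (n : G)]
  exact Nat.le_of_dvd Nat.card_pos (Subgroup.card_dvd_of_le (hle.trans hSC))

end

end CfsgLib.LocalEven.FrakM
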