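import Cfsg.Agent.Lib.LocalEven.FrakM
import Cfsg.Agent.Lib.LocalEven.SubnormalSylow

/-!
Parabolic characteristic `p` puts parabolic subgroups with nontrivial core in `𝓛`; every member of `𝓛`
containing a Sylow subgroup has a companion inside a member of `𝔐`.
-/

set_option autoImplicit false

namespace CfsgLib.LocalEven.FrakM

open Subgroup Cfsg

variable {H : Type*} [Group H] [Finite H] {p : ℕ} [hp : Fact p.Prime]

theorem parabolicCharP_of (hH : IsOfParabolicCharacteristic p H) : ParabolicCharP p H := by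
  rintro R ⟨T, hTR⟩ hR1
  refine ⟨hR1, ?_⟩
  show centralizer (pCoreOf p R : Set H) ≤ pCoreOf p R
  set P := pCoreOf p R with hP
  have hPp : IsPGroup p P := isPGroup_pCoreOf p R
  have hRN : R ≤ normalizer (P : Set H) := le_normalizer_pCoreOf p R
  have hN : HasCharP p ↥(normalizer (P : Set H)) :=
    hH P hPp (pCore_ne_bot_iff.1 hR1) ⟨T, hTR.trans hRN⟩
  set C := centralizer (P : Set H) with hC
  have hCN : C ≤ normalizer (P : Set H) := Subgroup.centralizer_le_normalizer _
  have hCc : HasCharP p ↥C := by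
    have h := hN.centralizer_inf hPp Subgroup.le_normalizer
    rwa [inf_eq_right.2 hCN] at h
  have hRC : R ≤ normalizer (C : Set H) := fun x hx => by
    refine mem_normalizer_of_conj_le ?_
    rintro _ ⟨c, hc, rfl⟩
    refine Subgroup.mem_centralizer_iff.2 fun v hv => ?_
    have h4 := Subgroup.mem_centralizer_iff.1 hc (x⁻¹ * v * x)
      ((Subgroup.mem_normalizer_iff''.1 (hRN hx) v).1 hv)
    show v * (x * c * x⁻¹) = x * c * x⁻¹ * v
    calc v * (x * c * x⁻¹) = x * ((x⁻¹ * v * x) * c) * x⁻¹ := by group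
      _ = x * (c * (x⁻¹ * v * x)) * x⁻¹ := by rw [h4]
      _ = x * c * x⁻¹ * v := by group
  set O := pCoreOf p C with hO
  have hRO : R ≤ normalizer (O : Set H) := fun x hx => mem_normalizer_of_map_eq' (by
    rw [hO, ← pCoreOf_map]
    exact congrArg (pCoreOf p) (WC.map_conj_eq_of_mem (hRC hx)))
  have hOT : O ≤ (T : Subgroup H) := by
    have hJ : IsPGroup p ↥((T : Subgroup H) ⊔ O) :=
      IsPGroup.to_sup_of_normal_right' T.2 (isPGroup_pCoreOf p C) (hTR.trans hRO)
    exact le_sup_right.trans (T.3 hJ le_sup_left).le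
  have hOP : O ≤ P := le_pCoreOf (hOT.trans hTR) (isPGroup_pCoreOf p C) hRO
  intro x hx
  refine hOP (inf_centralizer_pCoreOf_le hCc (Subgroup.mem_inf.2 ⟨hx, Subgroup.mem_centralizer_iff.2 fun v hv => ?_⟩))
  exact Subgroup.mem_centralizer_iff.1 hx v (hOP hv)
where
  mem_normalizer_of_map_eq' {G : Type _} [Group G] [Finite G] {K : Subgroup G} {g : G}
      (h : K.map (MulAut.conj g).toMonoidHom = K) : g ∈ normalizer (K : Set G) :=
    CfsgLib.LocalEven.mem_normalizer_of_conj_le h.le

/-- Parabolic monotonicity of `Y`. -/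
theorem largest_mono {L X : Subgroup H} (T : Sylow p H) (hTL : (T : Subgroup H) ≤ L) (hLX : L ≤ X)
    (hX : X ∈ charPSubgroups p H) : largestPReducedOf p L ≤ largestPReducedOf p X := by
  have hr := PRed.isPReducedNormal_largestPReducedOf p L
  have hr' : IsPReducedNormal p (((largestPReducedOf p L).subgroupOf X).subgroupOf (L.subgroupOf X)) := by
    refine (PRed.isPReducedNormal_subgroupOf_iff (Subgroup.comap_mono (PRed.largestPReducedOf_le p L))).2 ?_
    obtain ⟨h1, h2, h3⟩ := (PRed.isPReducedNormal_subgroupOf_iff (PRed.largestPReducedOf_le p L)).1 hr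
    have hc : ∀ x : ↥X, x ∈ centralizer ((largestPReducedOf p L).subgroupOf X : Set ↥X) ↔
        (x : H) ∈ centralizer (largestPReducedOf p L : Set H) := by
      intro x
      refine ⟨fun h => Subgroup.mem_centralizer_iff.2 fun v hv => ?_, fun h => Subgroup.mem_centralizer_iff.2 fun v hv => ?_⟩
      · exact congrArg Subtype.val
          (Subgroup.mem_centralizer_iff.1 h ⟨v, hLX (PRed.largestPReducedOf_le p L hv)⟩ hv)
      · exact Subtype.ext (Subgroup.mem_centralizer_iff.1 h v hv)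
    refine ⟨fun x hx => ?_, CfsgLib.PGroup.elemAb_subgroupOf h2, fun N hNL hLN hpow x hx => (hc x).2 ?_⟩
    · exact Subgroup.mem_normalizer_iff.2 fun v => Subgroup.mem_normalizer_iff.1 (h1 hx) v
    · refine h3 (N.map X.subtype) ?_ ?_ ?_ ⟨x, hx, rfl⟩
      · rintro _ ⟨n, hn, rfl⟩
        exact hNL hn
      · intro l hl
        refine CfsgLib.LocalEven.mem_normalizer_of_conj_le ?_
        rintro _ ⟨_, ⟨n, hn, rfl⟩, rfl⟩
        exact ⟨⟨l, hLX hl⟩ * n * ⟨l, hLX hl⟩⁻¹,
          CfsgLib.LocalEven.conj_mem_of_mem_normalizer (hLN (show (⟨l, hLX hl⟩ : ↥X) ∈ L.subgroupOf X from hl)) hn, rfl⟩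
      · rintro _ ⟨n, hn, rfl⟩
        obtain ⟨k, hk⟩ := hpow n hn
        exact ⟨k, by simpa using (hc _).1 hk⟩
  have h := PRed.le_largestPReduced (PRed.isPReducedNormal_normalClosure (hasCharP_of_mem hX)
    (T.subtype (hTL.trans hLX)) (L.subgroupOf X) (Subgroup.comap_mono hTL) _ hr')
  intro y hy
  refine ⟨⟨y, hLX (PRed.largestPReducedOf_le p L hy)⟩, h (Subgroup.subset_normalClosure ?_), rfl⟩
  exact ⟨⟨_, show (⟨y, hLX (PRed.largestPReducedOf_le p L hy)⟩ : ↥X) ∈ L.subgroupOf X from PRed.largestPReducedOf_le p L hy⟩, hy, rfl⟩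

omit hp in
/-- `V` is `p`-reduced normal in `B` when `A` is so and both induce the same group on `V`. -/
theorem le_largest_of_same_action {A B V : Subgroup H} (hVA : V ≤ A) (hVB : V ≤ B)
    (hV : IsPReducedNormal p (V.subgroupOf A)) (hAB : A ≤ B ⊔ centralizer (V : Set H))
    (hBA : B ≤ A ⊔ centralizer (V : Set H)) : V ≤ largestPReducedOf p B := by
  obtain ⟨h1, h2, h3⟩ := (PRed.isPReducedNormal_subgroupOf_iff hVA).1 hV
  have hCn : normalizer (V : Set H) ≤ normalizer (centralizer (V : Set H) : Set H) := by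
    intro g hg
    refine mem_normalizer_of_conj_le ?_
    rintro _ ⟨c, hc, rfl⟩
    refine Subgroup.mem_centralizer_iff.2 fun v hv => ?_
    have h4 := Subgroup.mem_centralizer_iff.1 hc (g⁻¹ * v * g) ((Subgroup.mem_normalizer_iff''.1 hg v).1 hv)
    show v * (g * c * g⁻¹) = g * c * g⁻¹ * v
    calc v * (g * c * g⁻¹) = g * ((g⁻¹ * v * g) * c) * g⁻¹ := by group
      _ = g * (c * (g⁻¹ * v * g)) * g⁻¹ := by rw [h4]
      _ = g * c * g⁻¹ * v := by group
  have hB : B ≤ normalizer (V : Set H) :=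
    hBA.trans (sup_le h1 (Subgroup.centralizer_le_normalizer _))
  refine PRed.le_largestPReducedOf hVB ((PRed.isPReducedNormal_subgroupOf_iff hVB).2 ⟨hB, h2, fun N hNB hBN hpow => ?_⟩)
  have hN' : A ⊓ (N ⊔ centralizer (V : Set H)) ≤ centralizer (V : Set H) := by
    refine h3 _ inf_le_left ?_ ?_
    · intro a ha
      have hNC : a ∈ normalizer ((N ⊔ centralizer (V : Set H) : Subgroup H) : Set H) := by
        refine (hAB.trans (sup_le ?_ (le_sup_right.trans Subgroup.le_normalizer))) ha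
        intro b hb
        refine mem_normalizer_of_conj_le ?_
        rw [Subgroup.map_sup, WC.map_conj_eq_of_mem (hBN hb), WC.map_conj_eq_of_mem (hCn (hB hb))]
      exact Subgroup.mem_normalizer_iff.2 fun v => and_congr
        (Subgroup.mem_normalizer_iff.1 (Subgroup.le_normalizer ha) v) (Subgroup.mem_normalizer_iff.1 hNC v)
    · intro x hx
      have hx2 : x ∈ ((N ⊔ centralizer (V : Set H) : Subgroup H) : Set H) := hx.2
      rw [Subgroup.coe_mul_of_left_le_normalizer_right N (centralizer (V : Set H)) ((hNB.trans hB).trans hCn)] at hx2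
      obtain ⟨n, hn, c, hc, rfl⟩ := hx2
      obtain ⟨k, hk⟩ := hpow n hn
      refine ⟨k, ?_⟩
      set W := normalizer (V : Set H) with hW
      have hnW : n ∈ W := hB (hNB hn)
      have hcW : c ∈ W := Subgroup.centralizer_le_normalizer _ hc
      haveI : ((centralizer (V : Set H)).subgroupOf W).Normal := Subgroup.normal_subgroupOf_of_le_normalizer hCn
      have hc1 : (QuotientGroup.mk' ((centralizer (V : Set H)).subgroupOf W)) ⟨c, hcW⟩ = 1 :=
        (QuotientGroup.eq_one_iff _).2 hc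
      have hn1 : (QuotientGroup.mk' ((centralizer (V : Set H)).subgroupOf W)) (⟨n, hnW⟩ ^ p ^ k) = 1 :=
        (QuotientGroup.eq_one_iff _).2 (by simpa [Subgroup.mem_subgroupOf] using hk)
      have he : (QuotientGroup.mk' ((centralizer (V : Set H)).subgroupOf W)) ((⟨n, hnW⟩ * ⟨c, hcW⟩) ^ p ^ k) = 1 := by
        rw [map_pow, map_mul, hc1, mul_one, ← map_pow, hn1]
      simpa [Subgroup.mem_subgroupOf] using (QuotientGroup.eq_one_iff _).1 he
  intro n hn
  have hn2 : n ∈ ((A ⊔ centralizer (V : Set H) : Subgroup H) : Set H) := hBA (hNB hn)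
  rw [Subgroup.coe_mul_of_left_le_normalizer_right A (centralizer (V : Set H)) (h1.trans hCn)] at hn2
  obtain ⟨a, ha, c, hc, rfl⟩ := hn2
  refine mul_mem (hN' (Subgroup.mem_inf.2 ⟨ha, ?_⟩)) hc
  have := mul_mem (Subgroup.mem_sup_left hn : a * c ∈ N ⊔ centralizer (V : Set H)) (Subgroup.mem_sup_right (inv_mem hc))
  rwa [mul_inv_cancel_right] at this

omit hp in
theorem normalizer_largest_of_max {X : Subgroup H} (T : Sylow p H) (hTX : (T : Subgroup H) ≤ X)
    (hX : X ∈ maxCharPSubgroups p H) (hpc : ParabolicCharP p H) (h1 : largestPReducedOf p X ≠ ⊥) :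
    normalizer (largestPReducedOf p X : Set H) = X := by
  have hXN := PRed.le_normalizer_largestPReducedOf p X
  exact hX.2 _ (hpc _ ⟨T, hTX.trans hXN⟩ (pCore_ne_bot_of_le
    ((isPGroup_pCoreOf p X).to_le largest_le_pCoreOf) h1 Subgroup.le_normalizer le_rfl)) hXN

theorem exists_frakM (hpc : ParabolicCharP p H) (T : Sylow p H) (L : Subgroup H)
    (hTL : (T : Subgroup H) ≤ L) (hL : L ∈ charPSubgroups p H) :
    ∃ M Ls : Subgroup H, (T : Subgroup H) ≤ M ∧ IsInFrakM p M ∧ (T : Subgroup H) ≤ Ls ∧ Ls ≤ M ∧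
      Ls ∈ charPSubgroups p H ∧ largestPReducedOf p L = largestPReducedOf p Ls ∧
      largestPReducedOf p L ≤ largestPReducedOf p M ∧
      L ⊔ centralizer (largestPReducedOf p L : Set H) = Ls ⊔ centralizer (largestPReducedOf p L : Set H) := by
  set Y := largestPReducedOf p L with hY
  let Good : Subgroup H → Prop := fun V => ∃ X Ls : Subgroup H, X ∈ maxCharPSubgroups p H ∧
    largestPReducedOf p X = V ∧ (T : Subgroup H) ≤ Ls ∧ Ls ≤ X ∧ largestPReducedOf p Ls = Y ∧
    Ls ∈ charPSubgroups p H ∧ L ⊔ centralizer (Y : Set H) = Ls ⊔ centralizer (Y : Set H)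
  obtain ⟨X₀, hX₀, hLX₀⟩ := exists_max hL
  obtain ⟨V, -, hV⟩ := Finite.exists_le_maximal (p := Good) (a := largestPReducedOf p X₀)
    ⟨X₀, L, hX₀, rfl, hTL, hLX₀, rfl, hL, rfl⟩
  obtain ⟨X, L₁, hX, hXV, hTL₁, hL₁X, hL₁Y, hL₁, hL₁C⟩ := hV.1
  have hTX := hTL₁.trans hL₁X
  have hV1 : V ≠ ⊥ := hXV ▸ largest_ne_bot hX.1
  have hNV : normalizer (V : Set H) = X := hXV ▸ normalizer_largest_of_max T hTX hX hpc (hXV.symm ▸ hV1)
  set C := centralizer (V : Set H) with hC
  have hCX : C ≤ X := hNV ▸ Subgroup.centralizer_le_normalizer _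
  have hVp : IsPGroup p V := hXV ▸ (isPGroup_pCoreOf p X).to_le largest_le_pCoreOf
  have hXC : X ≤ normalizer (C : Set H) := by
    intro g hg
    rw [← hNV] at hg
    refine mem_normalizer_of_conj_le ?_
    rintro _ ⟨c, hc, rfl⟩
    refine Subgroup.mem_centralizer_iff.2 fun v hv => ?_
    have h4 := Subgroup.mem_centralizer_iff.1 hc (g⁻¹ * v * g) ((Subgroup.mem_normalizer_iff''.1 hg v).1 hv)
    show v * (g * c * g⁻¹) = g * c * g⁻¹ * v
    calc v * (g * c * g⁻¹) = g * ((g⁻¹ * v * g) * c) * g⁻¹ := by group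
      _ = g * (c * (g⁻¹ * v * g)) * g⁻¹ := by rw [h4]
      _ = g * c * g⁻¹ * v := by group
  obtain ⟨M, hMX, hM⟩ := Finite.exists_le_minimal
    (p := fun M : Subgroup H => (T : Subgroup H) ≤ M ∧ M ≤ X ∧ M ⊔ C = X) (a := X)
    ⟨hTX, le_refl X, sup_eq_left.2 hCX⟩
  have hTM := hM.1.1
  have hVT : V ≤ (T : Subgroup H) := by
    refine le_trans ?_ (show pCoreOf p X ≤ (T : Subgroup H) from ?_)
    · exact hXV ▸ largest_le_pCoreOf
    · rintro _ ⟨y, hy, rfl⟩
      exact Subgroup.mem_subgroupOf.1 (CfsgLib.Cores.pCore_le_sylow (T.subtype hTX) hy)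
  have hVM : V ≤ M := hVT.trans hTM
  have hMN : M ≤ normalizer (V : Set H) := hMX.trans hNV.ge
  have hM1 : pCore p ↥M ≠ ⊥ := pCore_ne_bot_of_le hVp hV1 hVM hMN
  have hMc : M ∈ charPSubgroups p H := hpc M ⟨T, hTM⟩ hM1
  have hVr : IsPReducedNormal p (V.subgroupOf X) := hXV ▸ PRed.isPReducedNormal_largestPReducedOf p X
  have hYM : largestPReducedOf p M = V := by
    refine le_antisymm (hXV ▸ largest_mono T hTM hMX hX.1) ?_
    exact le_largest_of_same_action (hVM.trans hMX) hVM hVr hM.1.2.2.ge (hMX.trans le_sup_left)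
  have hdag : M ⊔ centralizer (largestPReducedOf p M : Set H) = X := by rw [hYM]; exact hM.1.2.2
  -- the companion of `L` inside `M`
  set Ls := M ⊓ (L₁ ⊔ C) with hLs
  have hTLs : (T : Subgroup H) ≤ Ls := le_inf hTM (hTL₁.trans le_sup_left)
  have hL₁Ls : L₁ ≤ Ls ⊔ C := by
    intro l hl
    have h2 : l ∈ ((M ⊔ C : Subgroup H) : Set H) := hM.1.2.2.ge (hL₁X hl)
    rw [Subgroup.coe_mul_of_left_le_normalizer_right M C (hMX.trans hXC)] at h2
    obtain ⟨m, hm, c, hc, rfl⟩ := h2
    refine Subgroup.mul_mem_sup (Subgroup.mem_inf.2 ⟨hm, ?_⟩) hc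
    have := mul_mem (Subgroup.mem_sup_left hl : m * c ∈ L₁ ⊔ C) (Subgroup.mem_sup_right (inv_mem hc))
    rwa [mul_inv_cancel_right] at this
  have hVLs : V ≤ Ls := hVT.trans hTLs
  have hLs1 : pCore p ↥Ls ≠ ⊥ := pCore_ne_bot_of_le hVp hV1 hVLs (inf_le_left.trans hMN)
  have hLsc : Ls ∈ charPSubgroups p H := hpc Ls ⟨T, hTLs⟩ hLs1
  have hYV : Y ≤ V := hL₁Y ▸ hXV ▸ largest_mono T hTL₁ hL₁X hX.1
  have hCY : C ≤ centralizer (Y : Set H) := Subgroup.centralizer_le hYV
  have hLsV : largestPReducedOf p Ls ≤ V := hYM ▸ largest_mono T hTLs inf_le_left hMc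
  have hLsY : largestPReducedOf p Ls = Y := by
    refine le_antisymm ?_ ?_
    · rw [← hL₁Y]
      have hsub : C ≤ centralizer (largestPReducedOf p Ls : Set H) := Subgroup.centralizer_le hLsV
      exact le_largest_of_same_action (PRed.largestPReducedOf_le p Ls)
        (hLsV.trans (hVT.trans hTL₁)) (PRed.isPReducedNormal_largestPReducedOf p Ls)
        (inf_le_right.trans (sup_le_sup le_rfl hsub)) (hL₁Ls.trans (sup_le_sup le_rfl hsub))
    · exact le_largest_of_same_action (hL₁Y ▸ PRed.largestPReducedOf_le p L₁) (hYV.trans hVLs)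
        (hL₁Y ▸ PRed.isPReducedNormal_largestPReducedOf p L₁)
        (hL₁Ls.trans (sup_le_sup le_rfl hCY)) (inf_le_right.trans (sup_le_sup le_rfl hCY))
  have hLsC : L ⊔ centralizer (Y : Set H) = Ls ⊔ centralizer (Y : Set H) := by
    rw [hL₁C]
    exact le_antisymm (sup_le (hL₁Ls.trans (sup_le_sup le_rfl hCY)) le_sup_right)
      (sup_le (inf_le_right.trans (sup_le_sup le_rfl hCY)) le_sup_right)
  set D := M ⊓ C with hD
  haveI hDn : (D.subgroupOf M).Normal := Subgroup.normal_subgroupOf_of_le_normalizer fun x hx =>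
    Subgroup.mem_normalizer_iff.2 fun v => and_congr (Subgroup.mem_normalizer_iff.1 (Subgroup.le_normalizer hx) v)
      (Subgroup.mem_normalizer_iff.1 (hXC (hMX hx)) v)
  have hcl : IsPClosed p ↥(D.subgroupOf M) := by
    obtain ⟨U, hU⟩ := exists_sylow_eq_inf_of_isSubnormal (T.subtype hTM) (K := D.subgroupOf M)
      (Subgroup.Normal.isSubnormal hDn)
    rw [PClosed.iff_sylow_le U]
    set U' := (U : Subgroup ↥(D.subgroupOf M)).map (D.subgroupOf M).subtype with hU'
    have hfr := Sylow.normalizer_sup_eq_top U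
    have hNT : ((T.subtype hTM : Sylow p ↥M) : Subgroup ↥M) ≤ normalizer (U' : Set ↥M) := by
      intro t ht
      refine mem_normalizer_of_conj_le ?_
      rintro _ ⟨_, ⟨u, hu, rfl⟩, rfl⟩
      have hu' : ((u : ↥M)) ∈ ((T.subtype hTM : Sylow p ↥M) : Subgroup ↥M) := by
        rw [hU] at hu
        first | exact hu | exact hu.1
      refine ⟨⟨t * u * t⁻¹, hDn.conj_mem _ u.2 t⟩, ?_, rfl⟩
      rw [hU]
      first
        | exact mul_mem (mul_mem ht hu') (inv_mem ht)
        | exact ⟨mul_mem (mul_mem ht hu') (inv_mem ht), hDn.conj_mem _ u.2 t⟩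
    set N₀ := (normalizer (U' : Set ↥M)).map M.subtype with hN₀
    have hN₀M : N₀ = M := by
      refine le_antisymm (Subgroup.map_subtype_le _) (hM.2 ⟨?_, (Subgroup.map_subtype_le _).trans hMX, ?_⟩ (Subgroup.map_subtype_le _))
      · intro t ht
        exact ⟨⟨t, hTM ht⟩, hNT ht, rfl⟩
      · refine le_antisymm (sup_le ((Subgroup.map_subtype_le _).trans hMX) hCX) ?_
        have h' := congrArg (Subgroup.map M.subtype) hfr
        rw [Subgroup.map_sup, ← MonoidHom.range_eq_map, Subgroup.range_subtype, Subgroup.subgroupOf_map_subtype] at h'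
        rw [← hM.1.2.2]
        refine sup_le (h'.ge.trans (sup_le le_sup_left ((inf_le_left.trans inf_le_right).trans le_sup_right))) le_sup_right
    haveI : U'.Normal := Subgroup.normalizer_eq_top_iff.1 (Subgroup.map_injective M.subtype_injective
      (by rw [← hN₀, hN₀M, ← MonoidHom.range_eq_map, Subgroup.range_subtype]))
    haveI : (U : Subgroup ↥(D.subgroupOf M)).Normal := by
      rw [← Subgroup.comap_map_eq_self_of_injective (D.subgroupOf M).subtype_injective (U : Subgroup ↥(D.subgroupOf M))]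
      exact Subgroup.Normal.comap ‹U'.Normal› _
    exact CfsgLib.Cores.le_pCore U.2
  refine ⟨M, Ls, hTM, ⟨hMc, hdag ▸ hX, ?_, ?_, ?_, ?_⟩, hTLs, inf_le_left, hLsc, hLsY.symm, hYM ▸ hYV, hLsC⟩
  · intro X' hX' hMX'
    rw [hdag]
    have hle : V ≤ largestPReducedOf p X' := hYM ▸ largest_mono T hTM hMX' hX'.1
    have heq : largestPReducedOf p X' = V := le_antisymm
      (hV.2 ⟨X', Ls, hX', rfl, hTLs, inf_le_left.trans hMX', hLsY, hLsc, hLsC⟩ hle) hle
    rw [← hNV, ← heq, normalizer_largest_of_max T (hTM.trans hMX') hX' hpc (heq.symm ▸ hV1)]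
  · rw [hdag, hYM, hXV]
  all_goals rw [hYM]
  · -- `C_M(V)` is `p`-closed
    exact PClosed.congr_equiv (Subgroup.subgroupOfEquivOfLe inf_le_left) hcl
  · -- Frattini condition
    set π := QuotientGroup.mk' (pCore p ↥M) with hπ
    refine le_iInf₂ fun A hA => ?_
    by_contra hnot
    set A' := A.comap π with hA'
    have hOA : pCore p ↥M ≤ A' := fun x hx => by
      show π x ∈ A
      rw [show π x = 1 from (QuotientGroup.eq_one_iff x).2 hx]
      exact one_mem _
    have htop : A' ⊔ D.subgroupOf M = ⊤ := by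
      have h' : A ⊔ (D.subgroupOf M).map π = ⊤ := by
        by_contra hne
        exact hnot (le_sup_right.trans ((hA.le_iff.1 le_sup_left).resolve_left hne).le)
      refine top_le_iff.1 ?_
      have h'' := congrArg (Subgroup.comap π) h'
      rw [Subgroup.comap_top, ← Subgroup.comap_sup_eq _ _ _ (QuotientGroup.mk'_surjective _), ← hA',
        Subgroup.comap_map_eq, QuotientGroup.ker_mk'] at h''
      rw [← h'']
      exact sup_le le_sup_left (sup_le le_sup_right (hOA.trans le_sup_left))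
    have hUO : ((T.subtype hTM : Sylow p ↥M) : Subgroup ↥M) ⊓ D.subgroupOf M ≤ pCore p ↥M :=
      (PClosed.iff_of_normal _ _).1 hcl
    obtain ⟨U, hU⟩ := exists_sylow_eq_inf_of_isSubnormal (T.subtype hTM) (K := D.subgroupOf M)
      (Subgroup.Normal.isSubnormal hDn)
    have hUA : (U : Subgroup ↥(D.subgroupOf M)) ≤ A'.subgroupOf (D.subgroupOf M) := fun u hu => by
      rw [hU] at hu
      first
        | exact hOA (hUO (Subgroup.mem_inf.2 ⟨hu, u.2⟩))
        | exact hOA (hUO (Subgroup.mem_inf.2 ⟨hu.1, u.2⟩))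
    have hidx : ¬ p ∣ A'.index := by
      have e : A'.index = A'.relIndex (D.subgroupOf M) := by
        have h1 := Subgroup.relIndex_sup_right A' (D.subgroupOf M)
        rw [htop, Subgroup.relIndex_top_right] at h1
        have h2 := Subgroup.relIndex_mul_index (inf_le_left : A' ⊓ D.subgroupOf M ≤ A')
        have h3 := Subgroup.relIndex_mul_index (inf_le_right : A' ⊓ D.subgroupOf M ≤ D.subgroupOf M)
        rw [Subgroup.inf_relIndex_left] at h2
        rw [Subgroup.inf_relIndex_right] at h3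
        rw [← h2, ← h1] at h3
        have hpos : 0 < (D.subgroupOf M).index := Nat.pos_of_ne_zero Subgroup.index_ne_zero_of_finite
        exact (Nat.eq_of_mul_eq_mul_right hpos (h3.trans (Nat.mul_comm _ _))).symm
      rw [e]
      intro hd
      exact U.not_dvd_index (hd.trans (Subgroup.index_dvd_of_le hUA))
    obtain ⟨R⟩ := (Sylow.nonempty : Nonempty (Sylow p ↥A'))
    set R' := (R.2.map A'.subtype).toSylow (by
      rw [Subgroup.index_map_subtype]
      exact fun hd => ((Fact.out : p.Prime).dvd_mul.1 hd).elim R.not_dvd_index hidx) with hR'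
    obtain ⟨m, hm⟩ := MulAction.exists_smul_eq ↥M R' (T.subtype hTM)
    set A₁ := (A'.map (MulAut.conj m).toMonoidHom) with hA₁
    have hTA : ((T.subtype hTM : Sylow p ↥M) : Subgroup ↥M) ≤ A₁ := by
      rw [← hm, Sylow.coe_subgroup_smul]
      rintro _ ⟨r, ⟨r', -, rfl⟩, rfl⟩
      exact ⟨r', r'.2, rfl⟩
    have hA₁top : A₁ ⊔ D.subgroupOf M = ⊤ := by
      have h' := congrArg (Subgroup.map (MulAut.conj m).toMonoidHom) htop
      rwa [Subgroup.map_sup, WC.map_conj_eq_of_mem (g := m) (Q := D.subgroupOf M) (by rw [Subgroup.normalizer_eq_top]; exact Subgroup.mem_top m),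
        Subgroup.map_top_of_surjective _ (MulAut.conj m).surjective] at h'
    have hA₁M : A₁.map M.subtype = M := by
      refine le_antisymm (Subgroup.map_subtype_le _) (hM.2 ⟨?_, (Subgroup.map_subtype_le _).trans hMX, ?_⟩ (Subgroup.map_subtype_le _))
      · intro t ht
        exact ⟨⟨t, hTM ht⟩, hTA ht, rfl⟩
      · refine le_antisymm (sup_le ((Subgroup.map_subtype_le _).trans hMX) hCX) ?_
        have h' := congrArg (Subgroup.map M.subtype) hA₁top
        rw [Subgroup.map_sup, ← MonoidHom.range_eq_map, Subgroup.range_subtype, Subgroup.subgroupOf_map_subtype] at h'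
        rw [← hM.1.2.2]
        exact sup_le (h'.ge.trans (sup_le le_sup_left ((inf_le_left.trans inf_le_right).trans le_sup_right))) le_sup_right
    have hA₁e : A₁ = ⊤ := Subgroup.map_injective M.subtype_injective
      (by rw [hA₁M, ← MonoidHom.range_eq_map, Subgroup.range_subtype])
    refine hA.1 ?_
    have hA'e : A' = ⊤ := Subgroup.map_injective (MulAut.conj m).injective
      (by rw [← hA₁, hA₁e, Subgroup.map_top_of_surjective _ (MulAut.conj m).surjective])
    rw [← Subgroup.map_comap_eq_self_of_surjective (QuotientGroup.mk'_surjective (pCore p ↥M)) A, ← hA', hA'e,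
      Subgroup.map_top_of_surjective _ (QuotientGroup.mk'_surjective _)]

end CfsgLib.LocalEven.FrakM
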