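import Mathlib
import Cfsg.Prelude.Def_Transfer
import Cfsg.Prelude.Def_SolvableStructure
import Cfsg.Agent.Lib.LocalEven.HSubgroups
import Cfsg.Agent.Lib.FGS.SmallElements
import Cfsg.Agent.Lib.Solvable.Supersolvable
import Cfsg.Agent.Lib.Solvable.Huppert
import Cfsg.Agent.Lib.Solvable.MinimalNormal

/-!
Supersolvability when the subgroups of one order in the noncyclic Sylow subgroups of a normal
subgroup with supersolvable quotient are closed in their normalisers.
-/

set_option autoImplicit false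

universe u

namespace CfsgLib.LocalEven.HSub

open Subgroup Cfsg
open scoped commutatorElement

variable {G : Type u} [Group G] [Finite G] {q : ℕ} [Fact q.Prime]

/-- A `q'`-element which is a product of commutators or a `(q-1)`-st power. -/
def Tame (q : ℕ) {G : Type*} [Group G] (g : G) : Prop :=
  (orderOf g).Coprime q ∧ (g ∈ commutator G ∨ ∃ y : G, g = y ^ (q - 1))

omit [Finite G] [Fact q.Prime] in
theorem Tame.map {H : Type*} [Group H] (f : G →* H) {g : G} (hg : Tame q g) : Tame q (f g) := by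
  refine ⟨Nat.Coprime.coprime_dvd_left (orderOf_map_dvd f g) hg.1, ?_⟩
  rcases hg.2 with h | ⟨y, rfl⟩
  · left
    have h' : commutator G ≤ (commutator H).comap f := by
      rw [_root_.commutator_def, commutator_le]
      intro a _ b _
      rw [mem_comap, map_commutatorElement]
      exact commutator_mem_commutator (mem_top _) (mem_top _)
    exact h' h
  · exact Or.inr ⟨f y, map_pow _ _ _⟩

theorem tame_mem_centralizer_of_cyclic {N : Subgroup G} [N.Normal] [IsCyclic ↥N] (hN : IsPGroup q ↥N)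
    {g : G} (hg : Tame q g) : g ∈ centralizer (N : Set G) := by
  let φ : G →* MulAut ↥N := MulAut.conjNormal
  have hcomm : ∀ a b : MulAut ↥N, a * b = b * a := fun a b =>
    (IsCyclic.mulAutMulEquiv ↥N).injective (by rw [map_mul, map_mul, mul_comm])
  have h1 : φ g = 1 := by
    rcases hg.2 with h | ⟨y, hy⟩
    · have hle : commutator G ≤ φ.ker := by
        rw [_root_.commutator_def, commutator_le]
        intro a _ b _
        rw [MonoidHom.mem_ker, map_commutatorElement, commutatorElement_eq_one_iff_mul_comm]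
        exact hcomm _ _
      exact hle h
    · obtain ⟨n, hn⟩ := IsPGroup.iff_card.1 hN
      have hc : Nat.card (MulAut ↥N) = Nat.totient (q ^ n) := by rw [IsCyclic.card_mulAut, hn]
      have hq := (Fact.out : q.Prime)
      have hpow : (φ g) ^ q ^ (n - 1) = 1 := by
        rcases Nat.eq_zero_or_pos n with h0 | h0
        · rw [h0, pow_zero, Nat.totient_one] at hc
          haveI := (Nat.card_eq_one_iff_unique.1 hc).1
          exact Subsingleton.elim _ _
        · rw [Nat.totient_prime_pow hq h0] at hc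
          rw [hy, map_pow, ← pow_mul, mul_comm, ← hc]
          exact pow_card_eq_one'
      exact orderOf_eq_one_iff.1 (Nat.eq_one_of_dvd_coprimes
        ((Nat.Coprime.coprime_dvd_left (orderOf_map_dvd φ g) hg.1).pow_right _) dvd_rfl
        (orderOf_dvd_of_pow_eq_one hpow))
  refine mem_centralizer_iff.2 fun a ha => ?_
  have h2 : g * a * g⁻¹ = a := by
    have h3 := congrArg (fun e : MulAut ↥N => ((e ⟨a, ha⟩ : ↥N) : G)) h1
    simpa [φ] using h3
  exact (mul_inv_eq_iff_eq_mul.1 h2).symm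

/-- Two maximal subgroups generate a group which is not cyclic. -/
theorem exists_two_coatoms {D : Type*} [Group D] [Finite D] (h : ¬ IsCyclic D) :
    ∃ M₁ M₂ : Subgroup D, IsCoatom M₁ ∧ IsCoatom M₂ ∧ M₁ ⊔ M₂ = ⊤ := by
  rcases eq_top_or_exists_le_coatom (⊥ : Subgroup D) with h0 | ⟨M₁, hM₁, -⟩
  · exact absurd (⟨⟨1, fun w => by
      have : w ∈ (⊥ : Subgroup D) := h0 ▸ mem_top w
      rw [mem_bot.1 this]; exact one_mem (zpowers (1 : D))⟩⟩ : IsCyclic D) h
  obtain ⟨z, hz⟩ : ∃ z : D, z ∉ M₁ := by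
    by_contra hh
    push Not at hh
    exact hM₁.1 (eq_top_iff.2 fun z _ => hh z)
  obtain ⟨M₂, hM₂, hzM⟩ : ∃ M : Subgroup D, IsCoatom M ∧ zpowers z ≤ M := by
    rcases eq_top_or_exists_le_coatom (zpowers z) with hh | hh
    · exact absurd ⟨⟨z, fun w => (hh ▸ mem_top w : w ∈ zpowers z)⟩⟩ h
    · exact hh
  exact ⟨M₁, M₂, hM₁, hM₂, hM₁.2 _ (lt_of_le_of_ne le_sup_left fun e =>
    hz (e ▸ mem_sup_right (hzM (mem_zpowers z))))⟩

/-- If all maximal subgroups of a `q`-subgroup are normal, tame elements centralise it. -/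
theorem tame_mem_centralizer_of_maximal {D : Subgroup G} [hDn : D.Normal] (hD : IsPGroup q ↥D)
    (hmax : ∀ M : Subgroup ↥D, IsCoatom M → (M.map D.subtype).Normal)
    {g : G} (hg : Tame q g) : g ∈ centralizer (D : Set G) := by
  set Φ : Subgroup G := (frattini ↥D).map D.subtype with hΦ
  haveI : Φ.Normal := ConjAct.normal_of_characteristic_of_normal
  refine mem_centralizer_of_trivial_mod_frattini hD
    (by rw [normalizer_eq_top]; exact mem_top g) hg.1 fun a b _ hb => ?_
  set π := QuotientGroup.mk' Φ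
  have hline : ∀ c : G, π (c * a * c⁻¹) ∈ zpowers (π a) := by
    intro c
    set b' : ↥D := ⟨c * a * c⁻¹, hDn.conj_mem _ a.2 c⟩
    have h1 := mem_zpowers_sup_frattini hD a b' fun M hM haM => by
      obtain ⟨w, hw, hwb⟩ := (hmax M hM).conj_mem _ ⟨a, haM, rfl⟩ c
      have : w = b' := Subtype.ext hwb
      exact this ▸ hw
    have h2 := mem_map_of_mem (π.comp D.subtype) h1
    rw [Subgroup.map_sup, MonoidHom.map_zpowers] at h2
    have h3 : (frattini ↥D).map (π.comp D.subtype) = ⊥ := by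
      rw [← Subgroup.map_map, ← hΦ]; exact QuotientGroup.map_mk'_self Φ
    rw [h3, sup_bot_eq] at h2
    exact h2
  haveI : (zpowers (π a)).Normal := ⟨fun w hw c => by
    obtain ⟨c, rfl⟩ := QuotientGroup.mk'_surjective Φ c
    obtain ⟨i, rfl⟩ := hw
    show π c * π a ^ i * (π c)⁻¹ ∈ _
    rw [← conj_zpow, ← map_inv, ← map_mul, ← map_mul]
    exact zpow_mem (hline c) i⟩
  have hp : IsPGroup q ↥(zpowers (π a)) :=
    (hD.map π).to_le (zpowers_le.2 (mem_map_of_mem π a.2))
  have h4 := mem_centralizer_iff.1 (tame_mem_centralizer_of_cyclic hp (hg.map π)) _ (mem_zpowers _)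
  have h5 : π b = π a := by
    rw [hb, map_mul, map_mul, map_inv, ← h4, mul_inv_cancel_right]
  have h6 : ((a⁻¹ * b : ↥D) : G) ∈ Φ := by
    rw [← QuotientGroup.eq_one_iff (N := Φ)]
    show π ((a : G)⁻¹ * (b : G)) = 1
    rw [map_mul, map_inv, h5, inv_mul_cancel]
  obtain ⟨w, hw, hwe⟩ := h6
  have : w = a⁻¹ * b := Subtype.ext hwe
  exact this ▸ hw

/-- Tame elements centralise a normal `q`-subgroup all of whose subgroups of one order are normal. -/
theorem tame_mem_centralizer {Q : Subgroup G} [Q.Normal] (hQ : IsPGroup q ↥Q) {e : ℕ} (he : 1 ≤ e)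
    (hlt : q ^ e < Nat.card Q)
    (hF : ∀ F : Subgroup G, F ≤ Q → (Nat.card F = q ^ e ∨ (q ^ e = 2 ∧ Nat.card F = 4)) → F.Normal)
    {g : G} (hg : Tame q g) : g ∈ centralizer (Q : Set G) := by
  have hq := (Fact.out : q.Prime)
  refine CfsgLib.FGS.mem_centralizer_of_fix_small (p := q) Q hQ
    (by rw [normalizer_eq_top]; exact mem_top g) hg.1 fun x hx hsmall => ?_
  obtain ⟨m, hm⟩ := IsPGroup.iff_card.1 hQ
  have hem : e + 1 ≤ m := by
    rw [hm] at hlt
    exact (Nat.pow_lt_pow_iff_right hq.one_lt).1 hlt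
  obtain ⟨j, hj⟩ := IsPGroup.iff_orderOf.1 hQ ⟨x, hx⟩
  rw [orderOf_mk] at hj
  suffices h : ∃ R : Subgroup G, x ∈ R ∧ g ∈ centralizer (R : Set G) by
    obtain ⟨R, hxR, hgR⟩ := h
    exact (mem_centralizer_iff.1 hgR x hxR).symm
  by_cases hje : j ≤ e
  · obtain ⟨E', hE', hxE⟩ := Sylow.exists_subgroup_card_pow_prime_le q (G := ↥Q) (n := j) (m := e)
      (by rw [hm]; exact pow_dvd_pow q (by omega)) (zpowers (⟨x, hx⟩ : ↥Q))
      (by rw [Nat.card_zpowers, orderOf_mk, hj]) hje
    obtain ⟨D', hD', hED⟩ := Sylow.exists_subgroup_card_pow_prime_le q (G := ↥Q) (n := e) (m := e + 1)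
      (by rw [hm]; exact pow_dvd_pow q hem) E' hE' (Nat.le_succ e)
    set E := E'.map Q.subtype
    set D := D'.map Q.subtype
    have hEQ : E ≤ Q := map_subtype_le _
    have hDQ : D ≤ Q := map_subtype_le _
    have hxmem : x ∈ E := ⟨⟨x, hx⟩, hxE (mem_zpowers _), rfl⟩
    have hEc : Nat.card E = q ^ e := by rw [card_map_of_injective Q.subtype_injective, hE']
    haveI := hF E hEQ (Or.inl hEc)
    by_cases hEcyc : IsCyclic ↥E
    · exact ⟨E, hxmem, tame_mem_centralizer_of_cyclic (hQ.to_le hEQ) hg⟩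
    have hDc : Nat.card D = q ^ (e + 1) := by rw [card_map_of_injective Q.subtype_injective, hD']
    have hDnc : ¬ IsCyclic ↥D := fun h => hEcyc (Subgroup.isCyclic_of_le (map_mono hED))
    have hDp : IsPGroup q ↥D := hQ.to_le hDQ
    have hmax : ∀ M : Subgroup ↥D, IsCoatom M → (M.map D.subtype).Normal := by
      intro M hM
      refine hF _ ((map_subtype_le M).trans hDQ) (Or.inl ?_)
      have h2 := M.card_mul_index
      rw [CfsgLib.PGroup.index_of_isCoatom hDp hM, hDc, pow_succ] at h2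
      rw [card_map_of_injective D.subtype_injective]
      exact Nat.eq_of_mul_eq_mul_right hq.pos h2
    haveI : D.Normal := by
      obtain ⟨M₁, M₂, h1, h2, htop⟩ := exists_two_coatoms hDnc
      haveI := hmax M₁ h1
      haveI := hmax M₂ h2
      have hD2 : D = M₁.map D.subtype ⊔ M₂.map D.subtype := by
        rw [← Subgroup.map_sup, htop, ← MonoidHom.range_eq_map, range_subtype]
      rw [hD2]
      exact Subgroup.sup_normal _ _
    exact ⟨D, map_mono hED hxmem, tame_mem_centralizer_of_maximal hDp hmax hg⟩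
  · have hsm : q = 2 ∧ x ^ 4 = 1 := by
      rcases hsmall with h | h
      · exfalso
        have h1 : q ^ j ∣ q ^ 1 := by rw [pow_one, ← hj]; exact orderOf_dvd_of_pow_eq_one h
        have := Nat.pow_dvd_pow_iff_le_right hq.one_lt |>.1 h1
        omega
      · exact h
    obtain ⟨rfl, h4⟩ := hsm
    have h1 : 2 ^ j ∣ 2 ^ 2 := hj ▸ orderOf_dvd_of_pow_eq_one (show x ^ 2 ^ 2 = 1 from h4)
    have h2 := Nat.pow_dvd_pow_iff_le_right (by norm_num : 1 < 2) |>.1 h1
    have he1 : e = 1 := by omega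
    have hj2 : j = 2 := by omega
    have hle : zpowers x ≤ Q := zpowers_le.2 hx
    haveI := hF _ hle (Or.inr ⟨by rw [he1, pow_one], by rw [Nat.card_zpowers, hj, hj2]; norm_num⟩)
    exact ⟨zpowers x, mem_zpowers x, tame_mem_centralizer_of_cyclic (hQ.to_le hle) hg⟩

/-- Commutators and `(q-1)`-st powers act as `q`-elements on `Q`. -/
def ActsSmall (q : ℕ) {G : Type*} [Group G] (Q : Subgroup G) : Prop :=
  (∀ c ∈ commutator G, ∃ k : ℕ, c ^ q ^ k ∈ centralizer (Q : Set G)) ∧
    ∀ x : G, ∃ k : ℕ, (x ^ (q - 1)) ^ q ^ k ∈ centralizer (Q : Set G)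

omit [Fact q.Prime] in
theorem exists_pow_coprime (hq : q.Prime) (x : G) : ∃ k : ℕ, (orderOf (x ^ q ^ k)).Coprime q := by
  obtain ⟨k, m, hm, hxm⟩ := Nat.exists_eq_pow_mul_and_not_dvd (orderOf_pos x).ne' q hq.ne_one
  refine ⟨k, ?_⟩
  rw [orderOf_pow' _ (pow_ne_zero _ hq.ne_zero), hxm, Nat.gcd_eq_right (dvd_mul_right _ _),
    Nat.mul_div_cancel_left _ (pow_pos hq.pos k)]
  exact (hq.coprime_iff_not_dvd.2 hm).symm

theorem actsSmall_of_tame {Q : Subgroup G}
    (h : ∀ g : G, Tame q g → g ∈ centralizer (Q : Set G)) : ActsSmall q Q := by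
  refine ⟨fun c hc => ?_, fun x => ?_⟩
  · obtain ⟨k, hk⟩ := exists_pow_coprime (Fact.out : q.Prime) c
    exact ⟨k, h _ ⟨hk, Or.inl (pow_mem hc _)⟩⟩
  · obtain ⟨k, hk⟩ := exists_pow_coprime (Fact.out : q.Prime) x
    refine ⟨k, h _ ⟨?_, Or.inr ⟨x ^ q ^ k, pow_right_comm x (q - 1) (q ^ k)⟩⟩⟩
    rw [pow_right_comm]
    exact Nat.Coprime.coprime_dvd_left (orderOf_pow_dvd _) hk

omit [Fact q.Prime] [Finite G] in
theorem actsSmall_map {Q : Subgroup G} (h : ActsSmall q Q) (N : Subgroup G) [N.Normal] :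
    ActsSmall q (Q.map (QuotientGroup.mk' N)) := by
  set π := QuotientGroup.mk' N
  have hC : ∀ c, c ∈ centralizer (Q : Set G) → π c ∈ centralizer ((Q.map π : Subgroup (G ⧸ N)) : Set (G ⧸ N)) := by
    intro c hc
    rw [mem_centralizer_iff]
    rintro _ ⟨a, ha, rfl⟩
    rw [← map_mul, ← map_mul, mem_centralizer_iff.1 hc a ha]
  have hcomm : commutator (G ⧸ N) = (commutator G).map π := by
    rw [_root_.commutator_def, _root_.commutator_def, Subgroup.map_commutator,
      Subgroup.map_top_of_surjective _ (QuotientGroup.mk'_surjective N)]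
  refine ⟨fun c hc => ?_, fun x => ?_⟩
  · rw [hcomm] at hc
    obtain ⟨c, hc', rfl⟩ := hc
    obtain ⟨k, hk⟩ := h.1 c hc'
    exact ⟨k, by rw [← map_pow]; exact hC _ hk⟩
  · obtain ⟨x, rfl⟩ := QuotientGroup.mk'_surjective N x
    obtain ⟨k, hk⟩ := h.2 x
    exact ⟨k, by rw [← map_pow, ← map_pow]; exact hC _ hk⟩

/-- The fixed points of a `q`-group of automorphisms of a nontrivial `q`-group. -/
theorem exists_fixed_ne_one {V : Type*} [Group V] [Finite V] [Nontrivial V] (hV : IsPGroup q V)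
    (A : Subgroup (MulAut V)) (hA : IsPGroup q ↥A) : ∃ v : V, v ≠ 1 ∧ ∀ a ∈ A, a v = v := by
  have h1 := hA.card_modEq_card_fixedPoints V
  obtain ⟨n, hn, hVn⟩ := hV.nontrivial_iff_card.1 inferInstance
  have h2 : q ∣ Nat.card (MulAction.fixedPoints ↥A V) := by
    refine Nat.modEq_zero_iff_dvd.1 (h1.symm.trans ?_)
    rw [hVn]
    exact Nat.modEq_zero_iff_dvd.2 (dvd_pow_self q (by omega))
  have hmem : (1 : V) ∈ MulAction.fixedPoints ↥A V := fun a => map_one (a : MulAut V)
  have h3 : 1 < Nat.card (MulAction.fixedPoints ↥A V) := by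
    haveI : Nonempty (MulAction.fixedPoints ↥A V) := ⟨⟨1, hmem⟩⟩
    exact lt_of_lt_of_le (Fact.out : q.Prime).one_lt (Nat.le_of_dvd Nat.card_pos h2)
  obtain ⟨v, hv⟩ : ∃ v : MulAction.fixedPoints ↥A V, v ≠ ⟨1, hmem⟩ := by
    haveI := Finite.one_lt_card_iff_nontrivial.1 h3
    exact exists_ne _
  exact ⟨v, fun h => hv (Subtype.ext h), fun a ha => v.2 ⟨a, ha⟩⟩

/-- A chief factor in `Q` is cyclic. -/
theorem isCyclic_of_minimal {Q : Subgroup G} (hQ : IsPGroup q ↥Q) (h : ActsSmall q Q)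
    {N : Subgroup G} [hNn : N.Normal] (hN : N ≠ ⊥) (hNQ : N ≤ Q)
    (hmin : ∀ K : Subgroup G, K.Normal → K ≤ N → K = ⊥ ∨ K = N) : IsCyclic ↥N := by
  haveI : Nontrivial ↥N := (Subgroup.nontrivial_iff_ne_bot N).2 hN
  have hNp : IsPGroup q ↥N := hQ.to_le hNQ
  haveI := hNp.isNilpotent
  have hs : Group.IsSolvable ↥N := inferInstance
  have hcommN := CfsgLib.Solvable.commute_of_minimal_normal N hN hmin hs
  have hexp : ∀ v : ↥N, v ^ q = 1 := by
    obtain ⟨r, hr, hrN⟩ := CfsgLib.Solvable.exists_prime_pow_eq_one_of_minimal_normal N hN hmin hs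
    obtain ⟨v, hv⟩ := exists_ne (1 : ↥N)
    obtain ⟨k, hk⟩ := IsPGroup.iff_orderOf.1 hNp v
    have h1 : q ^ k ∣ r := hk ▸ orderOf_dvd_of_pow_eq_one (Subtype.ext (hrN v v.2))
    have hk0 : k ≠ 0 := fun h0 => hv (orderOf_eq_one_iff.1 (by rw [hk, h0, pow_zero]))
    have h2 : q = r := (Nat.prime_dvd_prime_iff_eq Fact.out hr).1 ((dvd_pow_self q hk0).trans h1)
    exact fun v => Subtype.ext (h2 ▸ hrN v v.2)
  let φ : G →* MulAut ↥N := MulAut.conjNormal
  have hC : ∀ c ∈ centralizer (Q : Set G), φ c = 1 := by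
    intro c hc
    refine MulEquiv.ext fun v => Subtype.ext ?_
    show c * (v : G) * c⁻¹ = v
    rw [← mem_centralizer_iff.1 hc v (hNQ v.2), mul_inv_cancel_right]
  -- an invariant nontrivial set of fixed points is everything
  have hwhole : ∀ (S : Set (MulAut ↥N)), (∀ g : G, ∀ s ∈ S, φ g⁻¹ * s * φ g ∈ S) →
      (∃ v : ↥N, v ≠ 1 ∧ ∀ s ∈ S, s v = v) → ∀ s ∈ S, s = 1 := by
    intro S hS ⟨v, hv, hfix⟩
    let F : Subgroup ↥N :=
      { carrier := {w | ∀ s ∈ S, s w = w}
        one_mem' := fun s _ => map_one s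
        mul_mem' := fun ha hb s hs => by rw [map_mul, ha s hs, hb s hs]
        inv_mem' := fun ha s hs => by rw [map_inv, ha s hs] }
    have hFn : (F.map N.subtype).Normal := ⟨by
      rintro _ ⟨w, hw, rfl⟩ g
      refine ⟨φ g w, fun s hs => ?_, rfl⟩
      have h1 := hw _ (hS g s hs)
      rw [MulAut.mul_apply, MulAut.mul_apply, map_inv] at h1
      exact (MulEquiv.symm_apply_eq (φ g)).1 h1⟩
    rcases hmin _ hFn (map_subtype_le F) with h0 | h0
    · exact absurd ((Subgroup.map_eq_bot_iff_of_injective F N.subtype_injective).1 h0 ▸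
        (show v ∈ F from hfix)) (fun h1 => hv (mem_bot.1 h1))
    · intro s hs
      refine MulEquiv.ext fun w => ?_
      obtain ⟨w', hw', hwe⟩ := h0.ge w.2
      exact (show w' = w from Subtype.ext hwe) ▸ hw' s hs
  -- the derived subgroup centralises
  have hA : IsPGroup q ↥((commutator G).map φ) := by
    rintro ⟨_, c, hc, rfl⟩
    obtain ⟨k, hk⟩ := h.1 c hc
    exact ⟨k, Subtype.ext (by rw [SubmonoidClass.coe_pow]; show φ c ^ q ^ k = 1; rw [← map_pow]; exact hC _ hk)⟩
  have hder : ∀ c ∈ commutator G, φ c = 1 := fun c hc =>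
    hwhole ((commutator G).map φ : Set _) (by
      rintro g _ ⟨c, hc, rfl⟩
      refine ⟨g⁻¹ * c * g⁻¹⁻¹, (inferInstance : (commutator G).Normal).conj_mem c hc g⁻¹, ?_⟩
      rw [map_mul, map_mul, inv_inv])
      (exists_fixed_ne_one hNp _ hA) (φ c) ⟨c, hc, rfl⟩
  have hcomm : ∀ a b : G, φ a * φ b = φ b * φ a := fun a b => by
    have := hder _ (commutator_mem_commutator (mem_top a) (mem_top b))
    rwa [map_commutatorElement, commutatorElement_eq_one_iff_mul_comm] at this
  have hpow : ∀ x : G, φ x ^ (q - 1) = 1 := by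
    intro x
    obtain ⟨k, hk⟩ := h.2 x
    have h1 : (φ x ^ (q - 1)) ^ q ^ k = 1 := by rw [← map_pow, ← map_pow]; exact hC _ hk
    obtain ⟨i, -, hi⟩ := (Nat.dvd_prime_pow (Fact.out : q.Prime)).1 (orderOf_dvd_of_pow_eq_one h1)
    refine hwhole (zpowers (φ x ^ (q - 1)) : Set _) (fun g s hs => ?_)
      (exists_fixed_ne_one hNp _ (IsPGroup.of_card (n := i) (by rw [Nat.card_zpowers, hi]))) _ (mem_zpowers _)
    obtain ⟨l, rfl⟩ := hs
    refine ⟨l, ?_⟩
    show (φ x ^ (q - 1)) ^ l = φ g⁻¹ * (φ x ^ (q - 1)) ^ l * φ g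
    have hc : Commute (φ g⁻¹) ((φ x ^ (q - 1)) ^ l) :=
      ((show Commute (φ g⁻¹) (φ x) from hcomm _ _).pow_right _).zpow_right _
    rw [hc.eq, mul_assoc, ← map_mul, inv_mul_cancel, map_one, mul_one]
  -- every element acts by a power
  have hscalar : ∀ x : G, ∃ a : ℕ, ∀ w : ↥N, φ x w = w ^ a := by
    intro x
    letI : CommGroup ↥N :=
      { (inferInstance : Group ↥N) with mul_comm := fun a b => Subtype.ext (hcommN a a.2 b b.2) }
    have hiter : ∀ (i : ℕ) (w : ↥N), (fun v => φ x v)^[i] w = (φ x ^ i) w := by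
      intro i
      induction i with
      | zero => intro w; simp
      | succ i ih => intro w; rw [Function.iterate_succ_apply', ih, pow_succ', MulAut.mul_apply]
    obtain ⟨v, hv, a, ha⟩ := CfsgLib.Solvable.exists_eigen (p := q) hexp (φ x).toMonoidHom fun w => by
      refine (hiter q w).trans ?_
      rw [← Nat.sub_add_cancel (Fact.out : q.Prime).pos, pow_succ, hpow, one_mul]
      rfl
    refine ⟨a, fun w => ?_⟩
    let F : Subgroup ↥N :=
      { carrier := {w | φ x w = w ^ a}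
        one_mem' := by simp
        mul_mem' := fun {u w} hu hw => by
          show φ x (u * w) = (u * w) ^ a
          rw [map_mul, hu, hw, mul_pow]
        inv_mem' := fun {u} hu => by
          show φ x u⁻¹ = u⁻¹ ^ a
          rw [map_inv, hu, inv_pow] }
    have hFn : (F.map N.subtype).Normal := ⟨by
      rintro _ ⟨w, hw, rfl⟩ g
      refine ⟨φ g w, ?_, rfl⟩
      show φ x (φ g w) = φ g w ^ a
      rw [← MulAut.mul_apply, hcomm, MulAut.mul_apply, show φ x w = w ^ a from hw, map_pow]⟩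
    rcases hmin _ hFn (map_subtype_le F) with h0 | h0
    · exact absurd ((Subgroup.map_eq_bot_iff_of_injective F N.subtype_injective).1 h0 ▸
        (show v ∈ F from ha)) (fun h1 => hv (mem_bot.1 h1))
    · obtain ⟨w', hw', hwe⟩ := h0.ge w.2
      exact (show w' = w from Subtype.ext hwe) ▸ hw'
  obtain ⟨v, hv⟩ := exists_ne (1 : ↥N)
  have hzn : (zpowers (v : G)).Normal := ⟨by
    rintro _ ⟨i, rfl⟩ g
    obtain ⟨a, ha⟩ := hscalar g
    have h1 : g * (v : G) * g⁻¹ = (v : G) ^ a := congrArg Subtype.val (ha v)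
    show g * (v : G) ^ i * g⁻¹ ∈ _
    rw [← conj_zpow, h1]
    exact zpow_mem (pow_mem (mem_zpowers _) a) i⟩
  rcases hmin _ hzn (zpowers_le.2 v.2) with h0 | h0
  · exact absurd (Subtype.ext (zpowers_eq_bot.1 h0)) hv
  · exact h0 ▸ inferInstance

private theorem actsSmall_aux : ∀ (n : ℕ) (G : Type u) [Group G] [Finite G], Nat.card G = n →
    ∀ (Q : Subgroup G) [Q.Normal], IsPGroup q ↥Q → ActsSmall q Q →
      IsSupersolvable (G ⧸ Q) → IsSupersolvable G := by
  intro n
  induction n using Nat.strong_induction_on with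
  | _ n ih =>
  intro G _ _ hn Q _ hQ h hGQ
  rcases eq_or_ne Q ⊥ with rfl | hQ1
  · exact CfsgLib.Solvable.isSupersolvable_of_mulEquiv QuotientGroup.quotientBot hGQ
  obtain ⟨N, hNn, hN, hNQ, hmin⟩ := CfsgLib.Solvable.exists_minimal_normal_le Q hQ1
  haveI := isCyclic_of_minimal hQ h hN hNQ hmin
  refine CfsgLib.Solvable.isSupersolvable_extension N ?_
  haveI : (Q.map (QuotientGroup.mk' N)).Normal :=
    Subgroup.Normal.map inferInstance _ (QuotientGroup.mk'_surjective N)
  exact ih _ (hn ▸ CfsgLib.Solvable.card_quotient_lt N hN) _ rfl _ (hQ.map _) (actsSmall_map h N)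
    (CfsgLib.Solvable.isSupersolvable_of_mulEquiv
      (QuotientGroup.quotientQuotientEquivQuotient N Q hNQ).symm hGQ)

theorem isSupersolvable_of_actsSmall {Q : Subgroup G} [Q.Normal] (hQ : IsPGroup q ↥Q)
    (h : ActsSmall q Q) (hGQ : IsSupersolvable (G ⧸ Q)) : IsSupersolvable G :=
  actsSmall_aux _ G rfl Q hQ h hGQ

/-- The hypothesis on the noncyclic Sylow subgroups of `K`. -/
def SylHyp {G : Type*} [Group G] (K : Subgroup G) : Prop :=
  ∀ (p : ℕ), p.Prime → ∀ P : Subgroup G, P ≤ K → IsPGroup p ↥P → ¬ p ∣ P.relIndex K → ¬ IsCyclic ↥P →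
    ∃ D : Subgroup G, D ≤ P ∧ 1 < Nat.card D ∧ Nat.card D < Nat.card P ∧
      ∀ F : Subgroup G, F ≤ P → (Nat.card F = Nat.card D ∨ (Nat.card D = 2 ∧ Nat.card F = 4)) →
        IsHSub F

omit [Finite G] in
theorem isHSub_subgroupOf {F K : Subgroup G} (hF : IsHSub F) (hFK : F ≤ K) :
    IsHSub (F.subgroupOf K) := by
  rintro g _ ⟨⟨w, hw, rfl⟩, hn⟩
  refine mem_subgroupOf.2 (mem_of_isHSub hF hw ?_)
  rw [mem_normalizer_iff]
  intro f
  set y : ↥K := g * w * g⁻¹
  show f ∈ F ↔ (y : G) * f * (y : G)⁻¹ ∈ F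
  constructor
  · intro hf
    exact (mem_normalizer_iff.1 hn ⟨f, hFK hf⟩).1 hf
  · intro hf
    have hfK : f ∈ K := by
      have := mul_mem (mul_mem (inv_mem y.2) (hFK hf)) y.2
      rwa [show (y : G)⁻¹ * ((y : G) * f * (y : G)⁻¹) * (y : G) = f by group] at this
    exact (mem_normalizer_iff.1 hn ⟨f, hfK⟩).2 hf

theorem exists_normal_sylow : ∀ (n : ℕ) (K : Subgroup G), Nat.card K = n → K ≠ ⊥ → SylHyp K →
    ∃ (r : ℕ) (R : Subgroup G), r.Prime ∧ R ≤ K ∧ IsPGroup r ↥R ∧ ¬ r ∣ R.relIndex K ∧ R ≠ ⊥ ∧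
      normalizer (K : Set G) ≤ normalizer (R : Set G) := by
  intro n
  induction n using Nat.strong_induction_on with
  | _ n ih =>
  intro K hn hK h
  set p := (Nat.card K).minFac with hpdef
  have hK1 : Nat.card K ≠ 1 := fun h1 => hK (Subgroup.card_eq_one.1 h1)
  have hp : p.Prime := Nat.minFac_prime hK1
  haveI : Fact p.Prime := ⟨hp⟩
  have hsm : ∀ r : ℕ, r.Prime → r ∣ Nat.card ↥K → p ≤ r := fun r hr hd =>
    Nat.minFac_le_of_dvd hr.two_le hd
  obtain ⟨P₀⟩ : Nonempty (Sylow p ↥K) := inferInstance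
  set P := (P₀ : Subgroup ↥K).map K.subtype with hPdef
  have hPK : P ≤ K := map_subtype_le _
  have hrel : P.relIndex K = (P₀ : Subgroup ↥K).index := by
    rw [Subgroup.relIndex, hPdef, Subgroup.subgroupOf, comap_map_eq_self_of_injective K.subtype_injective]
  have hPp : IsPGroup p ↥P := P₀.2.map _
  have hcompl : HasNormalPComplement p ↥K := by
    by_cases hc : IsCyclic ↥P
    · haveI : IsCyclic ↥(P₀ : Subgroup ↥K) := isCyclic_of_surjective _
        ((P₀ : Subgroup ↥K).equivMapOfInjective K.subtype K.subtype_injective).symm.surjective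
      exact hasNormalPComplement_of_cyclic hsm P₀
    · obtain ⟨D, hDP, h1, h2, hD⟩ := h p hp P hPK hPp (hrel ▸ P₀.not_dvd_index) hc
      obtain ⟨e, he⟩ := IsPGroup.iff_card.1 (hPp.to_le hDP)
      rw [he] at h1 h2
      rw [hPdef, card_map_of_injective K.subtype_injective] at h2
      refine hasNormalPComplement_of_hyp hsm (e := e) (by by_contra h0; simp [show e = 0 by omega] at h1)
        (hyp_of_sylow P₀ fun F hF hFc => ?_) P₀ h2
      have h3 := hD (F.map K.subtype) (map_mono hF)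
        (by rwa [card_map_of_injective K.subtype_injective, he])
      have h4 := isHSub_subgroupOf h3 (map_subtype_le F)
      rwa [Subgroup.subgroupOf, comap_map_eq_self_of_injective K.subtype_injective] at h4
  obtain ⟨P', N', hN', hc⟩ := hcompl
  set K' := N'.map K.subtype with hK'
  have hK'le : K' ≤ K := map_subtype_le _
  have hidx : N'.index = Nat.card (P' : Subgroup ↥K) := hc.symm.index_eq_card
  have hcardN : ¬ p ∣ Nat.card ↥N' := by rw [← hc.index_eq_card]; exact P'.not_dvd_index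
  obtain ⟨a, ha⟩ := IsPGroup.iff_card.1 P'.2
  by_cases hbot : K' = ⊥
  · have hN0 : N' = ⊥ := (Subgroup.map_eq_bot_iff_of_injective N' K.subtype_injective).1 hbot
    refine ⟨p, K, hp, le_rfl, IsPGroup.of_card (n := a) ?_, ?_, hK, le_rfl⟩
    · rw [← ha, ← hidx, hN0, Subgroup.index_bot]
    · rw [Subgroup.relIndex_self]; exact hp.not_dvd_one
  have ha0 : a ≠ 0 := by
    intro h0
    have h1 := N'.card_mul_index
    rw [hidx, ha, h0, pow_zero, mul_one] at h1
    exact hcardN (h1 ▸ Nat.minFac_dvd _)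
  have hlt : Nat.card K' < n := by
    rw [← hn, hK', card_map_of_injective K.subtype_injective, ← N'.card_mul_index, hidx, ha]
    exact lt_mul_of_one_lt_right Nat.card_pos (Nat.one_lt_pow ha0 hp.one_lt)
  have hcardK' : ¬ p ∣ Nat.card K' := by rwa [hK', card_map_of_injective K.subtype_injective]
  have hKrel : K'.relIndex K = p ^ a := by
    rw [Subgroup.relIndex, hK', Subgroup.subgroupOf, comap_map_eq_self_of_injective K.subtype_injective,
      hidx, ha]
  have hndvd : ∀ (r : ℕ) (R : Subgroup G), r.Prime → r ≠ p → R ≤ K' → ¬ r ∣ R.relIndex K' →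
      ¬ r ∣ R.relIndex K := by
    intro r R hr hrp hR hnd hd
    rw [← Subgroup.relIndex_mul_relIndex R K' K hR hK'le, hKrel] at hd
    rcases (Nat.Prime.dvd_mul hr).1 hd with h1 | h1
    · exact hnd h1
    · exact hrp ((Nat.prime_dvd_prime_iff_eq hr hp).1 (hr.dvd_of_dvd_pow h1))
  have hyp' : SylHyp K' := by
    intro r hr R hR hRr hnd hnc
    refine h r hr R (hR.trans hK'le) hRr (hndvd r R hr ?_ hR hnd) hnc
    rintro rfl
    apply hnc
    have hR1 : R = ⊥ := by
      refine Subgroup.card_eq_one.1 ?_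
      obtain ⟨i, hi⟩ := IsPGroup.iff_card.1 hRr
      have h1 : p ^ i ∣ Nat.card K' := hi ▸ Subgroup.card_dvd_of_le hR
      rcases Nat.eq_zero_or_pos i with h0 | h0
      · rw [hi, h0, pow_zero]
      · exact absurd ((dvd_pow_self p h0.ne').trans h1) hcardK'
    subst hR1
    infer_instance
  obtain ⟨r, R, hr, hR, hRr, hnd, hR1, hnorm⟩ := ih _ hlt K' rfl hbot hyp'
  refine ⟨r, R, hr, hR.trans hK'le, hRr, hndvd r R hr ?_ hR hnd, hR1, ?_⟩
  · rintro rfl
    obtain ⟨i, hi⟩ := IsPGroup.iff_card.1 hRr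
    have hi0 : i ≠ 0 := fun h0 => hR1 (Subgroup.card_eq_one.1 (by rw [hi, h0, pow_zero]))
    exact hcardK' ((dvd_pow_self p hi0).trans (hi ▸ Subgroup.card_dvd_of_le hR))
  refine le_trans (fun g hg => CfsgLib.LocalEven.mem_normalizer_of_conj_le ?_) hnorm
  rintro _ ⟨_, ⟨x, hx, rfl⟩, rfl⟩
  haveI := hN'
  set y : ↥K := ⟨g * x * g⁻¹, (mem_normalizer_iff.1 hg x).1 x.2⟩
  refine ⟨y, ?_, rfl⟩
  have hoy : orderOf (QuotientGroup.mk' N' y) ∣ Nat.card ↥N' := by
    refine (orderOf_map_dvd _ y).trans ?_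
    rw [← orderOf_coe y, show orderOf (y : G) = orderOf (x : G) from
      orderOf_injective (MulAut.conj g).toMonoidHom (MulAut.conj g).injective x, orderOf_coe x,
      ← orderOf_mk x hx]
    exact orderOf_dvd_natCard _
  have hoy2 : orderOf (QuotientGroup.mk' N' y) ∣ p ^ a := by
    rw [← ha, ← hidx]; exact orderOf_dvd_natCard _
  exact (QuotientGroup.eq_one_iff y).1 (orderOf_eq_one_iff.1 (Nat.eq_one_of_dvd_coprimes
    ((hp.coprime_iff_not_dvd.2 hcardN).symm.pow_right a) hoy hoy2))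

/-- The hypothesis passes to the quotient by a normal Sylow subgroup. -/
theorem sylHyp_map {E Q : Subgroup G} [Q.Normal] (hQE : Q ≤ E) (hQ : IsPGroup q ↥Q)
    (hnd : ¬ q ∣ Q.relIndex E) (h : SylHyp E) : SylHyp (E.map (QuotientGroup.mk' Q)) := by
  set π := QuotientGroup.mk' Q with hπ
  have hπs := QuotientGroup.mk'_surjective Q
  have hker : π.ker = Q := QuotientGroup.ker_mk' Q
  intro p hp P' hP' hP'p hnd' hnc
  haveI : Fact p.Prime := ⟨hp⟩
  by_cases hpq : p = q
  · exfalso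
    subst hpq
    apply hnc
    have h1 : Nat.card ↥(E.map π) = Q.relIndex E := by
      rw [← Subgroup.relIndex_bot_left, ← Subgroup.relIndex_comap, MonoidHom.comap_bot, hker]
    have hbot : P' = ⊥ := by
      refine Subgroup.card_eq_one.1 ?_
      obtain ⟨i, hi⟩ := IsPGroup.iff_card.1 hP'p
      rcases Nat.eq_zero_or_pos i with h0 | h0
      · rw [hi, h0, pow_zero]
      · exact absurd ((dvd_pow_self p h0.ne').trans (hi ▸ Subgroup.card_dvd_of_le hP')) (h1 ▸ hnd)
    subst hbot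
    infer_instance
  have hdisj : ∀ S : Subgroup G, IsPGroup p ↥S → S ⊓ Q = ⊥ := fun S hS =>
    disjoint_iff.1 (IsPGroup.disjoint_of_ne p q hpq S Q hS hQ)
  have hinj : ∀ S : Subgroup G, IsPGroup p ↥S → ∀ a ∈ S, ∀ b ∈ S, π a = π b → a = b := by
    intro S hS a ha b hb hab
    have h1 : a⁻¹ * b ∈ S ⊓ Q := mem_inf.2 ⟨mul_mem (inv_mem ha) hb, by
      rw [← hker, MonoidHom.mem_ker, map_mul, map_inv, hab, inv_mul_cancel]⟩
    rw [hdisj S hS, mem_bot, inv_mul_eq_one] at h1
    exact h1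
  set H := P'.comap π with hH
  have hHE : H ≤ E := by
    refine (Subgroup.comap_mono hP').trans ?_
    rw [Subgroup.comap_map_eq, hker]
    exact sup_le le_rfl hQE
  obtain ⟨P₀⟩ : Nonempty (Sylow p ↥H) := inferInstance
  set P := (P₀ : Subgroup ↥H).map H.subtype with hPdef
  have hPp : IsPGroup p ↥P := P₀.2.map _
  have hPH : P ≤ H := map_subtype_le _
  have hPmap : P.map π ≤ P' := Subgroup.map_le_iff_le_comap.2 hPH
  have hcardP : Nat.card ↥(P.map π) = Nat.card ↥P :=
    Nat.card_congr (Equiv.ofBijective (π.subgroupMap P) ⟨fun a b hab =>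
      Subtype.ext (hinj P hPp a a.2 b b.2 (congrArg Subtype.val hab)), π.subgroupMap_surjective P⟩).symm
  have hPrel : P.relIndex H = (P₀ : Subgroup ↥H).index := by
    rw [Subgroup.relIndex, hPdef, Subgroup.subgroupOf, comap_map_eq_self_of_injective H.subtype_injective]
  have hPnd : ¬ p ∣ P.relIndex H := hPrel ▸ P₀.not_dvd_index
  have hPeq : P.map π = P' := by
    by_contra hne
    obtain ⟨i, hi⟩ := IsPGroup.iff_card.1 hP'p
    obtain ⟨l, hl⟩ := IsPGroup.iff_card.1 (hP'p.to_le hPmap)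
    have h1 : Nat.card ↥(P.map π) < Nat.card ↥P' :=
      lt_of_not_ge fun hle => hne (eq_of_le_of_card_ge hPmap hle)
    rw [hi, hl] at h1
    have hli := (Nat.pow_lt_pow_iff_right hp.one_lt).1 h1
    have h2 : p ^ i ∣ Nat.card ↥H := by
      rw [← hi, ← Subgroup.map_comap_eq_self_of_surjective hπs P']
      exact Subgroup.card_map_dvd _ _
    rw [← Subgroup.relIndex_bot_left H, ← Subgroup.relIndex_mul_relIndex ⊥ P H bot_le hPH,
      Subgroup.relIndex_bot_left, ← hcardP, hl, mul_comm] at h2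
    apply hPnd
    have h3 : p * p ^ l ∣ P.relIndex H * p ^ l := by
      rw [← pow_succ']; exact (pow_dvd_pow p hli).trans h2
    exact Nat.dvd_of_mul_dvd_mul_right (pow_pos hp.pos l) h3
  have hnd2 : ¬ p ∣ P.relIndex E := by
    rw [← Subgroup.relIndex_mul_relIndex P H E hPH hHE]
    intro hd
    rcases (Nat.Prime.dvd_mul hp).1 hd with h1 | h1
    · exact hPnd h1
    · rw [hH, Subgroup.relIndex_comap] at h1
      exact hnd' h1
  have hnc2 : ¬ IsCyclic ↥P := fun hc => hnc (hPeq ▸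
    isCyclic_of_surjective (π.subgroupMap P) (π.subgroupMap_surjective P))
  obtain ⟨D, hDP, h1, h2, hD⟩ := h p hp P (hPH.trans hHE) hPp hnd2 hnc2
  have hmapcard : ∀ F : Subgroup G, F ≤ P → Nat.card ↥(F.map π) = Nat.card ↥F := fun F hF =>
    Nat.card_congr (Equiv.ofBijective (π.subgroupMap F) ⟨fun a b hab =>
      Subtype.ext (hinj P hPp a (hF a.2) b (hF b.2) (congrArg Subtype.val hab)), π.subgroupMap_surjective F⟩).symm
  refine ⟨D.map π, hPeq ▸ map_mono hDP, (hmapcard D hDP).symm ▸ h1, ?_, fun F' hF' hF'c => ?_⟩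
  · rw [hmapcard D hDP, ← hPeq, hcardP]; exact h2
  set F := F'.comap π ⊓ P with hFdef
  have hFmap : F.map π = F' := by
    refine le_antisymm (Subgroup.map_le_iff_le_comap.2 inf_le_left) fun y hy => ?_
    obtain ⟨x, hx, rfl⟩ := hPeq.ge (hF' hy)
    exact ⟨x, ⟨hy, hx⟩, rfl⟩
  have hFsub := hD F inf_le_right (by
    rw [← hmapcard F inf_le_right, hFmap, ← hmapcard D hDP]; exact hF'c)
  rintro g' _ ⟨⟨f', hf', rfl⟩, hn⟩
  obtain ⟨g, rfl⟩ := hπs g'
  rw [← hFmap] at hf'
  obtain ⟨f, hf, rfl⟩ := hf'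
  set y := g * f * g⁻¹ with hy
  have hπy : π y = π g * π f * (π g)⁻¹ := by simp [hy]
  show π g * π f * (π g)⁻¹ ∈ F'
  rw [← hπy]
  change π g * π f * (π g)⁻¹ ∈ normalizer (F' : Set (G ⧸ Q)) at hn
  rw [← hπy] at hn
  set L := (normalizer (F' : Set (G ⧸ Q))).comap π with hL
  have hFL : F ≤ L := fun z hz => le_normalizer (hFmap.le (mem_map_of_mem π hz))
  have hFp : IsPGroup p ↥F := hPp.to_le inf_le_right
  have hyp : IsPGroup p ↥((zpowers y).subgroupOf L) := by
    refine IsPGroup.comap_of_injective ?_ L.subtype L.subtype_injective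
    refine ((hFp.to_le (zpowers_le.2 hf)).map (MulAut.conj g).toMonoidHom).to_le ?_
    rw [MonoidHom.map_zpowers]
    exact le_rfl
  obtain ⟨S₀, hS₀⟩ := hyp.exists_le_sylow
  obtain ⟨T, hT⟩ := (hFp.comap_of_injective L.subtype L.subtype_injective).exists_le_sylow
  obtain ⟨c, hc⟩ := MulAction.exists_smul_eq ↥L T S₀
  set S := (S₀ : Subgroup ↥L).map L.subtype
  have hSp : IsPGroup p ↥S := S₀.2.map _
  have hyL : y ∈ L := hn
  have hyS : y ∈ S := ⟨⟨y, hyL⟩, hS₀ (mem_zpowers y), rfl⟩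
  have hFS : ∀ z ∈ F, (c : G) * z * (c : G)⁻¹ ∈ S := by
    intro z hz
    refine ⟨c * ⟨z, hFL hz⟩ * c⁻¹, ?_, rfl⟩
    rw [← hc]
    exact Subgroup.smul_mem_pointwise_smul _ (MulAut.conj c) _ (hT hz)
  have hcN : π (c : G) ∈ normalizer (F' : Set (G ⧸ Q)) := c.2
  have hyN : (c : G)⁻¹ * y * c ∈ normalizer (F : Set G) := by
    refine CfsgLib.LocalEven.mem_normalizer_of_conj_le ?_
    rintro _ ⟨z, hz, rfl⟩
    show (c : G)⁻¹ * y * c * z * ((c : G)⁻¹ * y * c)⁻¹ ∈ F
    set w := y * ((c : G) * z * (c : G)⁻¹) * y⁻¹ with hw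
    have hwS : w ∈ S := mul_mem (mul_mem hyS (hFS z hz)) (inv_mem hyS)
    have hwF : π w ∈ F' := by
      rw [hw, map_mul, map_mul, map_inv, map_mul, map_mul, map_inv]
      exact (mem_normalizer_iff.1 hn _).1 ((mem_normalizer_iff.1 hcN _).1 (hFmap.le (mem_map_of_mem π hz)))
    obtain ⟨z', hz', hzw⟩ : ∃ z' ∈ F, π ((c : G) * z' * (c : G)⁻¹) = π w := by
      have h3 := (mem_normalizer_iff.1 (inv_mem hcN) _).1 hwF
      rw [← hFmap] at h3
      obtain ⟨z', hz', hzz⟩ := h3
      exact ⟨z', hz', by rw [map_mul, map_mul, map_inv, hzz]; group⟩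
    have := hinj S hSp _ (hFS z' hz') _ hwS hzw
    rw [show (c : G)⁻¹ * y * c * z * ((c : G)⁻¹ * y * c)⁻¹ = (c : G)⁻¹ * w * c by rw [hw]; group, ← this,
      show (c : G)⁻¹ * ((c : G) * z' * (c : G)⁻¹) * c = z' by group]
    exact hz'
  have e1 : ((c : G)⁻¹ * g) * f * ((c : G)⁻¹ * g)⁻¹ = (c : G)⁻¹ * y * c := by rw [hy]; group
  have h4 := mem_map_of_mem π (mem_of_isHSub hFsub hf (g := (c : G)⁻¹ * g) (e1 ▸ hyN))
  rw [hFmap, e1] at h4
  have h5 := (mem_normalizer_iff.1 hcN _).1 h4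
  rwa [← map_inv, ← map_mul, ← map_mul, show (c : G) * ((c : G)⁻¹ * y * c) * (c : G)⁻¹ = y by group] at h5

private theorem supersolvable_aux : ∀ (n : ℕ) (G : Type u) [Group G] [Finite G], Nat.card G = n →
    ∀ (E : Subgroup G) [E.Normal], IsSupersolvable (G ⧸ E) → SylHyp E → IsSupersolvable G := by
  intro n
  induction n using Nat.strong_induction_on with
  | _ n ih =>
  intro G _ _ hn E _ hGE h
  rcases eq_or_ne E ⊥ with rfl | hE
  · exact CfsgLib.Solvable.isSupersolvable_of_mulEquiv QuotientGroup.quotientBot hGE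
  obtain ⟨q, Q, hq, hQE, hQq, hnd, hQ1, hnorm⟩ := exists_normal_sylow _ E rfl hE h
  haveI : Fact q.Prime := ⟨hq⟩
  haveI : Q.Normal := normalizer_eq_top_iff.1 (top_le_iff.1 ((normalizer_eq_top E).ge.trans hnorm))
  haveI : (E.map (QuotientGroup.mk' Q)).Normal :=
    Subgroup.Normal.map inferInstance _ (QuotientGroup.mk'_surjective Q)
  have hGQ : IsSupersolvable (G ⧸ Q) :=
    ih _ (hn ▸ CfsgLib.Solvable.card_quotient_lt Q hQ1) _ rfl _
      (CfsgLib.Solvable.isSupersolvable_of_mulEquiv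
        (QuotientGroup.quotientQuotientEquivQuotient Q E hQE).symm hGE) (sylHyp_map hQE hQq hnd h)
  by_cases hc : IsCyclic ↥Q
  · exact CfsgLib.Solvable.isSupersolvable_extension Q hGQ
  obtain ⟨D, hDQ, h1, h2, hD⟩ := h q hq Q hQE hQq hnd hc
  obtain ⟨e, he⟩ := IsPGroup.iff_card.1 (hQq.to_le hDQ)
  rw [he] at h1 h2
  refine isSupersolvable_of_actsSmall hQq (actsSmall_of_tame fun g hg => ?_) hGQ
  refine tame_mem_centralizer hQq (e := e) (by by_contra h0; simp [show e = 0 by omega] at h1) h2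
    (fun F hF hFc => ?_) hg
  refine normalizer_eq_top_iff.1 (eq_top_iff.2 fun x _ => ?_)
  exact mem_normalizer_of_conj_le_pGroup (hD F hF (by rwa [he])) hQq hF
    ((map_mono hF).trans (mem_normalizer_iff_map_conj_eq.1 (by rw [normalizer_eq_top]; exact mem_top x)).le)

/-- Supersolvability from the hypothesis on a normal subgroup with supersolvable quotient. -/
theorem isSupersolvable_of_sylHyp {E : Subgroup G} [E.Normal] (hGE : IsSupersolvable (G ⧸ E))
    (h : SylHyp E) : IsSupersolvable G :=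
  supersolvable_aux _ G rfl E hGE h

end CfsgLib.LocalEven.HSub
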