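import Mathlib
import Cfsg.Prelude.Def_Local
import Cfsg.Prelude.Def_Amalgam
import Cfsg.Agent.Lib.LocalEven.CoreOf
import Cfsg.Agent.Lib.Cores.Basic
import Cfsg.Agent.Lib.Cores.Fitting
import Cfsg.Agent.Lib.Cores.Components
import Cfsg.Agent.Lib.Cores.Layer2
import Cfsg.Agent.Lib.PGroup.Basic
import Cfsg.Agent.Lib.PGroup.Counting
import Cfsg.Agent.Lib.PGroup.InvariantComplement
import Cfsg.Agent.Lib.LocalEven.Basic
import Cfsg.Agent.Lib.LocalEven.FStarSplit

/-!
The normal closure of an isolated `p`-minimal residual in a group with trivial `O_p`: it centralizes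
every normal subgroup not containing it.
-/

set_option autoImplicit false

namespace CfsgLib.LocalEven.IsoMin

open Subgroup Cfsg
open scoped commutatorElement Pointwise

variable {H : Type*} [Group H] [Finite H] {p : ℕ} [hp : Fact p.Prime]

/-- The data left by an isolated `p`-minimal subgroup in `H = G / O_p(G)`. -/
structure Data (S : Sylow p H) (X Q L : Subgroup H) : Prop where
  core : pCore p H = ⊥
  qle : Q ≤ (S : Subgroup H)
  sle : (S : Subgroup H) ≤ L
  qnorm : L ≤ normalizer (Q : Set H)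
  snorm : (S : Subgroup H) ≤ normalizer (X : Set H)
  comm : ⁅X, Q⁆ = X
  ne : X ≠ ⊥
  small : ∀ R : Subgroup H, (S : Subgroup H) ≤ normalizer (R : Set H) → ¬ X ≤ R → ⁅R, Q⁆ ≤ R ⊓ Q
  sup : normalClosure (X : Set H) ⊔ L = ⊤
  max : ∀ R₁ R₂ : Subgroup H, R₁ ≤ X → R₂ ≤ X → (S : Subgroup H) ≤ normalizer (R₁ : Set H) →
    (S : Subgroup H) ≤ normalizer (R₂ : Set H) → ¬ X ≤ R₁ → ¬ X ≤ R₂ → ¬ X ≤ R₁ ⊔ R₂

variable {S : Sylow p H} {X Q L : Subgroup H}

omit [Finite H] hp in
theorem le_normalizer_of_normal (P N : Subgroup H) [N.Normal] : P ≤ normalizer (N : Set H) := by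
  rw [normalizer_eq_top]; exact le_top

theorem commutator_eq_bot_of_small (h : Data S X Q L) {N : Subgroup H} [N.Normal] (hN : ¬ X ≤ N) :
    ⁅N, Q⁆ = ⊥ := by
  have h1 := h.small N (le_normalizer_of_normal _ N) hN
  have hNQ : N ≤ normalizer (Q : Set H) := fun n hn => by
    refine mem_normalizer_of_conj_le ?_
    rintro _ ⟨q, hq, rfl⟩
    show n * q * n⁻¹ ∈ Q
    rw [show n * q * n⁻¹ = ⁅n, q⁆ * q by rw [commutatorElement_def]; group]
    exact mul_mem (h1 (commutator_mem_commutator hn hq)).2 hq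
  have h2 : N ⊓ Q ≤ pCoreOf p N := by
    refine le_pCoreOf inf_le_left (S.2.to_le (inf_le_right.trans h.qle)) fun n hn => ?_
    refine mem_normalizer_iff.2 fun v => and_congr (mem_normalizer_iff.1 (le_normalizer hn) v)
      (mem_normalizer_iff.1 (hNQ hn) v)
  rw [eq_bot_iff, ← h.core]
  exact (h1.trans h2).trans ((CfsgLib.Cores.pCore_of_normal p N).trans_le inf_le_left)

theorem X_le_of_Q_le (h : Data S X Q L) {C : Subgroup H} [C.Normal] (hC : Q ≤ C) : X ≤ C := by
  rw [← h.comm]
  exact (commutator_mono le_rfl hC).trans (commutator_le_right X C)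

/-- The normal closure centralizes every normal subgroup not containing it. -/
theorem normalClosure_le_centralizer (h : Data S X Q L) {N : Subgroup H} [N.Normal] (hN : ¬ X ≤ N) :
    normalClosure (X : Set H) ≤ centralizer (N : Set H) := by
  refine normalClosure_le_normal (X_le_of_Q_le h ?_)
  rw [← commutator_eq_bot_iff_le_centralizer, commutator_comm]
  exact commutator_eq_bot_of_small h hN

theorem normalClosure_le_fStar (h : Data S X Q L) :
    normalClosure (X : Set H) ≤ generalizedFittingSubgroup H := by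
  haveI := CfsgLib.Cores.generalizedFittingSubgroup_normal (G := H)
  by_cases hX : X ≤ generalizedFittingSubgroup H
  · exact normalClosure_le_normal hX
  · exact (normalClosure_le_centralizer h hX).trans CfsgLib.Cores.centralizer_generalizedFittingSubgroup_le

/-- If the normal closure centralizes `F(H)` and `E(H)`, it lies in `F(H)`. -/
theorem le_fitting_of_centralizes (h : Data S X Q L)
    (hF : normalClosure (X : Set H) ≤ centralizer (fittingSubgroup H : Set H))
    (hE : normalClosure (X : Set H) ≤ centralizer (layer H : Set H)) :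
    normalClosure (X : Set H) ≤ fittingSubgroup H := by
  set Y := normalClosure (X : Set H)
  have h1 : Y ≤ centralizer (generalizedFittingSubgroup H : Set H) := by
    rw [le_centralizer_iff]
    exact sup_le (le_centralizer_iff.1 hE) (le_centralizer_iff.1 hF)
  have h2 : Y ≤ centralizer (Y : Set H) :=
    (le_centralizer_iff.2 ((normalClosure_le_fStar h).trans (le_centralizer_iff.1 h1)))
  have : IsMulCommutative ↥Y := le_centralizer_iff_isMulCommutative.1 h2
  letI : CommGroup ↥Y := { (inferInstance : Group ↥Y) with mul_comm := fun a b => this.1.comm a b }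
  exact CfsgLib.Cores.le_fittingSubgroup inferInstance

theorem le_fitting_of_solvable (h : Data S X Q L) (hs : Group.IsSolvable ↥(normalClosure (X : Set H))) :
    normalClosure (X : Set H) ≤ fittingSubgroup H := by
  haveI := CfsgLib.Cores.fittingSubgroup_normal (G := H)
  by_cases hX : X ≤ fittingSubgroup H
  · exact normalClosure_le_normal hX
  · refine le_fitting_of_centralizes h (normalClosure_le_centralizer h hX) ?_
    rw [le_centralizer_iff, CfsgLib.Cores.layer_le_iff]
    intro K hK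
    exact commutator_eq_bot_iff_le_centralizer.1
      (CfsgLib.Cores.component_commutator_solvable hK hs (le_normalizer_of_normal K _))

omit [Finite H] hp in
theorem le_normalizer_finset_sup {ι : Type*} {P : Subgroup H} (s : Finset ι) (R : ι → Subgroup H)
    [Finite H] (hR : ∀ i ∈ s, P ≤ normalizer (R i : Set H)) : P ≤ normalizer ((s.sup R : Subgroup H) : Set H) := by
  classical
  induction s using Finset.induction_on with
  | empty => rw [Finset.sup_empty, normalizer_eq_top]; exact le_top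
  | @insert a t _ ih =>
    intro x hx
    rw [Finset.sup_insert]
    refine mem_normalizer_of_conj_le ?_
    rw [Subgroup.map_sup]
    exact sup_le_sup (mem_normalizer_iff_map_conj_eq.1 (hR a (Finset.mem_insert_self a t) hx)).le
      (mem_normalizer_iff_map_conj_eq.1 (ih (fun i hi => hR i (Finset.mem_insert_of_mem hi)) hx)).le

/-- An `S`-invariant Sylow subgroup of a normalised `p'`-subgroup. -/
theorem exists_invariant_sylow (S : Sylow p H) {A : Subgroup H} (hS : (S : Subgroup H) ≤ normalizer (A : Set H))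
    (hA : ¬ p ∣ Nat.card A) (s : ℕ) [Fact s.Prime] :
    ∃ R : Sylow s ↥A, (S : Subgroup H) ≤ normalizer (((R : Subgroup ↥A).map A.subtype : Subgroup H) : Set H) := by
  let φ : ↥(S : Subgroup H) →* MulAut ↥A := A.normalizerMonoidHom.comp (Subgroup.inclusion hS)
  letI : MulAction ↥(S : Subgroup H) (Sylow s ↥A) := MulAction.compHom _ φ
  have hd : ¬ p ∣ Nat.card (Sylow s ↥A) := fun hd => by
    obtain ⟨R₀⟩ : Nonempty (Sylow s ↥A) := inferInstance
    exact hA (hd.trans ((Sylow.card_dvd_index R₀).trans (Subgroup.index_dvd_card _)))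
  obtain ⟨R, hR⟩ := IsPGroup.nonempty_fixed_point_of_prime_not_dvd_card (S.isPGroup' : IsPGroup p ↥(S : Subgroup H)) _ hd
  refine ⟨R, fun x hx => mem_normalizer_of_conj_le ?_⟩
  rintro _ ⟨_, ⟨a, ha, rfl⟩, rfl⟩
  refine ⟨φ ⟨x, hx⟩ a, ?_, rfl⟩
  have h1 : (⟨x, hx⟩ : ↥(S : Subgroup H)) • R = R := hR ⟨x, hx⟩
  rw [← h1]
  exact Subgroup.smul_mem_pointwise_smul a (φ ⟨x, hx⟩) (R : Subgroup ↥A) ha

/-- If `X` has order prime to `p` it is a `t`-group for a single prime `t`. -/
theorem exists_prime (h : Data S X Q L) (hX : ¬ p ∣ Nat.card X) :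
    ∃ t : ℕ, t.Prime ∧ t ≠ p ∧ IsPGroup t ↥X := by
  classical
  have hinv : ∀ s : ℕ, ∃ R : Subgroup H, R ≤ X ∧ (S : Subgroup H) ≤ normalizer (R : Set H) ∧
      (s.Prime → IsPGroup s ↥R ∧ Nat.card R = s ^ (Nat.card X).factorization s) := by
    intro s
    by_cases hs : s.Prime
    · haveI : Fact s.Prime := ⟨hs⟩
      obtain ⟨R, hR⟩ := exists_invariant_sylow S h.snorm hX s
      refine ⟨_, map_subtype_le _, hR, fun _ => ⟨R.2.map _, ?_⟩⟩
      rw [card_map_of_injective X.subtype_injective, R.card_eq_multiplicity]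
    · exact ⟨⊥, bot_le, le_normalizer_of_normal _ _, fun h' => absurd h' hs⟩
  choose R hRle hRn hRs using hinv
  by_cases hex : ∃ s ∈ (Nat.card X).primeFactors, X ≤ R s
  · obtain ⟨s, hs, hle⟩ := hex
    have hsp := Nat.prime_of_mem_primeFactors hs
    exact ⟨s, hsp, fun e => hX (e ▸ Nat.dvd_of_mem_primeFactors hs), ((hRs s hsp).1).to_le hle⟩
  exfalso
  push Not at hex
  have key : ∀ T ⊆ (Nat.card X).primeFactors, ¬ X ≤ T.sup R := by
    intro T
    induction T using Finset.induction_on with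
    | empty => intro _ hle; rw [Finset.sup_empty] at hle; exact h.ne (le_bot_iff.1 hle)
    | @insert a T _ ih =>
      intro hT
      rw [Finset.sup_insert]
      have hT' : T ⊆ (Nat.card X).primeFactors := (Finset.subset_insert a T).trans hT
      exact h.max _ _ (hRle a) (Finset.sup_le fun i _ => hRle i) (hRn a)
        (le_normalizer_finset_sup T R fun i _ => hRn i) (hex a (hT (Finset.mem_insert_self a T))) (ih hT')
  refine key _ subset_rfl (le_of_eq (eq_of_le_of_card_ge (Finset.sup_le fun i _ => hRle i) ?_).symm)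
  refine Nat.le_of_dvd Nat.card_pos ?_
  rw [Nat.dvd_iff_prime_pow_dvd_dvd]
  intro s k hs hk
  by_cases hk0 : k = 0
  · simp [hk0]
  have hmem : s ∈ (Nat.card X).primeFactors :=
    Nat.mem_primeFactors.2 ⟨hs, (dvd_pow_self s hk0).trans hk, Nat.card_pos.ne'⟩
  refine dvd_trans ?_ (card_dvd_of_le (Finset.le_sup (f := R) hmem))
  rw [(hRs s hs).2]
  exact pow_dvd_pow s ((hs.pow_dvd_iff_le_factorization Nat.card_pos.ne').1 hk)

theorem commutator_normalClosure (h : Data S X Q L) :
    ⁅normalClosure (X : Set H), Q⁆ = normalClosure (X : Set H) := by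
  set Y := normalClosure (X : Set H)
  refine le_antisymm (commutator_le_left _ _) ?_
  have hn : (⁅Y, Q⁆ : Subgroup H).Normal := by
    rw [← normalizer_eq_top_iff, eq_top_iff, ← h.sup]
    refine sup_le (normalizer_commutator_ge_left _ _) fun x hx => mem_normalizer_of_conj_le ?_
    rw [Subgroup.map_commutator]
    exact commutator_mono (mem_normalizer_iff_map_conj_eq.1 (le_normalizer_of_normal L Y hx)).le
      (mem_normalizer_iff_map_conj_eq.1 (h.qnorm hx)).le
  exact normalClosure_le_normal (h.comm.ge.trans (commutator_mono le_normalClosure le_rfl))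

/-- If the normal closure is inside `F(H)`, it is `X`, a `t`-group of class at most two. -/
theorem nilpotent_case (h : Data S X Q L) (hY : normalClosure (X : Set H) ≤ fittingSubgroup H) :
    normalClosure (X : Set H) = X ∧ ∃ t : ℕ, t.Prime ∧ t ≠ p ∧ IsPGroup t ↥(normalClosure (X : Set H)) ∧
      ⁅⁅normalClosure (X : Set H), normalClosure (X : Set H)⁆, normalClosure (X : Set H)⁆ = ⊥ := by
  classical
  set Y := normalClosure (X : Set H) with hYdef
  haveI hYnil : Group.IsNilpotent ↥Y := by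
    haveI := CfsgLib.Cores.isNilpotent_fittingSubgroup (G := H)
    exact Group.nilpotent_of_mulEquiv (subgroupOfEquivOfLe hY)
  have hYp : ¬ p ∣ Nat.card Y := fun hd =>
    (hp.out.coprime_iff_not_dvd.1 (FStar.coprime_card_of_normal_nilpotent h.core Y hYnil).symm) hd
  have hXY : X ≤ Y := le_normalClosure
  obtain ⟨t, ht, htp, hXt⟩ := exists_prime h fun hd => hYp (hd.trans (card_dvd_of_le hXY))
  haveI : Fact t.Prime := ⟨ht⟩
  have hYt : IsPGroup t ↥Y := by
    obtain ⟨T, hT⟩ := (hXt.of_equiv (subgroupOfEquivOfLe hXY).symm).exists_le_sylow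
    haveI hTn : (T : Subgroup ↥Y).Normal := inferInstance
    have hTm : ((T : Subgroup ↥Y).map Y.subtype).Normal := by
      haveI : (T : Subgroup ↥Y).Characteristic := T.characteristic_of_normal hTn
      infer_instance
    exact (T.2.map Y.subtype).to_le (normalClosure_le_normal fun x hx => ⟨⟨x, hXY hx⟩, hT hx, rfl⟩)
  set Fr := (frattini ↥Y).map Y.subtype with hFr
  have hFrY : Fr ≤ Y := map_subtype_le _
  haveI : Fr.Normal := inferInstance
  haveI : Nontrivial ↥Y := by
    rw [nontrivial_iff_ne_bot]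
    exact fun hb => h.ne (le_bot_iff.1 (hb ▸ hXY))
  have hXFr : ¬ X ≤ Fr := fun hle => by
    have h1 : Y ≤ Fr := normalClosure_le_normal hle
    apply CfsgLib.PGroup.frattini_ne_top hYt
    rw [eq_top_iff]
    intro y _
    obtain ⟨z, hz, hze⟩ := h1 y.2
    exact Subtype.ext hze ▸ hz
  have hclass : ⁅⁅Y, Y⁆, Y⁆ = ⊥ := by
    rw [eq_bot_iff, ← commutator_eq_bot_iff_le_centralizer.2
      (le_centralizer_iff.1 (normalClosure_le_centralizer h hXFr))]
    refine commutator_mono ?_ le_rfl
    rw [← CfsgLib.Cores.map_commutator_top_le]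
    exact map_mono (CfsgLib.PGroup.commutator_le_frattini hYt)
  refine ⟨le_antisymm ?_ hXY, t, ht, htp, hYt, hclass⟩
  -- an invariant complement modulo the Frattini subgroup
  haveI : (frattini ↥Y).Normal := inferInstance
  letI : CommGroup (↥Y ⧸ frattini ↥Y) :=
    { (inferInstance : Group (↥Y ⧸ frattini ↥Y)) with mul_comm := CfsgLib.PGroup.quotient_frattini_comm hYt }
  let ρ : ↥(S : Subgroup H) →* MulAut (↥Y ⧸ frattini ↥Y) :=
    { toFun := fun x => QuotientGroup.congr (frattini ↥Y) (frattini ↥Y) (MulAut.conjNormal (x : H))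
        (Subgroup.characteristic_iff_map_eq.1 inferInstance _)
      map_one' := MulEquiv.ext fun a => by
        obtain ⟨a, rfl⟩ := QuotientGroup.mk_surjective a
        show ((MulAut.conjNormal ((1 : ↥(S : Subgroup H)) : H) a : ↥Y) : ↥Y ⧸ frattini ↥Y) = _
        rw [OneMemClass.coe_one, map_one]
        rfl
      map_mul' := fun x y => MulEquiv.ext fun a => by
        obtain ⟨a, rfl⟩ := QuotientGroup.mk_surjective a
        show ((MulAut.conjNormal ((x * y : ↥(S : Subgroup H)) : H) a : ↥Y) : ↥Y ⧸ frattini ↥Y) = _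
        rw [Subgroup.coe_mul, map_mul]
        rfl }
  set π := QuotientGroup.mk' (frattini ↥Y)
  set B := (X.subgroupOf Y).map π with hB
  have hexp : ∀ a : ↥Y ⧸ frattini ↥Y, a ^ t ^ (0 + 1) = 1 := fun a => by
    rw [zero_add, pow_one]; exact CfsgLib.PGroup.quotient_frattini_pow hYt a
  obtain ⟨C₀, h₀, h₁⟩ := CfsgLib.PGroup.exists_complement_of_free hexp B fun b _ hb' => by
    rw [pow_zero, pow_one] at hb'
    exact ⟨1, one_mem _, by rw [one_pow, hb']⟩
  have hcop : (Nat.card ↥(S : Subgroup H)).Coprime (Monoid.exponent (↥Y ⧸ frattini ↥Y)) := by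
    obtain ⟨k, hk⟩ := S.2.exists_card_eq
    rw [hk]
    refine Nat.Coprime.coprime_dvd_right (Monoid.exponent_dvd_iff_forall_pow_eq_one.2 hexp) ?_
    exact Nat.Coprime.pow _ _ ((Nat.coprime_primes hp.out ht).2 htp.symm)
  have hBinv : ∀ x, ∀ b ∈ B, ρ x b ∈ B := by
    rintro x _ ⟨a, ha, rfl⟩
    exact ⟨_, (mem_normalizer_iff.1 (h.snorm x.2) (a : H)).1 ha, rfl⟩
  obtain ⟨C, hCinv, hC0, hC1⟩ := CfsgLib.PGroup.exists_invariant_complement ρ hcop B hBinv C₀ h₀ h₁
  set R := (C.comap π).map Y.subtype with hR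
  have hRY : R ≤ Y := map_subtype_le _
  have hRS : (S : Subgroup H) ≤ normalizer (R : Set H) := fun x hx => mem_normalizer_of_conj_le (by
    rintro _ ⟨_, ⟨a, ha, rfl⟩, rfl⟩
    exact ⟨MulAut.conjNormal x a, hCinv ⟨x, hx⟩ _ ha, rfl⟩)
  have hXR : ¬ X ≤ R := fun hle => hXFr fun x hx => by
    obtain ⟨a, ha, rfl⟩ := hle hx
    have h2 : π a ∈ B ⊓ C := ⟨mem_map_of_mem π (show a ∈ X.subgroupOf Y from hx), ha⟩
    rw [hC0, mem_bot] at h2
    exact ⟨a, (QuotientGroup.eq_one_iff a).1 h2, rfl⟩
  have hRQ : ∀ r ∈ R, ∀ q ∈ Q, ⁅r, q⁆ = 1 := fun r hr q hq => by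
    have h2 := h.small R hRS hXR (commutator_mem_commutator hr hq)
    have h3 : R ⊓ Q = ⊥ := disjoint_iff.1 (IsPGroup.disjoint_of_ne t p htp _ _ (hYt.to_le hRY) (S.2.to_le h.qle))
    rwa [h3, mem_bot] at h2
  rw [hYdef, ← commutator_normalClosure h, ← hYdef, commutator_le]
  intro y hy q hq
  obtain ⟨b, hb, c, hc, hbc⟩ := mem_sup.1 (hC1.ge (mem_top (π ⟨y, hy⟩)))
  obtain ⟨a, ha, rfl⟩ := hb
  set r : ↥Y := a⁻¹ * ⟨y, hy⟩ with hr
  have hrR : (r : H) ∈ R := ⟨r, by
    show π r ∈ C
    rw [hr, map_mul, map_inv, ← hbc, inv_mul_cancel_left]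
    exact hc, rfl⟩
  have e : y = (a : H) * r := by rw [hr]; simp
  rw [e, show ⁅(a : H) * r, q⁆ = (a : H) * ⁅(r : H), q⁆ * (a : H)⁻¹ * ⁅(a : H), q⁆ by
    rw [commutatorElement_def, commutatorElement_def, commutatorElement_def]; group,
    hRQ _ hrR q hq, mul_one, mul_inv_cancel, one_mul]
  exact h.comm.le (commutator_mem_commutator ha hq)

omit [Finite H] hp in
theorem layer_eq_top_iff_le {Y : Subgroup H} :
    layer ↥Y = ⊤ ↔ Y ≤ (layer ↥Y).map Y.subtype := by
  constructor
  · intro h y hy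
    exact ⟨⟨y, hy⟩, by rw [h]; trivial, rfl⟩
  · intro h
    refine eq_top_iff.2 fun y _ => ?_
    obtain ⟨z, hz, hze⟩ := h y.2
    exact Subtype.ext hze ▸ hz

/-- Otherwise the normal closure is the product of a single orbit of components. -/
theorem component_case (h : Data S X Q L) (hY : ¬ normalClosure (X : Set H) ≤ fittingSubgroup H) :
    p ∣ Nat.card ↥(normalClosure (X : Set H)) ∧ layer ↥(normalClosure (X : Set H)) = ⊤ ∧
      ∀ K₁ K₂ : Subgroup ↥(normalClosure (X : Set H)), IsComponent K₁ → IsComponent K₂ →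
        ∃ x ∈ (S : Subgroup H), K₂.map (normalClosure (X : Set H)).subtype =
          (K₁.map (normalClosure (X : Set H)).subtype).map (MulAut.conj x).toMonoidHom := by
  classical
  set Y := normalClosure (X : Set H) with hYdef
  haveI := CfsgLib.Cores.fittingSubgroup_normal (G := H)
  haveI := CfsgLib.Cores.layer_normal (G := H)
  have hXF : ¬ X ≤ fittingSubgroup H := fun hle => hY (normalClosure_le_normal hle)
  have hYF := normalClosure_le_centralizer h hXF
  rw [← hYdef] at hYF
  have hnE : ¬ Y ≤ centralizer (layer H : Set H) := fun hE => hY (le_fitting_of_centralizes h hYF hE)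
  have hXE : X ≤ layer H := by
    by_contra hc
    exact hnE (normalClosure_le_centralizer h hc)
  have hYE : Y ≤ layer H := normalClosure_le_normal hXE
  -- the product of a family of components
  let E : Set (Subgroup H) → Subgroup H := fun (T : Set (Subgroup H)) => ⨆ K ∈ T, K
  have hEmap : ∀ (T : Set (Subgroup H)) (x : H), (∀ K ∈ T, K.map (MulAut.conj x).toMonoidHom ∈ T) →
      (E T).map (MulAut.conj x).toMonoidHom ≤ E T := by
    intro T x hT
    simp only [E, Subgroup.map_iSup]
    exact iSup₂_le fun K hK => le_iSup₂_of_le (K.map (MulAut.conj x).toMonoidHom) (hT K hK) le_rfl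
  have hEn : ∀ T : Set (Subgroup H), (∀ x, ∀ K ∈ T, K.map (MulAut.conj x).toMonoidHom ∈ T) → (E T).Normal :=
    fun T hT => normalizer_eq_top_iff.1 (eq_top_iff.2 fun x _ => mem_normalizer_of_conj_le (hEmap T x (hT x)))
  have hcent : ∀ T : Set (Subgroup H), (∀ K ∈ T, IsComponent K) →
      (∀ x ∈ (S : Subgroup H), ∀ K ∈ T, K.map (MulAut.conj x).toMonoidHom ∈ T) → ¬ X ≤ E T →
      ∀ K ∈ T, ⁅K, Q⁆ = ⊥ := by
    intro T hT hTS hX K hK
    have h1 := h.small (E T) (fun x hx => mem_normalizer_of_conj_le (hEmap T x (hTS x hx))) hX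
    have hKE : K ≤ E T := le_iSup₂_of_le K hK le_rfl
    set D := E T ⊓ Q
    have hD : IsPGroup p ↥D := S.2.to_le (inf_le_right.trans h.qle)
    have hKD : K ≤ normalizer (D : Set H) := fun k hk => mem_normalizer_of_conj_le (by
      rintro _ ⟨d, hd, rfl⟩
      show k * d * k⁻¹ ∈ D
      rw [show k * d * k⁻¹ = ⁅k, d⁆ * d by rw [commutatorElement_def]; group]
      exact mul_mem (h1 (commutator_mem_commutator (hKE hk) hd.2)) hd)
    haveI := hD.isNilpotent
    have h2 := CfsgLib.Cores.component_commutator_solvable (hT K hK) (S := D) inferInstance hKD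
    refine CfsgLib.Cores.commutator_eq_bot_of_perfect (CfsgLib.Cores.component_commutator_self (hT K hK)) ?_
    rw [eq_bot_iff, ← h2, commutator_comm K D]
    exact commutator_mono ((commutator_mono hKE le_rfl).trans h1) le_rfl
  have hconj : ∀ (x : H) K, IsComponent K → IsComponent (K.map (MulAut.conj x).toMonoidHom) := fun x K hK =>
    CfsgLib.Cores.isComponent_map_equiv (MulAut.conj x) hK
  -- the components moved by `Q`
  set T₀ : Set (Subgroup H) := {K | IsComponent K ∧ ¬ ⁅K, Q⁆ = ⊥}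
  set T₁ : Set (Subgroup H) := {K | IsComponent K ∧ ⁅K, Q⁆ = ⊥}
  have hKY : ∀ y ∈ Y, ∀ K : Subgroup H, IsComponent K → K.map (MulAut.conj y).toMonoidHom = K := fun y hy K hK =>
    mem_normalizer_iff_map_conj_eq.1 (CfsgLib.Cores.layer_le_normalizer_component hK (hYE hy))
  have hinvL : ∀ l ∈ L, ∀ K : Subgroup H, (⁅K, Q⁆ = ⊥ ↔ ⁅K.map (MulAut.conj l).toMonoidHom, Q⁆ = ⊥) := by
    intro l hl K
    have e : ⁅K.map (MulAut.conj l).toMonoidHom, Q⁆ = ⁅K, Q⁆.map (MulAut.conj l).toMonoidHom := by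
      have hQ' : Q.map (MulAut.conj l).toMonoidHom = Q := mem_normalizer_iff_map_conj_eq.1 (h.qnorm hl)
      rw [Subgroup.map_commutator, hQ']
    rw [e, map_eq_bot_iff_of_injective _ (MulAut.conj l).injective]
  have hinv : ∀ x : H, ∀ K : Subgroup H, IsComponent K → (⁅K, Q⁆ = ⊥ ↔ ⁅K.map (MulAut.conj x).toMonoidHom, Q⁆ = ⊥) := by
    intro x K hK
    have hx : x ∈ Y ⊔ L := by rw [h.sup]; trivial
    rw [mem_sup_of_normal_left] at hx
    obtain ⟨y, hy, l, hl, rfl⟩ := hx
    have e : K.map (MulAut.conj (y * l)).toMonoidHom =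
        (K.map (MulAut.conj l).toMonoidHom).map (MulAut.conj y).toMonoidHom := by
      rw [Subgroup.map_map, map_mul]; rfl
    rw [e, hKY y hy _ (hconj l K hK)]
    exact hinvL l hl K
  have hE1X : ¬ X ≤ E T₁ := fun hle => h.ne (by
    rw [← h.comm, commutator_eq_bot_iff_le_centralizer]
    exact hle.trans (iSup₂_le fun K hK => commutator_eq_bot_iff_le_centralizer.1 hK.2))
  haveI hE1n : (E T₁).Normal := hEn T₁ fun x K hK => ⟨hconj x K hK.1, (hinv x K hK.1).1 hK.2⟩
  have hYE1 := normalClosure_le_centralizer h hE1X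
  rw [← hYdef] at hYE1
  -- the orbit of a moved component contains `X`
  set orb : Subgroup H → Set (Subgroup H) := fun K =>
    {K' | ∃ x ∈ (S : Subgroup H), K.map (MulAut.conj x).toMonoidHom = K'}
  have horb : ∀ K ∈ T₀, X ≤ E (orb K) := by
    intro K hK
    by_contra hc
    refine hK.2 (hcent (orb K) (fun K' ⟨x, _, e⟩ => e ▸ hconj x K hK.1) ?_ hc K ⟨1, one_mem _, by rw [map_one]; exact Subgroup.map_id K⟩)
    rintro x hx _ ⟨z, hz, rfl⟩
    exact ⟨x * z, mul_mem hx hz, by rw [Subgroup.map_map, map_mul]; rfl⟩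
  have hcompX : ∀ K : Subgroup H, IsComponent K → (∀ K' ∈ T₀, ∃ O : Set (Subgroup H), X ≤ E O ∧ (∀ J ∈ O, IsComponent J) ∧ K' ∉ O) →
      False := by
    intro K _ hall
    apply hnE
    haveI : (centralizer (layer H : Set H)).Normal := inferInstance
    refine normalClosure_le_normal (?_ : X ≤ _)
    rw [le_centralizer_iff, CfsgLib.Cores.layer_le_iff]
    intro J hJ
    by_cases hJ0 : ⁅J, Q⁆ = ⊥
    · exact (le_iSup₂_of_le J ⟨hJ, hJ0⟩ le_rfl : J ≤ E T₁).trans
        (le_centralizer_iff.1 (le_normalClosure.trans hYE1))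
    · obtain ⟨O, hXO, hO, hJO⟩ := hall J ⟨hJ, hJ0⟩
      refine le_centralizer_iff.1 (hXO.trans (iSup₂_le fun J' hJ' => ?_))
      exact commutator_eq_bot_iff_le_centralizer.1
        (CfsgLib.Cores.commutator_components_eq_bot (hO J' hJ') hJ fun e => hJO (e ▸ hJ'))
  obtain ⟨K₀, hK₀⟩ : T₀.Nonempty := by
    by_contra hne
    rw [Set.not_nonempty_iff_eq_empty] at hne
    exact hE1X (hXE.trans ((CfsgLib.Cores.layer_le_iff).2 fun J hJ => le_iSup₂_of_le J ⟨hJ, by
      by_contra h2
      exact (Set.eq_empty_iff_forall_notMem.1 hne J) ⟨hJ, h2⟩⟩ le_rfl))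
  have hsingle : ∀ K ∈ T₀, K ∈ orb K₀ := by
    intro K hK
    by_contra hnot
    refine hcompX K hK.1 fun K' hK' => ?_
    by_cases h' : K' ∈ orb K₀
    · refine ⟨orb K, horb K hK, fun J ⟨x, _, e⟩ => e ▸ hconj x K hK.1, ?_⟩
      rintro ⟨x, hx, e⟩
      obtain ⟨z, hz, e'⟩ := h'
      refine hnot ⟨x⁻¹ * z, mul_mem (inv_mem hx) hz, ?_⟩
      rw [map_mul, show ((MulAut.conj x⁻¹ * MulAut.conj z).toMonoidHom) =
        (MulAut.conj x⁻¹).toMonoidHom.comp (MulAut.conj z).toMonoidHom from rfl, ← Subgroup.map_map, e', ← e,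
        Subgroup.map_map]
      convert Subgroup.map_id K
      ext a
      simp [mul_assoc]
    · exact ⟨orb K₀, horb K₀ hK₀, fun J ⟨x, _, e⟩ => e ▸ hconj x K₀ hK₀.1, h'⟩
  -- `Y` is the product of these components
  have hcompY : ∀ K ∈ T₀, K ≤ Y := by
    intro K hK
    refine (CfsgLib.Cores.component_le_or_commutator_eq_bot hK.1
      (normalClosure_normal (s := (X : Set H))).isSubnormal).resolve_right fun hc => ?_
    apply hnE
    rw [le_centralizer_iff, CfsgLib.Cores.layer_le_iff]
    intro J hJ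
    by_cases hJ0 : ⁅J, Q⁆ = ⊥
    · exact (le_iSup₂_of_le J ⟨hJ, hJ0⟩ le_rfl : J ≤ E T₁).trans (le_centralizer_iff.1 hYE1)
    · obtain ⟨x, -, e⟩ := hsingle J ⟨hJ, hJ0⟩
      obtain ⟨z, -, e'⟩ := hsingle K hK
      rw [← commutator_eq_bot_iff_le_centralizer, ← e]
      have hY' : ∀ g : H, Y.map (MulAut.conj g).toMonoidHom = Y := fun g =>
        mem_normalizer_iff_map_conj_eq.1 (le_normalizer_of_normal ⊤ Y trivial)
      have h3 : ⁅K₀, Y⁆ = ⊥ := by
        change ⁅K, Y⁆ = ⊥ at hc
        rw [← e', ← hY' z, ← Subgroup.map_commutator,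
          map_eq_bot_iff_of_injective _ (MulAut.conj z).injective] at hc
        exact hc
      rw [← hY' x, ← Subgroup.map_commutator, h3, Subgroup.map_bot]
  have hE0 : E T₀ = Y := le_antisymm (iSup₂_le hcompY) (by
    haveI := hEn T₀ fun x (K : Subgroup H) hK => ⟨hconj x K hK.1, fun h' => hK.2 ((hinv x K hK.1).2 h')⟩
    refine normalClosure_le_normal ((horb K₀ hK₀).trans (iSup₂_le ?_))
    rintro K ⟨x, hx, rfl⟩
    exact le_iSup₂_of_le _ ⟨hconj x K₀ hK₀.1, fun h' => hK₀.2 ((hinv x K₀ hK₀.1).2 h')⟩ le_rfl)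
  have hYsub : Y.IsSubnormal := (normalClosure_normal (s := (X : Set H))).isSubnormal
  refine ⟨?_, ?_, fun K₁ K₂ h1 h2 => ?_⟩
  · -- divisibility
    by_contra hd
    obtain ⟨t, ht, htp, hXt⟩ := exists_prime h fun hd' => hd (hd'.trans (card_dvd_of_le le_normalClosure))
    haveI : Fact t.Prime := ⟨ht⟩
    obtain ⟨Rt, hRt⟩ := exists_invariant_sylow S (le_normalizer_of_normal _ Y) hd t
    set R := (Rt : Subgroup ↥Y).map Y.subtype
    set C := centralizer (Q : Set H) ⊓ Y
    have hRY : R ≤ Y := map_subtype_le _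
    have hC : ∀ s : ℕ, s.Prime → s ≠ t → s ^ (Nat.card Y).factorization s ∣ Nat.card C := by
      intro s hs hst
      haveI : Fact s.Prime := ⟨hs⟩
      obtain ⟨Rs, hRs⟩ := exists_invariant_sylow S (le_normalizer_of_normal _ Y) hd s
      have hsp : IsPGroup s ↥((Rs : Subgroup ↥Y).map Y.subtype) := Rs.2.map _
      have hnX : ¬ X ≤ (Rs : Subgroup ↥Y).map Y.subtype := fun hle => h.ne (by
        have := IsPGroup.disjoint_of_ne t s hst.symm _ _ hXt hsp
        rwa [disjoint_iff, inf_eq_left.2 hle] at this)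
      by_cases hsp' : s = p
      · subst hsp'
        rw [Nat.factorization_eq_zero_of_not_dvd hd, pow_zero]
        exact one_dvd _
      have hle : (Rs : Subgroup ↥Y).map Y.subtype ≤ C := le_inf (by
        rw [← commutator_eq_bot_iff_le_centralizer, eq_bot_iff]
        refine (h.small _ hRs hnX).trans ?_
        rw [disjoint_iff.1 (IsPGroup.disjoint_of_ne s p hsp' _ _ hsp (S.2.to_le h.qle))]) (map_subtype_le _)
      refine dvd_trans ?_ (card_dvd_of_le hle)
      rw [card_map_of_injective Y.subtype_injective, Rs.card_eq_multiplicity]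
    have hcov : ((R : Set H) * (C : Set H)) = (Y : Set H) := by
      have hsub : ((R : Set H) * (C : Set H)) ⊆ (Y : Set H) := by
        rintro _ ⟨r, hr, c, hc, rfl⟩
        exact mul_mem (hRY hr) hc.2
      refine Set.eq_of_subset_of_ncard_le hsub ?_ (Set.toFinite _)
      rw [← Nat.card_coe_set_eq, ← Nat.card_coe_set_eq]
      have h5 := CfsgLib.PGroup.card_setMul_mul_card_inf R C
      refine Nat.le_of_mul_le_mul_right ?_ (Nat.card_pos (α := ↥(R ⊓ C)))
      rw [h5]
      have hRc : Nat.card R = t ^ (Nat.card Y).factorization t := by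
        rw [card_map_of_injective Y.subtype_injective, Rt.card_eq_multiplicity]
      refine Nat.le_of_dvd (Nat.mul_pos Nat.card_pos Nat.card_pos) ?_
      rw [Nat.dvd_iff_prime_pow_dvd_dvd]
      intro s k hs hk
      haveI : Fact s.Prime := ⟨hs⟩
      obtain ⟨j, hj⟩ := ((Rt.2.map Y.subtype).to_le (inf_le_left : R ⊓ C ≤ R)).exists_card_eq
      rw [hj] at hk
      by_cases hst : s = t
      · subst hst
        rw [hRc]
        obtain ⟨c, hc⟩ : s ^ j ∣ Nat.card C := hj ▸ card_dvd_of_le inf_le_right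
        rw [hc]
        refine dvd_trans ?_ (Dvd.intro c (by ring) : s ^ ((Nat.card Y).factorization s + j) ∣ s ^ (Nat.card Y).factorization s * (s ^ j * c))
        refine pow_dvd_pow s ?_
        have := (hs.pow_dvd_iff_le_factorization (Nat.mul_ne_zero Nat.card_pos.ne' (pow_ne_zero _ hs.pos.ne'))).1 hk
        rw [Nat.factorization_mul Nat.card_pos.ne' (pow_ne_zero _ hs.pos.ne'), Nat.Prime.factorization_pow hs] at this
        simpa using this
      · refine dvd_trans ?_ (dvd_mul_left _ _)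
        refine dvd_trans (pow_dvd_pow s ?_) (hC s hs hst)
        refine (hs.pow_dvd_iff_le_factorization Nat.card_pos.ne').1 ?_
        exact (Nat.Coprime.pow k j ((Nat.coprime_primes hs ht).2 hst)).dvd_of_dvd_mul_right hk
    apply hY
    have hYR : Y ≤ R := by
      conv_lhs => rw [hYdef, ← commutator_normalClosure h]
      rw [← hYdef, commutator_le]
      intro y hy q hq
      obtain ⟨r, hr, c, hc, e⟩ := Set.mem_mul.1 (hcov.ge hy)
      rw [← e, show ⁅r * c, q⁆ = r * ⁅c, q⁆ * r⁻¹ * ⁅r, q⁆ by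
        rw [commutatorElement_def, commutatorElement_def, commutatorElement_def]; group,
        commutatorElement_eq_one_iff_mul_comm.2 (mem_centralizer_iff.1 hc.1 q hq).symm, mul_one,
        mul_inv_cancel, one_mul, commutatorElement_def,
        show r * q * r⁻¹ * q⁻¹ = r * (q * r⁻¹ * q⁻¹) by group]
      exact mul_mem hr ((mem_normalizer_iff.1 (hRt (h.qle hq)) _).1 (inv_mem hr))
    haveI := ((Rt.2.map Y.subtype).to_le hYR).isNilpotent
    exact CfsgLib.Cores.le_fittingSubgroup inferInstance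
  · rw [layer_eq_top_iff_le]
    conv_lhs => rw [← hE0]
    refine iSup₂_le fun K hK => ?_
    have hKY' := hcompY K hK
    refine le_trans ?_ (map_mono (CfsgLib.Cores.component_le_layer
      (CfsgLib.Cores.isComponent_subgroupOf hK.1 hKY')))
    exact (map_subgroupOf_eq_of_le hKY').ge
  · have hmem : ∀ K : Subgroup ↥Y, IsComponent K → K.map Y.subtype ∈ T₀ := by
      intro K hK
      have hKc := CfsgLib.Cores.isComponent_map_subtype hYsub hK
      refine ⟨hKc, fun h0 => ?_⟩
      have hle : K.map Y.subtype ≤ centralizer (Y : Set H) :=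
        (le_iSup₂_of_le (K.map Y.subtype) ⟨hKc, h0⟩ le_rfl : K.map Y.subtype ≤ E T₁).trans
          (le_centralizer_iff.1 hYE1)
      have h1 : K.map Y.subtype ≤ centralizer (K.map Y.subtype : Set H) :=
        hle.trans (centralizer_le (SetLike.coe_subset_coe.2 (map_subtype_le K)))
      exact CfsgLib.Cores.component_ne_bot hKc (by
        rw [← CfsgLib.Cores.component_commutator_self hKc, commutator_eq_bot_iff_le_centralizer]
        exact h1)
    obtain ⟨x, hx, e1⟩ := hsingle _ (hmem K₁ h1)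
    obtain ⟨z, hz, e2⟩ := hsingle _ (hmem K₂ h2)
    refine ⟨z * x⁻¹, mul_mem hz (inv_mem hx), ?_⟩
    rw [← e2, ← e1, Subgroup.map_map]
    congr 1
    ext a
    simp [mul_assoc]

end CfsgLib.LocalEven.IsoMin
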