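import Mathlib
import Cfsg.Prelude.Def_LocalEven
import Cfsg.Agent.Lib.Transfer.Basic
import Cfsg.Agent.Lib.LocalEven.PClosed
import Cfsg.Agent.Lib.LocalEven.MinimalOver
import Cfsg.Agent.Lib.LocalEven.IsolatedCore

/-!
An isolated `p`-minimal subgroup `P ≥ S` and the normal closure of `O^p(P)`.
-/

set_option autoImplicit false

namespace CfsgLib.LocalEven.IsoMin

open Subgroup Cfsg
open scoped commutatorElement Pointwise

variable {G : Type*} [Group G] [Finite G] {p : ℕ} [hp : Fact p.Prime]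

theorem isPMinimal_of_unique {K : Type*} [Group K] [Finite K] (S : Sylow p K) {M : Subgroup K}
    (hn : ¬ (S : Subgroup K).Normal) (hM : IsCoatom M) (hSM : (S : Subgroup K) ≤ M)
    (hu : ∀ M', IsCoatom M' → (S : Subgroup K) ≤ M' → M' = M) : IsPMinimal p K := by
  intro T
  obtain ⟨g, rfl⟩ := MulAction.exists_smul_eq K S T
  let ψ : Subgroup K ≃o Subgroup K := MulEquiv.mapSubgroup (MulAut.conj g)
  have hT : ψ (S : Subgroup K) = ((g • S : Sylow p K) : Subgroup K) := rfl
  rw [← hT]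
  refine ⟨fun h => hn ?_, ψ M, ⟨(OrderIso.isCoatom_iff ψ M).2 hM, ψ.monotone hSM⟩, ?_⟩
  · have := h.map (MulAut.conj g).symm.toMonoidHom (MulAut.conj g).symm.surjective
    convert this
    exact (ψ.symm_apply_apply _).symm
  · rintro M' ⟨hM', hle⟩
    rw [← hu (ψ.symm M') ((OrderIso.isCoatom_iff ψ.symm M').2 hM')
      ((ψ.symm_apply_apply _).ge.trans (ψ.symm.monotone hle)), OrderIso.apply_symm_apply]

/-- A subgroup containing `S` is generated by its part of `N(S)` and its `p`-minimal subgroups. -/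
theorem le_generated (S : Sylow p G) (n : ℕ) : ∀ K : Subgroup G, Nat.card K ≤ n → (S : Subgroup G) ≤ K →
    ∀ T : Subgroup G, K ⊓ normalizer ((S : Subgroup G) : Set G) ≤ T →
      (∀ P' : Subgroup G, (S : Subgroup G) ≤ P' → P' ≤ K → IsPMinimal p ↥P' → P' ≤ T) → K ≤ T := by
  induction n with
  | zero => intro K hK; exact absurd hK (by have := Nat.card_pos (α := ↥K); omega)
  | succ n ih =>
    intro K hK hSK T hN hP
    set S' : Sylow p ↥K := S.subtype hSK with hS'
    have hS'c : (S' : Subgroup ↥K) = (S : Subgroup G).subgroupOf K := rfl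
    by_cases hn : (S' : Subgroup ↥K).Normal
    · rw [hS'c, normal_subgroupOf_iff_le_normalizer hSK] at hn
      exact fun x hx => hN ⟨hx, hn hx⟩
    obtain hS'top | ⟨M, hM, hSM⟩ := eq_top_or_exists_le_coatom (S' : Subgroup ↥K)
    · exact absurd (by rw [hS'top]; infer_instance) hn
    by_cases hu : ∀ M', IsCoatom M' → (S' : Subgroup ↥K) ≤ M' → M' = M
    · exact hP K hSK le_rfl (isPMinimal_of_unique S' hn hM hSM hu)
    push Not at hu
    obtain ⟨M', hM', hSM', hne⟩ := hu
    have htop : M ⊔ M' = ⊤ := by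
      refine hM.2 _ (lt_of_le_of_ne le_sup_left fun e => hne ?_)
      have hle : M' ≤ M := e.ge.trans' le_sup_right
      rcases eq_or_lt_of_le hle with h | h
      · exact h
      · exact absurd (hM'.2 M h) hM.1
    have hlt : ∀ N : Subgroup ↥K, IsCoatom N → (S' : Subgroup ↥K) ≤ N → N.map K.subtype ≤ T := by
      intro N hNc hSN
      refine ih _ ?_ ?_ T ((inf_le_inf_right _ (map_subtype_le N)).trans hN)
        fun P' h1 h2 h3 => hP P' h1 (h2.trans (map_subtype_le N)) h3
      · refine Nat.lt_succ_iff.1 (lt_of_lt_of_le ?_ hK)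
        rw [card_map_of_injective K.subtype_injective]
        refine lt_of_le_of_ne (card_le_card_group N) fun e => hNc.1 ((card_eq_iff_eq_top N).1 e)
      · intro x hx
        exact ⟨⟨x, hSK hx⟩, hSN hx, rfl⟩
    have h1 := sup_le (hlt M hM hSM) (hlt M' hM' hSM')
    rwa [← Subgroup.map_sup, htop, ← MonoidHom.range_eq_map, range_subtype] at h1

variable (S : Sylow p G) {P : Subgroup G}

theorem resid_sup (hSP : (S : Subgroup G) ≤ P) : (pResidual p ↥P).map P.subtype ⊔ (S : Subgroup G) = P := by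
  have h := CfsgLib.Transfer.pResidual_sup_sylow (S.subtype hSP)
  have h2 := congrArg (Subgroup.map P.subtype) h
  rw [Subgroup.map_sup, ← MonoidHom.range_eq_map, range_subtype] at h2
  convert h2
  exact (map_subgroupOf_eq_of_le hSP).symm

theorem resid_le (hSP : (S : Subgroup G) ≤ P) {R : Subgroup G}
    (hR : (S : Subgroup G) ≤ normalizer (R : Set G))
    (h : (pResidual p ↥P).map P.subtype ≤ R ⊔ (S : Subgroup G)) : (pResidual p ↥P).map P.subtype ≤ R := by
  set U := R ⊔ (S : Subgroup G) with hU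
  have hPU : P ≤ U := (resid_sup S hSP).ge.trans (sup_le h le_sup_right)
  haveI : (R.subgroupOf U).Normal :=
    normal_subgroupOf_of_le_normalizer (sup_le le_normalizer hR)
  have h1 : pResidual p ↥U ≤ R.subgroupOf U := by
    refine PClosed.pResidual_le_of_sup_eq_top (T := (S.subtype (le_sup_right : (S : Subgroup G) ≤ U) : Subgroup ↥U))
      (Sylow.isPGroup' _) ?_
    show R.subgroupOf U ⊔ (S : Subgroup G).subgroupOf U = ⊤
    rw [← subgroupOf_sup le_sup_left le_sup_right, subgroupOf_self]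
  have h2 : (pResidual p ↥P).map (inclusion hPU) ≤ pResidual p ↥U := CfsgLib.Transfer.map_pResidual_le _
  rintro _ ⟨x, hx, rfl⟩
  exact h1 (h2 ⟨x, hx, rfl⟩)

theorem normalizer_resid (P : Subgroup G) : P ≤ normalizer (((pResidual p ↥P).map P.subtype : Subgroup G) : Set G) := by
  intro x hx
  refine mem_normalizer_of_conj_le ?_
  rintro _ ⟨_, ⟨y, hy, rfl⟩, rfl⟩
  haveI := CfsgLib.Transfer.pResidual_characteristic (G := ↥P) (p := p)
  exact ⟨⟨x, hx⟩ * y * ⟨x, hx⟩⁻¹, Subgroup.Normal.conj_mem inferInstance y hy _, rfl⟩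

/-- The hypotheses of an isolated `p`-minimal subgroup. -/
structure Iso (P L : Subgroup G) : Prop where
  hSP : (S : Subgroup G) ≤ P
  hmin : IsPMinimal p ↥P
  hL : L = normalizer ((S : Subgroup G) : Set G) ⊔
    ⨆ P' : {P' : Subgroup G // (S : Subgroup G) ≤ P' ∧ IsPMinimal p ↥P' ∧ P' ≠ P}, (P' : Subgroup G)
  hiso : ¬ (pCore p ↥L).map L.subtype ≤ (pCore p ↥P).map P.subtype

variable {S} {L : Subgroup G}

theorem sle (h : Iso S P L) : (S : Subgroup G) ≤ L :=
  le_normalizer.trans (le_sup_left.trans h.hL.ge)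

theorem generated_le (h : Iso S P L) {K : Subgroup G} (hSK : (S : Subgroup G) ≤ K) {T : Subgroup G}
    (hLT : L ≤ T) (hPT : P ≤ K → P ≤ T) : K ≤ T := by
  refine le_generated S _ K le_rfl hSK T (inf_le_right.trans ((le_sup_left.trans h.hL.ge).trans hLT))
    fun P' h1 h2 h3 => ?_
  by_cases hP' : P' = P
  · subst hP'; exact hPT h2
  · refine le_trans ?_ hLT
    rw [h.hL]
    exact le_sup_of_le_right (le_iSup
      (fun P' : {P' : Subgroup G // (S : Subgroup G) ≤ P' ∧ IsPMinimal p ↥P' ∧ P' ≠ P} => (P' : Subgroup G))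
      ⟨P', h1, h3, hP'⟩)

theorem qle (h : Iso S P L) : (pCore p ↥L).map L.subtype ≤ (S : Subgroup G) := by
  rintro _ ⟨x, hx, rfl⟩
  exact CfsgLib.Cores.pCore_le_sylow (S.subtype (sle h)) hx

theorem qnorm (h : Iso S P L) : L ≤ normalizer (((pCore p ↥L).map L.subtype : Subgroup G) : Set G) := by
  have _ := h
  exact le_normalizer_pCoreOf p L

/-- `S`-invariant subgroups not containing `O^p(P)` normalise `Q = O_p(L)`. -/
theorem small (h : Iso S P L) {R : Subgroup G} (hR : (S : Subgroup G) ≤ normalizer (R : Set G))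
    (hX : ¬ (pResidual p ↥P).map P.subtype ≤ R) :
    ⁅R, (pCore p ↥L).map L.subtype⁆ ≤ R ⊓ (pCore p ↥L).map L.subtype := by
  have hle : R ⊔ (S : Subgroup G) ≤ L := generated_le h le_sup_right le_rfl fun hP =>
    absurd (resid_le S h.hSP hR ((map_subtype_le _).trans hP)) hX
  rw [commutator_le]
  intro r hr q hq
  refine ⟨?_, ?_⟩
  · rw [commutatorElement_def, show r * q * r⁻¹ * q⁻¹ = r * (q * r⁻¹ * q⁻¹) by group]
    exact mul_mem hr ((mem_normalizer_iff.1 (hR (qle h hq)) _).1 (inv_mem hr))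
  · rw [commutatorElement_def]
    exact mul_mem ((mem_normalizer_iff.1 (qnorm h (hle (mem_sup_left hr))) _).1 hq) (Subgroup.inv_mem _ hq)

theorem comm (h : Iso S P L) :
    ⁅(pResidual p ↥P).map P.subtype, (pCore p ↥L).map L.subtype⁆ = (pResidual p ↥P).map P.subtype := by
  set X := (pResidual p ↥P).map P.subtype with hXdef
  set Q := (pCore p ↥L).map L.subtype with hQdef
  have hQS : Q ≤ (S : Subgroup G) := qle h
  have hSX : (S : Subgroup G) ≤ normalizer (X : Set G) := h.hSP.trans (normalizer_resid P)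
  have hXQ : ∀ q ∈ Q, ∀ x ∈ X, q * x * q⁻¹ ∈ X := fun q hq x hx => (mem_normalizer_iff.1 (hSX (hQS hq)) x).1 hx
  refine le_antisymm ?_ ?_
  · rw [commutator_le]
    intro x hx q hq
    rw [commutatorElement_def, show x * q * x⁻¹ * q⁻¹ = x * (q * x⁻¹ * q⁻¹) by group]
    exact mul_mem hx (hXQ q hq _ (inv_mem hx))
  set D := ⁅X, Q⁆ with hD
  have hSD : (S : Subgroup G) ≤ normalizer (D : Set G) := fun x hx => mem_normalizer_of_conj_le (by
    rw [hD, Subgroup.map_commutator]
    exact commutator_mono (mem_normalizer_iff_map_conj_eq.1 (hSX hx)).le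
      (mem_normalizer_iff_map_conj_eq.1 (qnorm h (sle h hx))).le)
  refine resid_le S h.hSP hSD ?_
  by_contra hc
  -- `D Q` is normal in `P` and its Sylow part lies in the core
  set R := D ⊔ Q with hR
  have hRP : R ≤ P := sup_le ((commutator_le.2 fun x hx q hq => by
    rw [commutatorElement_def]
    exact mul_mem (mul_mem (mul_mem (map_subtype_le _ hx) (h.hSP (hQS hq))) (inv_mem (map_subtype_le _ hx)))
      (inv_mem (h.hSP (hQS hq))))) (hQS.trans h.hSP)
  have hPR : P ≤ normalizer (R : Set G) := by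
    rw [← resid_sup S h.hSP]
    refine sup_le (fun x hx => mem_normalizer_of_conj_le ?_) fun x hx => mem_normalizer_of_conj_le ?_
    · rw [hR, Subgroup.map_sup]
      refine sup_le ((mem_normalizer_iff_map_conj_eq.1 (normalizer_commutator_ge_left X Q hx)).le.trans le_sup_left) ?_
      rintro _ ⟨q, hq, rfl⟩
      show x * q * x⁻¹ ∈ R
      rw [show x * q * x⁻¹ = ⁅x, q⁆ * q by rw [commutatorElement_def]; group]
      exact mul_mem_sup (commutator_mem_commutator hx hq) hq
    · rw [hR, Subgroup.map_sup]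
      exact sup_le_sup (mem_normalizer_iff_map_conj_eq.1 (hSD hx)).le
        (mem_normalizer_iff_map_conj_eq.1 (qnorm h (sle h hx))).le
  haveI : (R.subgroupOf P).Normal := normal_subgroupOf_of_le_normalizer hPR
  obtain ⟨-, M, ⟨hM, hSM⟩, hu⟩ := h.hmin (S.subtype h.hSP)
  have hRM : R.subgroupOf P ≤ M := by
    refine le_sup_left.trans (MinOver.le_of_ne_top hu
      (le_sup_right (a := R.subgroupOf P) (b := (S.subtype h.hSP : Subgroup ↥P))) ?_)
    intro htop
    apply hc
    have h1 := congrArg (Subgroup.map P.subtype) htop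
    rw [Subgroup.map_sup, ← MonoidHom.range_eq_map, range_subtype, map_subgroupOf_eq_of_le hRP] at h1
    refine (map_subtype_le _).trans (h1.ge.trans (sup_le (sup_le le_sup_left (hQS.trans le_sup_right)) ?_))
    exact (map_subgroupOf_eq_of_le h.hSP).le.trans le_sup_right
  have h2 := MinOver.inf_le_pCore (S.subtype h.hSP) hM hu (R.subgroupOf P) hRM
  exact h.hiso fun q hq => ⟨⟨q, h.hSP (hQS hq)⟩, h2 ⟨hQS hq, mem_sup_right hq⟩, rfl⟩

theorem not_resid_le_pCore (h : Iso S P L) : ¬ (pResidual p ↥P).map P.subtype ≤ pCore p G := fun hle => by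
  obtain ⟨hn, -⟩ := h.hmin (S.subtype h.hSP)
  apply hn
  have hPS : P ≤ (S : Subgroup G) :=
    (resid_sup S h.hSP).ge.trans (sup_le (hle.trans (CfsgLib.Cores.pCore_le_sylow S)) le_rfl)
  have : (S.subtype h.hSP : Subgroup ↥P) = ⊤ := eq_top_iff.2 fun x _ => hPS x.2
  rw [this]
  infer_instance

theorem sup_eq_top (h : Iso S P L) {Y : Subgroup G}
    (hY : (pResidual p ↥P).map P.subtype ≤ Y) : Y ⊔ L = ⊤ :=
  top_le_iff.1 (generated_le h le_top le_sup_right fun _ =>
    (resid_sup S h.hSP).ge.trans (sup_le_sup hY (sle h)))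

theorem second (h : Iso S P L) (Y : Subgroup G) :
    ¬ (pCore p ↥((normalizer ((S : Subgroup G) : Set G) ⊓ (Y ⊔ (S : Subgroup G))) ⊔
          ⨆ P' : {P' : Subgroup G // (S : Subgroup G) ≤ P' ∧ P' ≤ Y ⊔ (S : Subgroup G) ∧ IsPMinimal p ↥P' ∧ P' ≠ P}, (P' : Subgroup G))).map
        (Subgroup.subtype _) ≤ (pCore p ↥P).map P.subtype := by
  set L₀ := (normalizer ((S : Subgroup G) : Set G) ⊓ (Y ⊔ (S : Subgroup G))) ⊔
          ⨆ P' : {P' : Subgroup G // (S : Subgroup G) ≤ P' ∧ P' ≤ Y ⊔ (S : Subgroup G) ∧ IsPMinimal p ↥P' ∧ P' ≠ P}, (P' : Subgroup G)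
  have h0 : L₀ ≤ L := by
    rw [h.hL]
    exact sup_le (inf_le_left.trans le_sup_left) (iSup_le fun P' => le_sup_of_le_right (le_iSup
      (fun P' : {P' : Subgroup G // (S : Subgroup G) ≤ P' ∧ IsPMinimal p ↥P' ∧ P' ≠ P} => (P' : Subgroup G))
      ⟨P', P'.2.1, P'.2.2.2.1, P'.2.2.2.2⟩))
  have hS0 : (S : Subgroup G) ≤ L₀ := (le_inf le_normalizer le_sup_right).trans le_sup_left
  intro hle
  refine h.hiso (le_trans ?_ hle)
  exact le_pCoreOf ((qle h).trans hS0) (S.2.to_le (qle h)) (h0.trans (qnorm h))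

/-- The data in `G / O_p(G)`. -/
theorem data (h : Iso S P L) [(pCore p G).Normal] :
    Data (S.mapSurjective (QuotientGroup.mk'_surjective (pCore p G)))
      (((pResidual p ↥P).map P.subtype).map (QuotientGroup.mk' (pCore p G)))
      (((pCore p ↥L).map L.subtype).map (QuotientGroup.mk' (pCore p G)))
      (L.map (QuotientGroup.mk' (pCore p G))) := by
  set O := pCore p G
  set π := QuotientGroup.mk' O with hπ
  have hsurj : Function.Surjective π := QuotientGroup.mk'_surjective O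
  set X := (pResidual p ↥P).map P.subtype with hXdef
  set Q := (pCore p ↥L).map L.subtype with hQdef
  have hOS : O ≤ (S : Subgroup G) := CfsgLib.Cores.pCore_le_sylow S
  have hS' : ((S.mapSurjective hsurj : Sylow p (G ⧸ O)) : Subgroup (G ⧸ O)) = (S : Subgroup G).map π := rfl
  have hcom : ∀ R : Subgroup (G ⧸ O), ((S : Subgroup G).map π) ≤ normalizer (R : Set (G ⧸ O)) →
      (S : Subgroup G) ≤ normalizer ((R.comap π : Subgroup G) : Set G) := fun R hR x hx => by
    rw [mem_normalizer_iff]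
    intro y
    rw [mem_comap, mem_comap, map_mul, map_mul, map_inv]
    exact mem_normalizer_iff.1 (hR ⟨x, hx, rfl⟩) (π y)
  refine ⟨CfsgLib.Cores.pCore_quotient_self p, map_mono (qle h), map_mono (sle h), ?_, ?_, ?_, ?_, ?_, ?_, ?_⟩
  · exact (map_mono (qnorm h)).trans (le_normalizer_map π)
  · exact (map_mono (h.hSP.trans (normalizer_resid P))).trans (le_normalizer_map π)
  · rw [← Subgroup.map_commutator, comm h]
  · intro hb
    rw [Subgroup.map_eq_bot_iff, QuotientGroup.ker_mk'] at hb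
    exact not_resid_le_pCore h hb
  · intro R hR hX
    have h1 := small h (hcom R hR) fun hle => hX ((map_mono hle).trans (map_comap_le π R))
    calc ⁅R, Q.map π⁆ = ⁅(R.comap π).map π, Q.map π⁆ := by rw [map_comap_eq_self_of_surjective hsurj]
      _ = (⁅R.comap π, Q⁆).map π := (Subgroup.map_commutator _ _ π).symm
      _ ≤ (R.comap π ⊓ Q).map π := map_mono h1
      _ ≤ (R.comap π).map π ⊓ Q.map π := map_inf_le _ _ π
      _ = R ⊓ Q.map π := by rw [map_comap_eq_self_of_surjective hsurj]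
  · rw [coe_map, ← map_normalClosure _ π hsurj, ← Subgroup.map_sup, sup_eq_top h le_normalClosure,
      map_top_of_surjective π hsurj]
  · intro R₁ R₂ h1 h2 hn1 hn2 hX1 hX2 hle
    obtain ⟨-, M, ⟨hM, hSM⟩, hu⟩ := h.hmin (S.subtype h.hSP)
    have key : ∀ R : Subgroup (G ⧸ O), R ≤ X.map π → ((S : Subgroup G).map π) ≤ normalizer (R : Set (G ⧸ O)) →
        ¬ X.map π ≤ R → (R.comap π) ≤ P ∧ R.comap π ≤ M.map P.subtype := by
      intro R hR hn hX
      have hRP : R.comap π ≤ P := by
        refine (comap_mono hR).trans ?_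
        rw [comap_map_eq, QuotientGroup.ker_mk']
        exact sup_le (map_subtype_le _) (hOS.trans h.hSP)
      refine ⟨hRP, ?_⟩
      have hne : (R.comap π).subgroupOf P ⊔ (S.subtype h.hSP : Subgroup ↥P) ≠ ⊤ := fun htop => hX (by
        have e1 := congrArg (Subgroup.map P.subtype) htop
        rw [Subgroup.map_sup, ← MonoidHom.range_eq_map, range_subtype, map_subgroupOf_eq_of_le hRP] at e1
        have e2 : X ≤ R.comap π ⊔ (S : Subgroup G) :=
          (map_subtype_le _).trans (e1.ge.trans (sup_le_sup le_rfl (map_subgroupOf_eq_of_le h.hSP).le))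
        exact (map_mono (resid_le S h.hSP (hcom R hn) e2)).trans (map_comap_le π R))
      rw [← map_subgroupOf_eq_of_le hRP]
      exact map_mono (le_sup_left.trans (MinOver.le_of_ne_top hu le_sup_right hne))
    have hXM : X ≤ M.map P.subtype := by
      refine (le_comap_map π X).trans ((comap_mono hle).trans ?_)
      rw [← comap_sup_eq_of_le_range (f := π) (by rw [MonoidHom.range_eq_top.2 hsurj]; exact le_top)
        (by rw [MonoidHom.range_eq_top.2 hsurj]; exact le_top)]
      exact sup_le (key R₁ h1 hn1 hX1).2 (key R₂ h2 hn2 hX2).2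
    apply hM.1
    rw [eq_top_iff]
    intro x _
    have hSM' : (S : Subgroup G) ≤ M.map P.subtype := fun y hy => ⟨⟨y, h.hSP hy⟩, hSM hy, rfl⟩
    obtain ⟨y, hy, hye⟩ := sup_le hXM hSM' ((resid_sup S h.hSP).ge x.2)
    exact Subtype.ext hye ▸ hy

/-- The image of `Y` modulo `O_p(G)`. -/
theorem exists_equiv [(pCore p G).Normal] (Y : Subgroup G) [Y.Normal] :
    ∃ _ : (pCore p ↥Y).Normal, ∃ e : ↥Y ⧸ pCore p ↥Y ≃* ↥(Y.map (QuotientGroup.mk' (pCore p G))),
      ∀ y : ↥Y, ((e (y : ↥Y ⧸ pCore p ↥Y) : ↥(Y.map (QuotientGroup.mk' (pCore p G)))) : G ⧸ pCore p G) = ((y : G) : G ⧸ pCore p G) := by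
  haveI := CfsgLib.Cores.pCore_characteristic (G := ↥Y) p
  refine ⟨inferInstance, ?_⟩
  set φ := (QuotientGroup.mk' (pCore p G)).subgroupMap Y
  have hker : φ.ker = pCore p ↥Y := by
    have h1 := CfsgLib.Cores.pCore_of_normal p Y
    ext y
    rw [MonoidHom.mem_ker, ← Subtype.coe_inj]
    show ((y : G) : G ⧸ pCore p G) = 1 ↔ _
    rw [QuotientGroup.eq_one_iff]
    constructor
    · intro hy
      obtain ⟨z, hz, e⟩ := h1.ge ⟨hy, y.2⟩
      exact Subtype.ext e ▸ hz
    · intro hy
      exact (h1.le ⟨y, hy, rfl⟩).1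
  exact ⟨(QuotientGroup.quotientMulEquivOfEq hker.symm).trans
    (QuotientGroup.quotientKerEquivOfSurjective φ ((QuotientGroup.mk' (pCore p G)).subgroupMap_surjective Y)),
    fun y => rfl⟩

theorem closure_map [(pCore p G).Normal] (Y : Subgroup G)
    (hY : Y = normalClosure (((pResidual p ↥P).map P.subtype : Subgroup G) : Set G)) :
    normalClosure ((((pResidual p ↥P).map P.subtype).map (QuotientGroup.mk' (pCore p G)) : Subgroup (G ⧸ pCore p G)) : Set (G ⧸ pCore p G)) =
      Y.map (QuotientGroup.mk' (pCore p G)) := by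
  rw [hY, map_normalClosure _ _ (QuotientGroup.mk'_surjective _)]
  rfl

/-- If the image is nilpotent, `Y = O^p(P)`. -/
theorem eq_resid_of_nilpotent_case (h : Iso S P L) [(pCore p G).Normal] (Y : Subgroup G)
    (hY : Y = normalClosure (((pResidual p ↥P).map P.subtype : Subgroup G) : Set G))
    (hF : Y.map (QuotientGroup.mk' (pCore p G)) ≤ fittingSubgroup (G ⧸ pCore p G)) :
    (pResidual p ↥P).map P.subtype = Y := by
  have hd := data h
  obtain ⟨hYX, -⟩ := nilpotent_case hd (by rw [closure_map Y hY]; exact hF)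
  rw [closure_map Y hY] at hYX
  set X := (pResidual p ↥P).map P.subtype with hXdef
  have hXY : X ≤ Y := by rw [hY]; exact le_normalClosure
  have hYP : Y ≤ P := by
    have h1 := (le_comap_map (QuotientGroup.mk' (pCore p G)) Y).trans (comap_mono hYX.le)
    rw [comap_map_eq, QuotientGroup.ker_mk'] at h1
    exact h1.trans (sup_le (map_subtype_le _) ((CfsgLib.Cores.pCore_le_sylow S).trans h.hSP))
  refine le_antisymm hXY ?_
  haveI : Y.Normal := by rw [hY]; exact normalClosure_normal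
  haveI : X.Normal := by
    rw [← normalizer_eq_top_iff, eq_top_iff, ← sup_eq_top h hXY]
    refine sup_le (hYP.trans (normalizer_resid P)) fun l _ => mem_normalizer_of_conj_le ?_
    show ((pResidual p ↥P).map P.subtype).map (MulAut.conj l).toMonoidHom ≤ X
    rw [map_le_iff_le_comap, map_le_iff_le_comap]
    refine (closure_le _).2 fun g hg => ?_
    have hgP : l * (g : G) * l⁻¹ ∈ P :=
      hYP (Subgroup.Normal.conj_mem ‹Y.Normal› _ (hXY ⟨g, subset_closure hg, rfl⟩) l)
    refine ⟨⟨_, hgP⟩, subset_closure ?_, rfl⟩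
    have e : orderOf (⟨l * (g : G) * l⁻¹, hgP⟩ : ↥P) = orderOf g := by
      rw [← orderOf_injective P.subtype P.subtype_injective ⟨l * (g : G) * l⁻¹, hgP⟩,
        ← orderOf_injective P.subtype P.subtype_injective g]
      exact orderOf_injective (MulAut.conj l).toMonoidHom (MulAut.conj l).injective (g : G)
    show Nat.Coprime (orderOf (⟨l * (g : G) * l⁻¹, hgP⟩ : ↥P)) p
    rw [e]
    exact hg
  rw [hY]
  exact normalClosure_le_normal (subset_refl _)

theorem part_fStar (h : Iso S P L) [(pCore p G).Normal] :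
    (pResidual p ↥P).map P.subtype ≤
      (generalizedFittingSubgroup (G ⧸ pCore p G)).comap (QuotientGroup.mk' (pCore p G)) :=
  map_le_iff_le_comap.1 (le_normalClosure.trans (normalClosure_le_fStar (data h)))

theorem part_solvable (h : Iso S P L) [(pCore p G).Normal] (Y : Subgroup G)
    (hY : Y = normalClosure (((pResidual p ↥P).map P.subtype : Subgroup G) : Set G))
    (hs : Group.IsSolvable ↥Y) : (pResidual p ↥P).map P.subtype = Y ∧
      ∃ _ : (pCore p ↥Y).Normal, ∃ t : ℕ, t.Prime ∧ t ≠ p ∧ IsPGroup t (↥Y ⧸ pCore p ↥Y) ∧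
        ∃ _ : Group.IsNilpotent (↥Y ⧸ pCore p ↥Y), Group.nilpotencyClass (↥Y ⧸ pCore p ↥Y) ≤ 2 := by
  have hd := data h
  haveI : Y.Normal := by rw [hY]; exact normalClosure_normal
  have hsol : Group.IsSolvable ↥(Y.map (QuotientGroup.mk' (pCore p G))) :=
    Group.isSolvable_of_surjective ((QuotientGroup.mk' (pCore p G)).subgroupMap_surjective Y)
  have hF := le_fitting_of_solvable hd (by rw [closure_map Y hY]; exact hsol)
  obtain ⟨-, t, ht, htp, hYt, hcl⟩ := nilpotent_case hd hF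
  rw [closure_map Y hY] at hF hYt hcl
  refine ⟨eq_resid_of_nilpotent_case h Y hY hF, ?_⟩
  obtain ⟨hn, e, he⟩ := exists_equiv (p := p) Y
  haveI : Fact t.Prime := ⟨ht⟩
  have hq : IsPGroup t (↥Y ⧸ pCore p ↥Y) := hYt.of_equiv e.symm
  haveI : Group.IsNilpotent (↥Y ⧸ pCore p ↥Y) := hq.isNilpotent
  refine ⟨hn, t, ht, htp, hq, this, ?_⟩
  rw [← Subgroup.lowerCentralSeries_eq_bot_iff_nilpotencyClass_le]
  set f := (Y.map (QuotientGroup.mk' (pCore p G))).subtype.comp e.toMonoidHom
  have hf : Function.Injective f := (Subgroup.subtype_injective _).comp e.injective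
  have htop : (⊤ : Subgroup (↥Y ⧸ pCore p ↥Y)).map f = Y.map (QuotientGroup.mk' (pCore p G)) := by
    rw [← Subgroup.map_map, map_top_of_surjective _ e.surjective, ← MonoidHom.range_eq_map, range_subtype]
  rw [← map_eq_bot_iff_of_injective _ hf, Subgroup.map_lowerCentralSeries, htop]
  exact hcl

theorem part_components (h : Iso S P L) [(pCore p G).Normal] (Y : Subgroup G)
    (hY : Y = normalClosure (((pResidual p ↥P).map P.subtype : Subgroup G) : Set G)) :
    (pResidual p ↥P).map P.subtype = Y ∨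
     ∃ _ : (pCore p ↥Y).Normal,
       p ∣ Nat.card (↥Y ⧸ pCore p ↥Y) ∧ layer (↥Y ⧸ pCore p ↥Y) = ⊤ ∧
       ∀ K₁ K₂ : Subgroup (↥Y ⧸ pCore p ↥Y), IsComponent K₁ → IsComponent K₂ →
         ∃ s ∈ (S : Subgroup G), ((K₂.comap (QuotientGroup.mk' (pCore p ↥Y))).map Y.subtype) =
           (((K₁.comap (QuotientGroup.mk' (pCore p ↥Y))).map Y.subtype)).map (MulAut.conj s).toMonoidHom := by
  by_cases hF : Y.map (QuotientGroup.mk' (pCore p G)) ≤ fittingSubgroup (G ⧸ pCore p G)
  · exact Or.inl (eq_resid_of_nilpotent_case h Y hY hF)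
  right
  haveI : Y.Normal := by rw [hY]; exact normalClosure_normal
  have hc := component_case (data h) (by rw [closure_map Y hY]; exact hF)
  rw [closure_map Y hY] at hc
  obtain ⟨hdvd, hlay, htr⟩ := hc
  obtain ⟨hn, e, he⟩ := exists_equiv (p := p) Y
  refine ⟨hn, by rwa [Nat.card_congr e.toEquiv], ?_, fun K₁ K₂ h1 h2 => ?_⟩
  · have h3 := CfsgLib.Cores.map_layer_equiv e
    rw [hlay] at h3
    rw [← comap_map_eq_self_of_injective (f := e.toMonoidHom) e.injective (layer (↥Y ⧸ pCore p ↥Y))]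
    rw [h3, comap_top]
  · obtain ⟨x, hx, he'⟩ := htr _ _ (CfsgLib.Cores.isComponent_map_equiv e h1) (CfsgLib.Cores.isComponent_map_equiv e h2)
    obtain ⟨s, hs, rfl⟩ := hx
    refine ⟨s, hs, ?_⟩
    have hchar : ∀ (K : Subgroup (↥Y ⧸ pCore p ↥Y)) (g : G),
        g ∈ (K.comap (QuotientGroup.mk' (pCore p ↥Y))).map Y.subtype ↔
          g ∈ Y ∧ (g : G ⧸ pCore p G) ∈ (K.map e.toMonoidHom).map (Y.map (QuotientGroup.mk' (pCore p G))).subtype := by
      intro K g
      constructor
      · rintro ⟨y, hy, rfl⟩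
        exact ⟨y.2, e (y : ↥Y ⧸ pCore p ↥Y), ⟨_, hy, rfl⟩, he y⟩
      · rintro ⟨hg, _, ⟨k, hk, rfl⟩, hge⟩
        refine ⟨⟨g, hg⟩, ?_, rfl⟩
        have : k = ((⟨g, hg⟩ : ↥Y) : ↥Y ⧸ pCore p ↥Y) := e.injective (Subtype.ext (hge.trans (he ⟨g, hg⟩).symm))
        show ((⟨g, hg⟩ : ↥Y) : ↥Y ⧸ pCore p ↥Y) ∈ K
        rwa [← this]
    ext g
    rw [hchar K₂, he', mem_map_conj, mem_map_conj, hchar K₁]
    refine and_congr ?_ Iff.rfl
    constructor
    · intro hg
      simpa using Subgroup.Normal.conj_mem ‹Y.Normal› g hg s⁻¹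
    · intro hg
      simpa [mul_assoc] using Subgroup.Normal.conj_mem ‹Y.Normal› _ hg s

end CfsgLib.LocalEven.IsoMin
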