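import Mathlib
import Cfsg.Prelude.Def_IsolatedElements
import Cfsg.Agent.Lib.LocalEven.Isolated
import Cfsg.Agent.Lib.Cores.Basic
import Cfsg.Agent.Lib.Solvable.CoprimeAction
import Cfsg.Agent.Lib.Local.CharP

/-!
Elements which are central modulo the largest normal `p'`-subgroup, and a minimal counterexample to
the corresponding `Z*`-statement.
-/

set_option autoImplicit false

namespace CfsgLib.LocalEven

open Subgroup Cfsg
open scoped Pointwise commutatorElement

variable {G : Type*} [Group G] [Finite G] {p : ℕ} [Fact p.Prime]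

/-- `InZStar` lifts from a quotient by a normal `p'`-subgroup. -/
theorem inZStar_of_quotient {x : G} {N : Subgroup G} [N.Normal] (hN : (Nat.card N).Coprime p)
    (h : InZStar p (QuotientGroup.mk x : G ⧸ N)) : InZStar p x := by
  intro g
  haveI := CfsgLib.Cores.pPrimeCore_characteristic (G := G ⧸ N) p
  haveI : ((pPrimeCore p (G ⧸ N)).comap (QuotientGroup.mk' N)).Normal := Subgroup.Normal.comap inferInstance _
  refine CfsgLib.Cores.le_pPrimeCore (N := (pPrimeCore p (G ⧸ N)).comap (QuotientGroup.mk' N)) ?_ (h g)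
  have h1 := card_mul_index ((pPrimeCore p (G ⧸ N)).comap (QuotientGroup.mk' N))
  rw [index_comap_of_surjective _ (QuotientGroup.mk'_surjective N), ← card_mul_index N] at h1
  have h2 : N.index = Nat.card ↥(pPrimeCore p (G ⧸ N)) * (pPrimeCore p (G ⧸ N)).index := by
    rw [card_mul_index]; rfl
  rw [h2, ← mul_assoc] at h1
  rw [Nat.eq_of_mul_eq_mul_right (Nat.pos_of_ne_zero index_ne_zero_of_finite) h1]
  exact Nat.Coprime.mul_left hN (CfsgLib.Cores.coprime_card_pPrimeCore p)

theorem pPrimeCore_eq_bot_of_minimal {x : G} (hnz : ¬ InZStar p x)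
    (hquot : ∀ (N : Subgroup G) [N.Normal], N ≠ ⊥ → InZStar p (QuotientGroup.mk x : G ⧸ N)) :
    pPrimeCore p G = ⊥ := by
  by_contra hne
  haveI := CfsgLib.Cores.pPrimeCore_characteristic (G := G) p
  exact hnz (inZStar_of_quotient (CfsgLib.Cores.coprime_card_pPrimeCore p) (hquot _ hne))

/-- An element central modulo the core fixes a Sylow `q`-subgroup. -/
theorem exists_invariant_sylow_of_inZStar {x : G} (hx : ∃ k : ℕ, orderOf x = p ^ k) (h : InZStar p x)
    (q : ℕ) [Fact q.Prime] : ∃ S : Sylow q G, x ∈ normalizer ((S : Subgroup G) : Set G) := by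
  classical
  set K := pPrimeCore p G
  haveI : K.Characteristic := CfsgLib.Cores.pPrimeCore_characteristic (G := G) p
  have hA : ∀ a ∈ zpowers x, ∀ g : G, a * g * a⁻¹ * g⁻¹ ∈ K := by
    intro a ha g
    have hc : (QuotientGroup.mk x : G ⧸ K) ∈ center (G ⧸ K) := by
      rw [mem_center_iff]
      intro b
      obtain ⟨b, rfl⟩ := QuotientGroup.mk'_surjective K b
      have := (QuotientGroup.eq_one_iff _).2 (h b)
      simp only [QuotientGroup.mk_mul, QuotientGroup.mk_inv, mul_inv_eq_iff_eq_mul, one_mul] at this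
      exact this
    obtain ⟨i, rfl⟩ := mem_zpowers_iff.1 ha
    rw [← QuotientGroup.eq_one_iff]
    simp only [QuotientGroup.mk_mul, QuotientGroup.mk_inv, QuotientGroup.mk_zpow]
    rw [← mem_center_iff.1 (zpow_mem hc i), mul_inv_cancel_right, mul_inv_cancel]
  have hcop : (Nat.card ↥(zpowers x)).Coprime (Nat.card ↥K) := by
    obtain ⟨k, hk⟩ := hx
    rw [Nat.card_zpowers, hk]
    exact (CfsgLib.Cores.coprime_card_pPrimeCore p).symm.pow_left k
  obtain ⟨S⟩ := (inferInstance : Nonempty (Sylow q G))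
  obtain ⟨k, -, hfix⟩ := CfsgLib.Solvable.exists_fixed_point (Ω := Sylow q G) (zpowers x) K
    (fun a _ => by rw [normalizer_eq_top]; exact mem_top a) hcop (Or.inl inferInstance) S (by
    intro a ha
    have hle : ((a • S : Sylow q G) : Subgroup G) ≤ (S : Subgroup G) ⊔ K := by
      rw [Sylow.coe_subgroup_smul]
      intro y hy
      rw [Subgroup.mem_pointwise_smul_iff_inv_smul_mem, ← map_inv, MulAut.smul_def, MulAut.conj_apply,
        inv_inv] at hy
      have : y = (a * (a⁻¹ * y * a) * a⁻¹ * (a⁻¹ * y * a)⁻¹) * (a⁻¹ * y * a) := by group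
      rw [this]
      exact mul_mem (mem_sup_right (hA a ha _)) (mem_sup_left hy)
    obtain ⟨m, hm⟩ := MulAction.exists_smul_eq ↥((S : Subgroup G) ⊔ K) (S.subtype le_sup_left)
      ((a • S).subtype hle)
    rw [Sylow.smul_subtype] at hm
    have hm' : (m : G) • S = a • S := Sylow.subtype_injective hm
    obtain ⟨k, hk, s, hs, hks⟩ := mem_sup_of_normal_left.1 (show (m : G) ∈ K ⊔ (S : Subgroup G) from by rw [sup_comm]; exact m.2)
    refine ⟨k, hk, ?_⟩
    rw [← hm', ← hks, mul_smul, Sylow.smul_eq_iff_mem_normalizer.2 (le_normalizer hs)])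
  exact ⟨k • S, Sylow.smul_eq_iff_mem_normalizer.1 (hfix x (mem_zpowers x))⟩

theorem mem_of_mem_normalizer {S : Sylow p G} {x : G} (hx : ∃ k : ℕ, orderOf x = p ^ k)
    (h : x ∈ normalizer ((S : Subgroup G) : Set G)) : x ∈ (S : Subgroup G) := by
  have hS : IsPGroup p ↥((S : Subgroup G) ⊔ zpowers x) :=
    S.2.to_sup_of_normal_left' (isPGroup_zpowers hx) (zpowers_le.2 h)
  rw [← S.3 hS le_sup_left]
  exact mem_sup_right (mem_zpowers x)

/-- A maximal invariant `q`-subgroup in a minimal counterexample is trivial or Sylow. -/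
theorem maximal_invariant_of_minimal {x : G} (hx : orderOf x = p) (hnz : ¬ InZStar p x)
    (hmin : ∀ (H : Subgroup G) (hxH : x ∈ H), H ≠ ⊤ → InZStar p (⟨x, hxH⟩ : ↥H))
    (hquot : ∀ (N : Subgroup G) [N.Normal], N ≠ ⊥ → InZStar p (QuotientGroup.mk x : G ⧸ N))
    {q : ℕ} [Fact q.Prime] (Q : Subgroup G) (hQ : IsPGroup q ↥Q)
    (hxQ : x ∈ normalizer (Q : Set G))
    (hmax : ∀ R : Subgroup G, IsPGroup q ↥R → x ∈ normalizer (R : Set G) → Q ≤ R → R = Q) :
    Q = ⊥ ∨ ∃ S : Sylow q G, (S : Subgroup G) = Q := by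
  rcases eq_or_ne q p with rfl | hqp
  · right
    have hR : IsPGroup q ↥(Q ⊔ zpowers x) :=
      hQ.to_sup_of_normal_left' (isPGroup_zpowers ⟨1, by rw [hx, pow_one]⟩) (zpowers_le.2 hxQ)
    have hxmem : x ∈ Q :=
      hmax _ hR (le_normalizer (mem_sup_right (mem_zpowers x))) le_sup_left ▸ mem_sup_right (mem_zpowers x)
    obtain ⟨P, hP⟩ := hQ.exists_le_sylow
    exact ⟨P, hmax _ P.2 (le_normalizer (hP hxmem)) hP⟩
  by_cases hQ1 : Q = ⊥
  · exact Or.inl hQ1
  right
  set H := normalizer (Q : Set G) with hH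
  have hH' : H ≠ ⊤ := by
    intro htop
    haveI : Q.Normal := normalizer_eq_top_iff.1 htop
    refine hQ1 (le_bot_iff.1 (pPrimeCore_eq_bot_of_minimal hnz hquot ▸ CfsgLib.Cores.le_pPrimeCore ?_))
    obtain ⟨n, hn⟩ := hQ.exists_card_eq
    rw [hn]
    exact ((Nat.coprime_primes (Fact.out : q.Prime) (Fact.out : p.Prime)).2 hqp).pow_left n
  obtain ⟨S, hS⟩ := exists_invariant_sylow_of_inZStar (x := (⟨x, hxQ⟩ : ↥H))
    ⟨1, by rw [orderOf_mk, hx, pow_one]⟩ (hmin H hxQ hH') q
  haveI : (Q.subgroupOf H).Normal := normal_in_normalizer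
  have hQS : Q.subgroupOf H ≤ (S : Subgroup ↥H) := by
    have := (hQ.of_equiv (subgroupOfEquivOfLe (le_normalizer : Q ≤ H)).symm).to_sup_of_normal_left S.2
    exact le_sup_left.trans (S.3 this le_sup_right).le
  have hSQ : (S : Subgroup ↥H).map H.subtype = Q := by
    refine hmax _ (S.2.map _) ?_ ?_
    · rw [mem_normalizer_iff]
      intro y
      constructor
      · rintro ⟨s, hs, rfl⟩
        exact ⟨_, (mem_normalizer_iff.1 hS s).1 hs, rfl⟩
      · rintro ⟨s, hs, he⟩
        refine ⟨(⟨x, hxQ⟩ : ↥H)⁻¹ * s * ⟨x, hxQ⟩, ?_, ?_⟩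
        · refine (mem_normalizer_iff.1 hS _).2 ?_
          show (⟨x, hxQ⟩ : ↥H) * ((⟨x, hxQ⟩ : ↥H)⁻¹ * s * ⟨x, hxQ⟩) * (⟨x, hxQ⟩ : ↥H)⁻¹ ∈ (S : Subgroup ↥H)
          rw [show (⟨x, hxQ⟩ : ↥H) * ((⟨x, hxQ⟩ : ↥H)⁻¹ * s * ⟨x, hxQ⟩) * (⟨x, hxQ⟩ : ↥H)⁻¹ = s by group]
          exact hs
        · show x⁻¹ * H.subtype s * x = y
          rw [he]; group
    · intro y hy
      exact ⟨⟨y, le_normalizer hy⟩, hQS hy, rfl⟩
  obtain ⟨P, hP⟩ := hQ.exists_le_sylow
  refine ⟨P, (eq_of_inf_normalizer_le P.2 hP ?_).symm⟩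
  intro y hy
  have hle : ((P : Subgroup G) ⊓ H).subgroupOf H ≤ (S : Subgroup ↥H) := by
    have hS' : (S : Subgroup ↥H) = Q.subgroupOf H := by
      rw [← hSQ]; exact (comap_map_eq_self_of_injective H.subtype_injective _).symm
    haveI : (S : Subgroup ↥H).Normal := by rw [hS']; infer_instance
    have := S.2.to_sup_of_normal_left
      ((P.2.to_le inf_le_left).of_equiv (subgroupOfEquivOfLe (inf_le_right : (P : Subgroup G) ⊓ H ≤ H)).symm)
    exact le_sup_right.trans (S.3 this le_sup_left).le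
  rw [← hSQ]
  exact ⟨⟨y, hy.2⟩, hle hy, rfl⟩

/-- The structure of a minimal counterexample. -/
theorem commutator_simple_of_minimal {x : G} (hx : orderOf x = p) (hiso : IsIsolated x)
    (hnz : ¬ InZStar p x)
    (hmin : ∀ (H : Subgroup G) (hxH : x ∈ H), H ≠ ⊤ → InZStar p (⟨x, hxH⟩ : ↥H))
    (hquot : ∀ (N : Subgroup G) [N.Normal], N ≠ ⊥ → InZStar p (QuotientGroup.mk x : G ⧸ N)) :
    IsSimpleGroup ↥(commutator G) ∧ ¬ IsMulCommutative ↥(commutator G) ∧
      commutator G ⊔ zpowers x = ⊤ := by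
  classical
  have hp := (Fact.out : p.Prime)
  have hcore : pPrimeCore p G = ⊥ := pPrimeCore_eq_bot_of_minimal hnz hquot
  have hxp : ∃ k : ℕ, orderOf x = p ^ k := ⟨1, by rw [hx, pow_one]⟩
  -- normal subgroups have trivial core
  have hsub : ∀ N : Subgroup G, N.Normal → pPrimeCore p ↥N = ⊥ := fun N hN => by
    haveI := hN
    exact CfsgLib.Local.pPrimeCore_eq_bot_of_isSubnormal (Subgroup.Normal.isSubnormal hN) hcore
  have hab : ∀ N : Subgroup G, (N.Normal ∧ N ≠ ⊥ ∧ ∀ M : Subgroup G, M.Normal → M ≤ N → M ≠ ⊥ → M = N) →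
      (∀ a ∈ N, ∀ b ∈ N, a * b = b * a) → IsPGroup p ↥N := by
    rintro N ⟨hN, hN1, hNmin⟩ hcomm
    haveI := hN
    obtain ⟨P⟩ := (inferInstance : Nonempty (Sylow p ↥N))
    haveI hPn : (P : Subgroup ↥N).Normal := ⟨fun a ha g => by
      rwa [show g * a * g⁻¹ = a from Subtype.ext (by
        push_cast; rw [hcomm _ g.2 _ a.2, mul_inv_cancel_right])]⟩
    haveI : (P : Subgroup ↥N).Characteristic := Sylow.characteristic_of_normal P hPn
    have hP1 : (P : Subgroup ↥N).map N.subtype ≠ ⊥ := by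
      intro h
      rw [map_eq_bot_iff_of_injective _ N.subtype_injective] at h
      have h1 : ¬ p ∣ Nat.card N := by
        have := P.not_dvd_index
        rwa [h, index_bot] at this
      refine hN1 (le_bot_iff.1 (hcore ▸ CfsgLib.Cores.le_pPrimeCore ?_))
      exact (CfsgLib.Cores.coprime_iff_not_dvd hp _).2 h1
    rw [← hNmin _ inferInstance (map_subtype_le _) hP1]
    exact P.2.map _
  -- proper `N⟨x⟩` forces `x` to centralise `N`
  have hcentN : ∀ N : Subgroup G, N.Normal → N ⊔ zpowers x ≠ ⊤ → ∀ n ∈ N, Commute x n := by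
    intro N hN htop n hn
    haveI := hN
    set H := N ⊔ zpowers x
    have h := hmin H (mem_sup_right (mem_zpowers x)) htop ⟨n, mem_sup_left hn⟩
    haveI := CfsgLib.Cores.pPrimeCore_characteristic (G := ↥H) p
    have hD : ((pPrimeCore p ↥H).map H.subtype).subgroupOf N ≤ pPrimeCore p ↥N := by
      haveI : (((pPrimeCore p ↥H).map H.subtype).subgroupOf N).Normal := ⟨by
        rintro ⟨a, haN⟩ ⟨b, hb, hbe⟩ ⟨g, hg⟩
        refine ⟨(⟨g, mem_sup_left hg⟩ : ↥H) * b * (⟨g, mem_sup_left hg⟩ : ↥H)⁻¹,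
          Subgroup.Normal.conj_mem inferInstance b hb _, ?_⟩
        simp only [Subgroup.coe_subtype] at hbe ⊢
        simp [hbe]⟩
      refine CfsgLib.Cores.le_pPrimeCore ?_
      refine Nat.Coprime.coprime_dvd_left ?_ (CfsgLib.Cores.coprime_card_pPrimeCore (G := ↥H) p)
      rw [← card_map_of_injective N.subtype_injective, subgroupOf_map_subtype]
      exact (card_dvd_of_le inf_le_left).trans (dvd_of_eq (card_map_of_injective H.subtype_injective))
    have hmemN : n * x * n⁻¹ * x⁻¹ ∈ N := by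
      rw [show n * x * n⁻¹ * x⁻¹ = n * (x * n⁻¹ * x⁻¹) by group]
      exact mul_mem hn (hN.conj_mem _ (inv_mem hn) x)
    have h2 := hD (show (⟨_, hmemN⟩ : ↥N) ∈ ((pPrimeCore p ↥H).map H.subtype).subgroupOf N from
      ⟨_, h, rfl⟩)
    rw [hsub N hN, mem_bot] at h2
    have h3 := congrArg Subtype.val h2
    simp only [OneMemClass.coe_one, mul_inv_eq_iff_eq_mul, one_mul] at h3
    exact h3.symm
  set L := ⁅(⊤ : Subgroup G), zpowers x⁆ with hLdef
  haveI hLn : L.Normal := normalizer_eq_top_iff.1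
    (top_le_iff.1 (CfsgLib.Solvable.le_normalizer_commutator_left ⊤ (zpowers x)))
  have hLmem : ∀ g : G, g * x * g⁻¹ * x⁻¹ ∈ L := fun g => by
    rw [← commutatorElement_def]; exact commutator_mem_commutator (mem_top g) (mem_zpowers x)
  have hxc : ∃ g : G, g * x * g⁻¹ ≠ x := by
    by_contra! h
    exact hnz fun g => by rw [h g, mul_inv_cancel]; exact one_mem _
  have hL1 : L ≠ ⊥ := by
    intro h
    obtain ⟨g, hg⟩ := hxc
    have := hLmem g
    rw [h, mem_bot, mul_inv_eq_one] at this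
    exact hg this
  obtain ⟨N, ⟨hNn, hN1, hNL⟩, hNmin'⟩ := Set.Finite.exists_minimal
    (s := {N : Subgroup G | N.Normal ∧ N ≠ ⊥ ∧ N ≤ L}) (Set.toFinite _) ⟨L, hLn, hL1, le_rfl⟩
  haveI := hNn
  have hNmin : ∀ M : Subgroup G, M.Normal → M ≤ N → M ≠ ⊥ → M = N := fun M hM hle hne =>
    le_antisymm hle (hNmin' ⟨hM, hne, hle.trans hNL⟩ hle)
  have htop : N ⊔ zpowers x = ⊤ := by
    by_contra htop
    have hc := hcentN N hNn htop
    have hNC : ∀ a ∈ L, ∀ n ∈ N, a * n = n * a := by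
      intro a ha n hn
      have hle : L ≤ centralizer ({n} : Set G) := by
        rw [hLdef, commutator_le]
        intro g _ y hy
        rw [mem_centralizer_singleton_iff, commutatorElement_def]
        obtain ⟨i, rfl⟩ := mem_zpowers_iff.1 hy
        have h1 : Commute (g * x ^ i * g⁻¹) n := by
          have := (hc _ (hNn.conj_mem n hn g⁻¹)).zpow_left i
          have h2 := Commute.conj_iff (a := g⁻¹ * n * g) (b := x ^ i) g
          rw [inv_inv] at this
          have h3 : Commute (g * x ^ i * g⁻¹) (g * (g⁻¹ * n * g) * g⁻¹) := (Commute.conj_iff g).2 this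
          rwa [show g * (g⁻¹ * n * g) * g⁻¹ = n by group] at h3
        exact (h1.mul_left ((hc n hn).zpow_left i).inv_left).eq
      exact mem_centralizer_singleton_iff.1 (hle ha)
    have hNp : IsPGroup p ↥N :=
      hab N ⟨hNn, hN1, hNmin⟩ fun a ha b hb => hNC a (hNL ha) b hb
    set K := (pPrimeCore p (G ⧸ N)).comap (QuotientGroup.mk' N)
    haveI := CfsgLib.Cores.pPrimeCore_characteristic (G := G ⧸ N) p
    haveI hKn : K.Normal := Subgroup.Normal.comap inferInstance _
    have hLK : L ≤ K := by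
      rw [hLdef, commutator_le]
      intro g _ y hy
      obtain ⟨i, rfl⟩ := mem_zpowers_iff.1 hy
      have hz := hquot N hN1
      show QuotientGroup.mk' N ⁅g, x ^ i⁆ ∈ pPrimeCore p (G ⧸ N)
      rw [← QuotientGroup.eq_one_iff]
      have hcx : (QuotientGroup.mk (QuotientGroup.mk' N x) : (G ⧸ N) ⧸ pPrimeCore p (G ⧸ N)) ∈ center _ := by
        rw [mem_center_iff]
        intro b
        obtain ⟨b, rfl⟩ := QuotientGroup.mk'_surjective _ b
        have := (QuotientGroup.eq_one_iff _).2 (hz b)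
        simp only [QuotientGroup.mk_mul, QuotientGroup.mk_inv, mul_inv_eq_iff_eq_mul, one_mul] at this
        exact this
      rw [map_commutatorElement, map_zpow, ← QuotientGroup.mk'_apply, map_commutatorElement, map_zpow,
        commutatorElement_eq_one_iff_mul_comm]
      exact mem_center_iff.1 (zpow_mem hcx i) _
    have hidx : ((N.subgroupOf L).index).Coprime p := by
      refine Nat.Coprime.coprime_dvd_left ?_ (CfsgLib.Cores.coprime_card_pPrimeCore (G := G ⧸ N) p)
      show N.relIndex L ∣ _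
      refine (dvd_of_mul_right_eq _ (relIndex_mul_relIndex N L K hNL hLK)).trans (dvd_of_eq ?_)
      have h1 := relIndex_comap (⊥ : Subgroup (G ⧸ N)) (QuotientGroup.mk' N) K
      rw [MonoidHom.comap_bot, QuotientGroup.ker_mk'] at h1
      rw [h1, map_comap_eq_self_of_surjective (QuotientGroup.mk'_surjective _), relIndex_bot_left]
    obtain ⟨n, hn⟩ := hNp.exists_card_eq
    obtain ⟨C, hC⟩ := exists_right_complement'_of_coprime (N := N.subgroupOf L) (by
      rw [Nat.card_congr (subgroupOfEquivOfLe hNL).toEquiv, hn]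
      exact hidx.symm.pow_left n)
    have hCn : C.Normal := ⟨fun c hc g => by
      obtain ⟨⟨u, v⟩, huv, -⟩ := hC.existsUnique g
      have hu : ∀ y : ↥L, (u : ↥L) * y = y * u := fun y => Subtype.ext (hNC y y.2 _ u.2).symm
      rw [← huv]
      have e : (u : ↥L) * v * c * ((u : ↥L) * v)⁻¹ = (v : ↥L) * c * (v : ↥L)⁻¹ := by
        rw [show (u : ↥L) * v * c * ((u : ↥L) * v)⁻¹ = (u : ↥L) * ((v : ↥L) * c * (v : ↥L)⁻¹) * (u : ↥L)⁻¹ by
          group, hu, mul_inv_cancel_right]
      rw [e]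
      exact mul_mem (mul_mem v.2 hc) (inv_mem v.2)⟩
    have hC1 : C = ⊥ := by
      refine le_bot_iff.1 (hsub L hLn ▸ CfsgLib.Cores.le_pPrimeCore ?_)
      rw [← hC.symm.index_eq_card]
      exact hidx
    have hLN : L ≤ N := by
      have := hC.sup_eq_top
      rw [hC1, sup_bot_eq, subgroupOf_eq_top] at this
      exact this
    obtain ⟨g, hg⟩ := hxc
    refine hg (hiso g ?_)
    have := (hc _ (hLN (hLmem g))).mul_right (Commute.refl x)
    rwa [inv_mul_cancel_right] at this
  have hnab : ∃ a ∈ N, ∃ b ∈ N, a * b ≠ b * a := by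
    by_contra! h
    have hNp := hab N ⟨hNn, hN1, hNmin⟩ h
    have hG : IsPGroup p ↥(⊤ : Subgroup G) :=
      htop ▸ hNp.to_sup_of_normal_left (isPGroup_zpowers hxp)
    obtain ⟨g, hg⟩ := hxc
    have := mem_centralizer_singleton_iff.1 (isolated_pGroup_le_centralizer hiso hG (mem_top x) (mem_top g))
    exact hg (mul_inv_eq_iff_eq_mul.2 this)
  have hG' : commutator G = N := by
    refine le_antisymm ?_ ?_
    · rw [_root_.commutator_def, commutator_le]
      intro a _ b _
      rw [← QuotientGroup.eq_one_iff, ← QuotientGroup.mk'_apply, map_commutatorElement,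
        commutatorElement_eq_one_iff_mul_comm]
      have hcyc : ∀ c : G, ∃ i : ℤ, QuotientGroup.mk' N c = (QuotientGroup.mk' N x) ^ i := by
        intro c
        obtain ⟨m, hm, y, hy, rfl⟩ := mem_sup_of_normal_left.1 (htop.symm ▸ mem_top c : c ∈ N ⊔ zpowers x)
        obtain ⟨i, rfl⟩ := mem_zpowers_iff.1 hy
        exact ⟨i, by rw [map_mul, map_zpow, QuotientGroup.mk'_apply, (QuotientGroup.eq_one_iff m).2 hm, one_mul]⟩
      obtain ⟨i, hi⟩ := hcyc a
      obtain ⟨j, hj⟩ := hcyc b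
      rw [hi, hj]
      exact zpow_mul_comm _ i j
    · haveI : ⁅N, N⁆.Normal := Subgroup.commutator_normal N N
      have h1 : ⁅N, N⁆ = N := hNmin _ inferInstance (commutator_le_left N N) (by
        intro h
        obtain ⟨a, ha, b, hb, hne⟩ := hnab
        have := commutator_mem_commutator ha hb
        rw [h, mem_bot] at this
        exact hne (commutatorElement_eq_one_iff_mul_comm.1 this))
      rw [← h1, _root_.commutator_def]
      exact commutator_mono le_top le_top
  rw [hG']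
  refine ⟨?_, ?_, htop⟩
  · haveI : Nontrivial ↥N := (nontrivial_iff_ne_bot N).2 hN1
    refine ⟨fun S hS => ?_⟩
    rcases eq_or_ne S ⊥ with h | hS1
    · exact Or.inl h
    right
    have hdvd : p ∣ Nat.card S := by
      by_contra h
      exact hS1 (le_bot_iff.1 (hsub N hNn ▸
        CfsgLib.Cores.le_pPrimeCore ((CfsgLib.Cores.coprime_iff_not_dvd hp _).2 h)))
    obtain ⟨s, hs⟩ := exists_prime_orderOf_dvd_card' p hdvd
    obtain ⟨P, hP⟩ := (isPGroup_zpowers hxp).exists_le_sylow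
    have hs' : orderOf ((s : ↥N) : G) = p := by rw [orderOf_coe, orderOf_coe]; exact hs
    obtain ⟨Q, hQ⟩ := (isPGroup_zpowers (p := p) (x := ((s : ↥N) : G)) ⟨1, by rw [hs', pow_one]⟩).exists_le_sylow
    obtain ⟨g, hg⟩ := MulAction.exists_smul_eq G Q P
    have hmem : g * ((s : ↥N) : G) * g⁻¹ ∈ (P : Subgroup G) := by
      rw [← hg, Sylow.coe_subgroup_smul]
      exact ⟨_, hQ (mem_zpowers _), rfl⟩
    obtain ⟨m, hm, y, hy, rfl⟩ :=
      mem_sup_of_normal_right.1 (show g ∈ zpowers x ⊔ N by rw [sup_comm, htop]; exact mem_top g)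
    set t := y * ((s : ↥N) : G) * y⁻¹ with ht
    have htP : t ∈ (P : Subgroup G) := by
      have hmP : m ∈ (P : Subgroup G) := hP hm
      have := mul_mem (mul_mem (inv_mem hmP) hmem) hmP
      rwa [show m⁻¹ * (m * y * ((s : ↥N) : G) * (m * y)⁻¹) * m = t by rw [ht]; group] at this
    have htS : t ∈ S.map N.subtype :=
      ⟨(⟨y, hy⟩ : ↥N) * s * (⟨y, hy⟩ : ↥N)⁻¹, hS.conj_mem _ s.2 _, by simp [ht]⟩
    have htx : Commute x t := (mem_centralizer_singleton_iff.1
      (isolated_pGroup_le_centralizer hiso P.2 (hP (mem_zpowers x)) htP)).symm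
    have htcore : t ∈ (S.map N.subtype).normalCore := fun g => by
      obtain ⟨m, hm, y, hy, rfl⟩ := mem_sup_of_normal_left.1 (htop.symm ▸ mem_top g : g ∈ N ⊔ zpowers x)
      obtain ⟨i, rfl⟩ := mem_zpowers_iff.1 hy
      rw [show m * x ^ i * t * (m * x ^ i)⁻¹ = m * (x ^ i * t * (x ^ i)⁻¹) * m⁻¹ by group,
        (htx.zpow_left i).eq, mul_inv_cancel_right]
      obtain ⟨s', hs', e⟩ := htS
      exact ⟨(⟨m, hm⟩ : ↥N) * s' * (⟨m, hm⟩ : ↥N)⁻¹, hS.conj_mem _ hs' _, by simp [← e]⟩
    have ht1 : t ≠ 1 := by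
      intro h
      rw [ht, conj_eq_one_iff] at h
      rw [h, orderOf_one] at hs'
      exact hp.ne_one hs'.symm
    have hT := hNmin _ (normalCore_normal _) ((normalCore_le _).trans (map_subtype_le S))
      (fun h => ht1 (mem_bot.1 (h ▸ htcore)))
    rw [eq_top_iff]
    intro n _
    obtain ⟨s', hs', e⟩ := normalCore_le _ (hT.symm ▸ n.2 : (n : G) ∈ (S.map N.subtype).normalCore)
    rwa [← N.subtype_injective e]
  · intro h
    obtain ⟨a, ha, b, hb, hne⟩ := hnab
    exact hne (congrArg Subtype.val (h.1.comm (⟨a, ha⟩ : ↥N) ⟨b, hb⟩))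

end CfsgLib.LocalEven
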