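import Cfsg.Agent.Lib.LocalEven.JComponents

/-!
`|[Ω₁(Z(O₂(K))), K]| = 4` for the group `K` of a block whose transvection lies in a largest elementary
abelian subgroup.
-/

set_option autoImplicit false

namespace CfsgLib.LocalEven.JComp

open Subgroup CfsgLib.LocalEven Cfsg
open scoped commutatorElement

/-- Conjugation on a subgroup by its normaliser. -/
def conjOn {G : Type*} [Group G] (U : Subgroup G) : ↥(normalizer (U : Set G)) →* MulAut ↥U where
  toFun g :=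
    { toFun := fun u => ⟨(g : G) * u * (g : G)⁻¹, conj_mem_of_mem_normalizer g.2 u.2⟩
      invFun := fun u => ⟨(g : G)⁻¹ * u * (g : G), (Subgroup.mem_normalizer_iff''.1 g.2 u).1 u.2⟩
      left_inv := fun u => Subtype.ext (by simp only; group)
      right_inv := fun u => Subtype.ext (by simp only; group)
      map_mul' := fun u v => Subtype.ext (by simp only [Subgroup.coe_mul]; group) }
  map_one' := by
    ext u
    show ((1 : ↥(normalizer (U : Set G))) : G) * u * ((1 : ↥(normalizer (U : Set G))) : G)⁻¹ = u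
    simp
  map_mul' g h := by
    ext u
    show ((g * h : ↥(normalizer (U : Set G))) : G) * u * ((g * h : ↥(normalizer (U : Set G))) : G)⁻¹ =
      (g : G) * ((h : G) * u * (h : G)⁻¹) * (g : G)⁻¹
    rw [Subgroup.coe_mul]
    group

theorem conjOn_apply {G : Type*} [Group G] {U : Subgroup G} (g : ↥(normalizer (U : Set G))) (u : ↥U) :
    ((conjOn U g u : ↥U) : G) = (g : G) * u * (g : G)⁻¹ := rfl

variable {X : Type*} [Group X] [Finite X]

set_option maxHeartbeats 1000000 in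
theorem Good.card_wOf (hX : Good X) {a d : X} (h : IsBlock a d) {A : Subgroup X}
    (hA : A ∈ maxElementaryAbelianSubgroups 2 X) (haA : a ∈ A) : Nat.card ↥(wOf (compOf d)) = 4 := by
  haveI : Fact (Nat.Prime 2) := ⟨Nat.prime_two⟩
  obtain ⟨P, hP⟩ := (CfsgLib.Transfer.maxEA_isPGroup hA).exists_le_sylow
  have haJ : a ∈ thompsonSubgroupOf 2 (P : Subgroup X) := CfsgLib.Transfer.le_thompsonSubgroupOf hA hP haA
  set K := compOf d with hK
  set C := pCoreOf 2 K with hC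
  have hCe : C = K ⊓ Cfsg.pCore 2 X := hX.pCoreOf_eq h.compOf_le_rotGroup
  set U := omegaOne 2 (C ⊓ centralizer (C : Set X)) with hU
  have hUw : wOf K = ⁅U, K⁆ := rfl
  letI : CommGroup ↥U :=
    { (inferInstance : Group ↥U) with
      mul_comm := fun x y => ((Oz.elemAb (p := 2) C).1.is_comm.comm x y) }
  have hUsq : ∀ u : ↥U, u * u = 1 := fun u => Subtype.ext (by
    have := (Oz.elemAb (p := 2) C).2 (u : X) u.2
    rwa [pow_two] at this)
  have hVN : zq X ≤ normalizer (K : Set X) := (hX.zq_le_thompson P).trans (hX.thompson_le_normalizer P h)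
  haveI := CfsgLib.Cores.pCore_characteristic (G := X) 2
  -- normalisers of `K` normalise `U`
  have hNU : ∀ g : X, g ∈ normalizer (K : Set X) → g ∈ normalizer (U : Set X) := by
    intro g hg
    refine Oz.normalizer_le (p := 2) C (CfsgLib.LocalEven.mem_normalizer_of_conj_le ?_)
    rw [hCe]
    rintro _ ⟨x, hx, rfl⟩
    exact Subgroup.mem_inf.2 ⟨conj_mem_of_mem_normalizer hg hx.1, Subgroup.Normal.conj_mem inferInstance x hx.2 g⟩
  have hdK : d ∈ K := h.mem_compOf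
  have hdN : d ∈ normalizer (U : Set X) := hNU d (Subgroup.le_normalizer hdK)
  have haN : a ∈ normalizer (U : Set X) := hNU a (hX.normalizer_of_trv h h)
  set D := conjOn U ⟨d, hdN⟩ with hD
  set α := conjOn U ⟨a, haN⟩ with hα
  have hDapp : ∀ u : ↥U, ((D u : ↥U) : X) = d * u * d⁻¹ := fun u => rfl
  have hαapp : ∀ u : ↥U, ((α u : ↥U) : X) = a * u * a⁻¹ := fun u => rfl
  have hD3 : D ^ 3 = 1 := by
    rw [hD, ← map_pow, show (⟨d, hdN⟩ : ↥(normalizer (U : Set X))) ^ 3 = 1 from Subtype.ext h.cube, map_one]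
  have hαα : α * α = 1 := by
    rw [hα, ← map_mul, show (⟨a, haN⟩ : ↥(normalizer (U : Set X))) * ⟨a, haN⟩ = 1 from Subtype.ext h.sq,
      map_one]
  have hinv : α * D * α = D⁻¹ := by
    rw [hα, hD, ← map_mul, ← map_mul, ← map_inv]
    exact congrArg _ (Subtype.ext h.inv)
  set W := (Trv.mv D).range with hW
  have hfix : ∀ w ∈ W, D w = w → w = 1 := fun w hw hf =>
    Trv.eq_one_of_fixed_mem_range hUsq (k := 3) (by decide) hD3 hw hf
  -- `[U, K] = W`
  have hcent : ∀ c ∈ C, ∀ u : ↥U, c * (u : X) = u * c := fun c hc u => (Oz.mem_iff.1 u.2).2.1 c hc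
  have hKD : ∀ k ∈ K, ∃ j : ℕ, ∀ u : ↥U, k * (u : X) * k⁻¹ = ((D ^ j) u : ↥U) := by
    intro k hk
    obtain ⟨i, hi⟩ := mem_zpowers_iff.1 (mem_dGroup.1 (compOf_le_dGroup d hk))
    have h3 : d ^ (3 : ℤ) = 1 := by rw [show (d : X) ^ (3 : ℤ) = d ^ 3 from zpow_natCast d 3, h.cube]
    refine ⟨(i % 3).toNat, fun u => ?_⟩
    have hj : d ^ i = d ^ ((i % 3).toNat) := by
      rw [← zpow_natCast, Int.toNat_of_nonneg (Int.emod_nonneg i (by norm_num)), ← zpow_eq_zpow_emod i h3]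
    set c := (d ^ i)⁻¹ * k with hc
    have hcC : c ∈ C := by
      rw [hCe]
      exact Subgroup.mem_inf.2 ⟨mul_mem (inv_mem (zpow_mem hdK i)) hk,
        proj_eq_one_iff.1 (by rw [hc, map_mul, map_inv, map_zpow, hi, inv_mul_cancel])⟩
    have hk' : k = d ^ ((i % 3).toNat) * c := by rw [← hj, hc, mul_inv_cancel_left]
    have hDj : ((D ^ ((i % 3).toNat)) u : ↥U) =
        conjOn U (⟨d, hdN⟩ ^ ((i % 3).toNat)) u := by rw [map_pow]
    rw [hDj, conjOn_apply, Subgroup.coe_pow, hk', mul_inv_rev]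
    calc d ^ ((i % 3).toNat) * c * (u : X) * (c⁻¹ * (d ^ ((i % 3).toNat))⁻¹)
        = d ^ ((i % 3).toNat) * (c * u) * c⁻¹ * (d ^ ((i % 3).toNat))⁻¹ := by group
      _ = _ := by rw [hcent c hcC u]; group
  have hmvmem : ∀ j : ℕ, ∀ u : ↥U, Trv.mv (D ^ j) u ∈ W := by
    intro j
    induction j with
    | zero => intro u; rw [pow_zero, Trv.mv_apply, MulAut.one_apply, hUsq]; exact one_mem _
    | succ j ih =>
      intro u
      have e : Trv.mv (D ^ (j + 1)) u = Trv.mv (D ^ j) (D u) * Trv.mv D u := by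
        simp only [Trv.mv_apply, pow_succ, MulAut.mul_apply]
        rw [mul_assoc, Trv.mul_left_self hUsq]
      rw [e]
      exact mul_mem (ih _) ⟨u, rfl⟩
  have hWeq : wOf K = W.map U.subtype := by
    rw [hUw]
    apply le_antisymm
    · rw [Subgroup.commutator_le]
      intro u hu k hk
      obtain ⟨j, hj⟩ := hKD k hk
      refine ⟨Trv.mv (D ^ j) ⟨u, hu⟩, hmvmem j _, ?_⟩
      have hui : u⁻¹ = u := inv_eq_of_mul_eq_one_right (congrArg Subtype.val (hUsq ⟨u, hu⟩))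
      show ((Trv.mv (D ^ j) ⟨u, hu⟩ : ↥U) : X) = ⁅u, k⁆
      rw [Trv.mv_apply, mul_comm, Subgroup.coe_mul, ← hj, commutatorElement_def, hui]
      show u * (k * u * k⁻¹) = u * k * u * k⁻¹
      group
    · rintro _ ⟨_, ⟨u, rfl⟩, rfl⟩
      have := Subgroup.commutator_mem_commutator u.2 hdK
      have hui : (u : X)⁻¹ = u := inv_eq_of_mul_eq_one_right (congrArg Subtype.val (hUsq u))
      show ((Trv.mv D u : ↥U) : X) ∈ _
      rw [Trv.mv_apply, mul_comm, Subgroup.coe_mul, hDapp]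
      rwa [commutatorElement_def, hui, mul_assoc, mul_assoc, ← mul_assoc d] at this
  rw [hWeq, Subgroup.card_map_of_injective U.subtype_injective]
  -- `W ∩ V` has order 4
  have hWV : Nat.card ↥(W ⊓ (zq X).subgroupOf U) = 4 := by
    have hge : 4 ≤ Nat.card ↥(W ⊓ (zq X).subgroupOf U) := by
      have h1 := hX.map_rng_le h.compOf_le_rotGroup hVN hdK h.cube
      rw [hWeq] at h1
      have h2 : (rng d).map (zq X).subtype ≤ (W ⊓ (zq X).subgroupOf U).map U.subtype := by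
        intro x hx
        obtain ⟨w, hw, rfl⟩ := h1 hx
        obtain ⟨v, -, hv⟩ := hx
        exact ⟨w, ⟨hw, mem_subgroupOf.2 (by rw [show ((w : ↥U) : X) = (v : X) from hv.symm]; exact v.2)⟩, rfl⟩
      have h3 := Subgroup.card_le_of_le h2
      rw [Subgroup.card_map_of_injective (zq X).subtype_injective,
        Subgroup.card_map_of_injective U.subtype_injective] at h3
      exact le_trans (le_of_eq h.rot.2.symm) h3
    refine le_antisymm ?_ hge
    rw [← h.rot.2]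
    refine Nat.card_le_card_of_injective
      (fun w => (⟨Trv.mv (act d) ⟨((w : ↥U) : X), w.2.2⟩, ⟨_, rfl⟩⟩ : ↥(Trv.mv (act d)).range)) ?_
    intro w₁ w₂ hw
    have hw' : Trv.mv (act d) ⟨((w₁ : ↥U) : X), w₁.2.2⟩ = Trv.mv (act d) ⟨((w₂ : ↥U) : X), w₂.2.2⟩ :=
      congrArg Subtype.val hw
    have h1 : Trv.mv (act d) (⟨((w₁ : ↥U) : X), w₁.2.2⟩ * ⟨((w₂ : ↥U) : X), w₂.2.2⟩) = 1 := by
      rw [map_mul, hw', zq_sq]
    rw [Trv.mv_eq_one_iff zq_sq] at h1
    have h2 : D ((w₁ : ↥U) * w₂) = (w₁ : ↥U) * w₂ := by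
      apply Subtype.ext
      have h3 := congrArg Subtype.val h1
      rw [act_apply] at h3
      rw [hDapp]
      exact h3
    have h4 := hfix _ (mul_mem w₁.2.1 w₂.2.1) h2
    exact Subtype.ext (by rw [← Trv.mul_right_self hUsq (w₁ : ↥U) w₂, h4, one_mul])
  obtain ⟨A', hA', haA', hA'card⟩ := hX.exists_single hA haA h.trv
  set B := A' ⊓ centralizer (zq X : Set X) with hB
  have hBQ : B ≤ Cfsg.pCore 2 X := hX.inf_centralizer_le hA'.1
  have hBn : ∀ b ∈ B, b ∈ normalizer (U : Set X) := fun b hb => hNU b (Good.normalizer_of_pCore d (hBQ hb))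
  -- `B` commutes with `D` on `U`
  have hBD : ∀ b ∈ B, ∀ u : ↥U, b * (d * (u : X) * d⁻¹) * b⁻¹ = d * (b * u * b⁻¹) * d⁻¹ := by
    intro b hb u
    set c := b⁻¹ * d⁻¹ * b * d with hc
    have hcC : c ∈ C := by
      rw [hCe]
      refine Subgroup.mem_inf.2 ⟨mul_mem ((Subgroup.mem_normalizer_iff''.1 (Good.normalizer_of_pCore d (hBQ hb)) _).1
        (inv_mem hdK)) hdK, ?_⟩
      rw [hc, mul_assoc (b⁻¹ * d⁻¹) b d, mul_assoc b⁻¹]
      refine mul_mem (inv_mem (hBQ hb)) ?_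
      have := Subgroup.Normal.conj_mem (inferInstance : (Cfsg.pCore 2 X).Normal) b (hBQ hb) d⁻¹
      rwa [inv_inv, mul_assoc] at this
    have : b * d = d * b * c := by rw [hc]; group
    calc b * (d * (u : X) * d⁻¹) * b⁻¹ = (b * d) * u * (b * d)⁻¹ := by group
      _ = d * b * (c * u) * c⁻¹ * b⁻¹ * d⁻¹ := by rw [this]; group
      _ = _ := by rw [hcent c hcC u]; group
  let C1 : Subgroup ↥U :=
    { carrier := {w | w ∈ W ∧ ∀ b ∈ B, b * (w : X) * b⁻¹ = w}
      one_mem' := ⟨one_mem _, fun b _ => by simp⟩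
      mul_mem' := fun {v w} hv hw => ⟨mul_mem hv.1 hw.1, fun b hb => by
        calc b * ((v * w : ↥U) : X) * b⁻¹ = (b * v * b⁻¹) * (b * w * b⁻¹) := by rw [Subgroup.coe_mul]; group
          _ = _ := by rw [hv.2 b hb, hw.2 b hb, Subgroup.coe_mul]⟩
      inv_mem' := fun {v} hv => ⟨inv_mem hv.1, fun b hb => by
        calc b * ((v⁻¹ : ↥U) : X) * b⁻¹ = (b * v * b⁻¹)⁻¹ := by rw [InvMemClass.coe_inv]; group
          _ = _ := by rw [hv.2 b hb, InvMemClass.coe_inv]⟩ }
  have hC1D : ∀ w ∈ C1, D w ∈ C1 := fun w hw =>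
    ⟨Trv.apply_mem_range D hw.1, fun b hb => by rw [hDapp, hBD b hb, hw.2 b hb]⟩
  have hVC1 : W ⊓ (zq X).subgroupOf U ≤ C1 := fun w hw => ⟨hw.1, fun b hb => by
    have := mem_centralizer_iff.1 hb.2 _ (mem_subgroupOf.1 hw.2)
    rw [← this, mul_inv_cancel_right]⟩
  let CA : Subgroup ↥U := C1 ⊓ (Trv.mv α).ker
  have hαD : ∀ v, α v = v → α (D v) = D v → D v = v := by
    intro v h1 h2
    have e1 : D⁻¹ v = D v := by
      rw [← hinv]
      show α (D (α v)) = D v
      rw [h1, h2]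
    have e2 : v = D (D v) := by
      conv_lhs => rw [← MulAut.apply_inv_self ↥U D v, e1]
    have e3 : (D ^ 3) v = v := by rw [hD3, MulAut.one_apply]
    rw [pow_succ', pow_two, MulAut.mul_apply, MulAut.mul_apply, ← e2] at e3
    exact e3
  have hpair : ∀ S : Subgroup ↥U, (∀ w ∈ S, w ∈ C1 ∨ w ∈ W) → (∀ w ∈ S, α w = w) →
      Function.Injective (fun p : ↥S × ↥S => (p.1 : ↥U) * D (p.2 : ↥U)) := by
    intro S hS hSa p q hpq
    have hS' : ∀ w ∈ S, w ∈ W := fun w hw => (hS w hw).elim (fun h => h.1) id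
    have h1 : ((p.1 : ↥U) * q.1) = D ((p.2 : ↥U) * q.2) := by
      simp only at hpq
      rw [map_mul]
      calc (p.1 : ↥U) * q.1 = ((p.1 : ↥U) * D p.2) * (q.1 * D p.2) := by
            rw [mul_mul_mul_comm, hUsq, mul_one]
        _ = ((q.1 : ↥U) * D q.2) * (q.1 * D p.2) := by rw [hpq]
        _ = D p.2 * D q.2 := by rw [mul_mul_mul_comm, hUsq, one_mul, mul_comm]
    have hm2 := mul_mem p.2.2 q.2.2
    have hm1 := mul_mem p.1.2 q.1.2
    have h2 := hαD _ (hSa _ hm2) (by rw [← h1]; exact hSa _ hm1)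
    have h3 := hfix _ (hS' _ hm2) h2
    rw [h3, map_one] at h1
    refine Prod.ext (Subtype.ext ?_) (Subtype.ext ?_)
    · rw [← Trv.mul_right_self hUsq (p.1 : ↥U) q.1, h1, one_mul]
    · rw [← Trv.mul_right_self hUsq (p.2 : ↥U) q.2, h3, one_mul]
  have hCA2 : Nat.card ↥CA * Nat.card ↥CA ≤ Nat.card ↥C1 := by
    rw [← Nat.card_prod]
    refine Nat.card_le_card_of_injective (fun p : ↥CA × ↥CA =>
      (⟨(p.1 : ↥U) * D (p.2 : ↥U), mul_mem p.1.2.1 (hC1D _ p.2.2.1)⟩ : ↥C1)) ?_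
    intro p q hpq
    exact hpair CA (fun w hw => Or.inl hw.1) (fun w hw => (Trv.mv_eq_one_iff hUsq α w).1 hw.2)
      (congrArg Subtype.val hpq)
  -- bound `C1` by maximality of `A'`
  set C1X := C1.map U.subtype with hC1X
  have hUe : IsElementaryAbelian 2 U := Oz.elemAb C
  have hC1B : IsElementaryAbelian 2 (C1X ⊔ B) :=
    CfsgLib.PGroup.elemAb_sup (CfsgLib.PGroup.elemAb_mono hUe (Subgroup.map_subtype_le _))
      (CfsgLib.PGroup.elemAb_mono hA'.1 inf_le_left) (by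
        rintro _ ⟨w, hw, rfl⟩ b hb
        exact (mul_inv_eq_iff_eq_mul.1 (hw.2 b hb)).symm)
  have hsup : ∀ (S : Subgroup X) (B' : Subgroup X), (∀ v ∈ S, ∀ b ∈ B', v * b = b * v) →
      Nat.card ↥(S ⊔ B') * Nat.card ↥(S ⊓ B') = Nat.card ↥S * Nat.card ↥B' := fun S B' hc =>
    card_sup_mul_inf_of_le_normalizer (fun b hb => CfsgLib.LocalEven.mem_normalizer_of_conj_le (by
      rintro _ ⟨v, hv, rfl⟩
      show b * v * b⁻¹ ∈ S
      rw [← hc v hv b hb, mul_inv_cancel_right]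
      exact hv))
  have hinfA : ∀ x ∈ A', ∀ w : ↥U, (w : X) = x → α w = w := by
    intro x hx w hwx
    apply Subtype.ext
    rw [hαapp, hwx, CfsgLib.PGroup.elemAb_comm hA'.1 haA' hx, mul_inv_cancel_right]
  have hC1card : Nat.card ↥C1 ≤ 4 := by
    have h1 := hA'.2 _ hC1B
    have h2 := hsup C1X B (fun v hv b hb => by
      obtain ⟨w, hw, rfl⟩ := hv
      exact (mul_inv_eq_iff_eq_mul.1 (hw.2 b hb)).symm)
    have h3 : C1X ⊓ B ≤ CA.map U.subtype := by
      rintro x ⟨⟨w, hw, rfl⟩, hb⟩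
      exact ⟨w, ⟨hw, (Trv.mv_eq_one_iff hUsq α w).2 (hinfA _ hb.1 w rfl)⟩, rfl⟩
    have h4 := Subgroup.card_le_of_le h3
    rw [Subgroup.card_map_of_injective U.subtype_injective] at h4
    have hc1 : Nat.card ↥C1X = Nat.card ↥C1 := Subgroup.card_map_of_injective U.subtype_injective
    rw [hc1] at h2
    have hBp : 0 < Nat.card ↥B := Nat.card_pos
    have h5 : Nat.card ↥C1 ≤ 2 * Nat.card ↥CA := by
      refine Nat.le_of_mul_le_mul_right ?_ hBp
      rw [← h2]
      calc Nat.card ↥(C1X ⊔ B) * Nat.card ↥(C1X ⊓ B) ≤ (2 * Nat.card ↥B) * Nat.card ↥CA :=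
            Nat.mul_le_mul (hA'card ▸ h1) h4
        _ = _ := by ring
    have h6 : 0 < Nat.card ↥CA := Nat.card_pos
    have h7 : Nat.card ↥CA ≤ 2 := Nat.le_of_mul_le_mul_right (hCA2.trans h5) h6
    omega
  have hC1eq : W ⊓ (zq X).subgroupOf U = C1 := Subgroup.eq_of_le_of_card_ge hVC1 (by rw [hWV]; exact hC1card)
  have hC14 : Nat.card ↥C1 = 4 := hC1eq ▸ hWV
  have hCA : Nat.card ↥CA ≤ 2 := by
    have := hCA2
    rw [hC14] at this
    nlinarith
  by_contra hne
  have hWC : C1 < W := lt_of_le_of_ne (fun w hw => hw.1) fun e => hne (e ▸ hC14)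
  set DW := W ⊓ (Trv.mv α).ker with hDW
  -- `DW` is bigger than `CA`
  have hαW : ∀ w ∈ W, α w ∈ W := by
    rintro w ⟨u, rfl⟩
    have e : α (Trv.mv D u) = Trv.mv D⁻¹ (α u) := by
      have h1 : α * D = D⁻¹ * α := by rw [← hinv, mul_assoc _ α α, hαα, mul_one]
      rw [Trv.mv_apply, Trv.mv_apply, map_mul, show α (D u) = (α * D) u from rfl, h1]
      rfl
    rw [e]
    have : D⁻¹ = D ^ 2 := inv_eq_of_mul_eq_one_right (by rw [← pow_succ', hD3])
    rw [this]
    exact hmvmem 2 _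
  have hbig : ¬ DW ≤ CA := by
    intro hle
    have hDW2 : Nat.card ↥DW ≤ 2 := (Subgroup.card_le_of_le hle).trans hCA
    -- kernel and image of `mv α` on `W` both lie in `DW`
    set f := (Trv.mv α).comp W.subtype with hf
    have e1 := card_eq_card_quotient_mul_card_subgroup f.ker
    rw [Nat.card_congr (QuotientGroup.quotientKerEquivRange f).toEquiv] at e1
    have e2 : Nat.card ↥f.range ≤ 2 := by
      refine (Subgroup.card_le_of_le (H := f.range) (K := DW) ?_).trans hDW2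
      rintro _ ⟨w, rfl⟩
      exact ⟨mul_mem (hαW _ w.2) w.2,
        (Trv.mv_eq_one_iff hUsq α _).2 (Trv.apply_of_mem_range hUsq hαα ⟨_, rfl⟩)⟩
    have e3 : Nat.card ↥f.ker ≤ 2 := by
      rw [← Subgroup.card_map_of_injective (K := f.ker) W.subtype_injective]
      refine (Subgroup.card_le_of_le ?_).trans hDW2
      rintro _ ⟨w, hw, rfl⟩
      exact ⟨w.2, hw⟩
    have e4 : Nat.card ↥W ≤ 4 := by rw [e1]; exact Nat.mul_le_mul e2 e3
    have := Subgroup.card_le_of_le hWC.le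
    exact hne (by omega)
  -- choose `u` in `DW ∖ CA` moved by `B` only into `CA`
  let E : ↥U → Set X := fun u => {b | b ∈ B ∧ ∀ hb : b ∈ normalizer (U : Set X), Trv.mv (conjOn U ⟨b, hb⟩) u ∈ CA}
  obtain ⟨u₀, hu₀, hu₀'⟩ := SetLike.not_le_iff_exists.1 hbig
  obtain ⟨u, ⟨hu, huCA⟩, humax⟩ := Finset.exists_max_image
    (Set.toFinite {u : ↥U | u ∈ DW ∧ u ∉ CA}).toFinset (fun u => (E u).ncard) ⟨u₀, by simp [hu₀, hu₀']⟩
    |>.imp (fun u h => (show (u ∈ DW ∧ u ∉ CA) ∧ _ from ⟨by simpa using h.1, h.2⟩))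
  have hBcomm : ∀ b ∈ B, ∀ b' ∈ B, ∀ hb : b ∈ normalizer (U : Set X), ∀ hb' : b' ∈ normalizer (U : Set X),
      conjOn U ⟨b, hb⟩ * conjOn U ⟨b', hb'⟩ = conjOn U ⟨b', hb'⟩ * conjOn U ⟨b, hb⟩ := by
    intro b hb b' hb' h1 h2
    rw [← map_mul, ← map_mul]
    exact congrArg _ (Subtype.ext (CfsgLib.PGroup.elemAb_comm hA'.1 hb.1 hb'.1))
  have hCAfix : ∀ b ∈ B, ∀ hb : b ∈ normalizer (U : Set X), ∀ w ∈ CA, Trv.mv (conjOn U ⟨b, hb⟩) w = 1 :=
    fun b hb hbn w hw => (Trv.mv_eq_one_iff hUsq _ _).2 (Subtype.ext (hw.1.2 b hb))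
  have hall : ∀ b ∈ B, ∀ hb : b ∈ normalizer (U : Set X), Trv.mv (conjOn U ⟨b, hb⟩) u ∈ CA := by
    intro b hb hbn
    by_contra hout
    set β := conjOn U ⟨b, hbn⟩ with hβ
    set u' := Trv.mv β u with hu'
    have hu'DW : u' ∈ DW := by
      have hββ : ∀ w : ↥U, w ∈ DW → β w ∈ DW := by
        intro w hw
        obtain ⟨v, hv⟩ := hw.1
        refine ⟨⟨β v, ?_⟩, (Trv.mv_eq_one_iff hUsq α _).2 ?_⟩
        · rw [← hv]
          apply Subtype.ext
          simp only [Trv.mv_apply, map_mul, Subgroup.coe_mul, hDapp, β, conjOn_apply]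
          rw [← hBD b hb v]
        · apply Subtype.ext
          have hw2 := congrArg Subtype.val ((Trv.mv_eq_one_iff hUsq α w).1 hw.2)
          rw [hαapp] at hw2
          rw [hαapp, conjOn_apply]
          show a * (b * (w : X) * b⁻¹) * a⁻¹ = b * w * b⁻¹
          calc a * (b * (w : X) * b⁻¹) * a⁻¹ = (a * b) * w * (a * b)⁻¹ := by group
            _ = (b * a) * w * (b * a)⁻¹ := by rw [CfsgLib.PGroup.elemAb_comm hA'.1 haA' hb.1]
            _ = b * (a * w * a⁻¹) * b⁻¹ := by group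
            _ = _ := by rw [hw2]
      exact mul_mem (hββ u hu) hu
    have hsub : E u ⊂ E u' := by
      constructor
      · rintro c ⟨hc, hcu⟩
        refine ⟨hc, fun hcn => ?_⟩
        have e : Trv.mv (conjOn U ⟨c, hcn⟩) u' = Trv.mv β (Trv.mv (conjOn U ⟨c, hcn⟩) u) := by
          simp only [u', Trv.mv_apply, map_mul]
          rw [show conjOn U ⟨c, hcn⟩ (β u) = (conjOn U ⟨c, hcn⟩ * β) u from rfl, hBcomm c hc b hb hcn hbn]
          simp only [MulAut.mul_apply, hβ]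
          exact mul_mul_mul_comm _ _ _ _
        rw [e, hCAfix b hb hbn _ (hcu hcn)]
        exact one_mem _
      · intro hle
        have hbb : b ∈ E u' := ⟨hb, fun hbn' => by
          have e : β * β = 1 := by
            rw [hβ, ← map_mul, show (⟨b, hbn⟩ : ↥(normalizer (U : Set X))) * ⟨b, hbn⟩ = 1 from
              Subtype.ext (by
                have := hA'.1.2 b hb.1
                rwa [pow_two] at this), map_one]
          show Trv.mv β u' ∈ CA
          rw [(Trv.mv_eq_one_iff hUsq β u').2 (Trv.apply_of_mem_range hUsq e ⟨u, rfl⟩)]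
          exact one_mem _⟩
        exact hout ((hle hbb).2 hbn)
    exact absurd (humax u' (by simp only [Set.Finite.mem_toFinset, Set.mem_ofPred_eq]; exact ⟨hu'DW, hout⟩))
      (not_le.2 (Set.ncard_lt_ncard hsub))
  -- `B' = C_B(u)` has index at most 2
  set B' := B ⊓ centralizer ({(u : X)} : Set X) with hB'
  have hB'2 : Nat.card ↥B ≤ 2 * Nat.card ↥B' := by
    let f : ↥B →* ↥U :=
      { toFun := fun b => Trv.mv (conjOn U ⟨b, hBn b b.2⟩) u
        map_one' := (Trv.mv_eq_one_iff hUsq _ _).2 (Subtype.ext (by rw [conjOn_apply]; simp))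
        map_mul' := fun b c => by
          show Trv.mv (conjOn U ⟨(b : X) * c, _⟩) u = _
          rw [show (⟨(b : X) * c, hBn _ (b * c).2⟩ : ↥(normalizer (U : Set X))) =
            ⟨b, hBn b b.2⟩ * ⟨c, hBn c c.2⟩ from rfl, map_mul]
          have h1 := (Trv.mv_eq_one_iff hUsq _ _).1 (hCAfix b b.2 (hBn b b.2) _ (hall c c.2 (hBn c c.2)))
          rw [Trv.mv_apply, MulAut.mul_apply, Trv.apply_eq hUsq (conjOn U ⟨c, hBn c c.2⟩) u, map_mul, h1,
            mul_assoc, ← Trv.mv_apply, mul_comm] }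
    have e1 := card_eq_card_quotient_mul_card_subgroup f.ker
    rw [Nat.card_congr (QuotientGroup.quotientKerEquivRange f).toEquiv] at e1
    have e2 : Nat.card ↥f.range ≤ 2 := by
      refine (Subgroup.card_le_of_le (H := f.range) (K := CA) ?_).trans hCA
      rintro _ ⟨c, rfl⟩
      exact hall c c.2 (hBn c c.2)
    have e3 : Nat.card ↥f.ker ≤ Nat.card ↥B' := by
      rw [← Subgroup.card_map_of_injective (K := f.ker) B.subtype_injective]
      refine Subgroup.card_le_of_le ?_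
      rintro _ ⟨c, hc, rfl⟩
      refine Subgroup.mem_inf.2 ⟨c.2, mem_centralizer_singleton_iff.2 ?_⟩
      have := congrArg Subtype.val ((Trv.mv_eq_one_iff hUsq _ u).1 hc)
      rw [conjOn_apply] at this
      exact mul_inv_eq_iff_eq_mul.1 this
    calc Nat.card ↥B = Nat.card ↥f.range * Nat.card ↥f.ker := e1
      _ ≤ _ := Nat.mul_le_mul e2 e3
  -- a subgroup of order ≥ 16 centralised by `B'`
  let W2 : Subgroup ↥U :=
    { carrier := {w | w ∈ W ∧ ∀ b ∈ B', b * (w : X) * b⁻¹ = w}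
      one_mem' := ⟨one_mem _, fun b _ => by simp⟩
      mul_mem' := fun {v w} hv hw => ⟨mul_mem hv.1 hw.1, fun b hb => by
        calc b * ((v * w : ↥U) : X) * b⁻¹ = (b * v * b⁻¹) * (b * w * b⁻¹) := by rw [Subgroup.coe_mul]; group
          _ = _ := by rw [hv.2 b hb, hw.2 b hb, Subgroup.coe_mul]⟩
      inv_mem' := fun {v} hv => ⟨inv_mem hv.1, fun b hb => by
        calc b * ((v⁻¹ : ↥U) : X) * b⁻¹ = (b * v * b⁻¹)⁻¹ := by rw [InvMemClass.coe_inv]; group
          _ = _ := by rw [hv.2 b hb, InvMemClass.coe_inv]⟩ }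
  have huW2 : u ∈ W2 := ⟨hu.1, fun b hb => by
    rw [mem_centralizer_singleton_iff.1 hb.2, mul_inv_cancel_right]⟩
  have hW2D : ∀ w ∈ W2, D w ∈ W2 := fun w hw =>
    ⟨Trv.apply_mem_range D hw.1, fun b hb => by rw [hDapp, hBD b hb.1, hw.2 b hb]⟩
  have hC1W2 : C1 ≤ W2 := fun w hw => ⟨hw.1, fun b hb => hw.2 b hb.1⟩
  let S := CA ⊔ zpowers u
  have hSW2 : S ≤ W2 := sup_le (inf_le_left.trans hC1W2) (zpowers_le.2 huW2)
  have hSα : S ≤ (Trv.mv α).ker := sup_le inf_le_right (zpowers_le.2 hu.2)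
  have hS4 : 4 ≤ Nat.card ↥S := by
    have hlt : CA < S := lt_of_le_of_ne le_sup_left fun e => huCA (e ▸ mem_sup_right (mem_zpowers u))
    have hCA1 : 2 ≤ Nat.card ↥CA := by
      by_contra hh
      have hbot : CA = ⊥ := Subgroup.card_eq_one.1 (by have := Nat.card_pos (α := ↥CA); omega)
      -- `mv α` maps `C1` into `CA = ⊥`
      have : C1 ≤ CA := fun w hw => ⟨hw, by
        have hm : Trv.mv α w ∈ CA := by
          refine ⟨⟨mul_mem (hαW _ hw.1) hw.1, fun b hb => ?_⟩,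
            (Trv.mv_eq_one_iff hUsq α _).2 (Trv.apply_of_mem_range hUsq hαα ⟨_, rfl⟩)⟩
          rw [Trv.mv_apply, Subgroup.coe_mul, hαapp]
          have hw' := hw.2 b hb
          calc b * (a * (w : X) * a⁻¹ * w) * b⁻¹ = (b * a) * w * (b * a)⁻¹ * (b * w * b⁻¹) := by group
            _ = (a * b) * w * (a * b)⁻¹ * (b * w * b⁻¹) := by
              rw [CfsgLib.PGroup.elemAb_comm hA'.1 haA' hb.1]
            _ = a * (b * w * b⁻¹) * a⁻¹ * (b * w * b⁻¹) := by group
            _ = _ := by rw [hw']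
        rw [hbot, mem_bot] at hm
        exact hm⟩
      have := Subgroup.card_le_of_le this
      omega
    obtain ⟨k, hk⟩ := Subgroup.card_dvd_of_le hlt.le
    have : k ≠ 1 := fun e => hlt.ne (Subgroup.eq_of_le_of_card_ge hlt.le (by rw [hk, e, mul_one]))
    have : k ≠ 0 := fun e => Nat.card_pos.ne' (by rw [hk, e, mul_zero] : Nat.card ↥S = 0)
    calc 4 = 2 * 2 := rfl
      _ ≤ Nat.card ↥CA * k := Nat.mul_le_mul hCA1 (by omega)
      _ = _ := hk.symm
  have hW2card : 16 ≤ Nat.card ↥W2 := by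
    refine le_trans (Nat.mul_le_mul hS4 hS4) ?_
    rw [← Nat.card_prod]
    refine Nat.card_le_card_of_injective (fun p : ↥S × ↥S =>
      (⟨(p.1 : ↥U) * D (p.2 : ↥U), mul_mem (hSW2 p.1.2) (hW2D _ (hSW2 p.2.2))⟩ : ↥W2)) ?_
    intro p q hpq
    exact hpair S (fun w hw => Or.inr (hSW2 hw).1) (fun w hw => (Trv.mv_eq_one_iff hUsq α w).1 (hSα hw))
      (congrArg Subtype.val hpq)
  set W2X := W2.map U.subtype with hW2X
  have hcomm2 : ∀ v ∈ W2X, ∀ b ∈ B', v * b = b * v := by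
    rintro _ ⟨w, hw, rfl⟩ b hb
    exact (mul_inv_eq_iff_eq_mul.1 (hw.2 b hb)).symm
  have hW2B : IsElementaryAbelian 2 (W2X ⊔ B') :=
    CfsgLib.PGroup.elemAb_sup (CfsgLib.PGroup.elemAb_mono hUe (Subgroup.map_subtype_le _))
      (CfsgLib.PGroup.elemAb_mono hA'.1 (inf_le_left.trans inf_le_left)) hcomm2
  have h1 := hA'.2 _ hW2B
  have h2 := hsup W2X B' hcomm2
  have h3 : W2X ⊓ B' ≤ CA.map U.subtype := by
    rintro x ⟨⟨w, hw, rfl⟩, hb⟩
    refine ⟨w, ⟨⟨hw.1, fun c hc => ?_⟩, (Trv.mv_eq_one_iff hUsq α w).2 (hinfA _ hb.1.1 w rfl)⟩, rfl⟩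
    rw [show c * (w : X) = (w : X) * c from CfsgLib.PGroup.elemAb_comm hA'.1 hc.1 hb.1.1, mul_inv_cancel_right]
  have h4 := Subgroup.card_le_of_le h3
  rw [Subgroup.card_map_of_injective U.subtype_injective] at h4
  have hW2Xcard : Nat.card ↥W2X = Nat.card ↥W2 := Subgroup.card_map_of_injective U.subtype_injective
  rw [hW2Xcard] at h2
  have hB'pos : 0 < Nat.card ↥B' := Nat.card_pos
  have h5 : 16 * Nat.card ↥B' ≤ Nat.card ↥(W2X ⊔ B') * 2 :=
    calc 16 * Nat.card ↥B' ≤ Nat.card ↥W2 * Nat.card ↥B' := Nat.mul_le_mul_right _ hW2card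
      _ = _ := h2.symm
      _ ≤ _ := Nat.mul_le_mul_left _ (h4.trans hCA)
  omega

end CfsgLib.LocalEven.JComp
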