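import Cfsg.Agent.Lib.LocalEven.TransvectionGroups
import Mathlib.GroupTheory.GroupAction.Basic

/-!
An elementary abelian 2-group of automorphisms acting faithfully on an odd group has `|A||C_U(A)| ≤ |U|`,
with equality only if it is generated by transvections.
-/

set_option autoImplicit false

namespace CfsgLib.LocalEven.Trv

open Subgroup

variable {U : Type*} [CommGroup U]

theorem exists_fixed [Finite U] (hU : ∀ u : U, u * u = 1) {B : Subgroup (MulAut U)} (hB : IsPGroup 2 ↥B)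
    (S : Subgroup U) (hinv : ∀ b ∈ B, ∀ u ∈ S, b u ∈ S) (hS : S ≠ ⊥) :
    ∃ w ∈ S, w ≠ 1 ∧ w ∈ fixSub B := by
  haveI : Fact (Nat.Prime 2) := ⟨Nat.prime_two⟩
  letI : MulAction ↥B ↥S :=
    { smul := fun b w => ⟨(b : MulAut U) w, hinv b b.2 w w.2⟩
      one_smul := fun w => Subtype.ext rfl
      mul_smul := fun b c w => Subtype.ext rfl }
  obtain ⟨v, hv, hv1⟩ : ∃ v ∈ S, v ≠ 1 := by
    by_contra hcon
    push Not at hcon
    exact hS (eq_bot_iff.2 fun v hv => by simpa using hcon v hv)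
  have hdvd : 2 ∣ Nat.card ↥S := by
    rw [← orderOf_eq_prime (p := 2) (by rw [pow_two, hU]) hv1]
    exact Subgroup.orderOf_dvd_natCard _ hv
  have h1 : (1 : ↥S) ∈ MulAction.fixedPoints ↥B ↥S := fun b => Subtype.ext (map_one (b : MulAut U))
  obtain ⟨w, hw, hne⟩ := hB.exists_fixed_point_of_prime_dvd_card_of_fixed_point ↥S hdvd h1
  exact ⟨w, w.2, fun e => hne (Subtype.ext e).symm, fun b hb => congrArg Subtype.val (hw ⟨b, hb⟩)⟩

theorem eq_one_of_fixSub_fixed [Finite U] (hU : ∀ u : U, u * u = 1) {B : Subgroup (MulAut U)}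
    (hB : IsPGroup 2 ↥B) {e : MulAut U} (he : Odd (orderOf e)) (hcomm : ∀ b ∈ B, b * e = e * b)
    (hfix : ∀ u ∈ fixSub B, e u = u) : e = 1 := by
  refine eq_one_of_range_fixed hU he fun w hw => ?_
  by_cases hbot : (mv e).range = ⊥
  · rw [hbot, mem_bot] at hw
    rw [hw, map_one]
  · exfalso
    obtain ⟨v, hv, hv1, hvf⟩ := exists_fixed hU hB (mv e).range (fun b hb u hu => by
      obtain ⟨v, rfl⟩ := hu
      refine ⟨b v, ?_⟩
      rw [mv_apply, mv_apply, map_mul, show b (e v) = (b * e) v from rfl, hcomm b hb]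
      rfl) hbot
    exact hv1 (eq_one_of_fixed_mem_range hU he (pow_orderOf_eq_one e) hv (hfix v hvf))

theorem isPGroup_two_of_sq {A : Subgroup (MulAut U)} (hA : ∀ a ∈ A, a * a = 1) : IsPGroup 2 ↥A :=
  fun a => ⟨1, Subtype.ext (by rw [pow_one, pow_two]; exact hA a a.2)⟩

theorem card_le_two_mul [Finite U] {A B : Subgroup (MulAut U)} {x : MulAut U} (hA : ∀ a ∈ A, a * a = 1)
    (hAc : ∀ a ∈ A, ∀ b ∈ A, a * b = b * a) (hBA : B ≤ A) (hx : x ∈ A) (h : A ≤ B ⊔ zpowers x) :
    Nat.card ↥A ≤ 2 * Nat.card ↥B := by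
  classical
  let M : Subgroup (MulAut U) :=
    { carrier := {g | g ∈ A ∧ (g ∈ B ∨ x * g ∈ B)}
      one_mem' := ⟨one_mem _, Or.inl (one_mem _)⟩
      mul_mem' := fun {g k} hg hk => ⟨mul_mem hg.1 hk.1, by
        rcases hg.2 with h1 | h1 <;> rcases hk.2 with h2 | h2
        · exact Or.inl (mul_mem h1 h2)
        · right; rw [← mul_assoc, hAc x hx g hg.1, mul_assoc]; exact mul_mem h1 h2
        · right; rw [← mul_assoc]; exact mul_mem h1 h2
        · left
          have h3 := mul_mem h1 h2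
          rwa [mul_assoc, ← mul_assoc g, hAc g hg.1 x hx, mul_assoc x g, ← mul_assoc x x, hA x hx,
            one_mul] at h3⟩
      inv_mem' := fun {g} hg => by
        have : g⁻¹ = g := inv_eq_of_mul_eq_one_right (hA g hg.1)
        rw [this]; exact hg }
  have hM : A ≤ M := h.trans (sup_le (fun b hb => ⟨hBA hb, Or.inl hb⟩)
    (zpowers_le.2 ⟨hx, Or.inr (by rw [hA x hx]; exact one_mem _)⟩))
  let f : ↥A → ↥B × Bool := fun g =>
    if hg : (g : MulAut U) ∈ B then (⟨g, hg⟩, false)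
    else (⟨x * g, ((hM g.2).2).resolve_left hg⟩, true)
  have hf : Function.Injective f := by
    intro g k hgk
    simp only [f] at hgk
    split_ifs at hgk with h1 h2 h2
    · exact Subtype.ext (congrArg (fun z => ((z.1 : ↥B) : MulAut U)) hgk)
    · simp at hgk
    · simp at hgk
    · exact Subtype.ext (mul_left_cancel (congrArg (fun z => ((z.1 : ↥B) : MulAut U)) hgk))
  have := Nat.card_le_card_of_injective f hf
  rw [Nat.card_prod, Nat.card_eq_fintype_card (α := Bool), Fintype.card_bool] at this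
  omega

theorem card_mul_le [Finite U] (hU : ∀ u : U, u * u = 1) {P : Subgroup (MulAut U)} (hP : Odd (Nat.card ↥P))
    {A : Subgroup (MulAut U)} (hA : ∀ a ∈ A, a * a = 1) (hAc : ∀ a ∈ A, ∀ b ∈ A, a * b = b * a)
    (hAP : A ≤ normalizer (P : Set (MulAut U))) (hfaith : A ⊓ centralizer (P : Set (MulAut U)) = ⊥) :
    Nat.card ↥A * Nat.card ↥(fixSub A) ≤ Nat.card U ∧
      (Nat.card ↥A * Nat.card ↥(fixSub A) = Nat.card U → A ≤ closure {a | a ∈ A ∧ IsTrv a}) := by
  induction h : Nat.card ↥A using Nat.strong_induction_on generalizing A with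
  | _ n ih =>
  subst h
  haveI : Fact (Nat.Prime 2) := ⟨Nat.prime_two⟩
  -- a hyperplane avoiding a given element, with more fixed points
  have key : ∀ x ∈ A, x ≠ 1 → ∃ B : Subgroup (MulAut U), B ≤ A ∧ x ∉ B ∧ A ≤ B ⊔ zpowers x ∧
      2 * Nat.card ↥(fixSub A) ≤ Nat.card ↥(fixSub B) := by
    intro x hx hx1
    let Good : Subgroup (MulAut U) → Prop := fun B =>
      B ≤ A ∧ ¬ P ⊓ centralizer (B : Set (MulAut U)) ≤ centralizer ({x} : Set (MulAut U))
    have h0 : Good ⊥ := by
      refine ⟨bot_le, fun hle => hx1 ?_⟩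
      have : x ∈ A ⊓ centralizer (P : Set (MulAut U)) := ⟨hx, mem_centralizer_iff.2 fun y hy => by
        have := mem_centralizer_iff.1 (hle ⟨hy, mem_centralizer_iff.2 fun z hz => by
          rw [mem_bot.1 hz, one_mul, mul_one]⟩) x (Set.mem_singleton x)
        exact this.symm⟩
      rwa [hfaith, mem_bot] at this
    obtain ⟨B, -, ⟨hBA, hBgood⟩, hBmax⟩ := Finite.exists_le_maximal (p := Good) h0
    have hxB : x ∉ B := fun hxB => hBgood fun y hy => mem_centralizer_iff.2 fun z hz => by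
      rw [Set.mem_singleton_iff.1 hz]; exact mem_centralizer_iff.1 hy.2 x hxB
    set PB := P ⊓ centralizer (B : Set (MulAut U)) with hPB
    have hN : ∀ z ∈ A, z ∈ normalizer (PB : Set (MulAut U)) := by
      intro z hz
      refine CfsgLib.LocalEven.mem_normalizer_of_conj_le ?_
      rintro _ ⟨y, hy, rfl⟩
      show z * y * z⁻¹ ∈ PB
      refine ⟨CfsgLib.LocalEven.conj_mem_of_mem_normalizer (hAP hz) hy.1, mem_centralizer_iff.2 fun b hb => ?_⟩
      have h1 := mem_centralizer_iff.1 hy.2 b hb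
      have h2 := hAc z hz b (hBA hb)
      calc b * (z * y * z⁻¹) = (b * z) * y * z⁻¹ := by group
        _ = z * (b * y) * z⁻¹ := by rw [← h2]; group
        _ = z * y * (b * z⁻¹) := by rw [h1]; group
        _ = z * y * (z⁻¹ * b) := by rw [hAc z⁻¹ (inv_mem hz) b (hBA hb)]
        _ = z * y * z⁻¹ * b := by group
    refine ⟨B, hBA, hxB, ?_, ?_⟩
    · intro y hy
      by_contra hyB
      refine hBgood (CfsgLib.LocalEven.le_of_line_centralizers (p := 2) (x := x) (y := y)
        (by rw [pow_two, hA x hx]) (by rw [pow_two, hA y hy]) (hAc x hx y hy)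
        ((Nat.coprime_two_right.2 hP).coprime_dvd_left (Subgroup.card_dvd_of_le inf_le_left))
        (hN x hx) (hN y hy) inf_le_right fun i => ?_)
      set z := y * x ^ i with hz
      have hzA : z ∈ A := mul_mem hy (pow_mem hx i)
      have hzB : z ∉ B := fun hzB => hyB (by
        have := Subgroup.mul_mem_sup hzB (zpow_mem (mem_zpowers x) (-(i : ℤ)))
        simpa [z] using this)
      have hgt : B < B ⊔ zpowers z :=
        lt_of_le_of_ne le_sup_left fun e => hzB (e.symm ▸ mem_sup_right (mem_zpowers z))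
      intro w hw
      by_contra hwx
      refine hgt.not_ge (hBmax ⟨sup_le hBA (zpowers_le.2 hzA), fun hle => hwx (hle ⟨hw.1.1, ?_⟩)⟩ hgt.le)
      refine mem_centralizer_iff.2 fun v hv => ?_
      have hle2 : B ⊔ zpowers z ≤ centralizer ({w} : Set (MulAut U)) := sup_le
        (fun b hb => mem_centralizer_singleton_iff.2 (mem_centralizer_iff.1 hw.1.2 b hb))
        (zpowers_le.2 (mem_centralizer_singleton_iff.2 (mem_centralizer_singleton_iff.1 hw.2).symm))
      exact mem_centralizer_singleton_iff.1 (hle2 hv)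
    · have hle : fixSub A ≤ fixSub B := fun u hu b hb => hu b (hBA hb)
      have hlt : ¬ fixSub B ≤ fixSub A := by
        intro hfix
        obtain ⟨c, hc, hcx⟩ : ∃ c ∈ PB, c ∉ centralizer ({x} : Set (MulAut U)) := SetLike.not_le_iff_exists.1 hBgood
        set e := c⁻¹ * (x * c * x⁻¹) with he
        have hePB : e ∈ PB := mul_mem (inv_mem hc) (CfsgLib.LocalEven.conj_mem_of_mem_normalizer (hN x hx) hc)
        have he1 : e ≠ 1 := fun h1 => hcx (mem_centralizer_singleton_iff.2 (by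
          rw [he, inv_mul_eq_one] at h1
          nth_rewrite 1 [h1]
          group))
        refine he1 (eq_one_of_fixSub_fixed hU (isPGroup_two_of_sq fun b hb => hA b (hBA hb))
          (hP.of_dvd_nat (Subgroup.orderOf_dvd_natCard _ hePB.1))
          (fun b hb => mem_centralizer_iff.1 hePB.2 b hb) fun u hu => ?_)
        have hcu : c u ∈ fixSub B := fun b hb => by
          rw [show b (c u) = (b * c) u from rfl, mem_centralizer_iff.1 hc.2 b hb, MulAut.mul_apply, hu b hb]
        have hxu : x⁻¹ u = u := by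
          conv_lhs => rw [← hfix hu x hx]
          exact MulAut.inv_apply_self U x u
        rw [he, MulAut.mul_apply, MulAut.mul_apply, MulAut.mul_apply, hxu, hfix hcu x hx,
          MulAut.inv_apply_self]
      obtain ⟨k, hk⟩ := Subgroup.card_dvd_of_le hle
      have hk1 : k ≠ 1 := fun e => hlt (le_of_eq (Subgroup.eq_of_le_of_card_ge hle (by rw [hk, e, mul_one])).symm)
      have hk0 : k ≠ 0 := fun e => Nat.card_pos.ne' (by rw [hk, e, mul_zero])
      have hmul : Nat.card ↥(fixSub A) * 2 ≤ Nat.card ↥(fixSub A) * k := Nat.mul_le_mul_left _ (by omega)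
      omega
  have hrec : ∀ x ∈ A, ∀ B : Subgroup (MulAut U), B ≤ A → x ∉ B →
      Nat.card ↥B * Nat.card ↥(fixSub B) ≤ Nat.card U ∧
        (Nat.card ↥B * Nat.card ↥(fixSub B) = Nat.card U → B ≤ closure {a | a ∈ A ∧ IsTrv a}) := by
    intro x hx B hBA hxB
    have hlt : Nat.card ↥B < Nat.card ↥A := lt_of_le_of_ne (Subgroup.card_le_of_le hBA)
      fun e => hxB ((Subgroup.eq_of_le_of_card_ge hBA e.ge).symm ▸ hx)
    obtain ⟨h1, h2⟩ := ih _ hlt (fun a ha => hA a (hBA ha)) (fun a ha b hb => hAc a (hBA ha) b (hBA hb))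
      (hBA.trans hAP) (eq_bot_iff.2 fun z hz => hfaith.le ⟨hBA hz.1, hz.2⟩) rfl
    exact ⟨h1, fun h => (h2 h).trans (closure_mono fun a ha => ⟨hBA ha.1, ha.2⟩)⟩
  by_cases hbot : A = ⊥
  · subst hbot
    exact ⟨by rw [Subgroup.card_bot, one_mul]; exact Subgroup.card_le_card_group _, fun _ => bot_le⟩
  obtain ⟨x, hx, hx1⟩ : ∃ x ∈ A, x ≠ 1 := by
    by_contra hcon
    push Not at hcon
    exact hbot (eq_bot_iff.2 fun v hv => by simpa using hcon v hv)
  obtain ⟨B, hBA, hxB, hAB, hfix⟩ := key x hx hx1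
  obtain ⟨hB1, hB2⟩ := hrec x hx B hBA hxB
  have hc1 := card_le_two_mul hA hAc hBA hx hAB
  have hineq : Nat.card ↥A * Nat.card ↥(fixSub A) ≤ Nat.card U :=
    calc Nat.card ↥A * Nat.card ↥(fixSub A) ≤ 2 * Nat.card ↥B * Nat.card ↥(fixSub A) :=
          Nat.mul_le_mul_right _ hc1
      _ = Nat.card ↥B * (2 * Nat.card ↥(fixSub A)) := by ring
      _ ≤ Nat.card ↥B * Nat.card ↥(fixSub B) := Nat.mul_le_mul_left _ hfix
      _ ≤ Nat.card U := hB1
  refine ⟨hineq, fun heq => ?_⟩
  have hBeq : Nat.card ↥B * Nat.card ↥(fixSub B) = Nat.card U := le_antisymm hB1 (by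
    calc Nat.card U = Nat.card ↥A * Nat.card ↥(fixSub A) := heq.symm
      _ ≤ 2 * Nat.card ↥B * Nat.card ↥(fixSub A) := Nat.mul_le_mul_right _ hc1
      _ = Nat.card ↥B * (2 * Nat.card ↥(fixSub A)) := by ring
      _ ≤ Nat.card ↥B * Nat.card ↥(fixSub B) := Nat.mul_le_mul_left _ hfix)
  have hBcl := hB2 hBeq
  by_cases hB0 : B = ⊥
  · subst hB0
    rw [bot_sup_eq] at hAB
    refine hAB.trans (zpowers_le.2 (subset_closure ⟨hx, hA x hx, ?_⟩))
    have hfA : fixSub A = (mv x).ker := by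
      ext u
      rw [MonoidHom.mem_ker, mv_eq_one_iff hU]
      refine ⟨fun hu => hu x hx, fun hu a ha => ?_⟩
      obtain ⟨i, rfl⟩ := mem_zpowers_iff.1 (hAB ha)
      have hst : x ∈ MulAction.stabilizer (MulAut U) u := hu
      exact zpow_mem hst i
    have hc2 : Nat.card ↥A = 2 := le_antisymm (by simpa using hc1) (Subgroup.one_lt_card_iff_ne_bot _ |>.2 hbot)
    have := card_range_mul x
    rw [← heq, hc2, hfA] at this
    exact Nat.eq_of_mul_eq_mul_right Nat.card_pos this
  obtain ⟨x', hx', hx'1⟩ : ∃ x' ∈ B, x' ≠ 1 := by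
    by_contra hcon
    push Not at hcon
    exact hB0 (eq_bot_iff.2 fun v hv => by simpa using hcon v hv)
  obtain ⟨B', hB'A, hx'B', hAB', hfix'⟩ := key x' (hBA hx') hx'1
  obtain ⟨hB'1, hB'2⟩ := hrec x' (hBA hx') B' hB'A hx'B'
  have hc1' := card_le_two_mul hA hAc hB'A (hBA hx') hAB'
  have hB'eq : Nat.card ↥B' * Nat.card ↥(fixSub B') = Nat.card U := le_antisymm hB'1 (by
    calc Nat.card U = Nat.card ↥A * Nat.card ↥(fixSub A) := heq.symm
      _ ≤ 2 * Nat.card ↥B' * Nat.card ↥(fixSub A) := Nat.mul_le_mul_right _ hc1'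
      _ = Nat.card ↥B' * (2 * Nat.card ↥(fixSub A)) := by ring
      _ ≤ Nat.card ↥B' * Nat.card ↥(fixSub B') := Nat.mul_le_mul_left _ hfix')
  have hB'cl := hB'2 hB'eq
  -- `B' ⊄ B`
  have hnle : ¬ B' ≤ B := by
    intro hle
    have hne : B' ≠ B := fun e => hx'B' (e ▸ hx')
    obtain ⟨k, hk⟩ := Subgroup.card_dvd_of_le hle
    obtain ⟨l, hl⟩ := Subgroup.card_dvd_of_le hBA
    have hk2 : 2 ≤ k := by
      rcases k with _ | _ | k
      · exact absurd (by rw [hk, mul_zero]) (Nat.card_pos (α := ↥B)).ne'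
      · exact absurd (Subgroup.eq_of_le_of_card_ge hle (by rw [hk, zero_add, mul_one])) hne
      · omega
    have hl2 : 2 ≤ l := by
      rcases l with _ | _ | l
      · exact absurd (by rw [hl, mul_zero]) (Nat.card_pos (α := ↥A)).ne'
      · exact absurd ((Subgroup.eq_of_le_of_card_ge hBA (by rw [hl, zero_add, mul_one])).symm ▸ hx) hxB
      · omega
    have hp : 0 < Nat.card ↥B' := Nat.card_pos
    have : Nat.card ↥B' * (k * l) ≤ 2 * Nat.card ↥B' := by rw [← mul_assoc, ← hk, ← hl]; exact hc1'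
    have : 4 ≤ k * l := Nat.mul_le_mul hk2 hl2
    nlinarith
  obtain ⟨z, hz, hzB⟩ := SetLike.not_le_iff_exists.1 hnle
  have hzcl := hB'cl hz
  -- `x ∈ B z`
  refine hAB.trans (sup_le hBcl (zpowers_le.2 ?_))
  have hzA := hB'A hz
  let M : Subgroup (MulAut U) :=
    { carrier := {g | g ∈ A ∧ (g ∈ B ∨ x * g ∈ B)}
      one_mem' := ⟨one_mem _, Or.inl (one_mem _)⟩
      mul_mem' := fun {g k} hg hk => ⟨mul_mem hg.1 hk.1, by
        rcases hg.2 with h1 | h1 <;> rcases hk.2 with h2 | h2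
        · exact Or.inl (mul_mem h1 h2)
        · right; rw [← mul_assoc, hAc x hx g hg.1, mul_assoc]; exact mul_mem h1 h2
        · right; rw [← mul_assoc]; exact mul_mem h1 h2
        · left
          have h3 := mul_mem h1 h2
          rwa [mul_assoc, ← mul_assoc g, hAc g hg.1 x hx, mul_assoc x g, ← mul_assoc x x, hA x hx,
            one_mul] at h3⟩
      inv_mem' := fun {g} hg => by
        have : g⁻¹ = g := inv_eq_of_mul_eq_one_right (hA g hg.1)
        rw [this]; exact hg }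
  have hM : A ≤ M := hAB.trans (sup_le (fun b hb => ⟨hBA hb, Or.inl hb⟩)
    (zpowers_le.2 ⟨hx, Or.inr (by rw [hA x hx]; exact one_mem _)⟩))
  have hxz : x * z ∈ B := ((hM hzA).2).resolve_left hzB
  have := mul_mem (hBcl hxz) (inv_mem hzcl)
  simpa using this

theorem fittingSubgroup_le_pPrimeCore {H : Type*} [Group H] [Finite H] {p : ℕ} [hp : Fact p.Prime]
    (hO : Cfsg.pCore p H = ⊥) : Cfsg.fittingSubgroup H ≤ Cfsg.pPrimeCore p H := by
  rw [CfsgLib.Cores.fittingSubgroup_eq_iSup_pCore]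
  refine iSup_le fun q => ?_
  haveI : Fact (q : ℕ).Prime := ⟨Nat.prime_of_mem_primeFactors q.2⟩
  by_cases hqp : (q : ℕ) = p
  · rw [hqp, hO]; exact bot_le
  · refine CfsgLib.Cores.le_pPrimeCore ?_
    obtain ⟨k, hk⟩ := CfsgLib.Cores.card_pCore_eq_pow (G := H) (q : ℕ)
    rw [hk]
    exact ((Nat.coprime_primes Fact.out hp.out).2 hqp).pow_left k

/-- Every transvection in a solvable group with trivial 2-core inverts a rotation in the 3-core. -/
theorem exists_rot [Finite U] (hU : ∀ u : U, u * u = 1) {H : Subgroup (MulAut U)} [Group.IsSolvable ↥H]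
    (hO : Cfsg.pCore 2 ↥H = ⊥) {a : MulAut U} (haH : a ∈ H) (ha : IsTrv a) :
    ∃ d, ∃ hd : d ∈ H, IsRot d ∧ (⟨d, hd⟩ : ↥H) ∈ Cfsg.pCore 3 ↥H ∧ a * d * a = d⁻¹ ∧
      (mv a).range ≤ (mv d).range := by
  haveI : Fact (Nat.Prime 2) := ⟨Nat.prime_two⟩
  haveI : Fact (Nat.Prime 3) := ⟨Nat.prime_three⟩
  set F := Cfsg.fittingSubgroup ↥H with hF
  haveI : F.Normal := CfsgLib.Cores.fittingSubgroup_normal
  have hFodd : Odd (Nat.card ↥F) := by
    have h1 := (CfsgLib.Cores.coprime_card_pPrimeCore (G := ↥H) 2).coprime_dvd_left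
      (Subgroup.card_dvd_of_le (fittingSubgroup_le_pPrimeCore hO))
    exact Nat.coprime_two_right.1 h1
  set a' : ↥H := ⟨a, haH⟩ with ha'
  obtain ⟨f, hf, hfa⟩ : ∃ f ∈ F, f * a' ≠ a' * f := by
    by_contra hcon
    push Not at hcon
    have haF : a' ∈ F := CfsgLib.Solvable.centralizer_fittingSubgroup_le (Subgroup.mem_centralizer_iff.2 hcon)
    have h1 : orderOf a' ∣ 2 := orderOf_dvd_of_pow_eq_one (Subtype.ext (by
      rw [SubgroupClass.coe_pow, pow_two]; exact ha.1))
    have h2 : orderOf a' = 1 := Nat.eq_one_of_dvd_coprimes (Nat.coprime_two_right.2 hFodd)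
      (Subgroup.orderOf_dvd_natCard _ haF) h1
    rw [orderOf_eq_one_iff] at h2
    have h3 : a = 1 := congrArg Subtype.val h2
    have := ha.2
    rw [h3] at this
    have hb : (mv (1 : MulAut U)).range = ⊥ := by
      rw [MonoidHom.range_eq_bot_iff]
      ext u
      simp [mv_apply, hU]
    rw [hb, Subgroup.card_bot] at this
    omega
  have ha2 : a⁻¹ = a := inv_eq_of_mul_eq_one_right ha.1
  set e' : ↥H := a' * (f * a' * f⁻¹) with he'
  have he'F : e' ∈ F := by
    have h1 : e' = (a' * f * a'⁻¹) * f⁻¹ := by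
      apply Subtype.ext
      simp only [e', a', Subgroup.coe_mul, InvMemClass.coe_inv, ha2]
      group
    rw [h1]
    exact mul_mem (Subgroup.Normal.conj_mem inferInstance f hf a') (inv_mem hf)
  set b : MulAut U := (f : MulAut U) * a * (f : MulAut U)⁻¹ with hb
  have hbt : IsTrv b := by
    refine ⟨?_, ?_⟩
    · rw [hb, ← pow_two, conj_pow, pow_two, ha.1, mul_one, mul_inv_cancel]
    · rw [hb, range_conj, ← Nat.card_congr ((mv a).range.equivMapOfInjective _ (f : MulAut U).injective).toEquiv]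
      exact ha.2
  have hval : (e' : MulAut U) = a * b := rfl
  have hodd : Odd (orderOf (a * b)) := by
    rw [← hval, Subgroup.orderOf_coe]
    exact hFodd.of_dvd_nat (Subgroup.orderOf_dvd_natCard _ he'F)
  have hne : a * b ≠ 1 := by
    intro h1
    apply hfa
    have h2 : b = a := by rw [← mul_left_cancel_iff (a := a), h1, ha.1]
    rw [hb, mul_inv_eq_iff_eq_mul] at h2
    exact Subtype.ext h2
  obtain ⟨hrot, hle⟩ := isRot_mul hU ha hbt hodd hne
  refine ⟨a * b, hval ▸ e'.2, hrot, ?_, ?_, hle⟩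
  · have hee : (⟨a * b, hval ▸ e'.2⟩ : ↥H) = e' := Subtype.ext hval.symm
    rw [hee]
    haveI : Group.IsNilpotent ↥F := CfsgLib.Cores.isNilpotent_fittingSubgroup
    obtain ⟨P, hP⟩ := (isPGroup_of_pow (x := (⟨e', he'F⟩ : ↥F)) (Subtype.ext (Subtype.ext (by
      simp only [SubgroupClass.coe_pow, OneMemClass.coe_one]
      rw [hval]; exact hrot.1)))).exists_le_sylow
    haveI : (P : Subgroup ↥F).Normal := ((Group.isNilpotent_of_finite_tfae (G := ↥F)).out 0 3 rfl rfl).1 inferInstance 3 inferInstance P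
    haveI : (P : Subgroup ↥F).Characteristic := Sylow.characteristic_of_normal P inferInstance
    haveI : ((P : Subgroup ↥F).map F.subtype).Normal := inferInstance
    exact CfsgLib.Cores.le_pCore (P.2.map F.subtype) ⟨_, hP (mem_zpowers _), rfl⟩
  · rw [← mul_assoc, ha.1, one_mul]
    refine eq_inv_of_mul_eq_one_left ?_
    rw [mul_assoc b a, ← mul_assoc a a, ha.1, one_mul, hbt.1]
where
  isPGroup_of_pow {K : Type _} [Group K] {x : K} (h : x ^ 3 = 1) : IsPGroup 3 ↥(zpowers x) :=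
    CfsgLib.LocalEven.zpowers_pow_prime_isPGroup (p := 3) h

end CfsgLib.LocalEven.Trv
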