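import Cfsg.Agent.Lib.LocalEven.JCenter
import Cfsg.Agent.Lib.LocalEven.TransvectionOffender
import Cfsg.Agent.Lib.LocalEven.JWOrder

/-!
The counting argument excluding several components over a Sylow 2-subgroup.
-/

set_option autoImplicit false

namespace CfsgLib.LocalEven.JComp

open Subgroup CfsgLib.LocalEven Cfsg
open scoped commutatorElement

section Offender

variable {U : Type*} [CommGroup U] [Finite U]

/-- The offender bound in a solvable group without normal 2-subgroups. -/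
theorem offender_bound (hU : ∀ u : U, u * u = 1) (H : Subgroup (MulAut U)) [Group.IsSolvable ↥H]
    (hO : Cfsg.pCore 2 ↥H = ⊥) {E : Subgroup (MulAut U)} (hEH : E ≤ H) (hE : ∀ e ∈ E, e * e = 1)
    (hEc : ∀ a ∈ E, ∀ b ∈ E, a * b = b * a) :
    Nat.card ↥E * Nat.card ↥(Trv.fixSub E) ≤ Nat.card U ∧
      (Nat.card ↥E * Nat.card ↥(Trv.fixSub E) = Nat.card U → Nat.card ↥(Trv.fixSub E) = 2 →
        ∀ e ∈ E, ∀ u, e u * u ∈ Trv.fixSub E) := by
  haveI : Fact (Nat.Prime 2) := ⟨Nat.prime_two⟩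
  set F := Cfsg.fittingSubgroup ↥H with hF
  haveI : F.Normal := CfsgLib.Cores.fittingSubgroup_normal
  have hFodd : Odd (Nat.card ↥F) := by
    have h1 := (CfsgLib.Cores.coprime_card_pPrimeCore (G := ↥H) 2).coprime_dvd_left
      (Subgroup.card_dvd_of_le (Trv.fittingSubgroup_le_pPrimeCore hO))
    exact Nat.coprime_two_right.1 h1
  set P := F.map H.subtype with hP
  have hPodd : Odd (Nat.card ↥P) := by rwa [hP, card_map_of_injective H.subtype_injective]
  have hEP : E ≤ normalizer (P : Set (MulAut U)) := by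
    intro e he
    refine CfsgLib.LocalEven.mem_normalizer_of_conj_le ?_
    rintro _ ⟨_, ⟨f, hf, rfl⟩, rfl⟩
    exact ⟨⟨e, hEH he⟩ * f * ⟨e, hEH he⟩⁻¹, Subgroup.Normal.conj_mem inferInstance f hf _, rfl⟩
  have hfaith : E ⊓ centralizer (P : Set (MulAut U)) = ⊥ := by
    refine eq_bot_iff.2 fun e ⟨he, hec⟩ => ?_
    have h1 : (⟨e, hEH he⟩ : ↥H) ∈ F := CfsgLib.Solvable.centralizer_fittingSubgroup_le
      (mem_centralizer_iff.2 fun f hf => Subtype.ext (mem_centralizer_iff.1 hec f ⟨f, hf, rfl⟩))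
    have h2 : orderOf e ∣ Nat.card ↥P := Subgroup.orderOf_dvd_natCard P ⟨_, h1, rfl⟩
    exact mem_bot.2 (orderOf_eq_one_iff.1 (Nat.eq_one_of_dvd_coprimes (Nat.coprime_two_right.2 hPodd) h2
      (orderOf_dvd_of_pow_eq_one (by rw [pow_two]; exact hE e he))))
  obtain ⟨hb, heq⟩ := Trv.card_mul_le hU hPodd hE hEc hEP hfaith
  refine ⟨hb, fun h h2 e he => ?_⟩
  suffices hall : ∀ x ∈ closure {t | t ∈ E ∧ Trv.IsTrv t}, ∀ u, x u * u ∈ Trv.fixSub E from
    hall e (heq h he)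
  intro x hx
  induction hx using Subgroup.closure_induction with
  | mem t ht =>
    obtain ⟨htE, htT⟩ := ht
    intro u a ha
    have hmem : (Trv.mv t) (a u) = a ((Trv.mv t) u) := by
      rw [Trv.mv_apply, Trv.mv_apply, map_mul, ← MulAut.mul_apply, ← hEc a ha t htE, MulAut.mul_apply]
    show a (Trv.mv t u) = Trv.mv t u
    by_cases h0 : Trv.mv t u = 1
    · rw [h0, map_one]
    · by_contra hne
      have h1 : a (Trv.mv t u) ≠ 1 := fun e => h0 (a.injective (by rw [e, map_one]))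
      have := Trv.length_le_card (S := (Trv.mv t).range) [1, Trv.mv t u, a (Trv.mv t u)]
        (by simp [Ne.symm h0, Ne.symm h1, Ne.symm hne])
        (by
          simp only [List.mem_cons, List.not_mem_nil, or_false]
          rintro z (rfl | rfl | rfl)
          exacts [one_mem _, ⟨u, rfl⟩, ⟨a u, hmem⟩])
      rw [htT.2] at this
      simp at this
  | one => intro u; rw [MulAut.one_apply, hU]; exact one_mem _
  | mul x y hx hy ihx ihy =>
    intro u
    have e1 : (x * y) u * u = (x (y u) * y u) * (y u * u) := by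
      rw [MulAut.mul_apply, mul_assoc, ← mul_assoc (y u) (y u), hU, one_mul]
    rw [e1]
    exact mul_mem (ihx (y u)) (ihy u)
  | inv x hx ih =>
    intro u
    have := ih (x⁻¹ u)
    rw [MulAut.apply_inv_self, mul_comm] at this
    exact this

end Offender

end CfsgLib.LocalEven.JComp

namespace CfsgLib.LocalEven.JComp

open Subgroup CfsgLib.LocalEven Cfsg

variable {G : Type*} [Group G] [Finite G]

theorem card_mul_card_le (H K : Subgroup G) :
    Nat.card ↥H * Nat.card ↥K ≤ Nat.card ↥(H ⊔ K) * Nat.card ↥(H ⊓ K) := by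
  have h1 := Subgroup.relIndex_mul_relIndex ⊥ (H ⊓ K) K bot_le inf_le_right
  rw [Subgroup.relIndex_bot_left, Subgroup.relIndex_bot_left, Subgroup.inf_relIndex_right] at h1
  have h2 := Subgroup.relIndex_mul_relIndex ⊥ H (H ⊔ K) bot_le le_sup_left
  rw [Subgroup.relIndex_bot_left, Subgroup.relIndex_bot_left] at h2
  have h3 : H.relIndex K ≤ H.relIndex (H ⊔ K) := Subgroup.relIndex_le_of_le_right le_sup_right
    Subgroup.FiniteIndex.index_ne_zero
  rw [← h1, ← h2]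
  calc Nat.card ↥H * (Nat.card ↥(H ⊓ K) * H.relIndex K)
      ≤ Nat.card ↥H * (Nat.card ↥(H ⊓ K) * H.relIndex (H ⊔ K)) :=
        Nat.mul_le_mul_left _ (Nat.mul_le_mul_left _ h3)
    _ = _ := by ring

theorem map_centralizer_conj (H : Subgroup G) (g : G) :
    (centralizer (H : Set G)).map (MulAut.conj g).toMonoidHom =
      centralizer ((H.map (MulAut.conj g).toMonoidHom : Subgroup G) : Set G) := by
  ext x
  rw [mem_map_conj, mem_centralizer_iff, mem_centralizer_iff]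
  constructor
  · rintro h _ ⟨y, hy, rfl⟩
    have := h y hy
    show g * y * g⁻¹ * x = x * (g * y * g⁻¹)
    calc g * y * g⁻¹ * x = g * (y * (g⁻¹ * x * g)) * g⁻¹ := by group
      _ = g * (g⁻¹ * x * g * y) * g⁻¹ := by rw [this]
      _ = _ := by group
  · intro h y hy
    have := h _ (conj_mem_map_conj hy)
    calc y * (g⁻¹ * x * g) = g⁻¹ * (g * y * g⁻¹ * x) * g := by group
      _ = g⁻¹ * (x * (g * y * g⁻¹)) * g := by rw [this]
      _ = _ := by group

theorem card_inf_centralizer_conj (H K : Subgroup G) (g : G) :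
    Nat.card ↥(H.map (MulAut.conj g).toMonoidHom ⊓
      centralizer ((K.map (MulAut.conj g).toMonoidHom : Subgroup G) : Set G)) =
      Nat.card ↥(H ⊓ centralizer (K : Set G)) := by
  rw [← map_centralizer_conj, ← Subgroup.map_inf_eq _ _ _ (MulAut.conj g).injective, card_map_conj]

theorem elemAb_of_pairs {s : Set G} (h2 : ∀ x ∈ s, x * x = 1) (hc : ∀ x ∈ s, ∀ y ∈ s, x * y = y * x) :
    IsElementaryAbelian 2 (closure s) := by
  have hcc : ∀ x ∈ closure s, ∀ y ∈ closure s, x * y = y * x := by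
    have hs : closure s ≤ centralizer s :=
      (closure_le _).2 fun x hx => mem_centralizer_iff.2 fun y hy => hc y hy x hx
    intro x hx y hy
    have : closure s ≤ centralizer ({x} : Set G) := (closure_le _).2 fun u hu =>
      mem_centralizer_singleton_iff.2 (mem_centralizer_iff.1 (hs hx) u hu)
    exact (mem_centralizer_singleton_iff.1 (this hy)).symm
  refine ⟨⟨⟨fun u v => Subtype.ext (hcc u u.2 v v.2)⟩⟩, fun g hg => ?_⟩
  induction hg using closure_induction with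
  | mem x hx => rw [pow_two]; exact h2 x hx
  | one => exact one_pow _
  | mul x y hx hy a b => rw [(show Commute x y from hcc x hx y hy).mul_pow, a, b, one_mul]
  | inv x hx a => rw [inv_pow, a, inv_one]

theorem elemAb_sup_of_comm {H K : Subgroup G} (hH : IsElementaryAbelian 2 H) (hK : IsElementaryAbelian 2 K)
    (hc : ∀ x ∈ H, ∀ y ∈ K, x * y = y * x) : IsElementaryAbelian 2 (H ⊔ K) := by
  rw [← Subgroup.closure_eq H, ← Subgroup.closure_eq K, ← Subgroup.closure_union]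
  refine elemAb_of_pairs ?_ ?_
  · rintro x (hx | hx)
    · rw [← pow_two]; exact hH.2 x hx
    · rw [← pow_two]; exact hK.2 x hx
  · rintro x (hx | hx) y (hy | hy)
    · exact CfsgLib.PGroup.elemAb_comm hH hx hy
    · exact hc x hx y hy
    · exact (hc y hy x hx).symm
    · exact CfsgLib.PGroup.elemAb_comm hK hx hy

/-- The action of `L` on `V`. -/
def actOn {L V : Subgroup G} (h : L ≤ normalizer (V : Set G)) : ↥L →* MulAut ↥V :=
  (conjOn V).comp (Subgroup.inclusion h)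

/-- The offender bound inside `G`. -/
theorem action_bound {L V E : Subgroup G} (hLV : L ≤ normalizer (V : Set G)) (hV : IsElementaryAbelian 2 V)
    (hs : Group.IsSolvable ↥(actOn hLV).range) (hO : Cfsg.pCore 2 ↥(actOn hLV).range = ⊥)
    (hEL : E ≤ L) (hE : IsElementaryAbelian 2 E) :
    ∃ e : ℕ, e * Nat.card ↥(E ⊓ centralizer (V : Set G)) = Nat.card ↥E ∧
      e * Nat.card ↥(V ⊓ centralizer (E : Set G)) ≤ Nat.card ↥V ∧
      (e * Nat.card ↥(V ⊓ centralizer (E : Set G)) = Nat.card ↥V →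
        Nat.card ↥(V ⊓ centralizer (E : Set G)) = 2 →
        ∀ x ∈ E, ∀ v ∈ V, x * v * x⁻¹ * v ∈ V ⊓ centralizer (E : Set G)) := by
  letI : CommGroup ↥V :=
    { (inferInstance : Group ↥V) with mul_comm := fun u v => hV.1.is_comm.comm u v }
  have hsq : ∀ u : ↥V, u * u = 1 := fun u => Subtype.ext (by
    have := hV.2 (u : G) u.2
    rwa [pow_two] at this)
  set φ := actOn hLV with hφ
  have hφa : ∀ (x : ↥L) (v : ↥V), ((φ x v : ↥V) : G) = (x : G) * v * (x : G)⁻¹ := fun _ _ => rfl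
  set E' := (E.subgroupOf L).map φ with hE'
  haveI := hs
  have h1 : ∀ e ∈ E', e * e = 1 := by
    rintro _ ⟨x, hx, rfl⟩
    rw [← map_mul, show x * x = 1 from Subtype.ext (by
      have := hE.2 (x : G) hx
      rwa [pow_two] at this), map_one]
  have h2 : ∀ a ∈ E', ∀ b ∈ E', a * b = b * a := by
    rintro _ ⟨x, hx, rfl⟩ _ ⟨y, hy, rfl⟩
    rw [← map_mul, ← map_mul, show x * y = y * x from Subtype.ext (CfsgLib.PGroup.elemAb_comm hE hx hy)]
  obtain ⟨hb, heq⟩ := offender_bound hsq φ.range hO (by rintro _ ⟨x, -, rfl⟩; exact ⟨x, rfl⟩) h1 h2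
  have hfix : (Trv.fixSub E').map V.subtype = V ⊓ centralizer (E : Set G) := by
    ext v
    constructor
    · rintro ⟨u, hu, rfl⟩
      refine ⟨u.2, mem_centralizer_iff.2 fun x hx => ?_⟩
      have := congrArg Subtype.val (hu _ ⟨⟨x, hEL hx⟩, hx, rfl⟩)
      rw [hφa] at this
      exact mul_inv_eq_iff_eq_mul.1 this
    · rintro ⟨hv, hvc⟩
      refine ⟨⟨v, hv⟩, ?_, rfl⟩
      rintro _ ⟨x, hx, rfl⟩
      apply Subtype.ext
      rw [hφa]
      exact mul_inv_eq_iff_eq_mul.2 (mem_centralizer_iff.1 hvc (x : G) hx)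
  have hcf : Nat.card ↥(V ⊓ centralizer (E : Set G)) = Nat.card ↥(Trv.fixSub E') := by
    rw [← hfix, card_map_of_injective V.subtype_injective]
  set ψ := φ.comp (Subgroup.inclusion hEL) with hψ
  have hker : ψ.ker.map E.subtype = E ⊓ centralizer (V : Set G) := by
    ext x
    constructor
    · rintro ⟨e, he, rfl⟩
      refine ⟨e.2, mem_centralizer_iff.2 fun v hv => ?_⟩
      have := congrArg Subtype.val (DFunLike.congr_fun (MonoidHom.mem_ker.1 he) ⟨v, hv⟩)
      exact (mul_inv_eq_iff_eq_mul.1 this).symm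
    · rintro ⟨hx, hxc⟩
      refine ⟨⟨x, hx⟩, MonoidHom.mem_ker.2 ?_, rfl⟩
      ext v
      exact mul_inv_eq_iff_eq_mul.2 (mem_centralizer_iff.1 hxc (v : G) v.2).symm
  have hrange : ψ.range = E' := by
    ext a
    constructor
    · rintro ⟨x, rfl⟩; exact ⟨⟨x, hEL x.2⟩, x.2, rfl⟩
    · rintro ⟨x, hx, rfl⟩; exact ⟨⟨x, hx⟩, rfl⟩
  refine ⟨Nat.card ↥E', ?_, by rw [hcf]; exact hb, fun h h2 x hx v hv => ?_⟩
  · rw [← hker, card_map_of_injective E.subtype_injective, ← hrange,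
      ← Nat.card_congr (QuotientGroup.quotientKerEquivRange ψ).toEquiv, ← card_eq_card_quotient_mul_card_subgroup]
  · rw [hcf] at h h2
    rw [← hfix]
    exact ⟨_, heq h h2 _ ⟨⟨x, hEL hx⟩, hx, rfl⟩ ⟨v, hv⟩, rfl⟩

set_option maxHeartbeats 1000000 in
/-- The counting contradiction. -/
theorem endgame {L V A B : Subgroup G} {z d a e : G} (hLV : L ≤ normalizer (V : Set G))
    (hV : IsElementaryAbelian 2 V) (hs : Group.IsSolvable ↥(actOn hLV).range)
    (hO : Cfsg.pCore 2 ↥(actOn hLV).range = ⊥) (h16 : 16 ≤ Nat.card ↥V)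
    (hzV : z ∈ V) (hz1 : z ≠ 1) (hzL : centralizer ({z} : Set G) ≤ L) (hVL : V ≤ L)
    (hcent : ∀ x ∈ V, x ≠ 1 → centralizer ({x} : Set G) ≤ L)
    (hTI : ∀ g : G, g ∉ L → ∀ x ∈ V, g * x * g⁻¹ ∈ V → x = 1)
    (hdL : d ∉ L) {y1 y2 : G} (hy1 : y1 = d * z * d⁻¹) (hy2 : y2 = d * y1 * d⁻¹) (hy0 : d * y2 * d⁻¹ = z)
    (hzy : z * y1 = y1 * z) (h12 : y1 * y2 = y2 * y1) (hzy2 : z * y2 = y2 * z)
    (haA : a ∈ A) (ha2 : a * a = 1) (haz : a * z = z * a) (hay : a * y1 * a⁻¹ = y2)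
    (hBA : B ≤ A) (hAc : ∀ x ∈ A, ∀ y ∈ A, x * y = y * x) (hAsq : ∀ x ∈ A, x * x = 1)
    (hBz : ∀ b ∈ B, b * z = z * b) (hBy : ∀ b ∈ B, b * y1 = y1 * b)
    (hAB : Nat.card ↥A ≤ 2 * Nat.card ↥B)
    (hmax : ∀ E : Subgroup G, IsElementaryAbelian 2 E → E ≤ centralizer ({z} : Set G) →
      E ≤ centralizer ({y1} : Set G) → Nat.card ↥E ≤ Nat.card ↥A)
    (he : e ∈ closure ({z, y1, y2} : Set G))
    (hUe : ∀ v ∈ V, e * v = v * e → y1 * v = v * y1 ∧ y2 * v = v * y2) (he2 : e * e = 1) : False := by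
  set R : Set G := {z, y1, y2} with hR
  set U := V ⊓ centralizer R with hU
  set τ := (MulAut.conj d).toMonoidHom with hτ
  set U1 := U.map τ with hU1
  set U2 := U1.map (MulAut.conj a).toMonoidHom with hU2
  set B' := B.map (MulAut.conj d⁻¹).toMonoidHom with hB'
  set a' := d⁻¹ * a * d with ha'
  have ha' : a⁻¹ = a := inv_eq_of_mul_eq_one_right ha2
  have hBa : ∀ b ∈ B, b * a = a * b := fun b hb => hAc b (hBA hb) a haA
  have hBy2 : ∀ b ∈ B, b * y2 = y2 * b := fun b hb => by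
    rw [← hay, ha']
    calc b * (a * y1 * a) = a * (b * y1) * a := by rw [← mul_assoc, ← mul_assoc, hBa b hb, mul_assoc a b]
      _ = a * (y1 * b) * a := by rw [hBy b hb]
      _ = a * y1 * a * b := by rw [← mul_assoc, mul_assoc (a * y1), hBa b hb, ← mul_assoc]
  have hzc : ∀ {x : G}, x * z = z * x → x ∈ L := fun hx => hzL (mem_centralizer_singleton_iff.2 hx)
  have haL : a ∈ L := hzc haz
  have hy1L : y1 ∈ L := hzc hzy.symm
  have hy2L : y2 ∈ L := hzc hzy2.symm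
  have hnL : ∀ {x v : G}, x ∈ L → v ∈ V → x * v * x⁻¹ ∈ V := fun hx hv =>
    conj_mem_of_mem_normalizer (hLV hx) hv
  -- membership in `U`
  have hUmem : ∀ v, v ∈ U ↔ v ∈ V ∧ z * v = v * z ∧ y1 * v = v * y1 ∧ y2 * v = v * y2 := by
    intro v
    rw [hU, mem_inf, mem_centralizer_iff]
    simp [hR]
  have hUV : U ≤ V := inf_le_left
  have hzU : z ∈ U := (hUmem z).2 ⟨hzV, rfl, hzy.symm, hzy2.symm⟩
  have hd0 : ∀ x : G, d * x * d⁻¹ = (MulAut.conj d) x := fun x => rfl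
  -- `d` permutes `R`
  have hdR : ∀ x ∈ R, d * x * d⁻¹ ∈ R ∧ d⁻¹ * x * d ∈ R := by
    intro x hx
    simp only [hR, Set.mem_insert_iff, Set.mem_singleton_iff] at hx ⊢
    rcases hx with rfl | rfl | rfl
    · exact ⟨Or.inr (Or.inl hy1.symm), Or.inr (Or.inr (by rw [← hy0]; group))⟩
    · exact ⟨Or.inr (Or.inr hy2.symm), Or.inl (by rw [hy1]; group)⟩
    · exact ⟨Or.inl hy0, Or.inr (Or.inl (by rw [hy2]; group))⟩
  have hU1mem : ∀ u ∈ U1, ∀ x ∈ R, x * u = u * x := by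
    rintro _ ⟨v, hv, rfl⟩ x hx
    have h1 := mem_centralizer_iff.1 hv.2 _ (hdR x hx).2
    show x * (d * v * d⁻¹) = d * v * d⁻¹ * x
    calc x * (d * v * d⁻¹) = d * ((d⁻¹ * x * d) * v) * d⁻¹ := by group
      _ = d * (v * (d⁻¹ * x * d)) * d⁻¹ := by rw [h1]
      _ = d * v * d⁻¹ * x := by group
  have hU1L : U1 ≤ L := fun u hu => hzc (hU1mem u hu z (by simp [hR])).symm
  have haR : ∀ x ∈ R, a * x * a⁻¹ ∈ R := by
    intro x hx
    simp only [hR, Set.mem_insert_iff, Set.mem_singleton_iff] at hx ⊢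
    rcases hx with rfl | rfl | rfl
    · left; rw [haz, mul_inv_cancel_right]
    · right; right; exact hay
    · right; left; rw [← hay]
      rw [ha', show a * (a * y1 * a) * a = (a * a) * y1 * (a * a) by group, ha2, one_mul, mul_one]
  have hU2mem : ∀ u ∈ U2, ∀ x ∈ R, x * u = u * x := by
    rintro _ ⟨v, hv, rfl⟩ x hx
    have h1 := hU1mem v hv _ (haR x hx)
    rw [ha'] at h1
    show x * (a * v * a⁻¹) = a * v * a⁻¹ * x
    rw [ha']
    calc x * (a * v * a) = (a * a) * x * (a * v * a) := by rw [ha2, one_mul]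
      _ = a * ((a * x * a) * v) * a := by group
      _ = a * (v * (a * x * a)) * a := by rw [h1]
      _ = a * v * a * x * (a * a) := by group
      _ = _ := by rw [ha2, mul_one]
  have hU2L : U2 ≤ L := fun u hu => hzc (hU2mem u hu z (by simp [hR])).symm
  -- the conjugates of `V`
  have had : (d * d)⁻¹ * a * d ∈ L := by
    refine hzc ?_
    have h1 : a * (d * z * d⁻¹) * a⁻¹ = d * (d * z * d⁻¹) * d⁻¹ := by rw [← hy1, hay, hy2]
    calc (d * d)⁻¹ * a * d * z = (d * d)⁻¹ * (a * (d * z * d⁻¹) * a⁻¹) * (a * d) := by group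
      _ = (d * d)⁻¹ * (d * (d * z * d⁻¹) * d⁻¹) * (a * d) := by rw [h1]
      _ = z * ((d * d)⁻¹ * a * d) := by group
  have hU2V : ∀ u ∈ U2, ∃ v ∈ V, d * d * v * (d * d)⁻¹ = u := by
    rintro _ ⟨_, ⟨v, hv, rfl⟩, rfl⟩
    exact ⟨_, hnL had (hUV hv), by
      show d * d * ((d * d)⁻¹ * a * d * v * ((d * d)⁻¹ * a * d)⁻¹) * (d * d)⁻¹ = a * (d * v * d⁻¹) * a⁻¹
      group⟩
  -- `U1` and `U2` commute and meet trivially
  have hcomm : ∀ u ∈ U1, ∀ u' ∈ U2, u * u' = u' * u := by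
    intro u hu u' hu'
    obtain ⟨v', hv', hv'e⟩ := hU2V u' hu'
    obtain ⟨v, hv, hve⟩ := hu
    have hve' : d * v * d⁻¹ = u := hve
    have hu1 : d⁻¹ * u' * d ∈ L := hzc (by
      have h1 := hU2mem u' hu' _ (hdR z (by simp [hR])).1
      calc d⁻¹ * u' * d * z = d⁻¹ * (u' * (d * z * d⁻¹)) * d := by group
        _ = d⁻¹ * ((d * z * d⁻¹) * u') * d := by rw [h1]
        _ = z * (d⁻¹ * u' * d) := by group)
    have hu2 : (d * d)⁻¹ * u * (d * d) ∈ L := hzc (by
      have h1 := hU1mem u ⟨v, hv, hve⟩ _ (hdR _ (hdR z (by simp [hR])).1).1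
      calc (d * d)⁻¹ * u * (d * d) * z
          = (d * d)⁻¹ * (u * (d * (d * z * d⁻¹) * d⁻¹)) * (d * d) := by group
        _ = (d * d)⁻¹ * ((d * (d * z * d⁻¹) * d⁻¹) * u) * (d * d) := by rw [h1]
        _ = z * ((d * d)⁻¹ * u * (d * d)) := by group)
    set x := u * u' * u⁻¹ * u'⁻¹ with hx
    have hx1 : d⁻¹ * x * d ∈ V := by
      have h1 := mul_mem (hUV hv) (hnL hu1 (inv_mem (hUV hv)))
      have e1 : d⁻¹ * x * d = v * ((d⁻¹ * u' * d) * v⁻¹ * (d⁻¹ * u' * d)⁻¹) := by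
        rw [hx, ← hve']; group
      rwa [e1]
    have hx2 : (d * d)⁻¹ * x * (d * d) ∈ V := by
      have h1 := mul_mem (hnL hu2 hv') (inv_mem hv')
      have e1 : (d * d)⁻¹ * x * (d * d) =
          ((d * d)⁻¹ * u * (d * d)) * v' * ((d * d)⁻¹ * u * (d * d))⁻¹ * v'⁻¹ := by
        rw [hx, ← hv'e]; group
      rwa [e1]
    have h0 := hTI d hdL _ hx2 (by
      have e1 : d * ((d * d)⁻¹ * x * (d * d)) * d⁻¹ = d⁻¹ * x * d := by group
      rwa [e1])
    have hx0 : x = 1 := by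
      have : x = (d * d) * ((d * d)⁻¹ * x * (d * d)) * (d * d)⁻¹ := by group
      rw [this, h0, mul_one, mul_inv_cancel]
    rw [hx, mul_inv_eq_one, mul_inv_eq_iff_eq_mul] at hx0
    exact hx0
  have hdisj : U1 ⊓ U2 = ⊥ := by
    refine eq_bot_iff.2 fun u ⟨hu, hu'⟩ => mem_bot.2 ?_
    obtain ⟨v, hv, hve⟩ := hu
    obtain ⟨v', hv', hv'e⟩ := hU2V u hu'
    have hve' : d * v * d⁻¹ = u := hve
    have h1 : d * v' * d⁻¹ = v := by
      rw [show v = d⁻¹ * u * d by rw [← hve']; group, ← hv'e]; group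
    have h0 := hTI d hdL v' hv' (by rw [h1]; exact hUV hv)
    rw [← hv'e, h0, mul_one, mul_inv_cancel]
  -- the elementary group `X = U1 U2` and the first inequality
  have hU1e : IsElementaryAbelian 2 U1 := CfsgLib.PGroup.elemAb_map (CfsgLib.PGroup.elemAb_mono hV hUV) _
  have hU2e : IsElementaryAbelian 2 U2 := CfsgLib.PGroup.elemAb_map hU1e _
  set X := U1 ⊔ U2 with hX
  have hXe : IsElementaryAbelian 2 X := elemAb_sup_of_comm hU1e hU2e hcomm
  set B0 := B ⊓ centralizer (U1 : Set G) with hB0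
  have hB0U2 : ∀ b ∈ B0, ∀ u ∈ U2, b * u = u * b := by
    rintro b ⟨hb, hbc⟩ _ ⟨u, hu, rfl⟩
    show b * (a * u * a⁻¹) = a * u * a⁻¹ * b
    rw [ha']
    calc b * (a * u * a) = a * (b * u) * a := by rw [← mul_assoc, ← mul_assoc, hBa b hb, mul_assoc a b]
      _ = a * (u * b) * a := by rw [← mem_centralizer_iff.1 hbc u hu]
      _ = a * u * a * b := by rw [← mul_assoc, mul_assoc (a * u), hBa b hb, ← mul_assoc]
  have hB0X : ∀ b ∈ B0, ∀ x ∈ X, b * x = x * b := fun b hb x hx => by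
    have h1 : X ≤ centralizer ({b} : Set G) := sup_le
      (fun u hu => mem_centralizer_singleton_iff.2 (mem_centralizer_iff.1 hb.2 u hu))
      (fun u hu => mem_centralizer_singleton_iff.2 (hB0U2 b hb u hu).symm)
    exact (mem_centralizer_singleton_iff.1 (h1 hx)).symm
  have hAe : IsElementaryAbelian 2 A :=
    ⟨⟨⟨fun u v => Subtype.ext (hAc u u.2 v v.2)⟩⟩, fun x hx => by rw [pow_two]; exact hAsq x hx⟩
  have hE1 : IsElementaryAbelian 2 (B0 ⊔ X) :=
    elemAb_sup_of_comm (CfsgLib.PGroup.elemAb_mono hAe (inf_le_left.trans hBA)) hXe hB0X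
  have hzR : z ∈ R := by simp [hR]
  have hy1R : y1 ∈ R := by simp [hR]
  have hcard1 : Nat.card ↥(B0 ⊔ X) ≤ Nat.card ↥A := by
    refine hmax _ hE1 (sup_le (fun b hb => mem_centralizer_singleton_iff.2 (hBz b hb.1)) (sup_le ?_ ?_))
      (sup_le (fun b hb => mem_centralizer_singleton_iff.2 (hBy b hb.1)) (sup_le ?_ ?_))
    · exact fun u hu => mem_centralizer_singleton_iff.2 (hU1mem u hu z hzR).symm
    · exact fun u hu => mem_centralizer_singleton_iff.2 (hU2mem u hu z hzR).symm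
    · exact fun u hu => mem_centralizer_singleton_iff.2 (hU1mem u hu y1 hy1R).symm
    · exact fun u hu => mem_centralizer_singleton_iff.2 (hU2mem u hu y1 hy1R).symm
  set m := Nat.card ↥(U1 ⊓ centralizer (B : Set G)) with hm
  set n := Nat.card ↥U with hn
  have hn1 : Nat.card ↥U1 = n := card_map_conj U d
  have hn2 : Nat.card ↥U2 = n := by rw [hU2, card_map_conj, hn1]
  have hXn : n * n ≤ Nat.card ↥X := by
    have := card_mul_card_le U1 U2
    rwa [hdisj, Subgroup.card_bot, mul_one, hn1, hn2] at this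
  -- the intersection is small
  have hBU1 : ∀ b ∈ B, ∀ u ∈ U1, b * u * b⁻¹ ∈ U1 := by
    rintro b hb _ ⟨v, hv, rfl⟩
    obtain ⟨hvV, hvc⟩ := hv
    have hbd : d⁻¹ * b * d ∈ L := hzc (by
      calc d⁻¹ * b * d * z = d⁻¹ * (b * (d * z * d⁻¹)) * d := by group
        _ = d⁻¹ * ((d * z * d⁻¹) * b) * d := by rw [← hy1, hBy b hb]
        _ = z * (d⁻¹ * b * d) := by group)
    refine ⟨(d⁻¹ * b * d) * v * (d⁻¹ * b * d)⁻¹, ⟨hnL hbd hvV, mem_centralizer_iff.2 fun x hx => ?_⟩, ?_⟩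
    · have h1 : (d⁻¹ * b * d) * x = x * (d⁻¹ * b * d) := by
        have h2 := (hdR x hx).1
        have h3 : b * (d * x * d⁻¹) = (d * x * d⁻¹) * b := by
          simp only [hR, Set.mem_insert_iff, Set.mem_singleton_iff] at h2
          rcases h2 with e | e | e <;> rw [e]
          exacts [hBz b hb, hBy b hb, hBy2 b hb]
        calc d⁻¹ * b * d * x = d⁻¹ * (b * (d * x * d⁻¹)) * d := by group
          _ = d⁻¹ * (d * x * d⁻¹ * b) * d := by rw [h3]
          _ = x * (d⁻¹ * b * d) := by group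
      have h4 := mem_centralizer_iff.1 hvc x hx
      calc x * ((d⁻¹ * b * d) * v * (d⁻¹ * b * d)⁻¹)
          = (x * (d⁻¹ * b * d)) * v * (d⁻¹ * b * d)⁻¹ := by group
        _ = (d⁻¹ * b * d) * (x * v) * (d⁻¹ * b * d)⁻¹ := by rw [← h1]; group
        _ = (d⁻¹ * b * d) * v * (x * (d⁻¹ * b * d)⁻¹) := by rw [h4]; group
        _ = (d⁻¹ * b * d) * v * ((d⁻¹ * b * d)⁻¹ * x) := by
          rw [((show Commute x (d⁻¹ * b * d) from h1.symm).inv_right).eq]
        _ = _ := by group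
    · show d * ((d⁻¹ * b * d) * v * (d⁻¹ * b * d)⁻¹) * d⁻¹ = b * (d * v * d⁻¹) * b⁻¹
      group
  have hsup : ∀ x ∈ X, ∃ u ∈ U1, ∃ u' ∈ U2, u * u' = x := by
    intro x hx
    refine Set.mem_mul.1 ?_
    rw [← Subgroup.coe_mul_of_right_le_normalizer_left]
    · exact hx
    · intro u hu
      refine mem_normalizer_of_conj_le ?_
      rintro _ ⟨w, hw, rfl⟩
      show u * w * u⁻¹ ∈ U1
      rw [← hcomm w hw u hu, mul_inv_cancel_right]
      exact hw
  have hF : Nat.card ↥(B0 ⊓ X) ≤ m := by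
    have hfix : ∀ x ∈ B0 ⊓ X, ∀ u ∈ U1, ∀ u' ∈ U2, u * u' = x →
        u' = a * u * a⁻¹ ∧ u ∈ U1 ⊓ centralizer (B : Set G) := by
      intro x hx u hu u' hu' hxe
      have hxA : x ∈ A := hBA hx.1.1
      have haU : ∀ w ∈ U2, a * w * a⁻¹ ∈ U1 := by
        rintro _ ⟨w, hw, rfl⟩
        show a * (a * w * a⁻¹) * a⁻¹ ∈ U1
        rw [ha', show a * (a * w * a) * a = (a * a) * w * (a * a) by group, ha2, one_mul, mul_one]
        exact hw
      have key : ∀ p ∈ U1, ∀ p' ∈ U2, p * p' = u * u' → p = u ∧ p' = u' := by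
        intro p hp p' hp' he
        have h1 : u⁻¹ * p = u' * p'⁻¹ := by
          calc u⁻¹ * p = u⁻¹ * (p * p') * p'⁻¹ := by group
            _ = _ := by rw [he]; group
        have h2 : u⁻¹ * p ∈ U1 ⊓ U2 :=
          Subgroup.mem_inf.2 ⟨mul_mem (inv_mem hu) hp, by rw [h1]; exact mul_mem hu' (inv_mem hp')⟩
        rw [hdisj, mem_bot] at h2
        rw [h2] at h1
        exact ⟨(inv_mul_eq_one.1 h2).symm, (mul_inv_eq_one.1 h1.symm).symm⟩
      constructor
      · obtain ⟨h1, h2⟩ := key _ (haU u' hu') _ ⟨u, hu, rfl⟩ (by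
          show a * u' * a⁻¹ * (a * u * a⁻¹) = u * u'
          rw [show a * u' * a⁻¹ * (a * u * a⁻¹) = a * (u' * u) * a⁻¹ by group, ← hcomm u hu u' hu', hxe,
            hAc a haA x hxA, mul_inv_cancel_right])
        exact h2.symm
      · refine ⟨hu, mem_centralizer_iff.2 fun b hb => mul_inv_eq_iff_eq_mul.1 ?_⟩
        have hbU2 : b * u' * b⁻¹ ∈ U2 := by
          obtain ⟨w, hw, rfl⟩ := hu'
          refine ⟨b * w * b⁻¹, hBU1 b hb w hw, ?_⟩
          show a * (b * w * b⁻¹) * a⁻¹ = b * (a * w * a⁻¹) * b⁻¹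
          calc a * (b * w * b⁻¹) * a⁻¹ = (a * b) * w * (a * b)⁻¹ := by group
            _ = (b * a) * w * (b * a)⁻¹ := by rw [← hBa b hb]
            _ = _ := by group
        exact (key _ (hBU1 b hb u hu) _ hbU2 (by
          rw [show b * u * b⁻¹ * (b * u' * b⁻¹) = b * (u * u') * b⁻¹ by group, hxe,
            hAc b (hBA hb) x hxA, mul_inv_cancel_right])).1
    choose f hf g hg hfg using hsup
    refine Nat.card_le_card_of_injective
      (fun x : ↥(B0 ⊓ X) => (⟨f x x.2.2, (hfix x x.2 _ (hf x x.2.2) _ (hg x x.2.2) (hfg x x.2.2)).2⟩ :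
        ↥(U1 ⊓ centralizer (B : Set G)))) ?_
    intro x x' hxx
    have h1 := congrArg Subtype.val hxx
    simp only at h1
    apply Subtype.ext
    rw [← hfg x x.2.2, ← hfg x' x'.2.2, (hfix x x.2 _ (hf x x.2.2) _ (hg x x.2.2) (hfg x x.2.2)).1,
      (hfix x' x'.2 _ (hf x' x'.2.2) _ (hg x' x'.2.2) (hfg x' x'.2.2)).1, h1]
  have ineq1 : n * n * Nat.card ↥B0 ≤ 2 * Nat.card ↥B * m := by
    calc n * n * Nat.card ↥B0 ≤ Nat.card ↥B0 * Nat.card ↥X := by
          rw [mul_comm]; exact Nat.mul_le_mul_left _ hXn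
      _ ≤ Nat.card ↥(B0 ⊔ X) * Nat.card ↥(B0 ⊓ X) := card_mul_card_le _ _
      _ ≤ 2 * Nat.card ↥B * m := Nat.mul_le_mul (hcard1.trans hAB) hF
  -- transfer `B` to `U`
  have hconj : ∀ {x u : G}, d * (d⁻¹ * x * d) * d⁻¹ = x := fun {x u} => by group
  have hB'L : B' ≤ L := by
    rintro _ ⟨b, hb, rfl⟩
    show d⁻¹ * b * d⁻¹⁻¹ ∈ L
    refine hzc ?_
    calc d⁻¹ * b * d⁻¹⁻¹ * z = d⁻¹ * (b * (d * z * d⁻¹)) * d := by group
      _ = d⁻¹ * ((d * z * d⁻¹) * b) * d := by rw [← hy1, hBy b hb]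
      _ = z * (d⁻¹ * b * d⁻¹⁻¹) := by group
  have hτB : B'.map τ = B := by
    rw [hB', hτ, Subgroup.map_map]
    convert Subgroup.map_id B
    ext x
    show d * (d⁻¹ * x * d⁻¹⁻¹) * d⁻¹ = x
    group
  have hmU : Nat.card ↥(U ⊓ centralizer (B' : Set G)) = m := by
    have h := card_inf_centralizer_conj U B' d
    rw [← hτ, hτB] at h
    exact h.symm
  have hB'0 : Nat.card ↥(B' ⊓ centralizer (U : Set G)) = Nat.card ↥B0 := by
    have h := card_inf_centralizer_conj B' U d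
    rw [← hτ, hτB] at h
    exact h.symm
  have hB'card : Nat.card ↥B' = Nat.card ↥B := card_map_conj B d⁻¹
  have hB'e : IsElementaryAbelian 2 B' := CfsgLib.PGroup.elemAb_map (CfsgLib.PGroup.elemAb_mono hAe hBA) _
  have hzB' : z ∈ U ⊓ centralizer (B' : Set G) := by
    refine ⟨hzU, mem_centralizer_iff.2 ?_⟩
    rintro _ ⟨b, hb, rfl⟩
    show d⁻¹ * b * d⁻¹⁻¹ * z = z * (d⁻¹ * b * d⁻¹⁻¹)
    calc d⁻¹ * b * d⁻¹⁻¹ * z = d⁻¹ * (b * (d * z * d⁻¹)) * d := by group
      _ = d⁻¹ * ((d * z * d⁻¹) * b) * d := by rw [← hy1, hBy b hb]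
      _ = _ := by group
  have hm2 : 2 ≤ m := by
    rw [← hmU]
    exact Subgroup.one_lt_card_iff_ne_bot _ |>.2 fun h => hz1 (mem_bot.1 (h ▸ hzB'))
  have hB0pos : 0 < Nat.card ↥B0 := Nat.card_pos
  set v := Nat.card ↥V with hv
  -- `v ≤ n²`
  have hvn : v ≤ n * n ∧ (∀ x ∈ V, e * x * e⁻¹ * x ∈ U) := by
    have heinv : e⁻¹ = e := inv_eq_of_mul_eq_one_right he2
    have heL : e ∈ L := by
      refine (Subgroup.closure_le _).2 ?_ he
      rintro x (rfl | rfl | rfl)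
      exacts [hzL (mem_centralizer_singleton_iff.2 rfl), hy1L, hy2L]
    letI : CommGroup ↥V :=
      { (inferInstance : Group ↥V) with mul_comm := fun u v => hV.1.is_comm.comm u v }
    have hsq : ∀ u : ↥V, u * u = 1 := fun u => Subtype.ext (by
      have := hV.2 (u : G) u.2
      rwa [pow_two] at this)
    set ε := actOn hLV ⟨e, heL⟩ with hε
    have hker : (Trv.mv ε).ker.map V.subtype ≤ U := by
      rintro _ ⟨u, hu, rfl⟩
      have h1 := congrArg Subtype.val ((Trv.mv_eq_one_iff hsq ε u).1 hu)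
      have h2 : e * (u : G) = u * e := mul_inv_eq_iff_eq_mul.1 h1
      obtain ⟨h3, h4⟩ := hUe _ u.2 h2
      exact (hUmem _).2 ⟨u.2, CfsgLib.PGroup.elemAb_comm hV hzV u.2, h3, h4⟩
    have hεε : ∀ u, ε (ε u) = u := by
      intro u
      rw [← MulAut.mul_apply, hε, ← map_mul, show (⟨e, heL⟩ : ↥L) * ⟨e, heL⟩ = 1 from Subtype.ext he2,
        map_one, MulAut.one_apply]
    have hrk : (Trv.mv ε).range ≤ (Trv.mv ε).ker := by
      rintro _ ⟨u, rfl⟩
      rw [MonoidHom.mem_ker, Trv.mv_eq_one_iff hsq, Trv.mv_apply, map_mul, hεε, mul_comm]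
    have h1 := Trv.card_range_mul ε
    have h2 : Nat.card ↥(Trv.mv ε).ker ≤ n := by
      rw [← card_map_of_injective (K := (Trv.mv ε).ker) V.subtype_injective]
      exact Subgroup.card_le_of_le hker
    refine ⟨?_, fun x hx => hker ⟨Trv.mv ε ⟨x, hx⟩, hrk ⟨_, rfl⟩, rfl⟩⟩
    rw [hv, ← h1]
    exact Nat.mul_le_mul ((Subgroup.card_le_of_le hrk).trans h2) h2
  -- the bound for `B'` alone
  obtain ⟨e0, he0, he0b, -⟩ := action_bound hLV hV hs hO hB'L hB'e
  have hcv : ∀ E : Subgroup G, U ⊓ centralizer (E : Set G) ≤ V ⊓ centralizer (E : Set G) :=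
    fun E => inf_le_inf_right _ hUV
  have hb1 : Nat.card ↥B ≤ e0 * Nat.card ↥B0 := by
    rw [← hB'card, ← he0, ← hB'0]
    exact Nat.mul_le_mul_left _ (Subgroup.card_le_of_le (inf_le_inf_left _ (centralizer_le hUV)))
  have hbm : Nat.card ↥B * m ≤ Nat.card ↥B0 * v := by
    calc Nat.card ↥B * m ≤ e0 * Nat.card ↥B0 * Nat.card ↥(V ⊓ centralizer (B' : Set G)) :=
          Nat.mul_le_mul hb1 (hmU ▸ Subgroup.card_le_of_le (hcv B'))
      _ = Nat.card ↥B0 * (e0 * Nat.card ↥(V ⊓ centralizer (B' : Set G))) := by ring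
      _ ≤ _ := Nat.mul_le_mul_left _ he0b
  have hnv : n * n ≤ 2 * v := Nat.le_of_mul_le_mul_right (calc
      n * n * Nat.card ↥B0 ≤ 2 * Nat.card ↥B * m := ineq1
      _ ≤ 2 * (Nat.card ↥B0 * v) := by rw [mul_assoc]; exact Nat.mul_le_mul_left _ hbm
      _ = 2 * v * Nat.card ↥B0 := by ring) hB0pos
  -- `U1 ∩ C(B')` is faithful on `V`
  set Y := U1 ⊓ centralizer (B' : Set G) with hY
  have hUne : ¬ V ≤ U := by
    intro hle
    have : v ≤ n := Subgroup.card_le_of_le hle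
    have h1 : v * v ≤ 2 * v := (Nat.mul_le_mul this this).trans hnv
    have := Nat.le_of_mul_le_mul_right h1 (by omega)
    omega
  have hfaith : U1 ⊓ centralizer (V : Set G) = ⊥ := by
    refine eq_bot_iff.2 fun u ⟨hu, huV⟩ => mem_bot.2 ?_
    by_contra hu1
    apply hUne
    obtain ⟨w, hw, hwe⟩ := hu
    have hwe' : d * w * d⁻¹ = u := hwe
    have hw1 : w ≠ 1 := fun e => hu1 (by rw [← hwe', e, mul_one, mul_inv_cancel])
    have hy : ∀ x ∈ V, y1 * x = x * y1 := by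
      intro x hx
      have hxd : d⁻¹ * x * d ∈ L := hcent w (hUV hw) hw1 (mem_centralizer_singleton_iff.2 (by
        have h2 := mem_centralizer_iff.1 huV x hx
        calc d⁻¹ * x * d * w = d⁻¹ * (x * (d * w * d⁻¹)) * d := by group
          _ = d⁻¹ * ((d * w * d⁻¹) * x) * d := by rw [hwe', h2]
          _ = w * (d⁻¹ * x * d) := by group))
      have hc1 : y1 * x * y1⁻¹ * x⁻¹ ∈ V := mul_mem (hnL hy1L hx) (inv_mem hx)
      have hc2 : d⁻¹ * (y1 * x * y1⁻¹ * x⁻¹) * d ∈ V := by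
        have e1 : d⁻¹ * (y1 * x * y1⁻¹ * x⁻¹) * d = z * ((d⁻¹ * x * d) * z⁻¹ * (d⁻¹ * x * d)⁻¹) := by
          rw [hy1]; group
        rw [e1]
        exact mul_mem hzV (hnL hxd (inv_mem hzV))
      have h0 := hTI d hdL _ hc2 (by
        rw [show d * (d⁻¹ * (y1 * x * y1⁻¹ * x⁻¹) * d) * d⁻¹ = y1 * x * y1⁻¹ * x⁻¹ by group]; exact hc1)
      have h1 : y1 * x * y1⁻¹ * x⁻¹ = 1 := by
        calc y1 * x * y1⁻¹ * x⁻¹ = d * (d⁻¹ * (y1 * x * y1⁻¹ * x⁻¹) * d) * d⁻¹ := by group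
          _ = 1 := by rw [h0]; group
      rw [mul_inv_eq_one, mul_inv_eq_iff_eq_mul] at h1
      exact h1
    intro x hx
    refine (hUmem x).2 ⟨hx, CfsgLib.PGroup.elemAb_comm hV hzV hx, hy x hx, ?_⟩
    have h1 := hy _ (hnL haL hx)
    have e1 : a⁻¹ * (a * x * a⁻¹) * a = x := by group
    rw [← hay]
    calc a * y1 * a⁻¹ * x = a * y1 * a⁻¹ * (a⁻¹ * (a * x * a⁻¹) * a) := by rw [e1]
      _ = a * y1 * (a * a)⁻¹ * (a * x * a⁻¹) * a := by group
      _ = a * (y1 * (a * x * a⁻¹)) * a := by rw [ha2, inv_one, mul_one, mul_assoc a y1]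
      _ = a * ((a * x * a⁻¹) * y1) * a := by rw [h1]
      _ = (a * a) * x * (a⁻¹ * y1 * a) := by group
      _ = x * (a * y1 * a⁻¹) := by rw [ha2, one_mul, ha']
  -- the offender `B' Y`
  have hYe : IsElementaryAbelian 2 Y := CfsgLib.PGroup.elemAb_mono hU1e inf_le_left
  set Eg := B' ⊔ Y with hEg
  have hEge : IsElementaryAbelian 2 Eg :=
    elemAb_sup_of_comm hB'e hYe fun x hx y hy => mem_centralizer_iff.1 hy.2 x hx
  have hEgL : Eg ≤ L := sup_le hB'L (inf_le_left.trans hU1L)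
  have hYm : Nat.card ↥Y = m := by
    set aa := d⁻¹ * a * d with haa
    have haaU : U.map (MulAut.conj aa).toMonoidHom = U1 := by
      rw [hU1]
      have hle : U.map (MulAut.conj aa).toMonoidHom ≤ U1 := by
        rintro _ ⟨v', hv', rfl⟩
        obtain ⟨x, hx, hxe⟩ := hU2V (a * (d * v' * d⁻¹) * a⁻¹) ⟨_, ⟨v', hv', rfl⟩, rfl⟩
        refine ⟨x, ⟨hx, mem_centralizer_iff.2 fun r hr => ?_⟩, ?_⟩
        · have h1 := hU2mem _ ⟨_, ⟨v', hv', rfl⟩, rfl⟩ _ (hdR _ (hdR r hr).1).1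
          have h2 : d * (d * r * d⁻¹) * d⁻¹ * (d * d * x * (d * d)⁻¹) =
              d * d * x * (d * d)⁻¹ * (d * (d * r * d⁻¹) * d⁻¹) := by rw [hxe]; exact h1
          calc r * x = (d * d)⁻¹ * (d * (d * r * d⁻¹) * d⁻¹ * (d * d * x * (d * d)⁻¹)) * (d * d) := by group
            _ = _ := by rw [h2]; group
        · show d * x * d⁻¹ = d⁻¹ * a * d * v' * (d⁻¹ * a * d)⁻¹
          calc d * x * d⁻¹ = d⁻¹ * (d * d * x * (d * d)⁻¹) * d := by group
            _ = _ := by rw [hxe]; group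
      exact Subgroup.eq_of_le_of_card_ge hle (by rw [card_map_conj, card_map_conj])
    have haaB : ∀ b ∈ B', aa * b = b * aa := by
      rintro _ ⟨b, hb, rfl⟩
      show d⁻¹ * a * d * (d⁻¹ * b * d⁻¹⁻¹) = d⁻¹ * b * d⁻¹⁻¹ * (d⁻¹ * a * d)
      calc d⁻¹ * a * d * (d⁻¹ * b * d⁻¹⁻¹) = d⁻¹ * (a * b) * d := by group
        _ = d⁻¹ * (b * a) * d := by rw [hBa b hb]
        _ = _ := by group
    have haaB' : B'.map (MulAut.conj aa).toMonoidHom = B' :=
      map_conj_of_mem_normalizer (mem_normalizer_of_conj_le (by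
        rintro _ ⟨b, hb, rfl⟩
        show aa * b * aa⁻¹ ∈ B'
        rw [haaB b hb, mul_inv_cancel_right]
        exact hb))
    have h := card_inf_centralizer_conj U B' aa
    rw [haaU, haaB', hmU] at h
    exact h
  obtain ⟨e1, he1, he1b, he1eq⟩ := action_bound hLV hV hs hO hEgL hEge
  set k1 := Nat.card ↥(Eg ⊓ centralizer (V : Set G)) with hk1
  set j := Nat.card ↥(Eg ⊓ centralizer (U : Set G)) with hj
  have hk1pos : 0 < k1 := Nat.card_pos
  have hmk : m * k1 ≤ j := by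
    have h1 := card_mul_card_le Y (Eg ⊓ centralizer (V : Set G))
    rw [show Y ⊓ (Eg ⊓ centralizer (V : Set G)) = ⊥ from eq_bot_iff.2 fun x hx =>
      hfaith.le ⟨hx.1.1, hx.2.2⟩, Subgroup.card_bot, mul_one, hYm] at h1
    refine h1.trans (Subgroup.card_le_of_le (sup_le (le_inf le_sup_right fun y hy => ?_)
      (inf_le_inf_left _ (centralizer_le hUV))))
    -- `Y` centralises `U`
    refine mem_centralizer_iff.2 fun u hu => ?_
    obtain ⟨w, hw, hwe⟩ := hy.1
    have hwe' : d * w * d⁻¹ = y := hwe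
    have hud : d⁻¹ * u * d ∈ L := hzc (by
      have h2 := mem_centralizer_iff.1 hu.2 _ (hdR z hzR).1
      calc d⁻¹ * u * d * z = d⁻¹ * (u * (d * z * d⁻¹)) * d := by group
        _ = d⁻¹ * ((d * z * d⁻¹) * u) * d := by rw [h2]
        _ = z * (d⁻¹ * u * d) := by group)
    have hc1 : y * u * y⁻¹ * u⁻¹ ∈ V := mul_mem (hnL (hU1L hy.1) (hUV hu)) (inv_mem (hUV hu))
    have hc2 : d⁻¹ * (y * u * y⁻¹ * u⁻¹) * d ∈ V := by
      have e1 : d⁻¹ * (y * u * y⁻¹ * u⁻¹) * d = w * ((d⁻¹ * u * d) * w⁻¹ * (d⁻¹ * u * d)⁻¹) := by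
        rw [← hwe']; group
      rw [e1]
      exact mul_mem (hUV hw) (hnL hud (inv_mem (hUV hw)))
    have h0 := hTI d hdL _ hc2 (by
      rw [show d * (d⁻¹ * (y * u * y⁻¹ * u⁻¹) * d) * d⁻¹ = y * u * y⁻¹ * u⁻¹ by group]; exact hc1)
    have h2 : y * u * y⁻¹ * u⁻¹ = 1 := by
      calc y * u * y⁻¹ * u⁻¹ = d * (d⁻¹ * (y * u * y⁻¹ * u⁻¹) * d) * d⁻¹ := by group
        _ = 1 := by rw [h0]; group
    rw [mul_inv_eq_one, mul_inv_eq_iff_eq_mul] at h2
    exact h2.symm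
  have hBj : Nat.card ↥B * j ≤ Nat.card ↥Eg * Nat.card ↥B0 := by
    have h1 := card_mul_card_le B' (Eg ⊓ centralizer (U : Set G))
    rw [hB'card] at h1
    refine h1.trans (Nat.mul_le_mul (Subgroup.card_le_of_le (sup_le le_sup_left inf_le_left)) ?_)
    rw [← hB'0]
    exact Subgroup.card_le_of_le (fun x hx => ⟨hx.1, hx.2.2⟩)
  have hbme : Nat.card ↥B * m ≤ e1 * Nat.card ↥B0 := Nat.le_of_mul_le_mul_right (calc
      Nat.card ↥B * m * k1 ≤ Nat.card ↥B * j := by rw [mul_assoc]; exact Nat.mul_le_mul_left _ hmk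
      _ ≤ Nat.card ↥Eg * Nat.card ↥B0 := hBj
      _ = e1 * Nat.card ↥B0 * k1 := by rw [← he1]; ring) hk1pos
  have hne1 : n * n ≤ 2 * e1 := Nat.le_of_mul_le_mul_right (calc
      n * n * Nat.card ↥B0 ≤ 2 * Nat.card ↥B * m := ineq1
      _ ≤ 2 * (e1 * Nat.card ↥B0) := by rw [mul_assoc]; exact Nat.mul_le_mul_left _ hbme
      _ = 2 * e1 * Nat.card ↥B0 := by ring) hB0pos
  set f := Nat.card ↥(V ⊓ centralizer (Eg : Set G)) with hf
  have hzf : z ∈ V ⊓ centralizer (Eg : Set G) := by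
    refine ⟨hzV, ?_⟩
    have : Eg ≤ centralizer ({z} : Set G) := sup_le
      (fun b hb => mem_centralizer_singleton_iff.2 (mem_centralizer_iff.1 hzB'.2 b hb))
      (fun y hy => mem_centralizer_singleton_iff.2 (hU1mem y hy.1 z hzR).symm)
    exact mem_centralizer_iff.2 fun y hy => mem_centralizer_singleton_iff.1 (this hy)
  have hf2 : 2 ≤ f := Subgroup.one_lt_card_iff_ne_bot _ |>.2 fun h => hz1 (mem_bot.1 (h ▸ hzf))
  have hvpos : 0 < v := Nat.card_pos
  have h2e : e1 * f ≤ 2 * e1 := (he1b.trans hvn.1).trans hne1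
  have he1pos : 0 < e1 := by nlinarith [hne1, hvn.1]
  have hf2' : f = 2 := le_antisymm (Nat.le_of_mul_le_mul_left (by rw [mul_comm 2 e1] at h2e; exact h2e) he1pos) hf2
  have hveq : e1 * f = v := le_antisymm he1b (by rw [hf2', mul_comm]; exact hvn.1.trans hne1)
  have hrange := he1eq hveq hf2'
  have hFz : ∀ x ∈ V ⊓ centralizer (Eg : Set G), x = 1 ∨ x = z := by
    intro x hx
    by_contra hcon
    push Not at hcon
    classical
    haveI := Fintype.ofFinite ↥(V ⊓ centralizer (Eg : Set G))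
    have h3 := Finset.card_le_univ ({1, ⟨z, hzf⟩, ⟨x, hx⟩} : Finset ↥(V ⊓ centralizer (Eg : Set G)))
    rw [Finset.card_insert_of_notMem (by simp [Subtype.ext_iff, Ne.symm hz1, Ne.symm hcon.1]),
      Finset.card_insert_of_notMem (by simp [Subtype.ext_iff, Ne.symm hcon.2]), Finset.card_singleton,
      ← Nat.card_eq_fintype_card, ← hf, hf2'] at h3
    omega
  -- every element of `R` moves `V` into `⟨z⟩`
  have hy1Eg : y1 ∈ Eg := by
    refine mem_sup_right ⟨⟨z, hzU, hy1.symm⟩, mem_centralizer_iff.2 ?_⟩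
    rintro _ ⟨b, hb, rfl⟩
    have h1 : b * (d * y1 * d⁻¹) = d * y1 * d⁻¹ * b := by rw [← hy2]; exact hBy2 b hb
    show d⁻¹ * b * d⁻¹⁻¹ * y1 = y1 * (d⁻¹ * b * d⁻¹⁻¹)
    calc d⁻¹ * b * d⁻¹⁻¹ * y1 = d⁻¹ * (b * (d * y1 * d⁻¹)) * d := by group
      _ = d⁻¹ * (d * y1 * d⁻¹ * b) * d := by rw [h1]
      _ = _ := by group
  have hR1 : ∀ x ∈ R, x ∈ L ∧ x⁻¹ = x ∧ ∀ w ∈ V, x * w * x⁻¹ * w ∈ zpowers z := by
    have hzz : z⁻¹ = z := inv_eq_of_mul_eq_one_right (by have := hV.2 z hzV; rwa [pow_two] at this)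
    have hy1i : y1⁻¹ = y1 := by rw [hy1, mul_inv_rev, mul_inv_rev, inv_inv, hzz, mul_assoc]
    have hy1r : ∀ w ∈ V, y1 * w * y1⁻¹ * w ∈ zpowers z := by
      intro w hw
      rcases hFz _ (hrange y1 hy1Eg w hw) with h | h
      · rw [h]; exact one_mem _
      · rw [h]; exact mem_zpowers z
    intro x hx
    simp only [hR, Set.mem_insert_iff, Set.mem_singleton_iff] at hx
    rcases hx with hx | hx | hx <;> rw [hx]
    · refine ⟨hVL hzV, hzz, fun w hw => ?_⟩
      rw [CfsgLib.PGroup.elemAb_comm hV hzV hw, mul_inv_cancel_right, ← pow_two, hV.2 w hw]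
      exact one_mem _
    · exact ⟨hy1L, hy1i, hy1r⟩
    · refine ⟨hy2L, by rw [hy2, mul_inv_rev, mul_inv_rev, inv_inv, hy1i, mul_assoc], fun w hw => ?_⟩
      have h1 := hy1r _ (hnL haL hw)
      have e1 : y2 * w * y2⁻¹ * w = a * (y1 * (a * w * a⁻¹) * y1⁻¹ * (a * w * a⁻¹)) * a⁻¹ := by
        rw [← hay, ha']
        simp only [mul_inv_rev, ha', mul_assoc]
        simp only [← mul_assoc a a, ha2, one_mul, mul_one]
      rw [e1]
      obtain ⟨i, hi⟩ := mem_zpowers_iff.1 h1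
      rw [← hi, ← conj_zpow, haz, mul_inv_cancel_right]
      exact zpow_mem (mem_zpowers z) i
  have heR : e ∈ L ∧ ∀ w ∈ V, e * w * e⁻¹ * w ∈ zpowers z := by
    suffices hall : ∀ g ∈ closure R, g ∈ L ∧ ∀ w ∈ V, g * w * g⁻¹ * w ∈ zpowers z from hall e he
    intro g hg
    induction hg using Subgroup.closure_induction with
    | mem x hx => exact ⟨(hR1 x hx).1, (hR1 x hx).2.2⟩
    | one =>
      refine ⟨one_mem _, fun w hw => ?_⟩
      rw [one_mul, inv_one, mul_one, ← pow_two, hV.2 w hw]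
      exact one_mem _
    | mul x y _ _ hx hy =>
      refine ⟨mul_mem hx.1 hy.1, fun w hw => ?_⟩
      have h1 := hnL hy.1 hw
      have h2 : (y * w * y⁻¹) * (y * w * y⁻¹) = 1 := by rw [← pow_two]; exact hV.2 _ h1
      have e1 : x * y * w * (x * y)⁻¹ * w =
          (x * (y * w * y⁻¹) * x⁻¹ * (y * w * y⁻¹)) * (y * w * y⁻¹ * w) := by
        calc x * y * w * (x * y)⁻¹ * w = x * (y * w * y⁻¹) * x⁻¹ * ((y * w * y⁻¹) * (y * w * y⁻¹)) * w := by
              rw [h2]; group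
          _ = _ := by group
      rw [e1]
      exact mul_mem (hx.2 _ h1) (hy.2 w hw)
    | inv x _ hx =>
      refine ⟨inv_mem hx.1, fun w hw => ?_⟩
      have h1 := hnL (inv_mem hx.1) hw
      rw [inv_inv] at h1
      have h2 := hx.2 _ h1
      rw [show x * (x⁻¹ * w * x) * x⁻¹ = w by group] at h2
      rw [inv_inv, CfsgLib.PGroup.elemAb_comm hV h1 hw]
      exact h2
  -- conclusion
  letI : CommGroup ↥V :=
    { (inferInstance : Group ↥V) with mul_comm := fun u v => hV.1.is_comm.comm u v }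
  have hsq : ∀ u : ↥V, u * u = 1 := fun u => Subtype.ext (by
    have := hV.2 (u : G) u.2
    rwa [pow_two] at this)
  set ε := actOn hLV ⟨e, heR.1⟩ with hε
  have h1 := Trv.card_range_mul ε
  have h2 : Nat.card ↥(Trv.mv ε).ker ≤ n := by
    rw [← card_map_of_injective (K := (Trv.mv ε).ker) V.subtype_injective]
    refine Subgroup.card_le_of_le ?_
    rintro _ ⟨u, hu, rfl⟩
    have h1 := congrArg Subtype.val ((Trv.mv_eq_one_iff hsq ε u).1 hu)
    obtain ⟨h3, h4⟩ := hUe _ u.2 (mul_inv_eq_iff_eq_mul.1 h1)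
    exact (hUmem _).2 ⟨u.2, CfsgLib.PGroup.elemAb_comm hV hzV u.2, h3, h4⟩
  have h3 : Nat.card ↥(Trv.mv ε).range ≤ 2 := by
    rw [← card_map_of_injective (K := (Trv.mv ε).range) V.subtype_injective]
    refine (Subgroup.card_le_of_le (K := zpowers z) ?_).trans ?_
    · rintro _ ⟨_, ⟨u, rfl⟩, rfl⟩
      exact heR.2 u u.2
    · rw [Nat.card_zpowers]
      exact Nat.le_of_dvd two_pos (orderOf_dvd_of_pow_eq_one (hV.2 z hzV))
  have h4 : v ≤ 2 * n := by rw [hv, ← h1]; exact Nat.mul_le_mul h3 h2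
  have h5 : n * n ≤ v := (hne1.trans (le_of_eq (by rw [← hveq, hf2', mul_comm])))
  have h6 : n * n ≤ n * 2 := by rw [mul_comm n 2]; exact h5.trans h4
  have hnpos : 0 < n := Nat.card_pos
  have h7 := Nat.le_of_mul_le_mul_left h6 hnpos
  omega

end CfsgLib.LocalEven.JComp
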