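import Cfsg.Agent.Lib.LocalEven.JBetaBasic
import Cfsg.Agent.Lib.LocalEven.JEndgame

/-!
A component over a Sylow 2-subgroup with `N(J(S)) ≤ L`.
-/

set_option autoImplicit false

namespace CfsgLib.LocalEven.JComp

open Subgroup CfsgLib.LocalEven Cfsg
open scoped commutatorElement

variable {G : Type*} [Group G] [Finite G]

theorem wOf_le_self {T K : Subgroup G} (hK : IsJComponent T K) : wOf K ≤ K :=
  (wOf_le_pCoreOf hK).1.trans (pCoreOf_le 2 K)

theorem mem_of_mul_eq {x y z : G} (hz : z * z = 1) (h : x * z = y) : x = y * z := by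
  rw [← h, mul_assoc, hz, mul_one]

variable {M : Subgroup G} {P : Sylow 2 G}

/-- The irreducible module spanned by the four-groups of the components. -/
def wModule (T L : Subgroup G) : Subgroup G :=
  closure {x | ∃ X, IsJComponent T X ∧ X ≤ L ∧ x ∈ wOf X}

theorem wOf_le_wModule {T L X : Subgroup G} (hX : IsJComponent T X) (hXL : X ≤ L) : wOf X ≤ wModule T L :=
  fun x hx => subset_closure ⟨X, hX, hXL, hx⟩

theorem conj_mem_wModule {T L : Subgroup G} (hG : Amb G) (hL : Constrained L) (hT : IsSylowTwoIn T L) :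
    L ≤ normalizer (wModule T L : Set G) := by
  refine hG.le_of_components hL hT ?_ fun X hX hXL => ?_
  · rintro n ⟨hn, hnJ⟩
    refine mem_normalizer_of_conj_le ?_
    rw [wModule, MonoidHom.map_closure, Subgroup.closure_le]
    rintro _ ⟨x, ⟨X, hX, hXL, hx⟩, rfl⟩
    refine subset_closure ⟨_, isJComponent_of_conj_thompson hX hnJ, ?_, ?_⟩
    · rintro _ ⟨k, hk, rfl⟩
      exact mul_mem (mul_mem hn (hXL hk)) (inv_mem hn)
    · rw [wOf_map (MulAut.conj n).injective]
      exact ⟨x, hx, rfl⟩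
  · intro k hk
    refine mem_normalizer_of_conj_le ?_
    rw [wModule, MonoidHom.map_closure, Subgroup.closure_le]
    rintro _ ⟨x, ⟨Y, hY, hYL, hx⟩, rfl⟩
    refine subset_closure ⟨Y, hY, hYL, ?_⟩
    by_cases hXY : X = Y
    · subst hXY
      exact conj_mem_of_mem_normalizer ((wOf_le_pCoreOf hX).2.2 hk) hx
    · obtain ⟨-, h2, -⟩ := hG.components_commute hL hT hX hY hXL hYL hXY
      show k * x * k⁻¹ ∈ wOf Y
      rw [← mem_centralizer_iff.1 (h2 hk) x hx, mul_inv_cancel_right]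
      exact hx

theorem wModule_elemAb {T L : Subgroup G} (hG : Amb G) (hL : Constrained L) (hT : IsSylowTwoIn T L) :
    IsElementaryAbelian 2 (wModule T L) := by
  refine elemAb_of_pairs ?_ ?_
  · rintro x ⟨X, hX, -, hx⟩
    exact hX.2.2.2.2.2 x hx
  · rintro x ⟨X, hX, hXL, hx⟩ y ⟨Y, hY, hYL, hy⟩
    by_cases hXY : X = Y
    · subst hXY
      have h1 := hX.2.2.2.2.2
      calc x * y = (y * y) * (x * y) * (x * x) := by rw [h1 y hy, h1 x hx, one_mul, mul_one]
        _ = y * (y * x * (y * x)) * x := by group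
        _ = y * x := by rw [h1 _ (mul_mem hy hx), mul_one]
    · obtain ⟨-, h2, -⟩ := hG.components_commute hL hT hX hY hXL hYL hXY
      exact (mem_centralizer_iff.1 (h2 (wOf_le_self hX hx)) y hy).symm

/-- Every element of the module is conjugate under `L` into `Ω₁(Z(J(T)))`. -/
theorem exists_conj_omega {T L : Subgroup G} (hG : Amb G) (hL : Constrained L) (hT : IsSylowTwoIn T L)
    {v : G} (hv : v ∈ wModule T L) :
    ∃ l ∈ L, l * v * l⁻¹ ∈ omegaCenterOf (thompsonSubgroupOf 2 T) := by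
  classical
  set O := {X | IsJComponent T X ∧ X ≤ L} with hO
  suffices hall : ∀ s : Finset (Subgroup G), (∀ X ∈ s, X ∈ O) →
      ∀ v ∈ closure {x | ∃ X ∈ s, x ∈ wOf X}, ∃ l ∈ closure {x | ∃ X ∈ s, x ∈ X},
        l * v * l⁻¹ ∈ omegaCenterOf (thompsonSubgroupOf 2 T) ∧ l * v * l⁻¹ ∈ closure {x | ∃ X ∈ s, x ∈ wOf X} by
    have he : wModule T L = closure {x | ∃ X ∈ (Set.toFinite O).toFinset, x ∈ wOf X} := by
      rw [wModule]
      congr 1
      ext x
      simp [hO, and_assoc]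
    obtain ⟨l, hl, h1, -⟩ := hall _ (fun X hX => (Set.Finite.mem_toFinset _).1 hX) v (he ▸ hv)
    refine ⟨l, ?_, h1⟩
    refine (closure_le _).2 ?_ hl
    rintro x ⟨X, hX, hx⟩
    exact ((Set.Finite.mem_toFinset _).1 hX).2 hx
  intro s
  induction s using Finset.induction with
  | empty =>
    intro _ v hv
    have : v = 1 := by simpa using hv
    subst this
    exact ⟨1, one_mem _, by simp [one_mem], by simp [one_mem]⟩
  | insert Y s hYs ih =>
    intro hs v hv
    obtain ⟨hY, hYL⟩ := hs Y (Finset.mem_insert_self _ _)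
    have hsO : ∀ X ∈ s, X ∈ O := fun X hX => hs X (Finset.mem_insert_of_mem hX)
    have hcomm : ∀ X ∈ s, X ≤ centralizer (wOf Y : Set G) ∧ Y ≤ centralizer (wOf X : Set G) := by
      intro X hX
      have hne : X ≠ Y := fun e => hYs (e ▸ hX)
      exact ⟨(hG.components_commute hL hT (hsO X hX).1 hY (hsO X hX).2 hYL hne).2.1,
        (hG.components_commute hL hT hY (hsO X hX).1 hYL (hsO X hX).2 (Ne.symm hne)).2.1⟩
    set Ws := closure {x | ∃ X ∈ s, x ∈ wOf X} with hWs
    have hYc : Y ≤ centralizer (Ws : Set G) := by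
      rw [Subgroup.le_centralizer_iff]
      refine (closure_le _).2 ?_
      rintro x ⟨X, hX, hx⟩
      exact mem_centralizer_iff.2 fun y hy => (mem_centralizer_iff.1 ((hcomm X hX).2 hy) x hx).symm
    have hcY : ∀ w ∈ wOf Y, ∀ u ∈ Ws, w * u = u * w := fun w hw u hu =>
      (mem_centralizer_iff.1 (hYc (wOf_le_self hY hw)) u hu).symm
    have hsplit : ∃ v0 ∈ wOf Y, ∃ v1 ∈ Ws, v0 * v1 = v := by
      have hle : closure {x | ∃ X ∈ insert Y s, x ∈ wOf X} ≤ wOf Y ⊔ Ws := by
        refine (closure_le _).2 ?_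
        rintro x ⟨X, hX, hx⟩
        rcases Finset.mem_insert.1 hX with rfl | hX
        · exact mem_sup_left hx
        · exact mem_sup_right (subset_closure ⟨X, hX, hx⟩)
      refine Set.mem_mul.1 ?_
      rw [← Subgroup.coe_mul_of_right_le_normalizer_left]
      · exact hle hv
      · intro u hu
        refine mem_normalizer_of_conj_le ?_
        rintro _ ⟨w, hw, rfl⟩
        show u * w * u⁻¹ ∈ wOf Y
        rw [← hcY w hw u hu, mul_inv_cancel_right]
        exact hw
    obtain ⟨v0, hv0, v1, hv1, rfl⟩ := hsplit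
    obtain ⟨l1, hl1, hl1Z, hl1W⟩ := ih hsO v1 hv1
    have hl1c : l1 ∈ centralizer (wOf Y : Set G) := (closure_le _).2 (by
      rintro x ⟨X, hX, hx⟩
      exact (hcomm X hX).1 hx) hl1
    obtain ⟨w, d, hw, hwW, hw1, -, hd, hd3, -, hfix⟩ := exists_wgen hT.2.1 hY
    obtain ⟨hc1, hc2, hpW, hp1, hwp⟩ := rot_cycle hY.2.2.2.2.1 hY.2.2.2.2.2 hd3
      ((wOf_le_pCoreOf hY).2.2 hd) hfix hwW hw1
    obtain ⟨l0, hl0, hl0Z, hl0W⟩ : ∃ l0 ∈ Y, l0 * v0 * l0⁻¹ ∈ omegaCenterOf (thompsonSubgroupOf 2 T) ∧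
        l0 * v0 * l0⁻¹ ∈ wOf Y := by
      rcases four_cases hY.2.2.2.2.1 hY.2.2.2.2.2 hwW hpW hw1 hp1 hwp hv0 with e | e | e | e
      · exact ⟨1, one_mem _, by simp [e, one_mem], by simp [e, one_mem]⟩
      · exact ⟨1, one_mem _, by simpa [e] using hw, by simpa [e] using hwW⟩
      · refine ⟨d * d, mul_mem hd hd, ?_⟩
        have : d * d * v0 * (d * d)⁻¹ = w := by
          calc d * d * v0 * (d * d)⁻¹ = d * (d * (d * w * d⁻¹) * d⁻¹) * d⁻¹ := by rw [e]; group
            _ = w := by rw [hc1, hc2]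
        rw [this]; exact ⟨hw, hwW⟩
      · refine ⟨d, hd, ?_⟩
        rw [e, hc2]; exact ⟨hw, hwW⟩
    have hYle : l0 ∈ closure {x | ∃ X ∈ insert Y s, x ∈ X} :=
      subset_closure ⟨Y, Finset.mem_insert_self _ _, hl0⟩
    have hl1le : l1 ∈ closure {x | ∃ X ∈ insert Y s, x ∈ X} := Subgroup.closure_mono
      (by rintro x ⟨X, hX, hx⟩; exact ⟨X, Finset.mem_insert_of_mem hX, hx⟩) hl1
    have e : l0 * l1 * (v0 * v1) * (l0 * l1)⁻¹ = l0 * v0 * l0⁻¹ * (l1 * v1 * l1⁻¹) := by
      calc l0 * l1 * (v0 * v1) * (l0 * l1)⁻¹ = l0 * ((l1 * v0) * v1 * l1⁻¹) * l0⁻¹ := by group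
        _ = l0 * ((v0 * l1) * v1 * l1⁻¹) * l0⁻¹ := by rw [mem_centralizer_iff.1 hl1c v0 hv0]
        _ = l0 * v0 * l0⁻¹ * (l0 * (l1 * v1 * l1⁻¹)) * l0⁻¹ := by group
        _ = l0 * v0 * l0⁻¹ * ((l1 * v1 * l1⁻¹) * l0) * l0⁻¹ := by
          rw [← mem_centralizer_iff.1 (hYc hl0) _ hl1W]
        _ = _ := by group
    refine ⟨l0 * l1, mul_mem hYle hl1le, ?_, ?_⟩ <;> rw [e]
    · exact mul_mem hl0Z hl1Z
    · refine mul_mem (subset_closure ⟨Y, Finset.mem_insert_self _ _, hl0W⟩) ?_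
      exact Subgroup.closure_mono (by rintro x ⟨X, hX, hx⟩; exact ⟨X, Finset.mem_insert_of_mem hX, hx⟩) hl1W

theorem Straddle.not_centralized (h : Straddle M (P : Subgroup G)) {K : Subgroup G} (hKM : ¬ K ≤ M) :
    ¬ ∀ z ∈ omegaCenterOf (P : Subgroup G), ∀ x ∈ K, x * z = z * x :=
  h.amb.not_le_centralizer_omega P h.normalizer_le hKM

theorem omega_le_hyp_cases (h : Straddle M (P : Subgroup G)) {z : G}
    (hz : z ∈ omegaCenterOf (P : Subgroup G)) :
    z ∈ omegaCenterOf (thompsonSubgroupOf 2 (P : Subgroup G)) := omega_omega_le h.isPGroup hz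

/-- A fixed element centralised by `K` is centralised by its conjugates. -/
theorem mem_hyp_conj_of_fixed {T K : Subgroup G} {t z : G} (htz : t * z = z * t) (hz : z ∈ hyp T K) :
    z ∈ hyp T (K.map (MulAut.conj t).toMonoidHom) := by
  refine mem_hyp_iff.2 ⟨hz.1, ?_⟩
  rintro _ ⟨k, hk, rfl⟩
  have := (mem_hyp_iff.1 hz).2 k hk
  show t * k * t⁻¹ * z = z * (t * k * t⁻¹)
  calc t * k * t⁻¹ * z = t * k * t⁻¹ * (t * z * t⁻¹) := by rw [htz, mul_inv_cancel_right]
    _ = t * (k * z) * t⁻¹ := by group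
    _ = t * (z * k) * t⁻¹ := by rw [this]
    _ = t * z * t⁻¹ * (t * k * t⁻¹) := by group
    _ = _ := by rw [htz, mul_inv_cancel_right]

/-- `T₂` is the Sylow subgroup: the two hyperplanes meet trivially. -/
theorem Straddle.beta_one (h : Straddle M (P : Subgroup G)) {K L K₂ : Subgroup G}
    (hK : IsJComponent (P : Subgroup G) K) (hKM : ¬ K ≤ M) (hL : IsMaximalTwoLocal L)
    (hKL : K ⊔ thompsonSubgroupOf 2 (P : Subgroup G) ≤ L) (hPL : (P : Subgroup G) ≤ L)
    (hNL : normalizer (thompsonSubgroupOf 2 (P : Subgroup G) : Set G) ≤ L)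
    (hK₂ : IsJComponent (P : Subgroup G) K₂) (hK₂L : ¬ K₂ ≤ L) :
    (P : Subgroup G) ≤ normalizer (K : Set G) ∧
      ∀ i ∈ hyp (P : Subgroup G) K, i ≠ 1 → ∀ j ∈ hyp (P : Subgroup G) K, j ≠ 1 → i = j := by
  have key : ∀ X, IsJComponent (P : Subgroup G) X → ¬ X ≤ M → X ≤ L →
      ∀ x ∈ hyp (P : Subgroup G) X, x ∈ hyp (P : Subgroup G) K₂ → x = 1 := by
    intro X hX hXM hXL x hx hx2
    by_contra hx1
    exact hK₂L ((le_sup_left.trans (le_centralizer_singleton hx2)).trans
      (h.centralizer_le hX hXM hL (sup_le hXL (le_sup_right.trans hKL)) hx hx1))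
  have hKl : K ≤ L := le_sup_left.trans hKL
  have hsm : ∀ i ∈ hyp (P : Subgroup G) K, i ≠ 1 → ∀ j ∈ hyp (P : Subgroup G) K, j ≠ 1 → i = j := by
    intro i hi hi1 j hj hj1
    by_contra hne
    have hn := fun x (hx : x ∈ hyp (P : Subgroup G) K) (hx1 : x ≠ 1) => fun hx2 => hx1 (key K hK hKM hKl x hx hx2)
    refine hne ?_
    have h1 := key K hK hKM hKl (i * j) (mul_mem hi hj)
      (mul_mem_hyp h.isPGroup hK₂ hi.1 (hn i hi hi1) hj.1 (hn j hj hj1))
    rw [eq_inv_of_mul_eq_one_right h1, inv_eq_of_mul_eq_one_right (omega_sq hi.1)]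
  refine ⟨fun t ht => ?_, hsm⟩
  obtain ⟨hK', hK'M⟩ := h.conj_outside hK hKM (le_normalizer_thompson _ ht)
  set K' := K.map (MulAut.conj t).toMonoidHom with hK'e
  refine mem_normalizer_of_conj_le (le_of_eq ?_)
  show K' = K
  by_contra hne
  have hK'L : K' ≤ L := by
    rintro _ ⟨k, hk, rfl⟩
    exact mul_mem (mul_mem (hPL ht) (hKl hk)) (inv_mem (hPL ht))
  have hC := constrained_of_twoLocal h.amb hL.1
  have hPs : IsSylowTwoIn (P : Subgroup G) L := by
    obtain ⟨-, T₀, -, -, -, hs⟩ := h.local_sylow hL.1 (fun e => hKM (hKl.trans e)) (le_sup_right.trans hKL)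
    exact hs hPL
  obtain ⟨w, d, hw, hwW, hw1, huniq, hd, -, -, hfix⟩ := exists_wgen h.isPGroup hK
  obtain ⟨w', d', hw', hw'W, hw'1, -, hd', -, -, hfix'⟩ := exists_wgen h.isPGroup hK'
  have hwh' := mem_hyp_of_comp h.amb hC hPs hK' hK hK'L hKl hne hw hwW
  have hw'h := mem_hyp_of_comp h.amb hC hPs hK hK' hKl hK'L (Ne.symm hne) hw' hw'W
  have hw'nh : w' ∉ hyp (P : Subgroup G) K' := notMem_hyp hw'W hw'1 hd' hfix'
  have hh2 : w * w' ∈ hyp (P : Subgroup G) K₂ := mul_mem_hyp h.isPGroup hK₂ hw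
    (fun e => hw1 (key K' hK' hK'M hK'L w hwh' e)) hw' (fun e => hw'1 (key K hK hKM hKl w' hw'h e))
  refine (h.amb.not_le_centralizer_omega P hNL hK₂L) fun z hz x hx => ?_
  have htz : t * z = z * t := omega_comm hz ht
  have hzZ := omega_omega_le h.isPGroup hz
  suffices hz2 : z ∈ hyp (P : Subgroup G) K₂ from (mem_hyp_iff.1 hz2).2 x hx
  by_cases hzh : z ∈ hyp (P : Subgroup G) K
  · by_cases hz1 : z = 1
    · rw [hz1]; exact one_mem _
    have : z = w' := hsm z hzh hz1 w' hw'h hw'1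
    exact absurd (this ▸ mem_hyp_conj_of_fixed htz hzh) hw'nh
  · have hzw := (mem_hyp_cases h.isPGroup hK hw huniq hzZ).resolve_left hzh
    by_cases hz0 : z * w = 1
    · exfalso
      apply hzh
      have hzw' : z = w := by
        rw [eq_inv_of_mul_eq_one_left hz0, inv_eq_of_mul_eq_one_right (omega_sq hw)]
      have h1 : z ∈ hyp (P : Subgroup G) K' := hzw' ▸ hwh'
      have h2 := mem_hyp_conj_of_fixed (t := t⁻¹) ((show Commute t z from htz).inv_left).eq h1
      rwa [hK'e, Subgroup.map_map, show (MulAut.conj t⁻¹).toMonoidHom.comp (MulAut.conj t).toMonoidHom =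
        MonoidHom.id G from MonoidHom.ext fun u => by
          show t⁻¹ * (t * u * t⁻¹) * t⁻¹⁻¹ = u
          group, Subgroup.map_id] at h2
    · have h1 := mem_of_mul_eq (omega_sq hw) (hsm _ hzw hz0 w' hw'h hw'1)
      rw [h1, omega_comm hw (omega_le _ hw')]
      exact hh2

set_option maxHeartbeats 1000000 in
/-- `T₂` is smaller than the Sylow subgroup. -/
theorem Straddle.beta_two (h : Straddle M (P : Subgroup G)) {K L T₂ K₂ : Subgroup G}
    (hK : IsJComponent (P : Subgroup G) K) (hKM : ¬ K ≤ M) (hL : IsMaximalTwoLocal L)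
    (hKL : K ⊔ thompsonSubgroupOf 2 (P : Subgroup G) ≤ L) (hPs : IsSylowTwoIn (P : Subgroup G) L)
    (hNL : normalizer (thompsonSubgroupOf 2 (P : Subgroup G) : Set G) ≤ L)
    (h' : Straddle L T₂) (hT₂P : T₂ ≤ (P : Subgroup G)) (hne : T₂ ≠ (P : Subgroup G))
    (hK₂ : K₂ ∈ jComponentsOutside L T₂) :
    (P : Subgroup G) ≤ normalizer (K : Set G) ∧
      ∀ i ∈ hyp (P : Subgroup G) K, i ≠ 1 → ∀ j ∈ hyp (P : Subgroup G) K, j ≠ 1 → i = j := by
  haveI : Fact (Nat.Prime 2) := ⟨Nat.prime_two⟩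
  set T : Subgroup G := (P : Subgroup G) with hTdef
  have hC := constrained_of_twoLocal h.amb hL.1
  have hKl : K ≤ L := le_sup_left.trans hKL
  have hJL : thompsonSubgroupOf 2 T ≤ L := le_sup_right.trans hKL
  have hTne : T ≠ ⊥ := h.mem.1.2.1
  have hNT : normalizer (T : Set G) ≤ L := (normalizer_sylow_le_thompson P).trans hNL
  -- the second 2-local
  obtain ⟨L₂, hL₂, hKL₂, -⟩ := h'.exists_maxLocal hK₂.1.1 hK₂.2.1
  have hs₂ := h'.sylow_maxLocal hK₂ hL₂ hKL₂
  obtain ⟨g, hgT, hgJ, -, hgL₂⟩ := h'.exists_normalizing hs₂ P.2 hT₂P hne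
  obtain ⟨hu₂, hsm₂⟩ := h'.small hK₂.1.1 hK₂.2.1 hL₂ hKL₂ hs₂ hgJ hgL₂
  have hn₂ := h'.normalizes hK₂.1.1 hK₂.2.1 hKL₂ hs₂.1 hu₂
  -- the centre of `T` has order two
  have hZ : ∀ x ∈ omegaCenterOf T, x ∈ omegaCenterOf (thompsonSubgroupOf 2 T₂) := fun x hx =>
    omega_omega_le h'.isPGroup (h'.omega_sylow_le hL₂ hs₂ P hT₂P hx)
  have hZh : ∀ x ∈ omegaCenterOf T, x ∈ hyp T₂ K₂ → x = 1 := by
    intro x hx hxh
    by_contra hx1
    exact hgL₂ (h'.centralizer_le hK₂.1.1 hK₂.2.1 hL₂ hKL₂ hxh hx1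
      (mem_centralizer_singleton_iff.2 (omega_comm hx hgT)))
  obtain ⟨z, -, hz, hz1⟩ := exists_mem_omega P.2 le_rfl Subgroup.le_normalizer hTne
  have hzu : ∀ x ∈ omegaCenterOf T, x = 1 ∨ x = z := by
    intro x hx
    by_contra hcon
    push Not at hcon
    have := hZh _ (mul_mem hx hz) (mul_mem_hyp h'.isPGroup hK₂.1.1 (hZ x hx)
      (fun e => hcon.1 (hZh x hx e)) (hZ z hz) (fun e => hz1 (hZh z hz e)))
    exact hcon.2 (by rw [eq_inv_of_mul_eq_one_left this, inv_eq_of_mul_eq_one_right (omega_sq hz)])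
  have hnc : ∀ X : Subgroup G, ¬ X ≤ M → ¬ ∀ x ∈ X, x * z = z * x := by
    intro X hX hc
    refine h.not_centralized hX fun x hx y hy => ?_
    rcases hzu x hx with rfl | rfl
    · rw [mul_one, one_mul]
    · exact hc y hy
  have hzL : centralizer ({z} : Set G) ≤ L := by
    refine fun x hx => hNT (h.amb.center P (mem_centralizer_iff.2 fun y hy => ?_))
    rcases hzu y hy with rfl | rfl
    · rw [mul_one, one_mul]
    · exact mem_centralizer_iff.1 hx _ rfl
  have hzZ : z ∈ omegaCenterOf (thompsonSubgroupOf 2 T) := omega_omega_le P.2 hz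
  -- intersections over the orbit of `K`
  set orb : Set (Subgroup G) := {X | ∃ t ∈ T, X = K.map (MulAut.conj t).toMonoidHom} with horb
  have horbC : ∀ X ∈ orb, IsJComponent T X ∧ ¬ X ≤ M ∧ X ≤ L := by
    rintro X ⟨t, ht, rfl⟩
    obtain ⟨h1, h2⟩ := h.conj_outside hK hKM (le_normalizer_thompson _ ht)
    refine ⟨h1, h2, ?_⟩
    rintro _ ⟨k, hk, rfl⟩
    exact mul_mem (mul_mem (hPs.1 ht) (hKl hk)) (inv_mem (hPs.1 ht))
  set I := omegaCenterOf (thompsonSubgroupOf 2 T) ⊓ sInf (hyp T '' orb) with hI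
  have hI1 : ∀ x, x ∈ omegaCenterOf (thompsonSubgroupOf 2 T) → (∀ X ∈ orb, x ∈ hyp T X) → x = 1 := by
    intro x hx hxX
    by_contra hx1
    have hxI : x ∈ I := ⟨hx, Subgroup.mem_sInf.2 (by rintro _ ⟨X, hX, rfl⟩; exact hxX X hX)⟩
    have hIT : I ≤ T := fun y hy => CfsgLib.Transfer.thompsonSubgroupOf_le 2 T (omega_le _ hy.1)
    have hIn : T ≤ normalizer (I : Set G) := by
      intro t ht
      refine mem_normalizer_of_conj_le ?_
      rintro _ ⟨y, ⟨hy, hyX⟩, rfl⟩
      refine ⟨conj_mem_omega (le_normalizer_thompson _ ht) hy, ?_⟩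
      refine Subgroup.mem_sInf.2 ?_
      rintro _ ⟨X, ⟨s, hs, rfl⟩, rfl⟩
      refine mem_hyp_iff.2 ⟨conj_mem_omega (le_normalizer_thompson _ ht) hy, ?_⟩
      rintro _ ⟨k, hk, rfl⟩
      have h1 := (mem_hyp_iff.1 (Subgroup.mem_sInf.1 hyX _ ⟨_, ⟨t⁻¹ * s, mul_mem (inv_mem ht) hs, rfl⟩, rfl⟩)).2
        _ ⟨k, hk, rfl⟩
      have h2 : (t⁻¹ * s) * k * (t⁻¹ * s)⁻¹ * y = y * ((t⁻¹ * s) * k * (t⁻¹ * s)⁻¹) := h1
      show s * k * s⁻¹ * (t * y * t⁻¹) = t * y * t⁻¹ * (s * k * s⁻¹)
      calc s * k * s⁻¹ * (t * y * t⁻¹) = t * ((t⁻¹ * s) * k * (t⁻¹ * s)⁻¹ * y) * t⁻¹ := by group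
        _ = t * (y * ((t⁻¹ * s) * k * (t⁻¹ * s)⁻¹)) * t⁻¹ := by rw [h2]
        _ = _ := by group
    obtain ⟨u, hu, huZ, hu1⟩ := exists_mem_omega P.2 hIT hIn fun e => hx1 (mem_bot.1 (e ▸ hxI))
    rcases hzu u huZ with rfl | rfl
    · exact hu1 rfl
    · have hK0 : K.map (MulAut.conj (1 : G)).toMonoidHom = K := map_conj_of_mem_normalizer (one_mem _)
      exact hnc K hKM fun k hk =>
        (mem_hyp_iff.1 (Subgroup.mem_sInf.1 hu.2 _ ⟨K, ⟨1, one_mem _, hK0.symm⟩, rfl⟩)).2 k hk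
  have horball : ∀ X, IsJComponent T X → X ≤ L → X ∈ orb := by
    intro X hX hXL
    by_contra hXo
    obtain ⟨w, d, hw, hwW, hw1, -⟩ := exists_wgen h.isPGroup hX
    refine hw1 (hI1 w hw fun Y hY => ?_)
    exact mem_hyp_of_comp h.amb hC hPs (horbC Y hY).1 hX (horbC Y hY).2.2 hXL
      (fun e => hXo (e ▸ hY)) hw hwW
  by_cases hTK : T ≤ normalizer (K : Set G)
  · refine ⟨hTK, fun i hi hi1 _ _ _ => absurd (hI1 i hi.1 ?_) hi1⟩
    rintro X ⟨t, ht, rfl⟩
    rwa [map_conj_of_mem_normalizer (hTK ht)]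
  · exfalso
    obtain ⟨t₀, ht₀, ht₀K⟩ := SetLike.not_le_iff_exists.1 hTK
    set K' := K.map (MulAut.conj t₀).toMonoidHom with hK'e
    have hK' := horbC K' ⟨t₀, ht₀, rfl⟩
    have hKK' : K ≠ K' := fun e => ht₀K (mem_normalizer_of_conj_le (le_of_eq e.symm))
    set V := wModule T L with hVdef
    have hLV : L ≤ normalizer (V : Set G) := conj_mem_wModule h.amb hC hPs
    have hVe : IsElementaryAbelian 2 V := wModule_elemAb h.amb hC hPs
    have hVT : V ≤ T := (closure_le _).2 (by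
      rintro x ⟨X, hX, -, hx⟩
      exact CfsgLib.Transfer.thompsonSubgroupOf_le 2 T ((component_omega h.isPGroup hX).2.1 hx))
    have hVL : V ≤ L := hVT.trans hPs.1
    have hKV : wOf K ≤ V := wOf_le_wModule hK hKl
    have hVne : V ≠ ⊥ := fun e => component_ne_bot hK (le_bot_iff.1 (e ▸ hKV))
    -- invariant subgroups contain `z` and then everything
    have hirr : ∀ F : Subgroup G, F ≤ V → L ≤ normalizer (F : Set G) → F ≠ ⊥ → V ≤ F := by
      intro F hFV hFn hF
      obtain ⟨u, hu, huZ, hu1⟩ := exists_mem_omega P.2 (hFV.trans hVT) (hPs.1.trans hFn) hF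
      have hzF : z ∈ F := ((hzu u huZ).resolve_left hu1) ▸ hu
      refine (closure_le _).2 ?_
      rintro x ⟨X, hX, hXL, hx⟩
      obtain ⟨w, d, hw, hwW, hw1, huniq, hd, hd3, -, hfix⟩ := exists_wgen h.isPGroup hX
      have hXM := (horbC X (horball X hX hXL)).2.1
      have hzh : z ∉ hyp T X := fun e => hnc X hXM (mem_hyp_iff.1 e).2
      have hcw := (mem_hyp_cases h.isPGroup hX hw huniq hzZ).resolve_left hzh
      obtain ⟨hc1, hc2, hpW, hp1, hwp⟩ := rot_cycle hX.2.2.2.2.1 hX.2.2.2.2.2 hd3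
        ((wOf_le_pCoreOf hX).2.2 hd) hfix hwW hw1
      have hdz : d * z * d⁻¹ = z * w * (d * w * d⁻¹) := by
        conv_lhs => rw [mem_of_mul_eq (omega_sq hw) (rfl : z * w = z * w)]
        calc d * (z * w * w) * d⁻¹ = (d * (z * w)) * w * d⁻¹ := by group
          _ = ((z * w) * d) * w * d⁻¹ := by rw [(mem_hyp_iff.1 hcw).2 d hd]
          _ = _ := by group
      have hq : w * (d * w * d⁻¹) ∈ F := by
        have h1 := mul_mem hzF (conj_mem_of_mem_normalizer (hFn (hXL hd)) hzF)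
        rwa [hdz, show z * (z * w * (d * w * d⁻¹)) = (z * z) * (w * (d * w * d⁻¹)) by group, omega_sq hzZ,
          one_mul] at h1
      have hwF : w ∈ F := by
        have := conj_mem_of_mem_normalizer (hFn (hXL hd)) hq
        rwa [hc2] at this
      have hpF := conj_mem_of_mem_normalizer (hFn (hXL hd)) hwF
      rcases four_cases hX.2.2.2.2.1 hX.2.2.2.2.2 hwW hpW hw1 hp1 hwp hx with e | e | e | e <;> rw [e]
      exacts [one_mem _, hwF, hpF, hq]
    have hzV : z ∈ V := by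
      obtain ⟨u, hu, huZ, hu1⟩ := exists_mem_omega P.2 hVT (hPs.1.trans hLV) hVne
      exact ((hzu u huZ).resolve_left hu1) ▸ hu
    have h16 : 16 ≤ Nat.card ↥V := by
      have h1 := card_mul_card_le (wOf K) (wOf K')
      rw [(h.amb.components_commute hC hPs hK hK'.1 hKl hK'.2.2 hKK').1, Subgroup.card_bot, mul_one,
        hK.2.2.2.2.1, hK'.1.2.2.2.2.1] at h1
      exact h1.trans (Subgroup.card_le_of_le (sup_le hKV (wOf_le_wModule hK'.1 hK'.2.2)))
    have hclass : ∀ v ∈ V, v ≠ 1 → ∃ l ∈ L, l * v * l⁻¹ = z ∨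
        ∃ X, IsJComponent T X ∧ ¬ X ≤ M ∧ X ≤ L ∧ l * v * l⁻¹ ∈ hyp T X := by
      intro v hv hv1
      obtain ⟨l, hl, hlZ⟩ := exists_conj_omega h.amb hC hPs hv
      refine ⟨l, hl, ?_⟩
      by_cases hX : ∃ X ∈ orb, l * v * l⁻¹ ∈ hyp T X
      · obtain ⟨X, hX, hm⟩ := hX
        exact Or.inr ⟨X, (horbC X hX).1, (horbC X hX).2.1, (horbC X hX).2.2, hm⟩
      · push Not at hX
        left
        have h1 := hI1 _ (mul_mem hlZ hzZ) fun X hX' => mul_mem_hyp h.isPGroup (horbC X hX').1 hlZ (hX X hX')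
          hzZ fun e => hnc X (horbC X hX').2.1 (mem_hyp_iff.1 e).2
        rw [eq_inv_of_mul_eq_one_left h1, inv_eq_of_mul_eq_one_right (omega_sq hzZ)]
    have hconjc : ∀ {x v g : G}, x * v = v * x → g * x * g⁻¹ * (g * v * g⁻¹) = g * v * g⁻¹ * (g * x * g⁻¹) := by
      intro x v g hxv
      calc g * x * g⁻¹ * (g * v * g⁻¹) = g * (x * v) * g⁻¹ := by group
        _ = g * (v * x) * g⁻¹ := by rw [hxv]
        _ = _ := by group
    have hcent : ∀ x ∈ V, x ≠ 1 → centralizer ({x} : Set G) ≤ L := by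
      intro v hv hv1 x hx
      obtain ⟨l, hl, hcase⟩ := hclass v hv hv1
      have hc : l * x * l⁻¹ ∈ L := by
        have hcomm : l * x * l⁻¹ ∈ centralizer ({l * v * l⁻¹} : Set G) :=
          mem_centralizer_singleton_iff.2 (hconjc (mem_centralizer_singleton_iff.1 hx))
        rcases hcase with e | ⟨X, hX, hXM, hXL, hm⟩
        · exact hzL (e ▸ hcomm)
        · exact h.centralizer_le hX hXM hL (sup_le hXL hJL) hm
            (fun e => hv1 (conj_eq_one_iff.1 e)) hcomm
      have := mul_mem (mul_mem (inv_mem hl) hc) hl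
      simpa [mul_assoc] using this
    have hTI : ∀ g : G, g ∉ L → ∀ x ∈ V, g * x * g⁻¹ ∈ V → x = 1 := by
      intro g hg x hx hgx
      by_contra hx1
      obtain ⟨l, hl, hcase⟩ := hclass _ hgx fun e => hx1 (conj_eq_one_iff.1 e)
      set g1 := l * g with hg1e
      have hg1 : g1 ∉ L := fun e => hg (by
        have := mul_mem (inv_mem hl) e
        rwa [hg1e, inv_mul_cancel_left] at this)
      have he : l * (g * x * g⁻¹) * l⁻¹ = g1 * x * g1⁻¹ := by rw [hg1e]; group
      rw [he] at hcase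
      have hcle : ∀ y, y * (g1 * x * g1⁻¹) = g1 * x * g1⁻¹ * y → g1⁻¹ * y * g1 ∈ L := by
        intro y hy
        refine hcent x hx hx1 (mem_centralizer_singleton_iff.2 ?_)
        calc g1⁻¹ * y * g1 * x = g1⁻¹ * (y * (g1 * x * g1⁻¹)) * g1 := by group
          _ = g1⁻¹ * (g1 * x * g1⁻¹ * y) * g1 := by rw [hy]
          _ = x * (g1⁻¹ * y * g1) := by group
      rcases hcase with e | ⟨X, hX, hXM, hXL, hm⟩
      · refine hg1 (inv_mem_iff.1 (mem_of_sylow_conj_le P hPs.1 hNT ?_))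
        rintro _ ⟨t, ht, rfl⟩
        have := hcle t (by rw [e]; exact omega_comm hz ht)
        simpa using this
      · apply hg1
        rw [← normalizer_maximalTwoLocal h.amb hL]
        refine mem_normalizer_of_conj_le (h.le_maxLocal hX hXM hL (sup_le hXL hJL)
          (isTwoLocal_conj g1 hL.1) fun y hy => ?_)
        exact ⟨g1⁻¹ * y * g1, hcle y (mem_centralizer_iff.1 hm.2 y hy), by
          show g1 * (g1⁻¹ * y * g1) * g1⁻¹ = y
          group⟩
    have hsol : Group.IsSolvable ↥(actOn hLV).range := by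
      haveI := h.amb.solv L hL.1
      exact Group.isSolvable_of_surjective (actOn hLV).rangeRestrict_surjective
    have hO : Cfsg.pCore 2 ↥(actOn hLV).range = ⊥ := by
      letI : CommGroup ↥V :=
        { (inferInstance : Group ↥V) with mul_comm := fun u v => hVe.1.is_comm.comm u v }
      have hsq : ∀ u : ↥V, u * u = 1 := fun u => Subtype.ext (by
        have := hVe.2 (u : G) u.2
        rwa [pow_two] at this)
      set P0 := Cfsg.pCore 2 ↥(actOn hLV).range with hP0
      set B0 := P0.map (actOn hLV).range.subtype with hB0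
      have hB2 : IsPGroup 2 ↥B0 := (CfsgLib.Cores.isPGroup_pCore 2).map _
      obtain ⟨u, -, hu1, huF⟩ := Trv.exists_fixed hsq hB2 (⊤ : Subgroup ↥V) (fun _ _ _ _ => mem_top _)
        (fun e => hVne (by
          refine le_bot_iff.1 fun x hx => ?_
          have := e.le (mem_top (⟨x, hx⟩ : ↥V))
          exact mem_bot.2 (congrArg Subtype.val (mem_bot.1 this))))
      set F := (Trv.fixSub B0).map V.subtype with hF
      have hFV : F ≤ V := map_subtype_le _
      have hFne : F ≠ ⊥ := fun e => hu1 (Subtype.ext (mem_bot.1 (e ▸ ⟨u, huF, rfl⟩ : (u : G) ∈ (⊥ : Subgroup G))))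
      have hFn : L ≤ normalizer (F : Set G) := by
        intro l hl
        refine mem_normalizer_of_conj_le ?_
        rintro _ ⟨_, ⟨y, hy, rfl⟩, rfl⟩
        refine ⟨actOn hLV ⟨l, hl⟩ y, ?_, rfl⟩
        rintro _ ⟨b, hb, rfl⟩
        set ll : ↥(actOn hLV).range := ⟨actOn hLV ⟨l, hl⟩, ⟨_, rfl⟩⟩ with hll
        have h1 := hy _ ⟨ll⁻¹ * b * ll, by
          have := Subgroup.Normal.conj_mem (inferInstance : P0.Normal) b hb ll⁻¹
          simpa using this, rfl⟩
        simp only [Subgroup.coe_subtype, Subgroup.coe_mul, InvMemClass.coe_inv, MulAut.mul_apply, hll] at h1 ⊢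
        apply (actOn hLV ⟨l, hl⟩)⁻¹.injective
        rw [MulAut.inv_apply_self]
        exact h1
      have hall := hirr F hFV hFn hFne
      refine eq_bot_iff.2 fun b hb => mem_bot.2 (Subtype.ext ?_)
      ext v
      obtain ⟨y, hy, hye⟩ := hall v.2
      have hyv : y = v := Subtype.ext hye
      have := hy _ ⟨b, hb, rfl⟩
      rw [hyv] at this
      exact congrArg Subtype.val this
    -- the transvection on `W_{K₂}`
    obtain ⟨w, d, hw, hwW, hw1, huniq, hd, hd3, hdec, hfix⟩ := exists_wgen h'.isPGroup hK₂.1.1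
    obtain ⟨hc1, hc2, hpW, hp1, hwp⟩ := rot_cycle hK₂.1.1.2.2.2.2.1 hK₂.1.1.2.2.2.2.2 hd3
      ((wOf_le_pCoreOf hK₂.1.1).2.2 hd) hfix hwW hw1
    have hW2 := hK₂.1.1.2.2.2.2.2
    set p := d * w * d⁻¹ with hp
    set q := w * p with hq
    have hqW : q ∈ wOf K₂ := mul_mem hwW hpW
    set c := z * w with hc
    have hznh : z ∉ hyp T₂ K₂ := fun e => hz1 (hZh z hz e)
    have hch : c ∈ hyp T₂ K₂ := (mem_hyp_cases h'.isPGroup hK₂.1.1 hw huniq (hZ z hz)).resolve_left hznh
    have hzcw : z = c * w := mem_of_mul_eq (hW2 w hwW) rfl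
    have hcd : d * c = c * d := (mem_hyp_iff.1 hch).2 d hd
    have hWJ : wOf K₂ ≤ thompsonSubgroupOf 2 T₂ := (component_omega h'.isPGroup hK₂.1.1).2.1
    have hcW : ∀ x ∈ wOf K₂, x * c = c * x := fun x hx => omega_comm hch.1 (hWJ hx)
    have hWc : ∀ x ∈ wOf K₂, ∀ y ∈ wOf K₂, x * y = y * x := by
      intro x hx y hy
      calc x * y = (y * y) * (x * y) * (x * x) := by rw [hW2 y hy, hW2 x hx, one_mul, mul_one]
        _ = y * ((y * x) * (y * x)) * x := by group
        _ = y * x := by rw [hW2 _ (mul_mem hy hx), mul_one]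
    have hcc : ∀ x ∈ wOf K₂, ∀ y ∈ wOf K₂, c * x * (c * y) = c * y * (c * x) := by
      intro x hx y hy
      calc c * x * (c * y) = c * (x * c) * y := by group
        _ = c * c * (x * y) := by rw [hcW x hx]; group
        _ = c * c * (y * x) := by rw [hWc x hx y hy]
        _ = c * (c * y) * x := by group
        _ = c * (y * c) * x := by rw [hcW y hy]
        _ = _ := by group
    have hdc : ∀ x, d * (c * x) * d⁻¹ = c * (d * x * d⁻¹) := fun x => by
      rw [← mul_assoc d c, hcd]; group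
    have hy1 : c * p = d * z * d⁻¹ := by rw [hzcw, hdc]
    have hy2 : c * q = d * (c * p) * d⁻¹ := by rw [hdc, hc1]
    have hy0 : d * (c * q) * d⁻¹ = z := by rw [hdc, hq, hc2, ← hzcw]
    have hzy : z * (c * p) = c * p * z := by rw [hzcw]; exact hcc w hwW p hpW
    have hzy2 : z * (c * q) = c * q * z := by rw [hzcw]; exact hcc w hwW q hqW
    have h12 : c * p * (c * q) = c * q * (c * p) := hcc p hpW q hqW
    have hdL : d ∉ L := by
      intro hdL
      refine hK₂.2.1 fun y hy => ?_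
      obtain ⟨i, hi⟩ := hdec y hy
      have h1 : (d ^ i)⁻¹ * y ∈ L := by
        refine hzL (mem_centralizer_singleton_iff.2 ?_)
        rw [hzcw]
        have hyK : (d ^ i)⁻¹ * y ∈ K₂ := pCoreOf_le 2 K₂ hi
        have h1 : (d ^ i)⁻¹ * y * w = w * ((d ^ i)⁻¹ * y) :=
          omega_comm ((wOf_le_pCoreOf hK₂.1.1).2.1 hwW) hi
        have h2 := (mem_hyp_iff.1 hch).2 _ hyK
        calc (d ^ i)⁻¹ * y * (c * w) = ((d ^ i)⁻¹ * y * c) * w := by group
          _ = c * ((d ^ i)⁻¹ * y * w) := by rw [h2]; group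
          _ = c * w * ((d ^ i)⁻¹ * y) := by rw [h1]; group
      have := mul_mem (zpow_mem hdL i) h1
      rwa [mul_inv_cancel_left] at this
    -- a maximal elementary subgroup moving `p`
    obtain ⟨A, hA, a, haA, hap⟩ : ∃ A, IsMaxIn T₂ A ∧ ∃ a ∈ A, a * p ≠ p * a := by
      by_contra hcon
      push Not at hcon
      have h1 : thompsonSubgroupOf 2 T₂ ≤ centralizer ({p} : Set G) :=
        thompson_le_iff.2 fun A hA a ha => mem_centralizer_singleton_iff.2 (hcon A hA a ha)
      rcases huniq p (mem_omega (hWJ hpW) (fun y hy => mem_centralizer_singleton_iff.1 (h1 hy))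
        (hW2 p hpW)) hpW with e | e
      · exact hp1 e
      · exact hwp e.symm
    have haT₂ : a ∈ T₂ := hA.1 haA
    have haJ : a ∈ thompsonSubgroupOf 2 T₂ := hA.le_thompson haA
    have hAc : ∀ x ∈ A, ∀ y ∈ A, x * y = y * x := fun x hx y hy => CfsgLib.PGroup.elemAb_comm hA.2.1 hx hy
    have hAsq : ∀ x ∈ A, x * x = 1 := fun x hx => by rw [← pow_two]; exact hA.2.1.2 x hx
    have hnW : ∀ x ∈ T₂, x ∈ normalizer (wOf K₂ : Set G) := fun x hx =>
      normalizer_le_normalizer_wOf K₂ (hn₂ hx)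
    have hmove : ∀ x ∈ A, x * p ≠ p * x → x * p * x⁻¹ = q := by
      intro x hx hxp
      rcases four_cases hK₂.1.1.2.2.2.2.1 hW2 hwW hpW hw1 hp1 hwp
        (conj_mem_of_mem_normalizer (hnW x (hA.1 hx)) hpW) with e | e | e | e
      · exact absurd (conj_eq_one_iff.1 e) hp1
      · exfalso
        apply hwp
        have h1 : x * w * x⁻¹ = w := by rw [omega_comm hw (hA.le_thompson hx), mul_inv_cancel_right]
        have h2 : x⁻¹ * (x * w * x⁻¹) * x = x⁻¹ * (x * p * x⁻¹) * x := by rw [h1, e]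
        calc w = x⁻¹ * (x * w * x⁻¹) * x := by group
          _ = x⁻¹ * (x * p * x⁻¹) * x := h2
          _ = p := by group
      · exact absurd (mul_inv_eq_iff_eq_mul.1 e) hxp
      · exact e
    set B := A ⊓ centralizer ({p} : Set G) with hB
    have hAB : Nat.card ↥A ≤ 2 * Nat.card ↥B := by
      classical
      have hf : ∀ x : ↥A, (x : G) ∉ B → a * (x : G) ∈ B := by
        intro x hx
        have hxp : (x : G) * p ≠ p * x := fun e => hx ⟨x.2, mem_centralizer_singleton_iff.2 e⟩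
        refine ⟨mul_mem haA x.2, mem_centralizer_singleton_iff.2 ?_⟩
        have h1 := hmove _ x.2 hxp
        have h2 := hmove a haA hap
        have ha' : a⁻¹ = a := inv_eq_of_mul_eq_one_right (hAsq a haA)
        have h3 : a * q * a⁻¹ = p := by
          rw [← h2]
          calc a * (a * p * a⁻¹) * a⁻¹ = (a * a) * p * (a * a)⁻¹ := by group
            _ = p := by rw [hAsq a haA]; group
        calc a * (x : G) * p = a * ((x : G) * p * (x : G)⁻¹) * a⁻¹ * (a * x) := by group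
          _ = p * (a * x) := by rw [h1, h3]
      let f : ↥A → ↥B × Bool := fun x =>
        if hx : (x : G) ∈ B then (⟨x, hx⟩, false) else (⟨a * x, hf x hx⟩, true)
      have hinj : Function.Injective f := by
        intro x y hxy
        simp only [f] at hxy
        split_ifs at hxy with h1 h2 h2
        · exact Subtype.ext (congrArg (fun u => ((u.1 : ↥B) : G)) hxy)
        · simp at hxy
        · simp at hxy
        · exact Subtype.ext (mul_left_cancel (congrArg (fun u => ((u.1 : ↥B) : G)) hxy))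
      have := Nat.card_le_card_of_injective f hinj
      rw [Nat.card_prod, Nat.card_eq_fintype_card (α := Bool), Fintype.card_bool] at this
      omega
    have hBz : ∀ b ∈ B, b * z = z * b := fun b hb => omega_comm hz (hT₂P (hA.1 hb.1))
    have hBy : ∀ b ∈ B, b * (c * p) = c * p * b := fun b hb => by
      calc b * (c * p) = (b * c) * p := by group
        _ = c * (b * p) := by rw [omega_comm hch.1 (hA.le_thompson hb.1)]; group
        _ = c * (p * b) := by rw [mem_centralizer_singleton_iff.1 hb.2]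
        _ = _ := by group
    have haz : a * z = z * a := omega_comm hz (hT₂P haT₂)
    have hay : a * (c * p) * a⁻¹ = c * q := by
      calc a * (c * p) * a⁻¹ = (a * c) * p * a⁻¹ := by group
        _ = c * (a * p * a⁻¹) := by rw [omega_comm hch.1 haJ]; group
        _ = c * q := by rw [hmove a haA hap]
    have hmax : ∀ E : Subgroup G, IsElementaryAbelian 2 E → E ≤ centralizer ({z} : Set G) →
        E ≤ centralizer ({c * p} : Set G) → Nat.card ↥E ≤ Nat.card ↥A := by
      intro E hE hEz hEy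
      by_cases hE1 : E = ⊥
      · subst hE1; rw [Subgroup.card_bot]; exact Nat.card_pos
      have h2 : c * p * (c * p) = 1 := by
        rw [hy1, show d * z * d⁻¹ * (d * z * d⁻¹) = d * (z * z) * d⁻¹ by group, omega_sq hz]; group
      have h1 : c * p ≠ 1 := fun e => hz1 (conj_eq_one_iff.1 (hy1 ▸ e))
      have hEp : IsPGroup 2 ↥E := fun u => ⟨1, Subtype.ext (by simpa using hE.2 u u.2)⟩
      have hEs : E ∈ straddlingTwoSubgroups L := by
        refine ⟨hEp, hE1, hEz.trans hzL, _, isTwoLocal_zpowers h2 h1,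
          hEy.trans (centralizer_singleton_le_normalizer _), fun hle => hdL ?_⟩
        refine mem_of_sylow_conj_le P hPs.1 hNT ?_
        rintro _ ⟨t, ht, rfl⟩
        refine hle (centralizer_singleton_le_normalizer _ (mem_centralizer_singleton_iff.2 ?_))
        rw [hy1]
        exact hconjc (omega_comm hz ht)
      have hEm : IsMaxIn E E := ⟨le_rfl, hE, fun F hF _ => Subgroup.card_le_of_le hF⟩
      have := (h'.mem.2 E hEs).1
      rwa [maxElemAbelianOrder_eq hEm, maxElemAbelianOrder_eq hA] at this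
    -- the element cutting out `U`
    by_cases hc0 : c = 1
    · have hzw : z = w := by rw [hzcw, hc0, one_mul]
      refine endgame hLV hVe hsol hO h16 hzV hz1 hzL hVL hcent hTI hdL hy1 hy2 hy0 hzy h12 hzy2 haA
        (hAsq a haA) haz hay inf_le_left hAc hAsq hBz hBy hAB hmax (e := c * p)
        (subset_closure (by simp)) (fun v hv hve => ⟨hve, ?_⟩) (by rw [hc0, one_mul]; exact hW2 p hpW)
      rw [hc0, one_mul] at hve ⊢
      rw [hq, ← hzw]
      calc z * p * v = z * (p * v) := by group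
        _ = (z * v) * p := by rw [hve]; group
        _ = (v * z) * p := by rw [CfsgLib.PGroup.elemAb_comm hVe hzV hv]
        _ = _ := by group
    · have hcsq : c * c = 1 := omega_sq hch.1
      have he : c ∈ closure ({z, c * p, c * q} : Set G) := by
        have e1 : z * (c * p * (c * q)) = c := by
          calc z * (c * p * (c * q)) = c * w * (c * (p * c) * q) := by rw [hzcw]; group
            _ = c * w * ((c * c) * (p * q)) := by rw [hcW p hpW]; group
            _ = c * (w * (p * (w * p))) := by rw [hcsq, hq]; group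
            _ = c * (w * (p * (p * w))) := by rw [hWc w hwW p hpW]
            _ = c * (w * ((p * p) * w)) := by group
            _ = c := by rw [hW2 p hpW, one_mul, hW2 w hwW, mul_one]
        have h1 : z * (c * p * (c * q)) ∈ closure ({z, c * p, c * q} : Set G) :=
          mul_mem (subset_closure (by simp)) (mul_mem (subset_closure (by simp)) (subset_closure (by simp)))
        rwa [e1] at h1
      have hcV : c ∉ V := fun hcV =>
        hK₂.2.1 ((le_sup_left.trans (le_centralizer_singleton hch)).trans (hcent c hcV hc0))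
      have hWV : ∀ x ∈ wOf K₂, x ∈ V → x = 1 := by
        intro x hx hxV
        by_contra hx1
        have haL : a ∈ L := hPs.1 (hT₂P haT₂)
        have hwV : w ∉ V := fun hwV => hcV (mul_mem hzV hwV)
        have hqp : q * p = w := by rw [hq, mul_assoc, hW2 p hpW, mul_one]
        rcases four_cases hK₂.1.1.2.2.2.2.1 hW2 hwW hpW hw1 hp1 hwp hx with e | e | e | e
        · exact hx1 e
        · exact hwV (e ▸ hxV)
        · have h1 := conj_mem_of_mem_normalizer (hLV haL) hxV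
          rw [e, hmove a haA hap] at h1
          exact hwV (hqp ▸ mul_mem h1 (e ▸ hxV))
        · have hqV : q ∈ V := by rw [e] at hxV; exact hxV
          have h1 := conj_mem_of_mem_normalizer (hLV haL) hqV
          have h3 : a * q * a⁻¹ = p := by
            rw [← hmove a haA hap]
            calc a * (a * p * a⁻¹) * a⁻¹ = (a * a) * p * (a * a)⁻¹ := by group
              _ = p := by rw [hAsq a haA]; group
          rw [h3] at h1
          exact hwV (hqp ▸ mul_mem hqV h1)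
      refine endgame hLV hVe hsol hO h16 hzV hz1 hzL hVL hcent hTI hdL hy1 hy2 hy0 hzy h12 hzy2 haA
        (hAsq a haA) haz hay inf_le_left hAc hAsq hBz hBy hAB hmax (e := c) he (fun v hv hve => ?_) hcsq
      have hvL₂ : v ∈ L₂ := h'.centralizer_le hK₂.1.1 hK₂.2.1 hL₂ hKL₂ hch hc0
        (mem_centralizer_singleton_iff.2 hve.symm)
      have hvT₂ : v ∈ T₂ := by
        have hle : T₂ ⊔ zpowers v ≤ L₂ := sup_le hs₂.1 (zpowers_le.2 hvL₂)
        have h2 : IsPGroup 2 ↥(T₂ ⊔ zpowers v) := P.2.to_le (sup_le hT₂P (zpowers_le.2 (hVT hv)))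
        have hm := Subgroup.relIndex_mul_relIndex T₂ (T₂ ⊔ zpowers v) L₂ le_sup_left hle
        obtain ⟨i, hi⟩ := IsPGroup.iff_card.1 h2
        have hodd : Odd (T₂.relIndex (T₂ ⊔ zpowers v)) := hs₂.2.2.of_dvd_nat ⟨_, hm.symm⟩
        have h1 : T₂.relIndex (T₂ ⊔ zpowers v) = 1 := Nat.eq_one_of_dvd_coprimes
          (((Nat.coprime_two_left).2 hodd).pow_left i) (hi ▸ Subgroup.relIndex_dvd_card T₂ _) dvd_rfl
        exact Subgroup.relIndex_eq_one.1 h1 (mem_sup_right (mem_zpowers v))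
      have hcW2 : ∀ x ∈ wOf K₂, x * v = v * x := by
        intro x hx
        have h1 : v * x * v⁻¹ * x⁻¹ ∈ wOf K₂ :=
          mul_mem (conj_mem_of_mem_normalizer (hnW v hvT₂) hx) (inv_mem hx)
        have hxL : x ∈ L := hPs.1 (hT₂P (CfsgLib.Transfer.thompsonSubgroupOf_le 2 T₂ (hWJ hx)))
        have h2 : v * x * v⁻¹ * x⁻¹ ∈ V := by
          rw [show v * x * v⁻¹ * x⁻¹ = v * (x * v⁻¹ * x⁻¹) by group]
          exact mul_mem hv (conj_mem_of_mem_normalizer (hLV hxL) (inv_mem hv))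
        have h3 := hWV _ h1 h2
        rw [mul_inv_eq_one, mul_inv_eq_iff_eq_mul] at h3
        exact h3.symm
      constructor
      · calc c * p * v = c * (p * v) := by group
          _ = (c * v) * p := by rw [hcW2 p hpW]; group
          _ = (v * c) * p := by rw [hve]
          _ = _ := by group
      · calc c * q * v = c * (q * v) := by group
          _ = (c * v) * q := by rw [hcW2 q hqW]; group
          _ = (v * c) * q := by rw [hve]
          _ = _ := by group

/-- The conclusion for a component over a Sylow subgroup. -/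
theorem Straddle.beta (h : Straddle M (P : Subgroup G)) (hO : Cfsg.pCore 2 G = ⊥) {K L : Subgroup G}
    (hK : K ∈ jComponentsOutside M (P : Subgroup G)) (hL : IsMaximalTwoLocal L)
    (hKL : K ⊔ thompsonSubgroupOf 2 (P : Subgroup G) ≤ L)
    (hNL : normalizer (thompsonSubgroupOf 2 (P : Subgroup G) : Set G) ≤ L) :
    (P : Subgroup G) ≤ normalizer (K : Set G) ∧
      ∀ i ∈ hyp (P : Subgroup G) K, i ≠ 1 → ∀ j ∈ hyp (P : Subgroup G) K, j ≠ 1 → i = j := by
  have hPs := h.sylow_maxLocal hK hL hKL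
  obtain ⟨T₂, hT₂, hT₂P⟩ := exists_maxStraddle_le P hPs.1
    (straddling_nonempty h.amb hO P hL.1 hNL hPs hK.1.1 (le_sup_left.trans hKL))
  have h' : Straddle L T₂ := ⟨h.amb, ⟨P, hNL⟩, hT₂⟩
  obtain ⟨K₂, hK₂⟩ := h.amb.exists_outside hNL hT₂
  by_cases he : T₂ = (P : Subgroup G)
  · subst he
    exact h.beta_one hK.1.1 hK.2.1 hL hKL hPs.1 hNL hK₂.1.1 hK₂.2.1
  · exact h.beta_two hK.1.1 hK.2.1 hL hKL hPs hNL h' hT₂P he hK₂

end CfsgLib.LocalEven.JComp
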