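import Cfsg.Prelude.Def_SylowChains
import Cfsg.Agent.Lib.LocalEven.Basic
import Cfsg.Agent.Lib.LocalEven.Isolated
import Mathlib.Logic.Relation

/-!
The graph of intersecting Sylow subgroups and classical strongly `p`-embedded subgroups.
-/

namespace CfsgLib.LocalEven

open Subgroup

variable {G : Type*} [Group G] {p : ℕ}

/-- Two Sylow subgroups are linked when they are distinct and meet nontrivially. -/
def SylowLink (S T : Sylow p G) : Prop :=
  S ≠ T ∧ (S : Subgroup G) ⊓ (T : Subgroup G) ≠ ⊥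

/-- Reachability in the intersection graph. -/
def SylowReach (S T : Sylow p G) : Prop :=
  Relation.ReflTransGen SylowLink S T

theorem SylowLink.symm {S T : Sylow p G} (h : SylowLink S T) : SylowLink T S :=
  ⟨h.1.symm, by rw [inf_comm]; exact h.2⟩

theorem SylowReach.symm {S T : Sylow p G} (h : SylowReach S T) : SylowReach T S := by
  induction h with
  | refl => exact Relation.ReflTransGen.refl
  | tail _ hl ih => exact Relation.ReflTransGen.head hl.symm ih

theorem SylowReach.trans {S T U : Sylow p G} (h : SylowReach S T) (h' : SylowReach T U) :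
    SylowReach S U :=
  Relation.ReflTransGen.trans h h'

theorem SylowLink.smul (g : G) {S T : Sylow p G} (h : SylowLink S T) : SylowLink (g • S) (g • T) := by
  refine ⟨fun e => h.1 (smul_left_cancel g e), fun e => h.2 (eq_bot_iff.2 fun u hu => ?_)⟩
  have hm : MulAut.conj g u ∈ ((g • S : Sylow p G) : Subgroup G) ⊓ ((g • T : Sylow p G) : Subgroup G) :=
    ⟨⟨u, hu.1, rfl⟩, ⟨u, hu.2, rfl⟩⟩
  rw [e, Subgroup.mem_bot] at hm
  rw [Subgroup.mem_bot]
  exact (map_eq_one_iff _ (MulAut.conj g).injective).1 hm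

theorem SylowReach.smul (g : G) {S T : Sylow p G} (h : SylowReach S T) : SylowReach (g • S) (g • T) := by
  induction h with
  | refl => exact Relation.ReflTransGen.refl
  | tail _ hl ih => exact ih.tail (hl.smul g)

theorem sylowReach_of_common {S T : Sylow p G} {x : G} (hx1 : x ≠ 1) (hS : x ∈ (S : Subgroup G))
    (hT : x ∈ (T : Subgroup G)) : SylowReach S T := by
  by_cases h : S = T
  · rw [h]; exact Relation.ReflTransGen.refl
  · refine Relation.ReflTransGen.single ⟨h, fun e => hx1 ?_⟩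
    rw [← Subgroup.mem_bot, ← e]
    exact ⟨hS, hT⟩

theorem SylowReach.exists_chain {S T : Sylow p G} (h : SylowReach S T) :
    ∃ (n : ℕ) (c : Fin (n + 1) → Sylow p G), c 0 = S ∧ c (Fin.last n) = T ∧
      ∀ i : Fin n, SylowLink (c i.castSucc) (c i.succ) := by
  induction h with
  | refl => exact ⟨0, fun _ => S, rfl, rfl, fun i => i.elim0⟩
  | @tail U V _ hl ih =>
    obtain ⟨n, c, h0, hn, hc⟩ := ih
    refine ⟨n + 1, Fin.snoc c V, ?_, Fin.snoc_last _ _, ?_⟩
    · rw [← Fin.castSucc_zero, Fin.snoc_castSucc, h0]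
    · refine Fin.lastCases ?_ (fun i => ?_)
      · rw [Fin.snoc_castSucc, Fin.succ_last, Fin.snoc_last, hn]; exact hl
      · rw [Fin.snoc_castSucc, ← Fin.castSucc_succ, Fin.snoc_castSucc]; exact hc i

theorem sylowReach_of_chain {n : ℕ} (c : Fin (n + 1) → Sylow p G)
    (hc : ∀ i : Fin n, SylowLink (c i.castSucc) (c i.succ)) : ∀ i, SylowReach (c 0) (c i) := by
  intro i
  induction i using Fin.induction with
  | zero => exact Relation.ReflTransGen.refl
  | succ i ih => exact Relation.ReflTransGen.tail ih (hc i)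

theorem isSylowChainConnected_iff :
    Cfsg.IsSylowChainConnected p G ↔ ∀ S T : Sylow p G, SylowReach S T := by
  constructor
  · intro h S T
    obtain ⟨n, c, h0, hn, -, hc⟩ := h S T
    rw [← h0, ← hn]
    exact sylowReach_of_chain c (fun i => hc i) _
  · intro h S T
    by_cases hST : (S : Subgroup G) ⊓ (T : Subgroup G) = ⊥
    · obtain ⟨n, c, h0, hn, hc⟩ := (h S T).exists_chain
      exact ⟨n, c, h0, hn, fun i => by rw [hST]; exact bot_le, fun i => hc i⟩
    · by_cases he : S = T
      · exact ⟨0, fun _ => S, rfl, he, fun _ => inf_le_left, fun i => i.elim0⟩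
      · refine ⟨1, ![S, T], rfl, rfl, fun i => ?_, fun i => ?_⟩
        · fin_cases i
          · exact inf_le_left
          · exact inf_le_right
        · fin_cases i
          exact ⟨he, hST⟩

/-- The classical condition for a strongly `p`-embedded subgroup. -/
abbrev IsClassicalSPE (p : ℕ) (H : Subgroup G) : Prop :=
  H ≠ ⊤ ∧ p ∣ Nat.card H ∧ ∀ g : G, g ∉ H → ¬ p ∣ Nat.card ↥(H ⊓ H.map (MulAut.conj g).toMonoidHom)

theorem IsClassicalSPE.mem [Finite G] [hp : Fact p.Prime] {H : Subgroup G} (hH : IsClassicalSPE p H)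
    {D : Subgroup G} (hD : IsPGroup p ↥D) (hD1 : D ≠ ⊥) (hDH : D ≤ H) {g : G}
    (hg : D.map (MulAut.conj g).toMonoidHom ≤ H) : g ∈ H := by
  by_contra hgH
  refine hH.2.2 g hgH ?_
  have h1 : D.map (MulAut.conj g).toMonoidHom ≤ H ⊓ H.map (MulAut.conj g).toMonoidHom :=
    le_inf hg (Subgroup.map_mono hDH)
  refine dvd_trans ?_ (Subgroup.card_dvd_of_le h1)
  rw [card_map_conj]
  exact hD.card_eq_or_dvd.resolve_left (mt (Subgroup.eq_bot_of_card_eq D) hD1)

theorem IsClassicalSPE.normalizer_le [Finite G] [hp : Fact p.Prime] {H : Subgroup G} (hH : IsClassicalSPE p H)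
    {D : Subgroup G} (hD : IsPGroup p ↥D) (hD1 : D ≠ ⊥) (hDH : D ≤ H) :
    Subgroup.normalizer (D : Set G) ≤ H := fun g hg =>
  hH.mem hD hD1 hDH (le_trans (by
    rintro _ ⟨u, hu, rfl⟩
    exact conj_mem_of_mem_normalizer hg hu) hDH)

theorem IsClassicalSPE.centralizer_le [Finite G] [hp : Fact p.Prime] {H : Subgroup G} (hH : IsClassicalSPE p H)
    {x : G} (hxp : ∃ k : ℕ, orderOf x = p ^ k) (hx1 : x ≠ 1) (hxH : x ∈ H) :
    Subgroup.centralizer ({x} : Set G) ≤ H := by
  refine le_trans (fun c hc => mem_normalizer_of_conj_le ?_) (hH.normalizer_le (isPGroup_zpowers hxp)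
    (fun h => hx1 (Subgroup.zpowers_eq_bot.1 h)) (Subgroup.zpowers_le.2 hxH))
  rw [conj_zpowers, mul_inv_eq_iff_eq_mul.2 (Subgroup.mem_centralizer_singleton_iff.1 hc)]

theorem IsClassicalSPE.exists_sylow_le [Finite G] [hp : Fact p.Prime] {H : Subgroup G}
    (hH : IsClassicalSPE p H) : ∃ S : Sylow p G, (S : Subgroup G) ≤ H ∧ (S : Subgroup G) ≠ ⊥ := by
  obtain ⟨P⟩ := (inferInstance : Nonempty (Sylow p ↥H))
  set D := (P : Subgroup ↥H).map H.subtype with hD
  have hD1 : D ≠ ⊥ := by
    rw [hD, Ne, Subgroup.map_eq_bot_iff_of_injective _ H.subtype_injective]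
    exact P.ne_bot_of_dvd_card hH.2.1
  obtain ⟨S, hS⟩ := IsPGroup.exists_le_sylow (P.2.map H.subtype)
  have hDS : D = (S : Subgroup G) := by
    refine eq_of_inf_normalizer_le S.2 hS ?_
    intro g hg
    have hgH := hH.normalizer_le (P.2.map _) hD1 (Subgroup.map_subtype_le _) hg.2
    have hle : (P : Subgroup ↥H) ≤ (S : Subgroup G).subgroupOf H := fun u hu => hS ⟨u, hu, rfl⟩
    have := P.is_maximal' (S.2.comap_subtype (K := H)) hle
    exact ⟨⟨g, hgH⟩, this.le hg.1, rfl⟩
  exact ⟨S, hDS ▸ Subgroup.map_subtype_le _, hDS ▸ hD1⟩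

/-- A strongly embedded subgroup contains every Sylow subgroup reachable from one of its own. -/
theorem IsClassicalSPE.le_of_reach [Finite G] [hp : Fact p.Prime] {H : Subgroup G} (hH : IsClassicalSPE p H)
    {S T : Sylow p G} (h : SylowReach S T) (hS : (S : Subgroup G) ≤ H) : (T : Subgroup G) ≤ H := by
  induction h with
  | refl => exact hS
  | @tail U V _ hl ih =>
    have hD1 : (V : Subgroup G) ⊓ H ≠ ⊥ := fun e => hl.2 (eq_bot_iff.2 (e ▸ le_inf inf_le_right (inf_le_left.trans ih)))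
    have : (V : Subgroup G) ⊓ H = (V : Subgroup G) := by
      refine eq_of_inf_normalizer_le V.2 inf_le_left ?_
      exact fun g hg => ⟨hg.1, hH.normalizer_le (V.2.to_le inf_le_left) hD1 inf_le_right hg.2⟩
    exact this ▸ inf_le_right

theorem exists_classicalSPE_of_not_connected [Finite G] [hp : Fact p.Prime]
    (h : ¬ Cfsg.IsSylowChainConnected p G) : ∃ H : Subgroup G, IsClassicalSPE p H := by
  rw [isSylowChainConnected_iff] at h
  push_neg at h
  obtain ⟨S, T, hST⟩ := h
  obtain ⟨g, hg⟩ := MulAction.exists_smul_eq G S T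
  let H : Subgroup G :=
    { carrier := {g | SylowReach S (g • S)}
      mul_mem' := fun {a b} ha hb => by
        show SylowReach S ((a * b) • S)
        rw [mul_smul]; exact ha.trans (hb.smul a)
      one_mem' := by
        show SylowReach S ((1 : G) • S)
        rw [one_smul]; exact Relation.ReflTransGen.refl
      inv_mem' := fun {a} ha => by
        show SylowReach S (a⁻¹ • S)
        have := (ha.smul a⁻¹).symm
        rwa [inv_smul_smul] at this }
  have hSH : (S : Subgroup G) ≤ H := fun s hs => by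
    show SylowReach S (s • S)
    rw [Sylow.smul_eq_iff_mem_normalizer.2 (Subgroup.le_normalizer hs)]
    exact Relation.ReflTransGen.refl
  have hS1 : (S : Subgroup G) ≠ ⊥ := by
    intro hb
    have : S = T := by
      apply Sylow.ext
      rw [← hg, Sylow.coe_subgroup_smul, hb]
      symm
      rw [eq_bot_iff]
      rintro _ ⟨u, hu, rfl⟩
      simp only [SetLike.mem_coe, Subgroup.mem_bot] at hu ⊢
      subst hu; exact map_one (MulAut.conj g)
    exact hST (this ▸ Relation.ReflTransGen.refl)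
  refine ⟨H, ?_, (S.2.card_eq_or_dvd.resolve_left (mt (Subgroup.eq_bot_of_card_eq _) hS1)).trans
    (Subgroup.card_dvd_of_le hSH), ?_⟩
  · intro htop
    refine hST (hg ▸ ?_)
    exact (htop ▸ Subgroup.mem_top g : g ∈ H)
  · intro a ha hdvd
    apply ha
    obtain ⟨x, hx⟩ := exists_prime_orderOf_dvd_card' p hdvd
    have hxp : ∃ k : ℕ, orderOf (x : G) = p ^ k := ⟨1, by rw [Subgroup.orderOf_coe, hx, pow_one]⟩
    have hx1 : (x : G) ≠ 1 := fun e => by
      rw [← Subgroup.orderOf_coe, e, orderOf_one] at hx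
      exact hp.out.ne_one hx.symm
    have key : ∀ y : G, y ∈ H → (∃ k : ℕ, orderOf y = p ^ k) → ∃ u ∈ H, y ∈ ((u • S : Sylow p G) : Subgroup G) := by
      intro y hy hyp
      obtain ⟨c, hc, R, hR, hRH, hSR, hcR⟩ := exists_conj_common_pGroup (p := p) hSH
        (Subgroup.zpowers_le.2 hy) S.2 (isPGroup_zpowers hyp)
      refine ⟨c⁻¹, H.inv_mem hc, ?_⟩
      rw [S.is_maximal' hR hSR] at hcR
      exact ⟨c * y * c⁻¹, hcR ⟨y, Subgroup.mem_zpowers y, rfl⟩, by simp [mul_assoc]⟩
    obtain ⟨u, hu, hxu⟩ := key (x : G) x.2.1 hxp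
    have hxa : a⁻¹ * (x : G) * a ∈ H := mem_map_conj.1 x.2.2
    obtain ⟨v, hv, hxv⟩ := key (a⁻¹ * (x : G) * a) hxa (by
      obtain ⟨k, hk⟩ := hxp
      refine ⟨k, ?_⟩
      rw [← hk]
      exact (MulAut.conj a⁻¹).orderOf_eq (x : G) ▸ (by simp))
    have hxav : (x : G) ∈ (((a * v) • S : Sylow p G) : Subgroup G) := by
      rw [mul_smul]
      exact ⟨a⁻¹ * (x : G) * a, hxv, by simp [mul_assoc]⟩
    have h1 : SylowReach S ((a * v) • S) :=
      (show SylowReach S (u • S) from hu).trans (sylowReach_of_common hx1 hxu hxav)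
    have h2 : a * v ∈ H := h1
    simpa using H.mul_mem h2 (H.inv_mem hv)

theorem isSylowChainConnected_iff_no_classicalSPE [Finite G] [hp : Fact p.Prime] :
    ¬ Cfsg.IsSylowChainConnected p G ↔ ∃ H : Subgroup G, IsClassicalSPE p H := by
  refine ⟨exists_classicalSPE_of_not_connected, ?_⟩
  rintro ⟨H, hH⟩ hconn
  rw [isSylowChainConnected_iff] at hconn
  obtain ⟨S, hSH, hS1⟩ := hH.exists_sylow_le
  refine hH.1 (eq_top_iff.2 fun g _ => ?_)
  refine hH.mem S.2 hS1 hSH ?_
  have := hH.le_of_reach (hconn S (g • S)) hSH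
  rwa [Sylow.coe_subgroup_smul] at this

end CfsgLib.LocalEven
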