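import Cfsg.Agent.Lib.LocalEven.JCenter
import Cfsg.Agent.Lib.Invol.Embedded
import Cfsg.Agent.S2947

/-!
Preparations for the case of a component over a Sylow 2-subgroup.
-/

set_option autoImplicit false

namespace CfsgLib.LocalEven.JComp

open Subgroup CfsgLib.LocalEven Cfsg
open scoped commutatorElement

variable {G : Type*} [Group G] [Finite G]

/-- An element of order two in a normal subgroup of a 2-group that is central. -/
theorem exists_mem_omega {U N : Subgroup G} (hU : IsPGroup 2 ↥U) (hNU : N ≤ U)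
    (hn : U ≤ normalizer (N : Set G)) (hN : N ≠ ⊥) : ∃ x ∈ N, x ∈ omegaCenterOf U ∧ x ≠ 1 := by
  haveI : Fact (Nat.Prime 2) := ⟨Nat.prime_two⟩
  haveI : (N.subgroupOf U).Normal := Subgroup.normal_subgroupOf_of_le_normalizer hn
  have hne : N.subgroupOf U ≠ ⊥ := by
    intro e
    rw [Subgroup.subgroupOf_eq_bot] at e
    exact hN (le_bot_iff.1 fun z hz => e.le_bot ⟨hz, hNU hz⟩)
  set C := N.subgroupOf U ⊓ center ↥U with hC
  have hC1 : C ≠ ⊥ := CfsgLib.PGroup.inf_center_ne_bot (p := 2) hU _ hne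
  have hC2 : IsPGroup 2 ↥C := hU.to_subgroup C
  obtain ⟨y, hy⟩ := exists_prime_orderOf_dvd_card' (G := ↥C) 2
    (hC2.card_eq_or_dvd.resolve_left (mt (Subgroup.eq_bot_of_card_eq C) hC1))
  have h2 : ((y : ↥U) : G) * ((y : ↥U) : G) = 1 := by
    have h := pow_orderOf_eq_one y
    rw [hy, pow_two] at h
    exact congrArg (fun u : ↥C => ((u : ↥U) : G)) h
  refine ⟨((y : ↥U) : G), y.2.1, mem_omega (y : ↥U).2 (fun u hu => ?_) h2, fun e => ?_⟩
  · exact congrArg Subtype.val (Subgroup.mem_center_iff.1 y.2.2 ⟨u, hu⟩)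
  · have : y = 1 := Subtype.ext (Subtype.ext e)
    rw [this, orderOf_one] at hy
    omega

/-- Conjugation controlled by a Sylow subgroup whose normaliser is inside. -/
theorem mem_of_sylow_conj_le {L : Subgroup G} (P : Sylow 2 G) (hPL : (P : Subgroup G) ≤ L)
    (hN : normalizer ((P : Subgroup G) : Set G) ≤ L) {g : G}
    (h : (P : Subgroup G).map (MulAut.conj g).toMonoidHom ≤ L) : g ∈ L := by
  haveI : Fact (Nat.Prime 2) := ⟨Nat.prime_two⟩
  have hV : ((g • P : Sylow 2 G) : Subgroup G) ≤ L := by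
    rw [Sylow.coe_subgroup_smul, CfsgLib.Solvable.conj_smul_eq_map]
    exact h
  obtain ⟨m, hm⟩ := MulAction.exists_smul_eq ↥L (P.subtype hPL) ((g • P).subtype hV)
  rw [Sylow.smul_subtype] at hm
  have hmP : m • P = g • P := Sylow.subtype_injective hm
  have hn : (m : G)⁻¹ * g ∈ L := hN <| Sylow.smul_eq_iff_mem_normalizer.1 <| by
    rw [mul_smul, ← hmP, Subgroup.smul_def, inv_smul_smul]
  simpa using L.mul_mem m.2 hn

theorem isTwoLocal_conj {N : Subgroup G} (x : G) (hN : IsTwoLocal N) :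
    IsTwoLocal (N.map (MulAut.conj x).toMonoidHom) := by
  obtain ⟨R, hR, hR1, rfl⟩ := hN
  refine ⟨R.map (MulAut.conj x).toMonoidHom, hR.map _, fun e => hR1 ?_,
    Subgroup.map_equiv_normalizer_eq R (MulAut.conj x)⟩
  rwa [Subgroup.map_eq_bot_iff_of_injective _ (MulAut.conj x).injective] at e

theorem exists_maxStraddle {M : Subgroup G} (h : (straddlingTwoSubgroups M).Nonempty) :
    (maxStraddlingTwoSubgroups M).Nonempty := by
  obtain ⟨a, ha, ha'⟩ := Set.exists_max_image _ maxElemAbelianOrder (Set.toFinite _) h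
  set s1 := {X | X ∈ straddlingTwoSubgroups M ∧ maxElemAbelianOrder X = maxElemAbelianOrder a} with hs1
  obtain ⟨b, hb, hb'⟩ := Set.exists_max_image s1 (fun X => Nat.card ↥(thompsonSubgroupOf 2 X))
    (Set.toFinite _) ⟨a, ha, rfl⟩
  set s2 := {X | X ∈ s1 ∧ Nat.card ↥(thompsonSubgroupOf 2 X) = Nat.card ↥(thompsonSubgroupOf 2 b)}
  obtain ⟨c, hc, hc'⟩ := Set.exists_max_image s2 (fun X => Nat.card ↥X) (Set.toFinite _) ⟨b, hb, rfl⟩
  refine ⟨c, hc.1.1, fun X hX => ⟨hc.1.2 ▸ ha' X hX, fun e => ?_⟩⟩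
  have hX1 : X ∈ s1 := ⟨hX, e.trans hc.1.2⟩
  exact ⟨hc.2 ▸ hb' X hX1, fun e' => hc' X ⟨hX1, e'.trans hc.2⟩⟩

theorem straddling_conj {M X : Subgroup G} {m : G} (hm : m ∈ M) (hX : X ∈ straddlingTwoSubgroups M) :
    X.map (MulAut.conj m).toMonoidHom ∈ straddlingTwoSubgroups M := by
  obtain ⟨h1, h2, h3, L, hL, hXL, hLM⟩ := hX
  refine ⟨h1.map _, fun e => h2 ?_, ?_, L.map (MulAut.conj m).toMonoidHom, isTwoLocal_conj m hL,
    Subgroup.map_mono hXL, fun hle => hLM fun x hx => ?_⟩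
  · rwa [Subgroup.map_eq_bot_iff_of_injective _ (MulAut.conj m).injective] at e
  · rintro _ ⟨x, hx, rfl⟩
    exact mul_mem (mul_mem hm (h3 hx)) (inv_mem hm)
  · have h1 : m * x * m⁻¹ ∈ M := hle ⟨x, hx, rfl⟩
    have := mul_mem (mul_mem (inv_mem hm) h1) hm
    simpa [mul_assoc] using this

theorem maxStraddle_conj {M X : Subgroup G} {m : G} (hm : m ∈ M) (hX : X ∈ maxStraddlingTwoSubgroups M) :
    X.map (MulAut.conj m).toMonoidHom ∈ maxStraddlingTwoSubgroups M := by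
  refine ⟨straddling_conj hm hX.1, fun Y hY => ?_⟩
  rw [maxElemAbelianOrder_conj, thompson_conj, card_map_conj, card_map_conj]
  exact hX.2 Y hY

/-- A maximal straddling subgroup inside a given Sylow subgroup. -/
theorem exists_maxStraddle_le {M : Subgroup G} (P : Sylow 2 G) (hPM : (P : Subgroup G) ≤ M)
    (h : (straddlingTwoSubgroups M).Nonempty) :
    ∃ T, T ∈ maxStraddlingTwoSubgroups M ∧ T ≤ (P : Subgroup G) := by
  haveI : Fact (Nat.Prime 2) := ⟨Nat.prime_two⟩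
  obtain ⟨X, hX⟩ := exists_maxStraddle h
  obtain ⟨Q, hQ⟩ := (hX.1.1.comap_subtype (K := M)).exists_le_sylow
  obtain ⟨m, hm⟩ := MulAction.exists_smul_eq ↥M Q (P.subtype hPM)
  refine ⟨X.map (MulAut.conj (m : G)).toMonoidHom, maxStraddle_conj m.2 hX, ?_⟩
  rintro _ ⟨x, hx, rfl⟩
  have h1 : (MulAut.conj m) ⟨x, hX.1.2.2.1 hx⟩ ∈ ((m • Q : Sylow 2 ↥M) : Subgroup ↥M) := by
    rw [Sylow.coe_subgroup_smul, CfsgLib.Solvable.conj_smul_eq_map]
    exact ⟨_, hQ hx, rfl⟩
  rw [hm, Sylow.coe_subtype] at h1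
  exact h1

/-- A 2-local subgroup over `N(J(S))` with a component is not strongly embedded. -/
theorem straddling_nonempty (hG : Amb G) (hO : Cfsg.pCore 2 G = ⊥) (S : Sylow 2 G) {L T K : Subgroup G}
    (hL : IsTwoLocal L) (hJ : normalizer (thompsonSubgroupOf 2 (S : Subgroup G) : Set G) ≤ L)
    (hTL : IsSylowTwoIn T L) (hK : IsJComponent T K) (hKL : K ≤ L) :
    (straddlingTwoSubgroups L).Nonempty := by
  by_contra hne
  have hse := (Cfsg.Agent.S2947.result hG.char hG.solv hG.center hO S L hL hJ).2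
    (Set.not_nonempty_iff_eq_empty.1 hne)
  have hC := constrained_of_twoLocal hG hL
  have hQ := isPGroup_pCoreOf (X := G) 2 L
  have hn := le_normalizer_pCoreOf (X := G) 2 L
  set zL := omegaCenterOf (pCoreOf 2 L) with hzL
  have hzn : L ≤ normalizer (zL : Set G) := hn.trans (Oz.normalizer_le (p := 2) _)
  obtain ⟨z₀, -, hz₀, hz₀1⟩ := exists_mem_omega hQ le_rfl Subgroup.le_normalizer hC.2
  have hz₀L : z₀ ∈ L := pCoreOf_le 2 L (omega_le _ hz₀)
  have hz₀o : orderOf z₀ = 2 := orderOf_eq_prime (by rw [pow_two, omega_sq hz₀]) hz₀1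
  obtain ⟨g, hg⟩ : ∃ g, g ∉ L := by
    by_contra hall
    push Not at hall
    exact hse.1 ((Subgroup.eq_top_iff' L).mpr hall)
  have hall : ∀ t ∈ L, t * t = 1 → t ∈ zL := by
    intro t ht ht2
    by_cases ht1 : t = 1
    · rw [ht1]; exact one_mem _
    obtain ⟨d, hd, hdt⟩ := CfsgLib.Invol.stronglyEmbedded_transitive hse
      ((CfsgLib.Invol.orderOf_conj_eq g z₀).trans hz₀o)
      (fun h => hg (CfsgLib.Invol.stronglyEmbedded_conj_mem hse hz₀L hz₀o h)) hz₀o hz₀L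
      (orderOf_eq_prime (by rw [pow_two, ht2]) ht1) ht
    rw [← hdt]
    exact conj_mem_of_mem_normalizer (hzn hd.1) hz₀
  refine thompson_not_le hK hKL (thompson_le_iff.2 fun A hA a ha => omega_le _ (hall a (hTL.1 (hA.1 ha)) ?_))
  rw [← pow_two]
  exact hA.2.1.2 a ha

/-- A rotation permutes the three involutions cyclically. -/
theorem rot_cycle {W : Subgroup G} (h4 : Nat.card ↥W = 4) (hsq : ∀ x ∈ W, x * x = 1) {d w : G}
    (hd : d ^ 3 = 1) (hdW : d ∈ normalizer (W : Set G)) (hfix : ∀ x ∈ W, d * x * d⁻¹ = x → x = 1)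
    (hw : w ∈ W) (hw1 : w ≠ 1) :
    d * (d * w * d⁻¹) * d⁻¹ = w * (d * w * d⁻¹) ∧ d * (w * (d * w * d⁻¹)) * d⁻¹ = w ∧
      d * w * d⁻¹ ∈ W ∧ d * w * d⁻¹ ≠ 1 ∧ w ≠ d * w * d⁻¹ := by
  set p := d * w * d⁻¹ with hp
  have hpW : p ∈ W := conj_mem_of_mem_normalizer hdW hw
  have hp1 : p ≠ 1 := fun e => hw1 (conj_eq_one_iff.1 e)
  have hwp : w ≠ p := fun e => hw1 (hfix w hw e.symm)
  have h3 : d * (d * p * d⁻¹) * d⁻¹ = w := conj3 hd w
  have h1 : d * p * d⁻¹ = w * p := by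
    rcases four_cases h4 hsq hw hpW hw1 hp1 hwp (conj_mem_of_mem_normalizer hdW hpW) with e | e | e | e
    · exact absurd (conj_eq_one_iff.1 e) hp1
    · rw [e] at h3; exact absurd h3.symm hwp
    · exact absurd (hfix p hpW e) hp1
    · exact e
  exact ⟨h1, by rw [← h1]; exact h3, hpW, hp1, hwp⟩

end CfsgLib.LocalEven.JComp
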