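import Cfsg.Agent.Lib.LocalEven.TransvectionOffender
import Cfsg.Agent.Lib.LocalEven.Kieler
import Cfsg.Agent.Lib.Transfer.Thompson
import Cfsg.Agent.Lib.PGroup.ElemAbelian

/-!
Blocks (transvection with inverted rotation) in a solvable group `X` in which the centraliser of
`V = Ω₁(Z(O₂(X)))` normalises every Sylow 2-subgroup.
-/

set_option autoImplicit false

namespace CfsgLib.LocalEven.JComp

open Subgroup CfsgLib.LocalEven

variable (X : Type*) [Group X]

/-- `Ω₁(Z(O₂(X)))`. -/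
def zq : Subgroup X := Cfsg.omegaOne 2 (Cfsg.pCore 2 X ⊓ centralizer (Cfsg.pCore 2 X : Set X))

instance zq_normal [Finite X] : (zq X).Normal := by
  rw [← Subgroup.normalizer_eq_top_iff, eq_top_iff]
  refine le_trans ?_ (Oz.normalizer_le (p := 2) (Cfsg.pCore 2 X))
  haveI := CfsgLib.Cores.pCore_characteristic (G := X) 2
  rw [Subgroup.normalizer_eq_top]

variable {X}

theorem mem_zq {x : X} :
    x ∈ zq X ↔ x ∈ Cfsg.pCore 2 X ∧ (∀ s ∈ Cfsg.pCore 2 X, s * x = x * s) ∧ x ^ 2 = 1 := Oz.mem_iff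

instance zq_commGroup : CommGroup ↥(zq X) :=
  { (inferInstance : Group ↥(zq X)) with
    mul_comm := fun a b => ((Oz.elemAb (p := 2) (Cfsg.pCore 2 X)).1.is_comm.comm a b) }

theorem zq_sq (u : ↥(zq X)) : u * u = 1 := by
  apply Subtype.ext
  have := (Oz.elemAb (p := 2) (Cfsg.pCore 2 X)).2 (u : X) u.2
  rwa [pow_two] at this

variable [Finite X]

/-- The action on `V`. -/
noncomputable def act : X →* MulAut ↥(zq X) := MulAut.conjNormal

theorem act_apply (x : X) (u : ↥(zq X)) : ((act x u : ↥(zq X)) : X) = x * u * x⁻¹ :=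
  MulAut.conjNormal_apply x u

theorem act_eq_one_iff {x : X} : act x = 1 ↔ x ∈ centralizer (zq X : Set X) := by
  rw [mem_centralizer_iff]
  constructor
  · intro h u hu
    have := congrArg Subtype.val (DFunLike.congr_fun h ⟨u, hu⟩)
    simp only [act_apply, MulAut.one_apply] at this
    exact (mul_inv_eq_iff_eq_mul.1 this).symm
  · intro h
    ext u
    rw [act_apply, MulAut.one_apply, ← h u u.2, mul_inv_cancel_right]

/-- The standing hypothesis. -/
structure Good (X : Type*) [Group X] [Finite X] : Prop where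
  solv : Group.IsSolvable X
  cent : ∀ x ∈ centralizer (zq X : Set X), ∀ P : Sylow 2 X, x ∈ normalizer ((P : Subgroup X) : Set X)

theorem mem_sylow_of_mem_normalizer {P : Sylow 2 X} {x : X} (hx : IsPGroup 2 ↥(zpowers x))
    (hn : x ∈ normalizer ((P : Subgroup X) : Set X)) : x ∈ (P : Subgroup X) := by
  have h := P.3 (hx.to_sup_of_normal_right' P.2 (zpowers_le.2 hn)) le_sup_right
  exact h ▸ mem_sup_left (mem_zpowers x)

theorem mem_pCore_of_forall_sylow {x : X} (h : ∀ P : Sylow 2 X, x ∈ (P : Subgroup X)) :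
    x ∈ Cfsg.pCore 2 X := by
  set D : Subgroup X := ⨅ P : Sylow 2 X, (P : Subgroup X) with hD
  haveI : D.Normal := ⟨fun y hy g => by
    rw [hD, mem_iInf] at hy ⊢
    intro P
    have := hy (g⁻¹ • P)
    rw [Sylow.coe_subgroup_smul, mem_pointwise_smul_iff_inv_smul_mem] at this
    simpa [MulAut.smul_def, mul_assoc] using this⟩
  obtain ⟨P⟩ := (inferInstance : Nonempty (Sylow 2 X))
  exact CfsgLib.Cores.le_pCore (P.2.to_le (iInf_le _ P)) (mem_iInf.2 h : x ∈ D)

theorem isPGroup_zpowers_of_pow {x : X} {k : ℕ} (h : x ^ 2 ^ k = 1) : IsPGroup 2 ↥(zpowers x) := by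
  rintro ⟨g, hg⟩
  obtain ⟨i, rfl⟩ := mem_zpowers_iff.1 hg
  refine ⟨k, Subtype.ext ?_⟩
  show (x ^ i) ^ (2 ^ k) = 1
  rw [← zpow_natCast, zpow_comm, zpow_natCast, h, one_zpow]

theorem exists_pow_of_mem_pCore {x : X} (h : x ∈ Cfsg.pCore 2 X) : ∃ k : ℕ, x ^ 2 ^ k = 1 := by
  obtain ⟨k, hk⟩ := CfsgLib.Cores.isPGroup_pCore 2 ⟨x, h⟩
  exact ⟨k, congrArg Subtype.val hk⟩

/-- The quotient map by `O₂(X)`. -/
noncomputable def proj : X →* X ⧸ Cfsg.pCore 2 X := QuotientGroup.mk' _

omit [Finite X] in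
theorem proj_eq_one_iff {x : X} : proj x = 1 ↔ x ∈ Cfsg.pCore 2 X := QuotientGroup.eq_one_iff x

theorem act_eq_one_of_mem_pCore {q : X} (hq : q ∈ Cfsg.pCore 2 X) : act q = 1 :=
  act_eq_one_iff.2 (mem_centralizer_iff.2 fun u hu => ((mem_zq.1 hu).2.1 q hq).symm)

/-- 2-elements centralising `V` lie in `O₂(X)`. -/
theorem Good.mem_pCore (hX : Good X) {x : X} (hx : act x = 1) {k : ℕ} (hk : x ^ 2 ^ k = 1) :
    x ∈ Cfsg.pCore 2 X :=
  mem_pCore_of_forall_sylow fun P =>
    mem_sylow_of_mem_normalizer (isPGroup_zpowers_of_pow hk) (hX.cent x (act_eq_one_iff.1 hx) P)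

/-- 2-elements centralise `C(V)` modulo `O₂(X)`. -/
theorem Good.proj_commute (hX : Good X) {r x : X} (hr : act r = 1) {k : ℕ} (hk : x ^ 2 ^ k = 1) :
    proj x * proj r = proj r * proj x := by
  obtain ⟨P, hP⟩ := (isPGroup_zpowers_of_pow hk).exists_le_sylow
  have hxP : x ∈ (P : Subgroup X) := hP (mem_zpowers x)
  have h1 : r * x * r⁻¹ * x⁻¹ ∈ (P : Subgroup X) :=
    mul_mem (conj_mem_of_mem_normalizer (hX.cent r (act_eq_one_iff.1 hr) P) hxP) (inv_mem hxP)
  have h2 : act (r * x * r⁻¹ * x⁻¹) = 1 := by simp [map_mul, hr]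
  obtain ⟨j, hj⟩ := P.2 ⟨_, h1⟩
  have h3 := proj_eq_one_iff.2 (hX.mem_pCore h2 (k := j) (congrArg Subtype.val hj))
  simp only [map_mul, map_inv, mul_inv_eq_one] at h3
  exact (mul_inv_eq_iff_eq_mul.1 h3).symm

theorem Good.proj_eq_one_of_sq (hX : Good X) {z : X} (hz : act z = 1)
    (h2 : proj z * proj z = 1) : proj z = 1 := by
  rw [← map_mul, proj_eq_one_iff] at h2
  obtain ⟨k, hk⟩ := exists_pow_of_mem_pCore h2
  rw [proj_eq_one_iff]
  exact hX.mem_pCore hz (k := k + 1) (by rw [pow_succ', pow_mul, pow_two, hk])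

theorem Good.proj_eq_one_of_inverted (hX : Good X) {x z : X} (hx : x * x = 1) (hz : act z = 1)
    (h : proj x * proj z * proj x = (proj z)⁻¹) : proj z = 1 := by
  refine hX.proj_eq_one_of_sq hz ?_
  rw [hX.proj_commute hz (k := 1) (by rw [pow_one, pow_two, hx]), mul_assoc, ← map_mul, hx, map_one,
    mul_one] at h
  nth_rewrite 2 [h]
  rw [mul_inv_cancel]

/-- An involution is determined modulo `O₂(X)` by its action on `V`. -/
theorem Good.proj_eq_of_act_eq (hX : Good X) {x y : X} (hx : x * x = 1) (hy : y * y = 1)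
    (h : act x = act y) : proj x = proj y := by
  have hz : act (x * y) = 1 := by rw [map_mul, ← h, ← map_mul, hx, map_one]
  have h1 : proj (x * y) = 1 := by
    refine hX.proj_eq_one_of_inverted hx hz ?_
    rw [← map_inv, ← map_mul, ← map_mul]
    congr 1
    rw [mul_inv_rev, inv_eq_of_mul_eq_one_right hx, inv_eq_of_mul_eq_one_right hy, ← mul_assoc x x, hx,
      one_mul]
  rw [map_mul] at h1
  have : (proj y : X ⧸ Cfsg.pCore 2 X)⁻¹ = proj y := by
    rw [← map_inv, inv_eq_of_mul_eq_one_right hy]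
  rw [eq_inv_of_mul_eq_one_left h1, this]

/-- The automorphism group induced on `V`. -/
noncomputable abbrev actGroup (X : Type*) [Group X] [Finite X] : Subgroup (MulAut ↥(zq X)) :=
  (act (X := X)).range

theorem Good.solvable_actGroup (hX : Good X) : Group.IsSolvable ↥(actGroup X) := by
  haveI := hX.solv
  exact Group.isSolvable_of_surjective (act (X := X)).rangeRestrict_surjective

theorem Good.pCore_actGroup (hX : Good X) : Cfsg.pCore 2 ↥(actGroup X) = ⊥ := by
  haveI : Fact (Nat.Prime 2) := ⟨Nat.prime_two⟩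
  rw [eq_bot_iff]
  intro h hh
  obtain ⟨g, hg⟩ := (act (X := X)).rangeRestrict_surjective h
  obtain ⟨k, hk⟩ := CfsgLib.Cores.isPGroup_pCore 2 ⟨h, hh⟩
  -- a 2-element lift
  obtain ⟨m, hm, hodd⟩ : ∃ m, orderOf g = 2 ^ (orderOf g).factorization 2 * m ∧ Odd m :=
    ⟨_, (Nat.ordProj_mul_ordCompl_eq_self (orderOf g) 2).symm,
      Nat.not_even_iff_odd.1 fun he => Nat.not_dvd_ordCompl Nat.prime_two (orderOf_pos g).ne'
        (even_iff_two_dvd.1 he)⟩
  set e := (orderOf g).factorization 2 with he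
  set x := g ^ m with hxdef
  have hx2 : x ^ 2 ^ e = 1 := by
    rw [hxdef, ← pow_mul, mul_comm, ← hm, pow_orderOf_eq_one]
  have hxh : (act (X := X)).rangeRestrict x = h ^ m := by rw [hxdef, map_pow, hg]
  have hxQ : x ∈ Cfsg.pCore 2 X := mem_pCore_of_forall_sylow fun P => by
    set P' := P.mapSurjective (act (X := X)).rangeRestrict_surjective with hP'
    have h1 : (act (X := X)).rangeRestrict x ∈ (P' : Subgroup ↥(actGroup X)) := by
      rw [hxh]
      exact pow_mem (CfsgLib.Cores.pCore_le_sylow P' hh) m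
    have hco : (P' : Subgroup ↥(actGroup X)) = (P : Subgroup X).map (act (X := X)).rangeRestrict := rfl
    rw [hco] at h1
    obtain ⟨t, ht, htx⟩ := h1
    have hc : act (t⁻¹ * x) = 1 := by
      have := congrArg Subtype.val htx
      simp only [MonoidHom.coe_rangeRestrict] at this
      rw [map_mul, map_inv, this, inv_mul_cancel]
    refine mem_sylow_of_mem_normalizer (isPGroup_zpowers_of_pow hx2) ?_
    have := mul_mem (Subgroup.le_normalizer ht) (hX.cent _ (act_eq_one_iff.1 hc) P)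
    rwa [mul_inv_cancel_left] at this
  have hhm : h ^ m = 1 := by
    rw [← hxh]
    exact Subtype.ext (act_eq_one_of_mem_pCore hxQ)
  have h2 : h ^ 2 ^ k = 1 := congrArg Subtype.val hk
  rw [mem_bot, ← orderOf_eq_one_iff]
  exact Nat.eq_one_of_dvd_coprimes ((Nat.coprime_two_left.2 hodd).pow_left k)
    (orderOf_dvd_of_pow_eq_one h2) (orderOf_dvd_of_pow_eq_one hhm)

/-- A block: an involution inducing a transvection, with an inverted element of order 3 inducing a rotation. -/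
structure IsBlock (a d : X) : Prop where
  sq : a * a = 1
  cube : d ^ 3 = 1
  inv : a * d * a = d⁻¹
  trv : Trv.IsTrv (act a)
  rot : Trv.IsRot (act d)
  le : (Trv.mv (act a)).range ≤ (Trv.mv (act d)).range
  core : ∃ h : act d ∈ actGroup X, (⟨act d, h⟩ : ↥(actGroup X)) ∈ Cfsg.pCore 3 ↥(actGroup X)

/-- `[V, x]` inside `X`. -/
noncomputable def rng (x : X) : Subgroup ↥(zq X) := (Trv.mv (act x)).range

theorem exists_block (hX : Good X) {a : X} (ha : a * a = 1) (ht : Trv.IsTrv (act a)) :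
    ∃ d, IsBlock a d := by
  haveI := hX.solvable_actGroup
  obtain ⟨d₁, hd₁, hrot, hcore, hinv, hle⟩ :=
    Trv.exists_rot zq_sq hX.pCore_actGroup (a := act a) ⟨a, rfl⟩ ht
  have hd₁' := hd₁
  obtain ⟨g, hg⟩ := hd₁
  -- replace `g` by an element inverted by `a`
  set e := g * (a * g⁻¹ * a) with he
  have hae : act e = d₁ * d₁ := by
    simp only [e, map_mul, map_inv, hg]
    congr 1
    calc act a * d₁⁻¹ * act a = act a * (act a * d₁ * act a) * act a := by rw [hinv]
      _ = (act a * act a) * d₁ * (act a * act a) := by group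
      _ = d₁ := by rw [ht.1, one_mul, mul_one]
  have heinv : a * e * a = e⁻¹ := by
    have : a⁻¹ = a := inv_eq_of_mul_eq_one_right ha
    simp only [e, mul_inv_rev, inv_inv, this]
    calc a * (g * (a * g⁻¹ * a)) * a = a * g * a * g⁻¹ * (a * a) := by group
      _ = a * g * a * g⁻¹ := by rw [ha, mul_one]
      _ = a * (g * a) * g⁻¹ := by group
  have hai : a⁻¹ = a := inv_eq_of_mul_eq_one_right ha
  have hpow : ∀ n : ℕ, a * e ^ n * a = (e ^ n)⁻¹ := by
    intro n
    calc a * e ^ n * a = a * e ^ n * a⁻¹ := by rw [hai]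
      _ = (a * e * a⁻¹) ^ n := conj_pow.symm
      _ = (e ^ n)⁻¹ := by rw [hai, heinv, inv_pow]
  have he3 : act (e ^ 3) = 1 := by
    rw [map_pow, hae, ← pow_two, ← pow_mul, mul_comm 2 3, pow_mul, hrot.1, one_pow]
  have hp : proj (e ^ 3) = 1 := by
    refine hX.proj_eq_one_of_inverted ha he3 ?_
    rw [← map_inv, ← map_mul, ← map_mul, hpow]
  obtain ⟨k, hk⟩ := exists_pow_of_mem_pCore (proj_eq_one_iff.1 hp)
  set d := e ^ (2 ^ (2 * k + 1)) with hd
  have hmod : ∀ j : ℕ, 2 ^ (2 * j + 1) % 3 = 2 := by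
    intro j
    induction j with
    | zero => rfl
    | succ j ih =>
      rw [show 2 * (j + 1) + 1 = (2 * j + 1) + 2 by ring, pow_add, Nat.mul_mod, ih]; rfl
  have had : act d = d₁ := by
    rw [hd, map_pow, hae, ← pow_two, ← pow_mul]
    have h3 : (2 * 2 ^ (2 * k + 1)) % 3 = 1 := by rw [Nat.mul_mod, hmod]
    rw [← Nat.div_add_mod (2 * 2 ^ (2 * k + 1)) 3, h3, pow_add, pow_mul, hrot.1, one_pow, one_mul, pow_one]
  refine ⟨d, ha, ?_, hpow _, ht, had ▸ hrot, had ▸ hle, ?_⟩
  · rw [hd, ← pow_mul, show 2 ^ (2 * k + 1) * 3 = 3 * 2 ^ k * 2 ^ (k + 1) by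
      rw [show 2 * k + 1 = k + (k + 1) by ring, pow_add]; ring, pow_mul, pow_mul, hk, one_pow]
  · rw [had]
    exact ⟨hd₁', hcore⟩

end CfsgLib.LocalEven.JComp
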