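import Cfsg.Agent.Lib.LocalEven.JBlockAbstract

/-!
Blocks commute modulo `O₂(X)`.
-/

set_option autoImplicit false

namespace CfsgLib.LocalEven.Trv

open Subgroup

variable {U : Type*} [CommGroup U]

theorem apply_of_mem_range (hU : ∀ u : U, u * u = 1) {x : MulAut U} (hx : x * x = 1) {w : U}
    (hw : w ∈ (mv x).range) : x w = w := by
  obtain ⟨v, rfl⟩ := hw
  rw [mv_apply, map_mul, show x (x v) = (x * x) v from rfl, hx, MulAut.one_apply, mul_comm]

theorem fixed_of_rot_fixed (hU : ∀ u : U, u * u = 1) {a D : MulAut U} (hinv : a * D * a = D⁻¹)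
    (haa : a * a = 1) (hle : (mv a).range ≤ (mv D).range) (hD : IsRot D) {v : U} (hv : D v = v) : a v = v := by
  rw [← mv_eq_one_iff hU]
  refine hD.eq_one_of_fixed hU (hle ⟨v, rfl⟩) ?_
  have h1 : D * a = a * D⁻¹ := by
    rw [← hinv, ← mul_assoc, ← mul_assoc, haa, one_mul]
  have h2 : D (a v) = a v := by
    rw [show D (a v) = (D * a) v from rfl, h1, MulAut.mul_apply]
    congr 1
    conv_lhs => rw [← hv]
    exact MulAut.inv_apply_self U D v
  rw [mv_apply, map_mul, h2, hv]

theorem rot_range_le_fixed [Finite U] (hU : ∀ u : U, u * u = 1) {x y : MulAut U} (hx : IsRot x) (hy : IsRot y)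
    (h : x * y = y * x) (hne : (mv x).range ≠ (mv y).range) : (mv y).range ≤ (mv x).ker := fun w hw => by
  rw [MonoidHom.mem_ker, mv_eq_one_iff hU]
  exact hx.apply_eq_of_commute hU hy h hne w hw

/-- Two involutions whose commutator spaces are fixed by each other commute. -/
theorem commute_of_fix (hU : ∀ u : U, u * u = 1) {x y : MulAut U}
    (h1 : ∀ w ∈ (mv y).range, x w = w) (h2 : ∀ w ∈ (mv x).range, y w = w) : x * y = y * x := by
  ext v
  show x (y v) = y (x v)
  rw [apply_eq hU y v, map_mul, h1 _ ⟨v, rfl⟩, apply_eq hU x v, map_mul, h2 _ ⟨v, rfl⟩, apply_eq hU y v]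
  ac_rfl

/-- A transvection inverting a rotation is determined by its centre. -/
theorem trv_unique [Finite U] (hU : ∀ u : U, u * u = 1) {x y : MulAut U} (hx : IsTrv x) (hy : IsTrv y)
    {D : MulAut U} (hD : IsRot D) (hr : (mv x).range = (mv y).range) (hle : (mv x).range ≤ (mv D).range)
    (hfx : ∀ v, D v = v → x v = v) (hfy : ∀ v, D v = v → y v = v) : x = y := by
  set K0 : Subgroup U := (mv D).ker ⊔ (mv x).range with hK0
  have hkx : K0 ≤ (mv x).ker := sup_le
    (fun v hv => (mv_eq_one_iff hU _ _).2 (hfx v ((mv_eq_one_iff hU _ _).1 hv)))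
    (fun v hv => (mv_eq_one_iff hU _ _).2 (apply_of_mem_range hU hx.1 hv))
  have hky : K0 ≤ (mv y).ker := sup_le
    (fun v hv => (mv_eq_one_iff hU _ _).2 (hfy v ((mv_eq_one_iff hU _ _).1 hv)))
    (fun v hv => (mv_eq_one_iff hU _ _).2 (apply_of_mem_range hU hy.1 (hr ▸ hv)))
  have hinj : Function.Injective (fun p : ↥(mv D).ker × ↥(mv x).range => (⟨(p.1 : U) * p.2,
      Subgroup.mul_mem_sup p.1.2 p.2.2⟩ : ↥K0)) := by
    intro p q hpq
    have h : (p.1 : U) * p.2 = q.1 * q.2 := congrArg Subtype.val hpq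
    have h1 : (p.2 : U) * q.2 = 1 := by
      refine hD.eq_one_of_fixed hU (hle (mul_mem p.2.2 q.2.2)) ?_
      have h2 : (p.2 : U) * q.2 = p.1 * q.1 := by
        calc (p.2 : U) * q.2 = p.1 * (p.1 * p.2) * q.2 := by rw [mul_left_self hU]
          _ = p.1 * (q.1 * q.2) * q.2 := by rw [h]
          _ = p.1 * q.1 := by rw [mul_assoc, mul_right_self hU]
      rw [h2, ← mv_eq_one_iff hU, map_mul, MonoidHom.mem_ker.1 p.1.2, MonoidHom.mem_ker.1 q.1.2, one_mul]
    have h3 : (p.2 : U) = q.2 := by rw [← mul_right_self hU (p.2 : U) q.2, h1, one_mul]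
    rw [h3] at h
    exact Prod.ext (Subtype.ext (mul_right_cancel h)) (Subtype.ext h3)
  have h4 := Nat.card_le_card_of_injective _ hinj
  rw [Nat.card_prod] at h4
  have e1 := card_range_mul x
  have e2 := card_range_mul y
  have e3 := card_range_mul D
  rw [hx.2] at e1 h4
  rw [hy.2] at e2
  rw [hD.2] at e3
  have hk1 : K0 = (mv x).ker := Subgroup.eq_of_le_of_card_ge hkx (by omega)
  have hk2 : K0 = (mv y).ker := Subgroup.eq_of_le_of_card_ge hky (by omega)
  ext v
  rw [apply_eq hU x v, apply_eq hU y v]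
  congr 1
  by_cases hv : v ∈ K0
  · rw [MonoidHom.mem_ker.1 (hk1 ▸ hv), MonoidHom.mem_ker.1 (hk2 ▸ hv)]
  · have n1 : mv x v ≠ 1 := fun e => hv (hk1 ▸ e)
    have n2 : mv y v ≠ 1 := fun e => hv (hk2 ▸ e)
    by_contra hne
    have h5 := length_le_card (S := (mv x).range) [1, mv x v, mv y v]
      (by simp [List.nodup_cons, Ne.symm n1, Ne.symm n2, hne])
      (by
        simp only [List.mem_cons, List.not_mem_nil, or_false]
        rintro z (rfl | rfl | rfl)
        exacts [one_mem _, ⟨v, rfl⟩, hr ▸ ⟨v, rfl⟩])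
    rw [hx.2] at h5
    simp only [List.length_cons, List.length_nil] at h5
    omega

end CfsgLib.LocalEven.Trv

namespace CfsgLib.LocalEven.JComp

open Subgroup CfsgLib.LocalEven

variable {X : Type*} [Group X] [Finite X]

theorem IsBlock.act_inv {a d : X} (h : IsBlock a d) : act a * act d * act a = (act d)⁻¹ := by
  rw [← map_mul, ← map_mul, h.inv, map_inv]

theorem IsBlock.act_sq {a d : X} (h : IsBlock a d) : act a * act a = 1 := h.trv.1

theorem IsBlock.conj {a d : X} (h : IsBlock a d) (g : X) : IsBlock (g * a * g⁻¹) (g * d * g⁻¹) := by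
  have hai : (g * a * g⁻¹) = MulAut.conj g a := rfl
  refine ⟨?_, ?_, ?_, ⟨?_, ?_⟩, ?_, ?_, ?_⟩
  · rw [hai, ← map_mul, h.sq, map_one]
  · rw [conj_pow, h.cube, mul_one, mul_inv_cancel]
  · calc g * a * g⁻¹ * (g * d * g⁻¹) * (g * a * g⁻¹) = g * (a * d * a) * g⁻¹ := by group
      _ = (g * d * g⁻¹)⁻¹ := by rw [h.inv]; group
  · rw [← map_mul, hai, ← map_mul, h.sq, map_one, map_one]
  · rw [map_mul, map_mul, map_inv, Trv.range_conj]
    exact (Subgroup.card_map_of_injective (K := (Trv.mv (act a)).range) (f := (act g).toMonoidHom)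
      (act g).injective).trans h.trv.2
  · rw [map_mul, map_mul, map_inv]; exact h.rot.conj _
  · rw [map_mul, map_mul, map_inv, map_mul, map_mul, map_inv, Trv.range_conj, Trv.range_conj]
    exact Subgroup.map_mono h.le
  · obtain ⟨hd, hc⟩ := h.core
    refine ⟨⟨_, rfl⟩, ?_⟩
    haveI := CfsgLib.Cores.pCore_characteristic (G := ↥(actGroup X)) 3
    have := Subgroup.Normal.conj_mem (inferInstance : (Cfsg.pCore 3 ↥(actGroup X)).Normal) _ hc ⟨act g, ⟨g, rfl⟩⟩
    convert this using 1
    exact Subtype.ext (by simp)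

theorem IsBlock.shift {a d : X} (h : IsBlock a d) (j : ℕ) : IsBlock (d ^ j * a * (d ^ j)⁻¹) d := by
  have := h.conj (d ^ j)
  rwa [(Commute.pow_self d j).eq, mul_inv_cancel_right] at this

theorem IsBlock.mul_eq {a d : X} (h : IsBlock a d) : d ^ 2 * a * (d ^ 2)⁻¹ = d * a := by
  have hai : a⁻¹ = a := inv_eq_of_mul_eq_one_right h.sq
  have h1 : (d ^ 2)⁻¹ = d := inv_eq_of_mul_eq_one_right (by rw [← pow_succ, h.cube])
  rw [h1]
  have h2 : a * d = d⁻¹ * a := by rw [← h.inv, mul_assoc, h.sq, mul_one]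
  rw [mul_assoc, h2, ← mul_assoc, pow_two, mul_inv_cancel_right]

theorem Good.proj_commute_rot (hX : Good X) {a d r : X} (h : IsBlock a d) (hr : act r = 1) :
    proj d * proj r = proj r * proj d := by
  have h2 : d = (d ^ 2 * a * (d ^ 2)⁻¹) * a := by rw [h.mul_eq, mul_assoc, h.sq, mul_one]
  rw [h2, map_mul, mul_assoc, hX.proj_commute hr (k := 1) (x := a) (by rw [pow_one, pow_two, h.sq]),
    ← mul_assoc, hX.proj_commute hr (k := 1) (x := d ^ 2 * a * (d ^ 2)⁻¹)
      (by rw [pow_one, pow_two, (h.shift 2).sq]), mul_assoc]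

/-- The 3-group holding all rotations of blocks. -/
noncomputable def rotCore (X : Type*) [Group X] [Finite X] : Subgroup (MulAut ↥(zq X)) :=
  (Cfsg.pCore 3 ↥(actGroup X)).map (actGroup X).subtype

theorem isPGroup_rotCore : IsPGroup 3 ↥(rotCore X) := (CfsgLib.Cores.isPGroup_pCore 3).map _

theorem odd_rotCore : Odd (Nat.card ↥(rotCore X)) := by
  haveI : Fact (Nat.Prime 3) := ⟨Nat.prime_three⟩
  obtain ⟨k, hk⟩ := IsPGroup.iff_card.1 (isPGroup_rotCore (X := X))
  rw [hk]
  exact Odd.pow (by decide)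

theorem IsBlock.mem_rotCore {a d : X} (h : IsBlock a d) : act d ∈ rotCore X := by
  obtain ⟨hd, hc⟩ := h.core
  exact ⟨_, hc, rfl⟩

theorem IsBlock.act_commute {a d a' d' : X} (h : IsBlock a d) (h' : IsBlock a' d') :
    act d * act d' = act d' * act d :=
  Trv.IsRot.commute zq_sq isPGroup_rotCore h.rot h'.rot h.mem_rotCore h'.mem_rotCore

theorem Good.exists_shift (hX : Good X) {a d a' d' : X} (h : IsBlock a d) (h' : IsBlock a' d')
    (hr : rng d = rng d') : ∃ j : ℕ, act (d ^ j * a * (d ^ j)⁻¹) = act a' ∧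
      proj (d ^ j * a * (d ^ j)⁻¹) = proj a' := by
  obtain ⟨u, hu, hu1⟩ : ∃ u ∈ (Trv.mv (act a)).range, u ≠ 1 := by
    by_contra hcon
    push Not at hcon
    have := h.trv.2
    rw [(eq_bot_iff.2 fun w hw => by simpa using hcon w hw : (Trv.mv (act a)).range = ⊥),
      Subgroup.card_bot] at this
    omega
  obtain ⟨u', hu', hu'1⟩ : ∃ u ∈ (Trv.mv (act a')).range, u ≠ 1 := by
    by_contra hcon
    push Not at hcon
    have := h'.trv.2
    rw [(eq_bot_iff.2 fun w hw => by simpa using hcon w hw : (Trv.mv (act a')).range = ⊥),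
      Subgroup.card_bot] at this
    omega
  have hu'W : u' ∈ (Trv.mv (act d)).range := by
    have := h'.le hu'
    rwa [show (Trv.mv (act d')).range = (Trv.mv (act d)).range from hr.symm] at this
  have hj : ∃ j : ℕ, (act d ^ j) u = u' := by
    rcases h.rot.mem_cases zq_sq (h.le hu) hu1 hu'W with e | e | e | e
    · exact absurd e hu'1
    · exact ⟨0, by rw [pow_zero, MulAut.one_apply, e]⟩
    · exact ⟨1, by rw [pow_one, e]⟩
    · exact ⟨2, by rw [pow_two, MulAut.mul_apply, e]⟩
  obtain ⟨j, hj⟩ := hj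
  set b := d ^ j * a * (d ^ j)⁻¹ with hb
  have hB : IsBlock b d := h.shift j
  have hrange : (Trv.mv (act b)).range = (Trv.mv (act a')).range := by
    have hub : u' ∈ (Trv.mv (act b)).range := by
      rw [hb, map_mul, map_mul, map_inv, Trv.range_conj]
      refine ⟨u, hu, ?_⟩
      show (act (d ^ j)) u = u'
      rw [map_pow, hj]
    have hgen : ∀ (S : Subgroup ↥(zq X)), Nat.card ↥S = 2 → u' ∈ S → S = zpowers u' := fun S hS hmem =>
      (Subgroup.eq_of_le_of_card_ge (zpowers_le.2 hmem) (by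
        rw [hS, Nat.card_zpowers, orderOf_eq_prime (p := 2) (by rw [pow_two, zq_sq]) hu'1])).symm
    rw [hgen _ hB.trv.2 hub, hgen _ h'.trv.2 hu']
  have hzp : act d ∈ zpowers (act d') :=
    Trv.IsRot.mem_zpowers_of_range_eq zq_sq odd_rotCore h'.rot h.rot h'.mem_rotCore h.mem_rotCore hr.symm
  have hzp' : act d' ∈ zpowers (act d) :=
    Trv.IsRot.mem_zpowers_of_range_eq zq_sq odd_rotCore h.rot h'.rot h.mem_rotCore h'.mem_rotCore hr
  have hact : act b = act a' := Trv.trv_unique zq_sq hB.trv h'.trv h.rot hrange hB.le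
    (fun v hv => Trv.fixed_of_rot_fixed zq_sq hB.act_inv hB.act_sq hB.le hB.rot hv)
    (fun v hv => Trv.fixed_of_rot_fixed zq_sq h'.act_inv h'.act_sq h'.le h'.rot (by
      obtain ⟨i, hi⟩ := mem_zpowers_iff.1 hzp'
      have hst : act d ∈ MulAction.stabilizer (MulAut ↥(zq X)) v := hv
      rw [← hi]
      exact zpow_mem hst i))
  exact ⟨j, hact, hX.proj_eq_of_act_eq hB.sq h'.sq hact⟩

/-- A rotation is determined modulo `O₂(X)` by its four-group. -/
theorem Good.proj_mem_zpowers (hX : Good X) {a d a' d' : X} (h : IsBlock a d) (h' : IsBlock a' d')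
    (hr : rng d = rng d') : proj d' ∈ zpowers (proj d) := by
  obtain ⟨j, -, hpa⟩ := hX.exists_shift h h' hr
  set b := d ^ j * a * (d ^ j)⁻¹ with hb
  have hB : IsBlock b d := h.shift j
  obtain ⟨i, hi⟩ := mem_zpowers_iff.1
    (Trv.IsRot.mem_zpowers_of_range_eq zq_sq odd_rotCore h.rot h'.rot h.mem_rotCore h'.mem_rotCore hr)
  set z := (d ^ i)⁻¹ * d' with hz
  have hz1 : act z = 1 := by rw [hz, map_mul, map_inv, map_zpow, hi, inv_mul_cancel]
  have hpz : proj z = 1 := by
    refine hX.proj_eq_one_of_inverted hB.sq hz1 ?_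
    rw [hz, map_mul, map_inv]
    have e1 : proj b * proj d' * proj b = (proj d')⁻¹ := by
      rw [hpa, ← map_mul, ← map_mul, h'.inv, map_inv]
    have e2 : proj b * (proj (d ^ i))⁻¹ * proj b = proj (d ^ i) := by
      rw [← map_inv, ← map_mul, ← map_mul, ← zpow_neg]
      congr 1
      calc b * d ^ (-i) * b = (b * d * b⁻¹) ^ (-i) := by rw [conj_zpow, inv_eq_of_mul_eq_one_right hB.sq]
        _ = d ^ i := by rw [inv_eq_of_mul_eq_one_right hB.sq, hB.inv, inv_zpow', neg_neg]
    have hbb : proj b * proj b = 1 := by rw [← map_mul, hB.sq, map_one]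
    calc proj b * ((proj (d ^ i))⁻¹ * proj d') * proj b
        = (proj b * (proj (d ^ i))⁻¹ * proj b) * (proj b * proj d' * proj b) := by
          simp only [mul_assoc]
          rw [← mul_assoc (proj b) (proj b), hbb, one_mul]
      _ = proj (d ^ i) * (proj d')⁻¹ := by rw [e1, e2]
      _ = ((proj (d ^ i))⁻¹ * proj d')⁻¹ := by
        have hc : proj z * proj d = proj d * proj z := (hX.proj_commute_rot h hz1).symm
        have hc' : Commute (proj z) (proj (d ^ i)) := by rw [map_zpow]; exact (show Commute _ _ from hc).zpow_right i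
        have hd' : proj d' = proj (d ^ i) * proj z := by rw [hz, map_mul, map_inv, mul_inv_cancel_left]
        rw [hd', inv_mul_cancel_left, mul_inv_rev, ← mul_assoc, ← hc'.inv_left.eq, mul_inv_cancel_right]
  rw [hz, map_mul, map_inv, inv_mul_eq_one] at hpz
  rw [← hpz, map_zpow]
  exact zpow_mem (mem_zpowers _) i

theorem Good.proj_commute_trv (hX : Good X) {a d x : X} (h : IsBlock a d) (hx : Trv.IsRot (act x))
    (hxc : act x ∈ rotCore X) (hr : rng d ≠ rng x) : proj a * proj x = proj x * proj a := by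
  have hcr : act d * act x = act x * act d :=
    Trv.IsRot.commute zq_sq isPGroup_rotCore h.rot hx h.mem_rotCore hxc
  have hker := Trv.rot_range_le_fixed zq_sq h.rot hx hcr hr
  have hker' := Trv.rot_range_le_fixed zq_sq hx h.rot hcr.symm (Ne.symm hr)
  have hc : act a * act x = act x * act a := Trv.commute_of_fix zq_sq
    (fun w hw => Trv.fixed_of_rot_fixed zq_sq h.act_inv h.act_sq h.le h.rot
      ((Trv.mv_eq_one_iff zq_sq _ _).1 (hker hw)))
    (fun w hw => (Trv.mv_eq_one_iff zq_sq _ _).1 (hker' (h.le hw)))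
  set z := a * x * a * x⁻¹ with hz
  have hz1 : act z = 1 := by
    rw [hz, map_mul, map_mul, map_mul, map_inv, hc, mul_assoc (act x), h.act_sq, mul_one, mul_inv_cancel]
  have hai : a⁻¹ = a := inv_eq_of_mul_eq_one_right h.sq
  have h1 := hX.proj_eq_one_of_inverted h.sq hz1 (by
    rw [← map_inv, ← map_mul, ← map_mul]
    congr 1
    rw [hz]
    simp only [mul_inv_rev, inv_inv, hai]
    calc a * (a * x * a * x⁻¹) * a = a * a * (x * a * x⁻¹ * a) := by group
      _ = x * a * x⁻¹ * a := by rw [h.sq, one_mul]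
      _ = _ := by group)
  rw [hz, map_mul, map_inv, mul_inv_eq_one, map_mul, map_mul] at h1
  have haa : proj a * proj a = 1 := by rw [← map_mul, h.sq, map_one]
  conv_lhs => rw [← mul_one (proj a * proj x), ← haa, ← mul_assoc, h1]

theorem Good.proj_commute_trv_rot (hX : Good X) {a d a' d' : X} (h : IsBlock a d) (h' : IsBlock a' d')
    (hr : rng d ≠ rng d') : proj a * proj d' = proj d' * proj a :=
  hX.proj_commute_trv h h'.rot h'.mem_rotCore hr

theorem Good.proj_commute_rot_rot (hX : Good X) {a d a' d' : X} (h : IsBlock a d) (h' : IsBlock a' d') :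
    proj d * proj d' = proj d' * proj d := by
  by_cases hr : rng d = rng d'
  · obtain ⟨i, hi⟩ := mem_zpowers_iff.1 (hX.proj_mem_zpowers h h' hr)
    rw [← hi]
    exact (Commute.self_zpow (proj d) i).eq
  · have h2 : d = (d ^ 2 * a * (d ^ 2)⁻¹) * a := by rw [h.mul_eq, mul_assoc, h.sq, mul_one]
    rw [h2, map_mul, mul_assoc, hX.proj_commute_trv_rot h h' hr, ← mul_assoc,
      hX.proj_commute_trv_rot (h.shift 2) h' hr, mul_assoc]

theorem Good.proj_commute_trv_trv (hX : Good X) {a d a' d' : X} (h : IsBlock a d) (h' : IsBlock a' d')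
    (hr : rng d ≠ rng d') : proj a * proj a' = proj a' * proj a := by
  have hker := Trv.rot_range_le_fixed zq_sq h.rot h'.rot (h.act_commute h') hr
  have hker' := Trv.rot_range_le_fixed zq_sq h'.rot h.rot (h'.act_commute h) (Ne.symm hr)
  have hc : act a * act a' = act a' * act a := Trv.commute_of_fix zq_sq
    (fun w hw => Trv.fixed_of_rot_fixed zq_sq h.act_inv h.act_sq h.le h.rot
      ((Trv.mv_eq_one_iff zq_sq _ _).1 (hker (h'.le hw))))
    (fun w hw => Trv.fixed_of_rot_fixed zq_sq h'.act_inv h'.act_sq h'.le h'.rot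
      ((Trv.mv_eq_one_iff zq_sq _ _).1 (hker' (h.le hw))))
  set z := a * a' * a * a' with hz
  have hz1 : act z = 1 := by
    rw [hz, map_mul, map_mul, map_mul, hc, mul_assoc (act a'), h.act_sq, mul_one, h'.act_sq]
  have hai : a⁻¹ = a := inv_eq_of_mul_eq_one_right h.sq
  have hai' : a'⁻¹ = a' := inv_eq_of_mul_eq_one_right h'.sq
  have h1 := hX.proj_eq_one_of_inverted h.sq hz1 (by
    rw [← map_inv, ← map_mul, ← map_mul]
    congr 1
    rw [hz]
    simp only [mul_inv_rev, hai, hai']
    calc a * (a * a' * a * a') * a = a * a * (a' * a * a' * a) := by group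
      _ = a' * a * a' * a := by rw [h.sq, one_mul]
      _ = _ := by group)
  rw [hz, map_mul, map_mul, map_mul] at h1
  have haa : proj a * proj a = 1 := by rw [← map_mul, h.sq, map_one]
  have haa' : proj a' * proj a' = 1 := by rw [← map_mul, h'.sq, map_one]
  calc proj a * proj a' = (proj a * proj a' * proj a * proj a') * (proj a' * proj a) := by
        rw [mul_assoc (proj a * proj a' * proj a), ← mul_assoc (proj a'), haa', one_mul,
          mul_assoc (proj a * proj a'), haa, mul_one]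
    _ = proj a' * proj a := by rw [h1, one_mul]

variable (X)

/-- `O₂(X)` together with all rotations. -/
noncomputable def rotGroup : Subgroup X :=
  closure ((Cfsg.pCore 2 X : Set X) ∪ {d | ∃ a, IsBlock a d})

/-- The group generated by the rotations and all involutions inducing transvections. -/
noncomputable def trvGroup : Subgroup X :=
  closure ((rotGroup X : Set X) ∪ {a | a * a = 1 ∧ Trv.IsTrv (act a)})

variable {X}

theorem IsBlock.mem_rotGroup {a d : X} (h : IsBlock a d) : d ∈ rotGroup X := subset_closure (Or.inr ⟨a, h⟩)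

theorem pCore_le_rotGroup : Cfsg.pCore 2 X ≤ rotGroup X := fun _ hx => subset_closure (Or.inl hx)

instance rotGroup_normal : (rotGroup X).Normal := by
  refine ⟨fun x hx g => ?_⟩
  have : rotGroup X ≤ (rotGroup X).comap (MulAut.conj g).toMonoidHom := by
    rw [rotGroup, closure_le]
    rintro y (hy | ⟨a, ha⟩)
    · haveI := CfsgLib.Cores.pCore_characteristic (G := X) 2
      exact pCore_le_rotGroup (Subgroup.Normal.conj_mem inferInstance y hy g)
    · exact (ha.conj g).mem_rotGroup
  exact this hx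

theorem Good.proj_commute_rotGroup (hX : Good X) {x y : X} (hx : x ∈ rotGroup X)
    (hy : y ∈ rotGroup X ∨ act y = 1) : proj x * proj y = proj y * proj x := by
  have hgen : ∀ w : X, (∀ a d, IsBlock a d → proj d * proj w = proj w * proj d) →
      ∀ v ∈ rotGroup X, proj v * proj w = proj w * proj v := by
    intro w hw v hv
    rw [rotGroup] at hv
    induction hv using Subgroup.closure_induction with
    | mem v hv =>
      rcases hv with hv | ⟨a, ha⟩
      · rw [proj_eq_one_iff.2 hv, one_mul, mul_one]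
      · exact hw a v ha
    | one => rw [map_one, one_mul, mul_one]
    | mul u v _ _ hu hv => rw [map_mul]; exact ((show Commute _ _ from hu).mul_left hv).eq
    | inv u _ hu => rw [map_inv]; exact (show Commute _ _ from hu).inv_left.eq
  rcases hy with hy | hy
  · refine hgen y (fun a d h => ?_) x hx
    exact (hgen d (fun a' d' h' => hX.proj_commute_rot_rot h' h) y hy).symm
  · exact hgen y (fun a d h => hX.proj_commute_rot h hy) x hx

theorem Good.proj_cube (hX : Good X) {x : X} (hx : x ∈ rotGroup X) : proj x ^ 3 = 1 := by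
  suffices proj x ^ 3 = 1 ∧ x ∈ rotGroup X from this.1
  rw [rotGroup] at hx
  induction hx using Subgroup.closure_induction with
  | mem v hv =>
    refine ⟨?_, subset_closure hv⟩
    rcases hv with hv | ⟨a, ha⟩
    · rw [proj_eq_one_iff.2 hv, one_pow]
    · rw [← map_pow, ha.cube, map_one]
  | one => exact ⟨by rw [map_one, one_pow], one_mem _⟩
  | mul u v _ _ hu hv =>
    exact ⟨by rw [map_mul, (show Commute _ _ from hX.proj_commute_rotGroup hu.2 (Or.inl hv.2)).mul_pow,
      hu.1, hv.1, one_mul], mul_mem hu.2 hv.2⟩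
  | inv u _ hu => exact ⟨by rw [map_inv, inv_pow, hu.1, inv_one], inv_mem hu.2⟩

/-- Elements of odd order in the group generated by the transvections lie in the rotation group. -/
theorem Good.mem_rotGroup_of_odd (hX : Good X) {x : X} (hx : x ∈ trvGroup X) (hodd : Odd (orderOf x)) :
    x ∈ rotGroup X := by
  set ρ := QuotientGroup.mk' (rotGroup X) with hρ
  have hρp : ∀ u v : X, proj u = proj v → ρ u = ρ v := by
    intro u v huv
    rw [hρ, QuotientGroup.mk'_apply, QuotientGroup.mk'_apply, QuotientGroup.eq]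
    refine pCore_le_rotGroup (proj_eq_one_iff.1 ?_)
    rw [map_mul, map_inv, huv, inv_mul_cancel]
  have hcomm : ∀ a b : X, a * a = 1 → Trv.IsTrv (act a) → b * b = 1 → Trv.IsTrv (act b) →
      ρ a * ρ b = ρ b * ρ a := by
    intro a b ha hat hb hbt
    obtain ⟨d, hd⟩ := exists_block hX ha hat
    obtain ⟨d', hd'⟩ := exists_block hX hb hbt
    rw [← map_mul, ← map_mul]
    by_cases hr : rng d = rng d'
    · obtain ⟨j, -, hj⟩ := hX.exists_shift hd hd' hr
      have h2 : ρ (d ^ j * a * (d ^ j)⁻¹) = ρ b := hρp _ _ hj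
      have h3 : ρ d = 1 := (QuotientGroup.eq_one_iff d).2 hd.mem_rotGroup
      rw [map_mul, map_mul, map_inv, map_pow, h3, one_pow, inv_one, one_mul, mul_one] at h2
      rw [map_mul, map_mul, h2]
    · exact hρp _ _ (by rw [map_mul, map_mul, hX.proj_commute_trv_trv hd hd' hr])
  have key : ρ x * ρ x = 1 ∧ ∀ b : X, b * b = 1 → Trv.IsTrv (act b) → ρ x * ρ b = ρ b * ρ x := by
    have main : ∀ y ∈ trvGroup X, ρ y * ρ y = 1 ∧
        ρ y ∈ closure (ρ '' {a | a * a = 1 ∧ Trv.IsTrv (act a)}) := by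
      haveI : IsMulCommutative ↥(closure (ρ '' {a | a * a = 1 ∧ Trv.IsTrv (act a)})) :=
        Subgroup.isMulCommutative_closure (by
          rintro _ ⟨a, ha, rfl⟩ _ ⟨b, hb, rfl⟩
          exact hcomm a b ha.1 ha.2 hb.1 hb.2)
      intro y hy
      rw [trvGroup] at hy
      induction hy using Subgroup.closure_induction with
      | mem v hv =>
        rcases hv with hv | hv
        · rw [show ρ v = 1 from (QuotientGroup.eq_one_iff v).2 hv]
          exact ⟨one_mul _, one_mem _⟩
        · exact ⟨by rw [← map_mul, hv.1, map_one], subset_closure ⟨v, hv, rfl⟩⟩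
      | one => rw [map_one]; exact ⟨one_mul _, one_mem _⟩
      | mul u v _ _ hu hv =>
        have hc : ρ u * ρ v = ρ v * ρ u :=
          congrArg Subtype.val (mul_comm' (⟨_, hu.2⟩ : ↥(Subgroup.closure _)) ⟨_, hv.2⟩)
        refine ⟨?_, by rw [map_mul]; exact mul_mem hu.2 hv.2⟩
        rw [map_mul, mul_assoc, ← mul_assoc (ρ v), ← hc, mul_assoc (ρ u), hv.1, mul_one, hu.1]
      | inv u _ hu => rw [map_inv]; exact ⟨by rw [← mul_inv_rev, hu.1, inv_one], inv_mem hu.2⟩
    refine ⟨(main x hx).1, fun b hb hbt => ?_⟩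
    haveI : IsMulCommutative ↥(closure (ρ '' {a | a * a = 1 ∧ Trv.IsTrv (act a)})) :=
      Subgroup.isMulCommutative_closure (by
        rintro _ ⟨a, ha, rfl⟩ _ ⟨c, hc, rfl⟩
        exact hcomm a c ha.1 ha.2 hc.1 hc.2)
    exact congrArg Subtype.val (mul_comm' (⟨_, (main x hx).2⟩ : ↥(Subgroup.closure _))
      ⟨ρ b, subset_closure ⟨b, ⟨hb, hbt⟩, rfl⟩⟩)
  refine (QuotientGroup.eq_one_iff x).1 ?_
  show ρ x = 1
  rw [← orderOf_eq_one_iff]
  exact Nat.eq_one_of_dvd_coprimes (Nat.coprime_two_left.2 hodd)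
    (orderOf_dvd_of_pow_eq_one (by rw [pow_two]; exact key.1)) (orderOf_map_dvd ρ x)

end CfsgLib.LocalEven.JComp
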