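import Cfsg.Agent.Lib.LocalEven.JUnique
import Cfsg.Agent.Lib.LocalEven.StronglyEmbedded
import Cfsg.Agent.Lib.LocalEven.Isolated

/-!
`Ω₁(Z(J(T)))` and the components outside `M`.
-/

set_option autoImplicit false

namespace CfsgLib.LocalEven.JComp

open Subgroup CfsgLib.LocalEven Cfsg
open scoped commutatorElement

variable {G : Type*} [Group G] [Finite G]

/-- The part of `Ω₁(Z(J(T)))` centralised by `K`. -/
def hyp (T K : Subgroup G) : Subgroup G :=
  omegaCenterOf (thompsonSubgroupOf 2 T) ⊓ centralizer ((K ⊔ thompsonSubgroupOf 2 T : Subgroup G) : Set G)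

theorem four_cases {W : Subgroup G} (h4 : Nat.card ↥W = 4) (hsq : ∀ x ∈ W, x * x = 1) {w p : G}
    (hw : w ∈ W) (hp : p ∈ W) (hw1 : w ≠ 1) (hp1 : p ≠ 1) (hwp : w ≠ p) {x : G} (hx : x ∈ W) :
    x = 1 ∨ x = w ∨ x = p ∨ x = w * p := by
  classical
  haveI := Fintype.ofFinite ↥W
  have hc : Fintype.card ↥W = 4 := by rwa [← Nat.card_eq_fintype_card]
  set s : Finset ↥W := {1, ⟨w, hw⟩, ⟨p, hp⟩, ⟨w * p, mul_mem hw hp⟩} with hs
  have h1 : w * p ≠ 1 := fun e => hwp (mul_left_cancel ((hsq w hw).trans e.symm))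
  have h2 : w * p ≠ w := fun e => hp1 (mul_left_cancel (e.trans (mul_one w).symm))
  have h3 : w * p ≠ p := fun e => hw1 (mul_right_cancel (e.trans (one_mul p).symm))
  have hcard : s.card = 4 := by
    rw [hs, Finset.card_insert_of_notMem, Finset.card_insert_of_notMem, Finset.card_insert_of_notMem,
      Finset.card_singleton] <;>
    simp [Subtype.ext_iff, hwp, Ne.symm hw1, Ne.symm hp1, Ne.symm h1, Ne.symm h2, Ne.symm h3]
  have := (Finset.eq_univ_of_card s (hcard.trans hc.symm)).symm ▸ Finset.mem_univ (⟨x, hx⟩ : ↥W)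
  simpa [hs, Subtype.ext_iff] using this

theorem omega_le (X : Subgroup G) : omegaCenterOf X ≤ X := Oz.le_self _

theorem omega_comm {X : Subgroup G} {x y : G} (hx : x ∈ omegaCenterOf X) (hy : y ∈ X) : y * x = x * y :=
  (Oz.mem_iff.1 hx).2.1 y hy

theorem omega_sq {X : Subgroup G} {x : G} (hx : x ∈ omegaCenterOf X) : x * x = 1 := by
  rw [← pow_two]; exact (Oz.mem_iff.1 hx).2.2

theorem mem_omega {X : Subgroup G} {x : G} (hx : x ∈ X) (hc : ∀ y ∈ X, y * x = x * y) (h2 : x * x = 1) :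
    x ∈ omegaCenterOf X :=
  Oz.mem_iff.2 ⟨hx, hc, by rw [pow_two]; exact h2⟩

/-- The involution of `W_K` in `Ω₁(Z(J(T)))` and a rotation of `W_K`. -/
theorem exists_wgen {T K : Subgroup G} (hT : IsPGroup 2 ↥T) (hK : IsJComponent T K) :
    ∃ w d, w ∈ omegaCenterOf (thompsonSubgroupOf 2 T) ∧ w ∈ wOf K ∧ w ≠ 1 ∧
      (∀ x ∈ omegaCenterOf (thompsonSubgroupOf 2 T), x ∈ wOf K → x = 1 ∨ x = w) ∧
      d ∈ K ∧ d ^ 3 = 1 ∧ (∀ y ∈ K, ∃ i : ℤ, (d ^ i)⁻¹ * y ∈ pCoreOf 2 K) ∧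
      (∀ x ∈ wOf K, d * x * d⁻¹ = x → x = 1) := by
  obtain ⟨h2, -, -⟩ := component_omega hT hK
  set Q := omegaCenterOf (thompsonSubgroupOf 2 T) ⊓ wOf K with hQ
  obtain ⟨w, hw, hw1⟩ := (Subgroup.bot_or_exists_ne_one Q).resolve_left fun e => by
    rw [e, Subgroup.card_bot] at h2; omega
  obtain ⟨d, hd, hd3, hdec, hfix⟩ := exists_rotation hK
  refine ⟨w, d, hw.1, hw.2, hw1, fun x hx hxW => ?_, hd, hd3, hdec, hfix⟩
  by_contra hcon
  push Not at hcon
  classical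
  haveI := Fintype.ofFinite ↥Q
  have h3 : ({1, ⟨w, hw⟩, ⟨x, hx, hxW⟩} : Finset ↥Q).card = 3 := by
    rw [Finset.card_insert_of_notMem, Finset.card_insert_of_notMem, Finset.card_singleton] <;>
      simp [Subtype.ext_iff, Ne.symm hw1, Ne.symm hcon.1, Ne.symm hcon.2]
  have := Finset.card_le_univ ({1, ⟨w, hw⟩, ⟨x, hx, hxW⟩} : Finset ↥Q)
  rw [h3, ← Nat.card_eq_fintype_card, h2] at this
  omega

variable {M T : Subgroup G}

theorem hyp_le {K : Subgroup G} : hyp T K ≤ omegaCenterOf (thompsonSubgroupOf 2 T) := inf_le_left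

theorem mem_hyp_iff {K : Subgroup G} {x : G} :
    x ∈ hyp T K ↔ x ∈ omegaCenterOf (thompsonSubgroupOf 2 T) ∧ ∀ k ∈ K, k * x = x * k := by
  refine ⟨fun hx => ⟨hx.1, fun k hk => mem_centralizer_iff.1 hx.2 k (Subgroup.mem_sup_left hk)⟩,
    fun hx => ⟨hx.1, ?_⟩⟩
  have : (K ⊔ thompsonSubgroupOf 2 T) ≤ centralizer ({x} : Set G) :=
    sup_le (fun k hk => mem_centralizer_singleton_iff.2 (hx.2 k hk))
      (fun j hj => mem_centralizer_singleton_iff.2 (omega_comm hx.1 hj))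
  exact mem_centralizer_iff.2 fun y hy => mem_centralizer_singleton_iff.1 (this hy)

theorem mem_hyp_cases {K : Subgroup G} (hT : IsPGroup 2 ↥T) (hK : IsJComponent T K) {w : G}
    (hw : w ∈ omegaCenterOf (thompsonSubgroupOf 2 T))
    (huniq : ∀ x ∈ omegaCenterOf (thompsonSubgroupOf 2 T), x ∈ wOf K → x = 1 ∨ x = w) {z : G}
    (hz : z ∈ omegaCenterOf (thompsonSubgroupOf 2 T)) : z ∈ hyp T K ∨ z * w ∈ hyp T K := by
  obtain ⟨c, hc, hcc, -, hcz⟩ := (component_omega hT hK).2.2 z hz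
  have hch : c ∈ hyp T K := ⟨hc, hcc⟩
  rcases huniq _ (mul_mem hc hz) hcz with h | h
  · left
    rw [show z = c⁻¹ from eq_inv_of_mul_eq_one_right h]
    exact inv_mem hch
  · right
    rw [← h, ← mul_assoc, omega_comm hc (omega_le _ hz), mul_assoc, omega_sq hz, mul_one]
    exact hch

theorem notMem_hyp {K : Subgroup G} {w d : G} (hw : w ∈ wOf K) (hw1 : w ≠ 1) (hd : d ∈ K)
    (hfix : ∀ x ∈ wOf K, d * x * d⁻¹ = x → x = 1) : w ∉ hyp T K := fun h => hw1 <| hfix w hw <| by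
  rw [(mem_hyp_iff.1 h).2 d hd, mul_inv_cancel_right]

theorem mul_mem_hyp {K : Subgroup G} (hT : IsPGroup 2 ↥T) (hK : IsJComponent T K) {x y : G}
    (hx : x ∈ omegaCenterOf (thompsonSubgroupOf 2 T)) (hxh : x ∉ hyp T K)
    (hy : y ∈ omegaCenterOf (thompsonSubgroupOf 2 T)) (hyh : y ∉ hyp T K) : x * y ∈ hyp T K := by
  obtain ⟨w, d, hw, hwW, hw1, huniq, -⟩ := exists_wgen hT hK
  have h1 := (mem_hyp_cases hT hK hw huniq hx).resolve_left hxh
  have h2 := (mem_hyp_cases hT hK hw huniq hy).resolve_left hyh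
  have : x * y = (x * w) * (y * w) := by
    rw [omega_comm hw (omega_le _ hy), mul_assoc x w, ← mul_assoc w w, omega_sq hw, one_mul]
  rw [this]
  exact mul_mem h1 h2

theorem le_centralizer_singleton {K : Subgroup G} {c : G} (hc : c ∈ hyp T K) :
    K ⊔ thompsonSubgroupOf 2 T ≤ centralizer ({c} : Set G) := fun y hy =>
  mem_centralizer_singleton_iff.2 (mem_centralizer_iff.1 hc.2 y hy)

theorem isTwoLocal_zpowers {c : G} (hc : c * c = 1) (hc1 : c ≠ 1) :
    IsTwoLocal (normalizer (zpowers c : Set G)) :=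
  ⟨zpowers c, CfsgLib.LocalEven.isPGroup_zpowers ⟨1, by
    rw [pow_one]; exact orderOf_eq_prime (by rw [pow_two, hc]) hc1⟩, by simpa using hc1, rfl⟩

theorem Straddle.centralizer_le (h : Straddle M T) {K : Subgroup G} (hK : IsJComponent T K) (hKM : ¬ K ≤ M)
    {L : Subgroup G} (hL : IsMaximalTwoLocal L) (hKL : K ⊔ thompsonSubgroupOf 2 T ≤ L) {c : G}
    (hc : c ∈ hyp T K) (hc1 : c ≠ 1) : centralizer ({c} : Set G) ≤ L :=
  (centralizer_singleton_le_normalizer c).trans (h.le_maxLocal hK hKM hL hKL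
    (isTwoLocal_zpowers (omega_sq hc.1) hc1)
    ((le_centralizer_singleton hc).trans (centralizer_singleton_le_normalizer c)))

theorem Straddle.conj_outside (h : Straddle M T) {K : Subgroup G} (hK : IsJComponent T K) (hKM : ¬ K ≤ M)
    {g : G} (hg : g ∈ normalizer (thompsonSubgroupOf 2 T : Set G)) :
    IsJComponent T (K.map (MulAut.conj g).toMonoidHom) ∧ ¬ K.map (MulAut.conj g).toMonoidHom ≤ M := by
  refine ⟨isJComponent_of_conj_thompson hK hg, fun e => hKM fun k hk => ?_⟩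
  have hgM := h.normalizer_le hg
  have h1 : g * k * g⁻¹ ∈ M := e ⟨k, hk, rfl⟩
  have := mul_mem (mul_mem (inv_mem hgM) h1) hgM
  simpa [mul_assoc] using this

theorem Straddle.mem_of_conj_le (h : Straddle M T) {K : Subgroup G} (hK : IsJComponent T K) (hKM : ¬ K ≤ M)
    {L : Subgroup G} (hL : IsMaximalTwoLocal L) (hKL : K ⊔ thompsonSubgroupOf 2 T ≤ L) {g : G}
    (hg : g ∈ normalizer (thompsonSubgroupOf 2 T : Set G)) (hle : K.map (MulAut.conj g).toMonoidHom ≤ L) :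
    g ∈ L := by
  obtain ⟨hK', hK'M⟩ := h.conj_outside hK hKM hg
  have hLg : IsMaximalTwoLocal (L.map (MulAut.conj g).toMonoidHom) := by
    have hloc : ∀ (N : Subgroup G) (x : G), IsTwoLocal N → IsTwoLocal (N.map (MulAut.conj x).toMonoidHom) := by
      rintro _ x ⟨R, hR, hR1, rfl⟩
      refine ⟨R.map (MulAut.conj x).toMonoidHom, hR.map _, fun e => hR1 ?_, ?_⟩
      · rwa [Subgroup.map_eq_bot_iff_of_injective _ (MulAut.conj x).injective] at e
      · exact Subgroup.map_equiv_normalizer_eq R (MulAut.conj x)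
    refine ⟨hloc L g hL.1, fun N hN hle => ?_⟩
    have h1 : L ≤ N.map (MulAut.conj g⁻¹).toMonoidHom := fun x hx => ⟨g * x * g⁻¹, hle ⟨x, hx, rfl⟩, by
      show g⁻¹ * (g * x * g⁻¹) * g⁻¹⁻¹ = x
      group⟩
    have h2 := hL.2 _ (hloc N g⁻¹ hN) h1
    refine le_antisymm (fun x hx => ⟨g⁻¹ * x * g⁻¹⁻¹, h2.le ⟨x, hx, rfl⟩, ?_⟩) hle
    show g * (g⁻¹ * x * g⁻¹⁻¹) * g⁻¹ = x
    group
  have hJ : (thompsonSubgroupOf 2 T).map (MulAut.conj g).toMonoidHom = thompsonSubgroupOf 2 T :=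
    map_conj_of_mem_normalizer hg
  have he := h.eq_maxLocal hK' hK'M hL (sup_le hle (le_sup_right.trans hKL)) hLg
    (sup_le (Subgroup.map_mono (le_sup_left.trans hKL))
      (hJ.ge.trans (Subgroup.map_mono (le_sup_right.trans hKL))))
  rw [← normalizer_maximalTwoLocal h.amb hL]
  exact mem_normalizer_of_conj_le he.le

theorem Straddle.notMem_hyp_conj (h : Straddle M T) {K K' : Subgroup G} (hK : IsJComponent T K)
    (hKM : ¬ K ≤ M) (hK' : IsJComponent T K') (hK'M : ¬ K' ≤ M) {L : Subgroup G} (hL : IsMaximalTwoLocal L)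
    (hKL : K ⊔ thompsonSubgroupOf 2 T ≤ L) (hK'L : K' ≤ L) {g : G}
    (hg : g ∈ normalizer (thompsonSubgroupOf 2 T : Set G)) (hgL : g ∉ L) {z : G} (hz : z ∈ hyp T K)
    (hz1 : z ≠ 1) : g * z * g⁻¹ ∉ hyp T K' := fun hz' => hgL <| by
  refine h.mem_of_conj_le hK hKM hL hKL hg fun x hx => ?_
  obtain ⟨k, hk, rfl⟩ := hx
  refine h.centralizer_le hK' hK'M hL (sup_le hK'L (le_sup_right.trans hKL)) hz'
    (fun e => hz1 (conj_eq_one_iff.1 e)) (mem_centralizer_singleton_iff.2 ?_)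
  show g * k * g⁻¹ * (g * z * g⁻¹) = g * z * g⁻¹ * (g * k * g⁻¹)
  have := (mem_hyp_iff.1 hz).2 k hk
  calc g * k * g⁻¹ * (g * z * g⁻¹) = g * (k * z) * g⁻¹ := by group
    _ = g * (z * k) * g⁻¹ := by rw [this]
    _ = g * z * g⁻¹ * (g * k * g⁻¹) := by group

theorem conj_mem_omega {g x : G} (hg : g ∈ normalizer (thompsonSubgroupOf 2 T : Set G))
    (hx : x ∈ omegaCenterOf (thompsonSubgroupOf 2 T)) :
    g * x * g⁻¹ ∈ omegaCenterOf (thompsonSubgroupOf 2 T) :=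
  conj_mem_of_mem_normalizer (Oz.normalizer_le (p := 2) _ hg) hx

theorem mem_hyp_of_comp {L T₀ K K' : Subgroup G} (hG : Amb G) (hL : Constrained L) (hT₀ : IsSylowTwoIn T₀ L)
    (hK : IsJComponent T₀ K) (hK' : IsJComponent T₀ K') (hKL : K ≤ L) (hK'L : K' ≤ L) (hne : K ≠ K')
    {x : G} (hx : x ∈ omegaCenterOf (thompsonSubgroupOf 2 T₀)) (hxW : x ∈ wOf K') : x ∈ hyp T₀ K := by
  obtain ⟨-, h2, -⟩ := hG.components_commute hL hT₀ hK hK' hKL hK'L hne
  exact mem_hyp_iff.2 ⟨hx, fun k hk => (mem_centralizer_iff.1 (h2 hk) x hxW).symm⟩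

/-- If `N(J(T))` is not in `L`: one outside component and a small centre. -/
theorem Straddle.small (h : Straddle M T) {K : Subgroup G} (hK : IsJComponent T K) (hKM : ¬ K ≤ M)
    {L : Subgroup G} (hL : IsMaximalTwoLocal L) (hKL : K ⊔ thompsonSubgroupOf 2 T ≤ L)
    (hTL : IsSylowTwoIn T L) {g : G} (hg : g ∈ normalizer (thompsonSubgroupOf 2 T : Set G)) (hgL : g ∉ L) :
    (∀ K', IsJComponent T K' → ¬ K' ≤ M → K' ≤ L → K' = K) ∧
      ∀ i ∈ hyp T K, i ≠ 1 → ∀ j ∈ hyp T K, j ≠ 1 → i = j := by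
  set Z := omegaCenterOf (thompsonSubgroupOf 2 T) with hZ
  have hmul : ∀ x y : G, g * (x * y) * g⁻¹ = g * x * g⁻¹ * (g * y * g⁻¹) := fun x y => by group
  constructor
  · intro K' hK' hK'M hK'L
    by_contra hne
    obtain ⟨w, d, hw, hwW, hw1, -, hd, -, -, hfix⟩ := exists_wgen h.isPGroup hK
    obtain ⟨w', d', hw', hw'W, hw'1, -, hd', -, -, hfix'⟩ := exists_wgen h.isPGroup hK'
    have hC := constrained_of_twoLocal h.amb hL.1
    have hKl : K ≤ L := le_sup_left.trans hKL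
    have hK'KL : K' ⊔ thompsonSubgroupOf 2 T ≤ L := sup_le hK'L (le_sup_right.trans hKL)
    have hwh' : w ∈ hyp T K' := mem_hyp_of_comp h.amb hC hTL hK' hK hK'L hKl hne hw hwW
    have hw'h : w' ∈ hyp T K :=
      mem_hyp_of_comp h.amb hC hTL hK hK' hKl hK'L (Ne.symm hne) hw' hw'W
    have hwnh : w ∉ hyp T K := notMem_hyp hwW hw1 hd hfix
    have hx : g * w * g⁻¹ ∉ hyp T K := h.notMem_hyp_conj hK' hK'M hK hKM hL hK'KL hKl hg hgL hwh' hw1
    have hx' : g * w * g⁻¹ ∉ hyp T K' := h.notMem_hyp_conj hK' hK'M hK' hK'M hL hK'KL hK'L hg hgL hwh' hw1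
    have hy : g * w' * g⁻¹ ∉ hyp T K := h.notMem_hyp_conj hK hKM hK hKM hL hKL hKl hg hgL hw'h hw'1
    have hy' : g * w' * g⁻¹ ∉ hyp T K' := h.notMem_hyp_conj hK hKM hK' hK'M hL hKL hK'L hg hgL hw'h hw'1
    have hgw := conj_mem_omega hg hw
    have hgw' := conj_mem_omega hg hw'
    set i := g * w * g⁻¹ * (g * w' * g⁻¹) with hi
    have hi1 : i ∈ hyp T K := mul_mem_hyp h.isPGroup hK hgw hx hgw' hy
    have hi2 : i ∈ hyp T K' := mul_mem_hyp h.isPGroup hK' hgw hx' hgw' hy'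
    have hi0 : i ≠ 1 := fun e => hwnh (by
      rw [hi, ← hmul, conj_eq_one_iff, mul_eq_one_iff_eq_inv] at e
      rw [e]; exact inv_mem hw'h)
    have hiw : i * w ∈ hyp T K' := mul_mem hi2 hwh'
    have hiw1 : i * w ≠ 1 := fun e => hwnh (by
      rw [eq_inv_of_mul_eq_one_right e]; exact inv_mem hi1)
    refine h.notMem_hyp_conj hK' hK'M hK hKM hL hK'KL hKl hg hgL hiw hiw1 ?_
    rw [hmul]
    exact mul_mem_hyp h.isPGroup hK (conj_mem_omega hg hi1.1)
      (h.notMem_hyp_conj hK hKM hK hKM hL hKL hKl hg hgL hi1 hi0) hgw hx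
  · intro i hi hi1 j hj hj1
    by_contra hne
    have hKl : K ≤ L := le_sup_left.trans hKL
    have hn := fun x (hx : x ∈ hyp T K) (hx1 : x ≠ 1) => h.notMem_hyp_conj hK hKM hK hKM hL hKL hKl hg hgL hx hx1
    refine hn (i * j) (mul_mem hi hj) (fun e => hne ?_) ?_
    · rw [eq_inv_of_mul_eq_one_right e, inv_eq_of_mul_eq_one_right (omega_sq hi.1)]
    · rw [hmul]
      exact mul_mem_hyp h.isPGroup hK (conj_mem_omega hg hi.1) (hn i hi hi1) (conj_mem_omega hg hj.1) (hn j hj hj1)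

theorem Straddle.normalizes (h : Straddle M T) {K : Subgroup G} (hK : IsJComponent T K) (hKM : ¬ K ≤ M)
    {L : Subgroup G} (hKL : K ⊔ thompsonSubgroupOf 2 T ≤ L) (hTL : T ≤ L)
    (hu : ∀ K', IsJComponent T K' → ¬ K' ≤ M → K' ≤ L → K' = K) : T ≤ normalizer (K : Set G) := by
  intro t ht
  obtain ⟨h1, h2⟩ := h.conj_outside hK hKM (le_normalizer_thompson T ht)
  refine mem_normalizer_of_conj_le (le_of_eq (hu _ h1 h2 ?_))
  rintro _ ⟨k, hk, rfl⟩
  exact mul_mem (mul_mem (hTL ht) (hKL (Subgroup.mem_sup_left hk))) (inv_mem (hTL ht))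

theorem omega_omega_le {X : Subgroup G} (hX : IsPGroup 2 ↥X) :
    omegaCenterOf X ≤ omegaCenterOf (thompsonSubgroupOf 2 X) := by
  intro z hz
  obtain ⟨A, hA⟩ := exists_isMaxIn X
  have hzX := omega_le _ hz
  have hzA : ∀ A, IsMaxIn X A → z ∈ A := by
    intro A hA
    have hE : IsElementaryAbelian 2 (A ⊔ zpowers z) :=
      CfsgLib.PGroup.elemAb_sup hA.2.1 (CfsgLib.PGroup.elemAb_zpowers (by rw [pow_two, omega_sq hz])) <| by
        intro a ha y hy
        have hle : zpowers z ≤ centralizer ({a} : Set G) :=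
          zpowers_le.2 (mem_centralizer_singleton_iff.2 (omega_comm hz (hA.1 ha)).symm)
        exact (mem_centralizer_singleton_iff.1 (hle hy)).symm
    have hcard := hA.2.2 (A ⊔ zpowers z) (sup_le hA.1 (zpowers_le.2 hzX)) hE
    have he := Subgroup.eq_of_le_of_card_ge (le_sup_left : A ≤ A ⊔ zpowers z) hcard
    exact he.ge (mem_sup_right (mem_zpowers z))
  exact mem_omega (hA.le_thompson (hzA A hA))
    (fun y hy => omega_comm hz (CfsgLib.Transfer.thompsonSubgroupOf_le 2 X hy)) (omega_sq hz)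

theorem Straddle.omega_sylow_le (h : Straddle M T) {L : Subgroup G} (hL : IsMaximalTwoLocal L)
    (hTL : IsSylowTwoIn T L) (P : Sylow 2 G) (hTP : T ≤ (P : Subgroup G)) :
    omegaCenterOf (P : Subgroup G) ≤ omegaCenterOf T := by
  intro z hz
  have hC := constrained_of_twoLocal h.amb hL.1
  have hzT : z ∈ T := pCoreOf_le_sylow hTL (hC.1 (mem_centralizer_iff.2 fun y hy =>
    omega_comm hz (hTP (pCoreOf_le_sylow hTL hy))))
  exact mem_omega hzT (fun y hy => omega_comm hz (hTP hy)) (omega_sq hz)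

theorem Straddle.centralizes (h : Straddle M T) {K : Subgroup G} (hK : IsJComponent T K)
    (hn : T ≤ normalizer (K : Set G))
    (hs : ∀ i ∈ hyp T K, i ≠ 1 → ∀ j ∈ hyp T K, j ≠ 1 → i = j) :
    ∀ t ∈ T, ∀ z ∈ omegaCenterOf (thompsonSubgroupOf 2 T), t * z = z * t := by
  intro t ht
  obtain ⟨w, d, hw, hwW, hw1, huniq, -⟩ := exists_wgen h.isPGroup hK
  have htJ := le_normalizer_thompson T ht
  have hw' : t * w * t⁻¹ = w := (huniq _ (conj_mem_omega htJ hw)
    (conj_mem_of_mem_normalizer (normalizer_le_normalizer_wOf K (hn ht)) hwW)).resolve_left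
      fun e => hw1 (conj_eq_one_iff.1 e)
  have hh : ∀ c ∈ hyp T K, t * c = c * t := by
    intro c hc
    by_cases hc1 : c = 1
    · rw [hc1, mul_one, one_mul]
    have hc' : t * c * t⁻¹ ∈ hyp T K := by
      refine mem_hyp_iff.2 ⟨conj_mem_omega htJ hc.1, fun k hk => ?_⟩
      have hk' : t⁻¹ * k * t ∈ K := (Subgroup.mem_normalizer_iff''.1 (hn ht) k).1 hk
      have := (mem_hyp_iff.1 hc).2 _ hk'
      calc k * (t * c * t⁻¹) = t * ((t⁻¹ * k * t) * c) * t⁻¹ := by group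
        _ = t * (c * (t⁻¹ * k * t)) * t⁻¹ := by rw [this]
        _ = t * c * t⁻¹ * k := by group
    exact mul_inv_eq_iff_eq_mul.1 (hs _ hc' (fun e => hc1 (conj_eq_one_iff.1 e)) c hc hc1)
  intro z hz
  rcases mem_hyp_cases h.isPGroup hK hw huniq hz with h1 | h1
  · exact hh z h1
  · have e : z = (z * w) * w := by rw [mul_assoc, omega_sq hw, mul_one]
    rw [e, ← mul_assoc, hh _ h1, mul_assoc, mul_inv_eq_iff_eq_mul.1 hw', ← mul_assoc]

theorem omega_thompson_eq (hT : IsPGroup 2 ↥T)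
    (hc : ∀ t ∈ T, ∀ z ∈ omegaCenterOf (thompsonSubgroupOf 2 T), t * z = z * t) :
    omegaCenterOf T = omegaCenterOf (thompsonSubgroupOf 2 T) :=
  le_antisymm (omega_omega_le hT) fun z hz =>
    mem_omega (CfsgLib.Transfer.thompsonSubgroupOf_le 2 T (omega_le _ hz)) (fun t ht => hc t ht z hz) (omega_sq hz)

theorem normalizer_sylow_le_thompson (P : Sylow 2 G) :
    normalizer ((P : Subgroup G) : Set G) ≤ normalizer (thompsonSubgroupOf 2 (P : Subgroup G) : Set G) :=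
  fun x hx => mem_normalizer_of_conj_le (le_of_eq (by rw [← thompson_conj, map_conj_of_mem_normalizer hx]))

/-- No subgroup outside `M` centralises `Ω₁(Z(P))`. -/
theorem Amb.not_le_centralizer_omega (hG : Amb G) (P : Sylow 2 G) {N X : Subgroup G}
    (hP : normalizer (thompsonSubgroupOf 2 (P : Subgroup G) : Set G) ≤ N) (hX : ¬ X ≤ N) :
    ¬ ∀ z ∈ omegaCenterOf (P : Subgroup G), ∀ x ∈ X, x * z = z * x := fun hc =>
  hX fun x hx => hP (normalizer_sylow_le_thompson P (hG.center P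
    (mem_centralizer_iff.2 fun z hz => (hc z hz x hx).symm)))

/-- An element of `N(J(T))` outside `L` when `T` is not a Sylow subgroup of `G`. -/
theorem Straddle.exists_normalizing (h : Straddle M T) {L : Subgroup G} (hTL : IsSylowTwoIn T L)
    {U : Subgroup G} (hU : IsPGroup 2 ↥U) (hTU : T ≤ U) (hne : T ≠ U) :
    ∃ g ∈ U, g ∈ normalizer (thompsonSubgroupOf 2 T : Set G) ∧ g ∈ normalizer (T : Set G) ∧ g ∉ L := by
  haveI : Fact (Nat.Prime 2) := ⟨Nat.prime_two⟩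
  obtain ⟨g, ⟨hgU, hgT⟩, hg⟩ := SetLike.not_le_iff_exists.1 fun hle : U ⊓ normalizer (T : Set G) ≤ T =>
    hne (eq_of_inf_normalizer_le hU hTU hle)
  refine ⟨g, hgU, mem_normalizer_of_conj_le (le_of_eq ?_), hgT, fun hgL => hg ?_⟩
  · rw [← thompson_conj, map_conj_of_mem_normalizer hgT]
  · have h2 : IsPGroup 2 ↥(T ⊔ zpowers g) := hU.to_le (sup_le hTU (zpowers_le.2 hgU))
    have hle : T ⊔ zpowers g ≤ L := sup_le hTL.1 (zpowers_le.2 hgL)
    have hm := Subgroup.relIndex_mul_relIndex T (T ⊔ zpowers g) L le_sup_left hle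
    obtain ⟨e, he⟩ := IsPGroup.iff_card.1 h2
    have hodd : Odd (T.relIndex (T ⊔ zpowers g)) := hTL.2.2.of_dvd_nat ⟨_, hm.symm⟩
    have h1 : T.relIndex (T ⊔ zpowers g) = 1 := Nat.eq_one_of_dvd_coprimes
      (((Nat.coprime_two_left).2 hodd).pow_left e) (he ▸ Subgroup.relIndex_dvd_card T _) dvd_rfl
    exact Subgroup.relIndex_eq_one.1 h1 (mem_sup_right (mem_zpowers g))

end CfsgLib.LocalEven.JComp
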