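import Cfsg.Agent.Lib.LocalEven.JWOrder
import Cfsg.Agent.Lib.Cores.Basic

/-!
`Ω₁(Z(J(T)))` for a `J(T)`-component `K`.
-/

set_option autoImplicit false

namespace CfsgLib.LocalEven.JComp

open Subgroup CfsgLib.LocalEven Cfsg
open scoped commutatorElement

variable {G : Type*} [Group G] [Finite G]

theorem thompson_isPGroup {T : Subgroup G} (hT : IsPGroup 2 ↥T) : IsPGroup 2 ↥(thompsonSubgroupOf 2 T) :=
  hT.to_le (CfsgLib.Transfer.thompsonSubgroupOf_le 2 T)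

theorem exists_sylowTwoIn {L D : Subgroup G} (hDL : D ≤ L) (hD : IsPGroup 2 ↥D) :
    ∃ T : Subgroup G, IsSylowTwoIn T L ∧ D ≤ T := by
  haveI : Fact (Nat.Prime 2) := ⟨Nat.prime_two⟩
  obtain ⟨P, hP⟩ := (hD.comap_subtype (K := L)).exists_le_sylow
  refine ⟨(P : Subgroup ↥L).map L.subtype, ⟨map_subtype_le _, P.2.map _, ?_⟩, ?_⟩
  · rw [Subgroup.relIndex, show ((P : Subgroup ↥L).map L.subtype).subgroupOf L = (P : Subgroup ↥L) from
      comap_map_eq_self_of_injective L.subtype_injective _]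
    exact Nat.odd_iff.2 (Nat.two_dvd_ne_zero.1 P.not_dvd_index)
  · intro x hx
    exact ⟨⟨x, hDL hx⟩, hP hx, rfl⟩

/-- A largest elementary abelian subgroup of `T`, seen in `G`. -/
def IsMaxIn (T A : Subgroup G) : Prop :=
  A ≤ T ∧ IsElementaryAbelian 2 A ∧ ∀ B ≤ T, IsElementaryAbelian 2 B → Nat.card ↥B ≤ Nat.card ↥A

theorem isMaxIn_iff {T A : Subgroup G} :
    IsMaxIn T A ↔ ∃ A' ∈ maxElementaryAbelianSubgroups 2 ↥T, A'.map T.subtype = A := by
  constructor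
  · rintro ⟨hAT, hAe, hmax⟩
    refine ⟨A.subgroupOf T, ⟨?_, fun B hB => ?_⟩, map_subgroupOf_eq_of_le hAT⟩
    · exact ⟨⟨⟨fun x y => Subtype.ext (Subtype.ext
        (CfsgLib.PGroup.elemAb_comm hAe x.2 y.2))⟩⟩, fun x hx => Subtype.ext (hAe.2 x hx)⟩
    · rw [Nat.card_congr (subgroupOfEquivOfLe hAT).toEquiv, ← card_map_of_injective T.subtype_injective]
      exact hmax _ (map_subtype_le B) (CfsgLib.PGroup.elemAb_map hB _)
  · rintro ⟨A', hA', rfl⟩
    refine ⟨map_subtype_le _, CfsgLib.PGroup.elemAb_map hA'.1 _, fun B hBT hB => ?_⟩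
    rw [card_map_of_injective T.subtype_injective, ← Nat.card_congr (subgroupOfEquivOfLe hBT).toEquiv]
    exact hA'.2 _ ⟨⟨⟨fun x y => Subtype.ext (Subtype.ext
      (CfsgLib.PGroup.elemAb_comm hB x.2 y.2))⟩⟩, fun x hx => Subtype.ext (hB.2 x hx)⟩

theorem IsMaxIn.le_thompson {T A : Subgroup G} (hA : IsMaxIn T A) : A ≤ thompsonSubgroupOf 2 T := by
  obtain ⟨A', hA', rfl⟩ := isMaxIn_iff.1 hA
  exact map_mono (CfsgLib.Transfer.le_thompsonSubgroup hA')

theorem thompson_le_iff {T N : Subgroup G} :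
    thompsonSubgroupOf 2 T ≤ N ↔ ∀ A, IsMaxIn T A → A ≤ N := by
  constructor
  · exact fun h A hA => hA.le_thompson.trans h
  · intro h
    exact map_le_iff_le_comap.2 (sSup_le fun A' hA' =>
      map_le_iff_le_comap.1 (h _ (isMaxIn_iff.2 ⟨A', hA', rfl⟩)))

theorem exists_isMaxIn (T : Subgroup G) : ∃ A, IsMaxIn T A := by
  obtain ⟨A', hA'⟩ := CfsgLib.Transfer.maxEA_nonempty (G := ↥T) 2
  exact ⟨_, isMaxIn_iff.2 ⟨A', hA', rfl⟩⟩

theorem IsMaxIn.of_thompson_eq {T T' A : Subgroup G} (hA : IsMaxIn T A)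
    (hJ : thompsonSubgroupOf 2 T' = thompsonSubgroupOf 2 T) : IsMaxIn T' A := by
  refine ⟨(hA.le_thompson.trans hJ.ge).trans (CfsgLib.Transfer.thompsonSubgroupOf_le 2 T'), hA.2.1,
    fun B hB hBe => ?_⟩
  obtain ⟨A', hA'⟩ := exists_isMaxIn T'
  exact (hA'.2.2 B hB hBe).trans
    (hA.2.2 A' ((hA'.le_thompson.trans hJ.le).trans (CfsgLib.Transfer.thompsonSubgroupOf_le 2 T)) hA'.2.1)

/-- Basic facts about a component. -/
theorem conj3 {k : G} (hk : k ^ 3 = 1) (v : G) : k * (k * (k * v * k⁻¹) * k⁻¹) * k⁻¹ = v := by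
  calc k * (k * (k * v * k⁻¹) * k⁻¹) * k⁻¹ = (k * k * k) * v * (k * k * k)⁻¹ := by group
    _ = v := by rw [← pow_three', hk]; group

theorem exists_rotation {T K : Subgroup G} (hK : IsJComponent T K) :
    ∃ k ∈ K, k ^ 3 = 1 ∧ (∀ y ∈ K, ∃ i : ℤ, (k ^ i)⁻¹ * y ∈ pCoreOf 2 K) ∧
      (∀ w ∈ wOf K, k * w * k⁻¹ = w → w = 1) := by
  obtain ⟨hgen, -, hidx, -, hW, -⟩ := hK
  set C := pCoreOf 2 K with hC
  have hCK : C ≤ K := pCoreOf_le 2 K
  haveI : (C.subgroupOf K).Normal := Subgroup.normal_subgroupOf_of_le_normalizer (le_normalizer_pCoreOf 2 K)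
  obtain ⟨k, ⟨hk, hkodd⟩, hkC⟩ : ∃ k ∈ {g : G | g ∈ K ∧ Odd (orderOf g)}, k ∉ C := by
    by_contra hcon
    push Not at hcon
    have : K ≤ C := hgen.ge.trans ((Subgroup.closure_le _).2 hcon)
    rw [Subgroup.relIndex_eq_one.2 this] at hidx
    omega
  set f := QuotientGroup.mk' (C.subgroupOf K) with hf
  have hq : Nat.card (↥K ⧸ C.subgroupOf K) = 3 := hidx
  haveI : Fact (Nat.Prime 3) := ⟨Nat.prime_three⟩
  have hf1 : f ⟨k, hk⟩ ≠ 1 := fun e => hkC ((QuotientGroup.eq_one_iff (⟨k, hk⟩ : ↥K)).1 e)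
  have hgenq : zpowers (f ⟨k, hk⟩) = ⊤ := zpowers_eq_top_of_prime_card hq hf1
  have hk3 : k ^ 3 = 1 := by
    have h1 : k ^ 3 ∈ C := by
      have : f (⟨k, hk⟩ ^ 3) = 1 := by
        rw [map_pow, ← hq]; exact pow_card_eq_one'
      exact (QuotientGroup.eq_one_iff ((⟨k, hk⟩ : ↥K) ^ 3)).1 this
    obtain ⟨j, hj⟩ := isPGroup_pCoreOf 2 K ⟨_, h1⟩
    rw [← orderOf_eq_one_iff]
    exact Nat.eq_one_of_dvd_coprimes (((Nat.coprime_two_left).2 hkodd).pow_left j)
      (orderOf_dvd_of_pow_eq_one (congrArg Subtype.val hj : (k ^ 3) ^ 2 ^ j = 1)) (orderOf_pow_dvd 3)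
  have hdec : ∀ y ∈ K, ∃ i : ℤ, (k ^ i)⁻¹ * y ∈ C := by
    intro y hy
    obtain ⟨i, hi⟩ := mem_zpowers_iff.1 (hgenq.ge (mem_top (f ⟨y, hy⟩)))
    refine ⟨i, ?_⟩
    rw [← map_zpow] at hi
    exact (QuotientGroup.eq (a := (⟨k, hk⟩ : ↥K) ^ i) (b := ⟨y, hy⟩)).1 hi
  refine ⟨k, hk, hk3, hdec, ?_⟩
  -- `k` has no fixed points on `[U, K]`
  set U := omegaOne 2 (C ⊓ centralizer (C : Set G)) with hU
  have hUw : wOf K = ⁅U, K⁆ := rfl
  have hUe : IsElementaryAbelian 2 U := Oz.elemAb C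
  have hkU : ∀ u ∈ U, k * u * k⁻¹ ∈ U := fun u hu =>
    conj_mem_of_mem_normalizer (Oz.normalizer_le (p := 2) C (le_normalizer_pCoreOf 2 K hk)) hu
  let π : G → G := fun u => u * (k * u * k⁻¹) * (k * (k * u * k⁻¹) * k⁻¹)
  have hπmul : ∀ u ∈ U, ∀ v ∈ U, π (u * v) = π u * π v := by
    intro u hu v hv
    have c := fun (x y : G) (hx : x ∈ U) (hy : y ∈ U) => CfsgLib.PGroup.elemAb_comm hUe hx hy
    show u * v * (k * (u * v) * k⁻¹) * (k * (k * (u * v) * k⁻¹) * k⁻¹) = _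
    have e1 : k * (u * v) * k⁻¹ = (k * u * k⁻¹) * (k * v * k⁻¹) := by group
    have e2 : k * ((k * u * k⁻¹) * (k * v * k⁻¹)) * k⁻¹ =
        (k * (k * u * k⁻¹) * k⁻¹) * (k * (k * v * k⁻¹) * k⁻¹) := by group
    rw [e1, e2]
    have h1 := c _ _ hv (hkU u hu)
    have h2 := c _ _ (mul_mem hv (hkU v hv)) (hkU _ (hkU u hu))
    calc u * v * (k * u * k⁻¹ * (k * v * k⁻¹)) * (k * (k * u * k⁻¹) * k⁻¹ * (k * (k * v * k⁻¹) * k⁻¹))
        = u * (v * (k * u * k⁻¹)) * (k * v * k⁻¹) *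
          (k * (k * u * k⁻¹) * k⁻¹ * (k * (k * v * k⁻¹) * k⁻¹)) := by simp only [mul_assoc]
      _ = u * (k * u * k⁻¹) * ((v * (k * v * k⁻¹)) * (k * (k * u * k⁻¹) * k⁻¹)) *
          (k * (k * v * k⁻¹) * k⁻¹) := by rw [h1]; simp only [mul_assoc]
      _ = _ := by rw [h2]; simp only [π, mul_assoc]
  intro w hw
  suffices hwU : w ∈ U ∧ π w = 1 by
    intro hfix
    have := hwU.2
    simp only [π, hfix] at this
    rwa [show w * w = 1 by rw [← pow_two]; exact hUe.2 w hwU.1, one_mul] at this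
  exact by
    rw [hUw, Subgroup.commutator_def] at hw
    induction hw using Subgroup.closure_induction with
    | mem x hx =>
      obtain ⟨u, hu, y, hy, rfl⟩ := hx
      obtain ⟨i, hi⟩ := hdec y hy
      have hui : u⁻¹ = u := inv_eq_of_mul_eq_one_right (by rw [← pow_two]; exact hUe.2 u hu)
      have hyu : ∀ v ∈ U, y * v * y⁻¹ = k ^ i * v * (k ^ i)⁻¹ := by
        intro v hv
        have hc := (Oz.mem_iff.1 hv).2.1 _ hi
        calc y * v * y⁻¹ = k ^ i * (((k ^ i)⁻¹ * y) * v) * ((k ^ i)⁻¹ * y)⁻¹ * (k ^ i)⁻¹ := by group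
          _ = _ := by rw [hc]; group
      have hy' : y * u * y⁻¹ ∈ U :=
        conj_mem_of_mem_normalizer (Oz.normalizer_le (p := 2) C (le_normalizer_pCoreOf 2 K hy)) hu
      have he : ⁅u, y⁆ = u * (y * u * y⁻¹) := by rw [commutatorElement_def, hui]; group
      rw [he]
      refine ⟨mul_mem hu hy', ?_⟩
      rw [hπmul u hu _ hy', hyu u hu]
      -- `π` is `k`-invariant
      have hinv : ∀ v ∈ U, π (k * v * k⁻¹) = π v := by
        intro v hv
        have h3 := conj3 hk3 v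
        show k * v * k⁻¹ * (k * (k * v * k⁻¹) * k⁻¹) * (k * (k * (k * v * k⁻¹) * k⁻¹) * k⁻¹) = π v
        rw [h3]
        have := CfsgLib.PGroup.elemAb_comm hUe (mul_mem (hkU v hv) (hkU _ (hkU v hv))) hv
        rw [this]
        simp only [π, mul_assoc]
      have h3 : k ^ (3 : ℤ) = 1 := by rw [show (k : G) ^ (3 : ℤ) = k ^ 3 from zpow_natCast k 3, hk3]
      have hpi : π (k ^ i * u * (k ^ i)⁻¹) = π u := by
        rw [zpow_eq_zpow_emod i h3]
        have hcases : i % 3 = 0 ∨ i % 3 = 1 ∨ i % 3 = 2 := by omega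
        rcases hcases with e | e | e <;> rw [e]
        · simp
        · rw [zpow_one, hinv u hu]
        · rw [show k ^ (2 : ℤ) * u * (k ^ (2 : ℤ))⁻¹ = k * (k * u * k⁻¹) * k⁻¹ by
            rw [zpow_two]; group, hinv _ (hkU u hu), hinv u hu]
      rw [hpi, ← pow_two]
      exact hUe.2 _ (mul_mem (mul_mem hu (hkU u hu)) (hkU _ (hkU u hu)))
    | one => exact ⟨one_mem _, by simp [π]⟩
    | mul x y _ _ hx hy => exact ⟨mul_mem hx.1 hy.1, by rw [hπmul x hx.1 y hy.1, hx.2, hy.2, one_mul]⟩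
    | inv x _ hx =>
      rw [inv_eq_of_mul_eq_one_right (by rw [← pow_two]; exact hUe.2 x hx.1 : x * x = 1)]
      exact hx

theorem wOf_le_pCoreOf {T K : Subgroup G} (hK : IsJComponent T K) :
    wOf K ≤ pCoreOf 2 K ∧ wOf K ≤ omegaCenterOf (pCoreOf 2 K) ∧
      K ≤ normalizer (wOf K : Set G) := by
  obtain ⟨k, hk, -, -, -⟩ := exists_rotation hK
  set C := pCoreOf 2 K
  set U := omegaOne 2 (C ⊓ centralizer (C : Set G))
  have hn : K ≤ normalizer (U : Set G) := (le_normalizer_pCoreOf 2 K).trans (Oz.normalizer_le (p := 2) C)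
  have h1 : wOf K ≤ U := Subgroup.le_normalizer_iff_commutator_le_left.1 hn |> fun h => by
    show ⁅U, K⁆ ≤ U
    rw [Subgroup.commutator_comm]
    exact Subgroup.commutator_comm K U ▸ h
  refine ⟨h1.trans (Oz.le_self _), h1, ?_⟩
  intro x hx
  refine CfsgLib.LocalEven.mem_normalizer_of_conj_le ?_
  show (⁅U, K⁆).map (MulAut.conj x).toMonoidHom ≤ ⁅U, K⁆
  rw [Subgroup.map_commutator]
  refine Subgroup.commutator_mono ?_ ?_
  · rintro _ ⟨u, hu, rfl⟩; exact conj_mem_of_mem_normalizer (hn hx) hu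
  · rintro _ ⟨u, hu, rfl⟩; exact conj_mem_of_mem_normalizer (Subgroup.le_normalizer hx) hu

theorem component_normalizer {T K : Subgroup G} (hK : IsJComponent T K) :
    thompsonSubgroupOf 2 T ≤ normalizer (K : Set G) :=
  Subgroup.le_normalizer_iff_commutator_le_left.2 hK.2.1.le

theorem normalizer_le_normalizer_wOf (K : Subgroup G) :
    normalizer (K : Set G) ≤ normalizer (wOf K : Set G) := by
  intro x hx
  have hC : x ∈ normalizer (pCoreOf 2 K : Set G) := by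
    exact mem_normalizer_of_conj_le (le_of_eq ((pCoreOf_map 2 _ K).symm.trans
      (congrArg (pCoreOf 2) (Subgroup.mem_normalizer_iff_map_conj_eq.1 hx))))
  refine mem_normalizer_of_conj_le (le_of_eq ?_)
  show (⁅omegaOne 2 (pCoreOf 2 K ⊓ centralizer (pCoreOf 2 K : Set G)), K⁆).map (MulAut.conj x).toMonoidHom = _
  rw [Subgroup.map_commutator]
  congr 1
  · exact Subgroup.mem_normalizer_iff_map_conj_eq.1 (Oz.normalizer_le (p := 2) _ hC)
  · exact Subgroup.mem_normalizer_iff_map_conj_eq.1 hx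

set_option maxHeartbeats 800000 in
/-- `Ω₁(Z(J(T)))` meets `W_K` in order 2 and is the product with its part centralised by `⟨K, J(T)⟩`. -/
theorem component_omega {T K : Subgroup G} (hT : IsPGroup 2 ↥T) (hK : IsJComponent T K) :
    Nat.card ↥(omegaCenterOf (thompsonSubgroupOf 2 T) ⊓ wOf K) = 2 ∧ wOf K ≤ thompsonSubgroupOf 2 T ∧
      ∀ z ∈ omegaCenterOf (thompsonSubgroupOf 2 T), ∃ c ∈ omegaCenterOf (thompsonSubgroupOf 2 T),
        c ∈ centralizer ((K ⊔ thompsonSubgroupOf 2 T : Subgroup G) : Set G) ∧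
        c ∈ K ⊔ thompsonSubgroupOf 2 T ∧ c * z ∈ wOf K := by
  haveI : Fact (Nat.Prime 2) := ⟨Nat.prime_two⟩
  set J := thompsonSubgroupOf 2 T with hJdef
  set M := K ⊔ J with hMdef
  set W := wOf K with hWdef
  set C := pCoreOf 2 K with hCdef
  obtain ⟨k, hk, hk3, hdec, hfpf⟩ := exists_rotation hK
  obtain ⟨hWC, hWU, hKW⟩ := wOf_le_pCoreOf hK
  have hW4 : Nat.card ↥W = 4 := hK.2.2.2.2.1
  have hWsq : ∀ w ∈ W, w * w = 1 := hK.2.2.2.2.2
  have hJK := component_normalizer hK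
  have hMW : M ≤ normalizer (W : Set G) := sup_le hKW (hJK.trans (normalizer_le_normalizer_wOf K))
  have hMK : M ≤ normalizer (K : Set G) := sup_le Subgroup.le_normalizer hJK
  have hMC : M ≤ normalizer (C : Set G) := fun x hx => mem_normalizer_of_conj_le (le_of_eq
    ((pCoreOf_map 2 _ K).symm.trans
      (congrArg (pCoreOf 2) (Subgroup.mem_normalizer_iff_map_conj_eq.1 (hMK hx)))))
  have hCc : ∀ n ∈ C, ∀ w ∈ W, n * w = w * n := fun n hn w hw => (Oz.mem_iff.1 (hWU hw)).2.1 n hn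
  obtain ⟨T1, hT1, hJT1⟩ := exists_sylowTwoIn (le_sup_right : J ≤ M) (thompson_isPGroup hT)
  have hJ1 : thompsonSubgroupOf 2 T1 = J := hK.2.2.2.1 T1 hT1 hJT1
  -- normal 2-subgroups of `M` lie in `T1`
  have hnorm2 : ∀ N : Subgroup G, N ≤ M → IsPGroup 2 ↥N → M ≤ normalizer (N : Set G) → N ≤ T1 := by
    intro N hNM hN hMN x hx
    have h2 : IsPGroup 2 ↥(T1 ⊔ N) := hT1.2.1.to_sup_of_normal_right' hN (hT1.1.trans hMN)
    have hle : T1 ⊔ N ≤ M := sup_le hT1.1 hNM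
    have hm := Subgroup.relIndex_mul_relIndex T1 (T1 ⊔ N) M le_sup_left hle
    obtain ⟨e, he⟩ := IsPGroup.iff_card.1 h2
    have hodd : Odd (T1.relIndex (T1 ⊔ N)) := hT1.2.2.of_dvd_nat ⟨_, hm.symm⟩
    have hdvd : T1.relIndex (T1 ⊔ N) ∣ 2 ^ e := he ▸ Subgroup.relIndex_dvd_card T1 (T1 ⊔ N)
    have h1 : T1.relIndex (T1 ⊔ N) = 1 :=
      Nat.eq_one_of_dvd_coprimes (((Nat.coprime_two_left).2 hodd).pow_left e) hdvd dvd_rfl
    exact Subgroup.relIndex_eq_one.1 h1 (mem_sup_right hx)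
  -- action on `W`
  have hWM : W ≤ M := hWC.trans ((pCoreOf_le 2 K).trans le_sup_left)
  have hWT1 : W ≤ T1 := hnorm2 W hWM ((isPGroup_pCoreOf 2 K).to_le hWC) hMW
  set φ := (conjOn W).comp (Subgroup.inclusion hMW) with hφ
  have hφa : ∀ (x : G) (hx : x ∈ M) (w : ↥W), ((φ ⟨x, hx⟩ w : ↥W) : G) = x * w * x⁻¹ := fun _ _ _ => rfl
  have hφ1 : ∀ (x : G) (hx : x ∈ M), φ ⟨x, hx⟩ = 1 → ∀ w ∈ W, x * w = w * x := by
    intro x hx e w hw
    have := congrArg Subtype.val (DFunLike.congr_fun e (⟨w, hw⟩ : ↥W))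
    rw [hφa, MulAut.one_apply] at this
    exact mul_inv_eq_iff_eq_mul.1 this
  have hφ1' : ∀ (x : G) (hx : x ∈ M), (∀ w ∈ W, x * w = w * x) → φ ⟨x, hx⟩ = 1 := by
    intro x hx h
    ext w
    rw [hφa, MulAut.one_apply, h w w.2, mul_inv_cancel_right]
  have hkM : k ∈ M := mem_sup_left hk
  have hk1 : φ ⟨k, hkM⟩ ≠ 1 := by
    intro e
    have hb : W = ⊥ := eq_bot_iff.2 fun w hw =>
      mem_bot.2 (hfpf w hw (by rw [hφ1 k hkM e w hw, mul_inv_cancel_right]))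
    rw [hb, Subgroup.card_bot] at hW4
    omega
  -- the image of `M` has order at most 6
  obtain ⟨w₁, hw₁, hw₁1⟩ : ∃ w ∈ W, w ≠ 1 := (Subgroup.bot_or_exists_ne_one W).resolve_left (fun e => by
    rw [e, Subgroup.card_bot] at hW4; omega)
  set w₂ : ↥W := φ ⟨k, hkM⟩ ⟨w₁, hw₁⟩ with hw₂
  have hw21 : (w₂ : G) ≠ 1 := by
    intro e
    have : φ ⟨k, hkM⟩ ⟨w₁, hw₁⟩ = 1 := Subtype.ext e
    exact hw₁1 (congrArg Subtype.val ((φ ⟨k, hkM⟩).injective (this.trans (map_one _).symm)))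
  have hw2ne : (w₂ : G) ≠ w₁ := fun e => hw₁1 (hfpf w₁ hw₁ e)
  have hspan : ∀ w : ↥W, w = 1 ∨ w = ⟨w₁, hw₁⟩ ∨ w = w₂ ∨ w = ⟨w₁, hw₁⟩ * w₂ := by
    intro w
    by_contra hc
    simp only [not_or] at hc
    obtain ⟨c1, c2, c3, c4⟩ := hc
    classical
    haveI := Fintype.ofFinite ↥W
    have e1 : (⟨w₁, hw₁⟩ : ↥W) ≠ 1 := fun e => hw₁1 (congrArg Subtype.val e)
    have e2 : w₂ ≠ 1 := fun e => hw21 (congrArg Subtype.val e)
    have e3 : w₂ ≠ ⟨w₁, hw₁⟩ := fun e => hw2ne (congrArg Subtype.val e)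
    have e4 : (⟨w₁, hw₁⟩ : ↥W) * w₂ ≠ 1 := fun e => e3 ((eq_inv_of_mul_eq_one_right e).trans
      (inv_eq_of_mul_eq_one_right (Subtype.ext (hWsq w₁ hw₁))))
    have hnd : ([1, ⟨w₁, hw₁⟩, w₂, ⟨w₁, hw₁⟩ * w₂, w] : List ↥W).Nodup := by
      simp [List.nodup_cons, Ne.symm e1, Ne.symm e2, Ne.symm e3, Ne.symm e4, Ne.symm c1, Ne.symm c2,
        Ne.symm c3, Ne.symm c4, e1, e2]
    have := hnd.length_le_card
    rw [← Nat.card_eq_fintype_card, hW4] at this
    simp only [List.length_cons, List.length_nil] at this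
    omega
  have hcard6 : Nat.card ↥φ.range ≤ 6 := by
    classical
    haveI := Fintype.ofFinite ↥W
    let S := {p : ↥W × ↥W // p.1 ≠ 1 ∧ p.2 ≠ 1 ∧ p.1 ≠ p.2}
    have hS : Nat.card S ≤ 6 := by
      rw [Nat.card_eq_fintype_card, Fintype.card_subtype]
      have h1 : (Finset.univ.filter fun p : ↥W × ↥W => p.1 ≠ 1 ∧ p.2 ≠ 1 ∧ p.1 ≠ p.2) ⊆
          (Finset.univ.erase (1 : ↥W)).offDiag := by
        intro p hp
        simp only [Finset.mem_filter, Finset.mem_univ, true_and] at hp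
        simp [Finset.mem_offDiag, hp.1, hp.2.1, hp.2.2]
      refine (Finset.card_le_card h1).trans ?_
      rw [Finset.offDiag_card, Finset.card_erase_of_mem (Finset.mem_univ _), Finset.card_univ,
        ← Nat.card_eq_fintype_card, hW4]
    refine le_trans (Nat.card_le_card_of_injective
      (fun g : ↥φ.range => (⟨((g : MulAut ↥W) ⟨w₁, hw₁⟩, (g : MulAut ↥W) w₂), ?_, ?_, ?_⟩ : S)) ?_) hS
    · exact fun e => hw₁1 (congrArg Subtype.val ((g : MulAut ↥W).injective (e.trans (map_one _).symm)))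
    · exact fun e => hw21 (congrArg Subtype.val ((g : MulAut ↥W).injective (e.trans (map_one _).symm)))
    · exact fun e => hw2ne (congrArg Subtype.val ((g : MulAut ↥W).injective e)).symm
    · intro g h hgh
      have h1 := congrArg (fun p : S => (p : ↥W × ↥W).1) hgh
      have h2 := congrArg (fun p : S => (p : ↥W × ↥W).2) hgh
      simp only at h1 h2
      refine Subtype.ext (MulEquiv.ext fun w => ?_)
      rcases hspan w with rfl | rfl | rfl | rfl
      · rw [map_one, map_one]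
      · exact h1
      · exact h2
      · rw [map_mul, map_mul, h1, h2]
  have h3dvd : 3 ∣ Nat.card ↥φ.range := by
    haveI : Fact (Nat.Prime 3) := ⟨Nat.prime_three⟩
    have : orderOf (φ ⟨k, hkM⟩) = 3 := orderOf_eq_prime (by
      rw [← map_pow, show (⟨k, hkM⟩ : ↥M) ^ 3 = 1 from Subtype.ext hk3, map_one]) hk1
    rw [← this]
    exact Subgroup.orderOf_dvd_natCard _ ⟨_, rfl⟩
  -- 2-subgroups have image of order at most 2
  have himg : ∀ A : Subgroup ↥M, IsPGroup 2 ↥A → Nat.card ↥(A.map φ) ≤ 2 := by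
    intro A hA
    obtain ⟨e, he⟩ := IsPGroup.iff_card.1 (hA.map φ)
    have h2 : Nat.card ↥(A.map φ) ∣ Nat.card ↥φ.range := Subgroup.card_dvd_of_le (map_le_range φ A)
    rw [he] at h2 ⊢
    by_contra hc
    have he2 : 2 ≤ e := by
      by_contra h'
      interval_cases e <;> omega
    have h4 : 4 ∣ Nat.card ↥φ.range := (pow_dvd_pow 2 he2).trans h2
    have := Nat.le_of_dvd Nat.card_pos ((show Nat.Coprime 4 3 by decide).mul_dvd_of_dvd_of_dvd h4 h3dvd)
    omega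
  have hAnot : ∃ A, IsMaxIn T A ∧ ∃ a ∈ A, ∃ w ∈ W, a * w ≠ w * a := by
    by_contra hcon
    push Not at hcon
    have hJW : J ≤ centralizer (W : Set G) := thompson_le_iff.2 fun A hA a ha =>
      mem_centralizer_iff.2 fun w hw => (hcon A hA a ha w hw).symm
    apply hk1
    refine hφ1' k hkM fun w hw => ?_
    have hKc : K ≤ centralizer (W : Set G) := by
      conv_lhs => rw [← hK.2.1]
      rw [Subgroup.commutator_le]
      intro y hy j hj
      refine mem_centralizer_iff.2 fun v hv => ?_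
      have hv' : y⁻¹ * v * y ∈ W := (Subgroup.mem_normalizer_iff''.1 (hMW (mem_sup_left hy)) v).1 hv
      have hcj := mem_centralizer_iff.1 (hJW hj)
      have h5 : ⁅y, j⁆ * v * ⁅y, j⁆⁻¹ = v := by
        rw [commutatorElement_def]
        calc y * j * y⁻¹ * j⁻¹ * v * (y * j * y⁻¹ * j⁻¹)⁻¹
            = y * j * y⁻¹ * (j⁻¹ * v * j) * y * j⁻¹ * y⁻¹ := by group
          _ = y * (j * (y⁻¹ * v * y) * j⁻¹) * y⁻¹ := by rw [mul_assoc j⁻¹, hcj v hv]; group
          _ = v := by rw [← hcj _ hv']; group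
      exact (mul_inv_eq_iff_eq_mul.1 h5).symm
    exact (mem_centralizer_iff.1 (hKc hk) w hw).symm
  -- `W` with the centraliser part of a largest abelian subgroup
  have hWB : ∀ A, IsMaxIn T A → (∃ a ∈ A, ∃ w ∈ W, a * w ≠ w * a) →
      IsMaxIn T1 (W ⊔ (A ⊓ centralizer (W : Set G))) := by
    intro A hA hna
    have hA1 := hA.of_thompson_eq hJ1
    have hAM : A ≤ M := hA.le_thompson.trans le_sup_right
    set B := A ⊓ centralizer (W : Set G) with hB
    have hWe : IsElementaryAbelian 2 W :=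
      CfsgLib.PGroup.elemAb_mono (Oz.elemAb C) hWU
    have he : IsElementaryAbelian 2 (W ⊔ B) := CfsgLib.PGroup.elemAb_sup hWe
      (CfsgLib.PGroup.elemAb_mono hA.2.1 inf_le_left) fun w hw b hb => mem_centralizer_iff.1 hb.2 w hw
    refine ⟨sup_le hWT1 (inf_le_left.trans hA1.1), he, fun D hD hDe => (hA1.2.2 D hD hDe).trans ?_⟩
    -- `|A| ≤ |W B|`
    have hc := card_sup_mul_inf_of_le_normalizer (A := B) (B := W)
      (inf_le_right.trans (fun x hx => mem_normalizer_of_conj_le (by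
        rintro _ ⟨w, hw, rfl⟩
        show x * w * x⁻¹ ∈ W
        rw [← mem_centralizer_iff.1 hx w hw, mul_inv_cancel_right]
        exact hw)))
    have hAB : Nat.card ↥A ≤ 2 * Nat.card ↥B := by
      have h1 := card_eq_card_map_mul φ (A.subgroupOf M)
      rw [Nat.card_congr (subgroupOfEquivOfLe hAM).toEquiv] at h1
      have h2 : Nat.card ↥(A.subgroupOf M ⊓ φ.ker) ≤ Nat.card ↥B := by
        rw [← card_map_of_injective (K := A.subgroupOf M ⊓ φ.ker) M.subtype_injective]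
        refine Subgroup.card_le_of_le ?_
        rintro _ ⟨x, hx, rfl⟩
        exact Subgroup.mem_inf.2 ⟨hx.1, mem_centralizer_iff.2 fun w hw => (hφ1 _ x.2 hx.2 w hw).symm⟩
      rw [h1]
      exact Nat.mul_le_mul (himg _ ((hT.to_le hA.1).comap_subtype)) h2
    have hinf : Nat.card ↥(W ⊓ B) ≤ 2 := by
      by_contra hc'
      obtain ⟨a, ha, w, hw, hne⟩ := hna
      apply hne
      have hdv : Nat.card ↥(W ⊓ B) ∣ 4 := hW4 ▸ Subgroup.card_dvd_of_le inf_le_left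
      have hle4 := Nat.le_of_dvd (by norm_num) hdv
      have h4 : Nat.card ↥(W ⊓ B) = 4 := by
        interval_cases h : Nat.card ↥(W ⊓ B) <;> omega
      have : W ⊓ B = W := Subgroup.eq_of_le_of_card_ge inf_le_left (by rw [hW4, h4])
      exact CfsgLib.PGroup.elemAb_comm hA.2.1 ha (this.ge hw).2.1
    rw [hW4] at hc
    have : Nat.card ↥(W ⊔ B) * Nat.card ↥(W ⊓ B) ≤ Nat.card ↥(W ⊔ B) * 2 := Nat.mul_le_mul_left _ hinf
    omega
  obtain ⟨A₀, hA₀, hA₀ne⟩ := hAnot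
  have hWB₀ := hWB A₀ hA₀ hA₀ne
  have hWJ : W ≤ J := hJ1 ▸ le_sup_left.trans hWB₀.le_thompson
  set Z₀ := omegaCenterOf J with hZ₀
  have hZmem : ∀ {z : G}, z ∈ Z₀ ↔ z ∈ J ∧ (∀ j ∈ J, j * z = z * j) ∧ z ^ 2 = 1 := Oz.mem_iff
  -- order two
  obtain ⟨a, haA, w', hw', hne'⟩ := hA₀ne
  have haM : a ∈ M := mem_sup_right (hA₀.le_thompson haA)
  set F : Subgroup G := W ⊓ centralizer ({a} : Set G) with hF
  have hFlt : Nat.card ↥F ≤ 2 := by
    have hne : ¬ W ≤ F := fun h => hne' (mem_centralizer_singleton_iff.1 (h hw').2).symm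
    obtain ⟨m, hm⟩ := Subgroup.card_dvd_of_le (inf_le_left : F ≤ W)
    rw [hW4] at hm
    have : m ≠ 1 := fun e => hne (le_of_eq (Subgroup.eq_of_le_of_card_ge inf_le_left (by
      rw [hW4]; rw [e, mul_one] at hm; exact hm.le)).symm)
    have hm0 : m ≠ 0 := fun e => by rw [e, mul_zero] at hm; exact absurd hm (by norm_num)
    have hm2 : Nat.card ↥F * 2 ≤ 4 := (Nat.mul_le_mul_left _ (by omega)).trans hm.ge
    omega
  have hcard2 : Nat.card ↥(Z₀ ⊓ W) = 2 := by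
    have hle : Z₀ ⊓ W ≤ F := fun w hw => ⟨hw.2, mem_centralizer_singleton_iff.2
      ((hZmem.1 hw.1).2.1 a (hA₀.le_thompson haA)).symm⟩
    have h1 := (Subgroup.card_le_of_le hle).trans hFlt
    have hne1 : Z₀ ⊓ W ≠ ⊥ := by
      intro e
      haveI : (W.subgroupOf J).Normal := Subgroup.normal_subgroupOf_of_le_normalizer (le_sup_right.trans hMW)
      have hWne : W.subgroupOf J ≠ ⊥ := by
        intro e'
        rw [Subgroup.subgroupOf_eq_bot] at e'
        exact hw₁1 (mem_bot.1 (e'.le_bot ⟨hw₁, hWJ hw₁⟩))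
      have h0 := CfsgLib.PGroup.inf_center_ne_bot (p := 2) (thompson_isPGroup hT) (W.subgroupOf J) hWne
      obtain ⟨y, ⟨hyW, hyc⟩, hy1⟩ := (Subgroup.bot_or_exists_ne_one _).resolve_left h0
      apply hy1
      have : (y : G) ∈ Z₀ ⊓ W := ⟨hZmem.2 ⟨y.2,
        fun j hj => congrArg Subtype.val (Subgroup.mem_center_iff.1 hyc ⟨j, hj⟩),
        by rw [pow_two]; exact hWsq _ hyW⟩, hyW⟩
      rw [e, mem_bot] at this
      exact Subtype.ext this
    have h2 := (Subgroup.one_lt_card_iff_ne_bot _).2 hne1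
    omega
  refine ⟨hcard2, hWJ, ?_⟩
  -- the centraliser of `W` in `M`
  set N : Subgroup G := M ⊓ centralizer (W : Set G) with hN
  have hMN : M ≤ normalizer (N : Set G) := by
    intro x hx
    refine mem_normalizer_of_conj_le ?_
    rintro _ ⟨y, hy, rfl⟩
    exact Subgroup.mem_inf.2 ⟨mul_mem (mul_mem hx hy.1) (inv_mem hx),
      conj_mem_of_mem_normalizer (Oz.mem_normalizer_centralizer (hMW hx)) hy.2⟩
  have hkN : ∀ i : ℤ, φ ⟨k, hkM⟩ ^ i = 1 → k ^ i = 1 := by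
    intro i hi
    haveI : Fact (Nat.Prime 3) := ⟨Nat.prime_three⟩
    have ho : orderOf (φ ⟨k, hkM⟩) = 3 := orderOf_eq_prime (by
      rw [← map_pow, show (⟨k, hkM⟩ : ↥M) ^ 3 = 1 from Subtype.ext hk3, map_one]) hk1
    have hd := orderOf_dvd_iff_zpow_eq_one.2 hi
    rw [ho] at hd
    obtain ⟨m, rfl⟩ := hd
    rw [zpow_mul, show (k : G) ^ ((3 : ℕ) : ℤ) = k ^ 3 from zpow_natCast k 3, hk3, one_zpow]
  have hN2 : IsPGroup 2 ↥N := by
    -- `N = C (J ∩ N)`
    have hsub : N ≤ C ⊔ J := by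
      intro x hx
      have hxM : x ∈ K ⊔ J := hx.1
      haveI : (K.subgroupOf M).Normal := Subgroup.normal_subgroupOf_of_le_normalizer hMK
      have hxs : (⟨x, hx.1⟩ : ↥M) ∈ K.subgroupOf M ⊔ J.subgroupOf M := by
        rw [← Subgroup.subgroupOf_sup le_sup_left le_sup_right]; exact hxM
      rw [Subgroup.mem_sup_of_normal_left] at hxs
      obtain ⟨y, hy, j, hj, hyj⟩ := hxs
      obtain ⟨i, hi⟩ := hdec y hy
      have hφx : φ ⟨x, hx.1⟩ = 1 := hφ1' x hx.1 fun w hw => (mem_centralizer_iff.1 hx.2 w hw).symm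
      have hφc : φ ⟨(k ^ i)⁻¹ * y, mul_mem (inv_mem (zpow_mem hkM i)) y.2⟩ = 1 :=
        hφ1' _ _ fun w hw => hCc _ hi w hw
      have hyk : φ y = φ ⟨k, hkM⟩ ^ i := by
        rw [show (⟨(k ^ i)⁻¹ * y, mul_mem (inv_mem (zpow_mem hkM i)) y.2⟩ : ↥M) =
          (⟨k, hkM⟩ ^ i)⁻¹ * y from Subtype.ext (by simp), map_mul, map_inv, inv_mul_eq_one, map_zpow] at hφc
        exact hφc.symm
      rw [← hyj, map_mul, hyk] at hφx
      obtain ⟨e, he⟩ := (thompson_isPGroup hT) ⟨(j : G), hj⟩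
      have hj2 : (φ j) ^ 2 ^ e = 1 := by
        rw [← map_pow, show j ^ 2 ^ e = 1 from Subtype.ext (congrArg Subtype.val he :), map_one]
      have hki : φ ⟨k, hkM⟩ ^ i = 1 := by
        have h3 : (φ ⟨k, hkM⟩ ^ i) ^ 3 = 1 := by
          rw [← zpow_natCast, zpow_comm, zpow_natCast, ← map_pow,
            show (⟨k, hkM⟩ : ↥M) ^ 3 = 1 from Subtype.ext hk3, map_one, one_zpow]
        have h4 : (φ ⟨k, hkM⟩ ^ i) ^ 2 ^ e = 1 := by
          rw [eq_inv_of_mul_eq_one_left hφx, inv_pow, hj2, inv_one]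
        rw [← orderOf_eq_one_iff]
        exact Nat.eq_one_of_dvd_coprimes ((show Nat.Coprime 2 3 by decide).pow e 1)
          (orderOf_dvd_of_pow_eq_one h4) (orderOf_dvd_of_pow_eq_one (by rw [pow_one]; exact h3))
      have hyC : (y : G) ∈ C := by
        rw [hkN i hki, inv_one, one_mul] at hi
        exact hi
      have hxe : x = (y : G) * j := (congrArg Subtype.val hyj).symm
      rw [hxe]
      exact Subgroup.mul_mem_sup hyC hj
    exact ((isPGroup_pCoreOf 2 K).to_sup_of_normal_left' (thompson_isPGroup hT) (le_sup_right.trans hMC)).to_le hsub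
  have hNT1 : N ≤ T1 := hnorm2 N inf_le_left hN2 hMN
  have hZN : Z₀ ≤ N := fun z hz => ⟨mem_sup_right (hZmem.1 hz).1,
    mem_centralizer_iff.2 fun w hw => (hZmem.1 hz).2.1 w (hWJ hw)⟩
  -- the normal closure of `Z₀`
  set U : Subgroup G := Subgroup.closure {y | ∃ x ∈ M, ∃ z ∈ Z₀, y = x * z * x⁻¹} with hU
  have hUD : ∀ D, IsMaxIn T1 D → D ≤ N → U ≤ D := by
    intro D hD hDN
    rw [hU, Subgroup.closure_le]
    rintro _ ⟨x, hx, z, hz, rfl⟩
    set D' := D.map (MulAut.conj x⁻¹).toMonoidHom with hD'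
    have hD'N : D' ≤ N := by
      rintro _ ⟨y, hy, rfl⟩
      exact conj_mem_of_mem_normalizer (hMN (inv_mem hx)) (hDN hy)
    have hD'max : IsMaxIn T1 D' := ⟨hD'N.trans hNT1, CfsgLib.PGroup.elemAb_map hD.2.1 _, fun E hE hEe => by
      rw [hD', card_map_conj]; exact hD.2.2 E hE hEe⟩
    have hzD : z ∈ D' := by
      by_contra hzn
      have hD'J : D' ≤ J := hJ1 ▸ hD'max.le_thompson
      have he : IsElementaryAbelian 2 (D' ⊔ zpowers z) := CfsgLib.PGroup.elemAb_sup hD'max.2.1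
        (CfsgLib.PGroup.elemAb_zpowers (hZmem.1 hz).2.2) (by
          rintro d hd _ ⟨i, rfl⟩
          exact ((show Commute d z from (hZmem.1 hz).2.1 d (hD'J hd)).zpow_right i).eq)
      have hle : D' ⊔ zpowers z ≤ T1 :=
        sup_le hD'max.1 (zpowers_le.2 (hNT1 (hZN hz)))
      exact hzn ((Subgroup.eq_of_le_of_card_ge le_sup_left (hD'max.2.2 _ hle he)).symm ▸
        mem_sup_right (mem_zpowers z))
    obtain ⟨y, hy, hyz⟩ := hzD
    have : x * z * x⁻¹ = y := by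
      rw [← hyz]
      show x * (x⁻¹ * y * x⁻¹⁻¹) * x⁻¹ = y
      group
    rw [this]; exact hy
  have hB₀N : W ⊔ (A₀ ⊓ centralizer (W : Set G)) ≤ N := sup_le
    (fun w hw => ⟨hWM hw, mem_centralizer_iff.2 fun v hv =>
      CfsgLib.PGroup.elemAb_comm (CfsgLib.PGroup.elemAb_mono (Oz.elemAb C) hWU) hv hw⟩)
    (fun b hb => ⟨mem_sup_right (hA₀.le_thompson hb.1), hb.2⟩)
  have hUe : IsElementaryAbelian 2 U := CfsgLib.PGroup.elemAb_mono hWB₀.2.1 (hUD _ hWB₀ hB₀N)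
  have hUn : ∀ x ∈ M, ∀ u ∈ U, x * u * x⁻¹ ∈ U := by
    intro x hx u hu
    have : U ≤ U.comap (MulAut.conj x).toMonoidHom := by
      conv_lhs => rw [hU]
      rw [Subgroup.closure_le]
      rintro _ ⟨y, hy, z, hz, rfl⟩
      exact Subgroup.subset_closure ⟨x * y, mul_mem hx hy, z, hz, by
        show x * (y * z * y⁻¹) * x⁻¹ = x * y * z * (x * y)⁻¹
        group⟩
    exact this hu
  -- `J` acts trivially modulo `W`
  let P : Subgroup G :=
    { carrier := {x | x ∈ M ∧ ∀ u ∈ U, x * u * x⁻¹ * u⁻¹ ∈ W}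
      one_mem' := ⟨one_mem _, fun u _ => by simp⟩
      mul_mem' := fun {x y} hx hy => ⟨mul_mem hx.1 hy.1, fun u hu => by
        have h1 := hx.2 (y * u * y⁻¹) (hUn y hy.1 u hu)
        have h2 := hy.2 u hu
        rw [show x * y * u * (x * y)⁻¹ * u⁻¹ = (x * (y * u * y⁻¹) * x⁻¹ * (y * u * y⁻¹)⁻¹) *
          (y * u * y⁻¹ * u⁻¹) by group]
        exact mul_mem h1 h2⟩
      inv_mem' := fun {x} hx => ⟨inv_mem hx.1, fun u hu => by
        have h1 := hx.2 (x⁻¹ * u * x⁻¹⁻¹) (hUn x⁻¹ (inv_mem hx.1) u hu)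
        have := inv_mem h1
        rw [show x⁻¹ * u * x⁻¹⁻¹ * u⁻¹ = (x * (x⁻¹ * u * x⁻¹⁻¹) * x⁻¹ * (x⁻¹ * u * x⁻¹⁻¹)⁻¹)⁻¹ by group]
        exact this⟩ }
  have hMP : M ≤ normalizer (P : Set G) := by
    intro x hx
    refine mem_normalizer_of_conj_le ?_
    rintro _ ⟨y, hy, rfl⟩
    refine ⟨mul_mem (mul_mem hx hy.1) (inv_mem hx), fun u hu => ?_⟩
    have h1 := conj_mem_of_mem_normalizer (hMW hx) (hy.2 (x⁻¹ * u * x⁻¹⁻¹) (hUn x⁻¹ (inv_mem hx) u hu))
    show x * y * x⁻¹ * u * (x * y * x⁻¹)⁻¹ * u⁻¹ ∈ W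
    convert h1 using 1
    group
  have hJP : J ≤ P := thompson_le_iff.2 fun A hA a ha => by
    refine ⟨mem_sup_right (hA.le_thompson ha), fun u hu => ?_⟩
    by_cases hAN : A ≤ centralizer (W : Set G)
    · have hA1 := hA.of_thompson_eq hJ1
      have : u ∈ A := hUD A hA1 (fun y hy => ⟨mem_sup_right (hA.le_thompson hy), hAN hy⟩) hu
      rw [CfsgLib.PGroup.elemAb_comm hA.2.1 ha this, mul_inv_cancel_right, mul_inv_cancel]
      exact one_mem _
    · have hna : ∃ b ∈ A, ∃ w ∈ W, b * w ≠ w * b := by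
        by_contra hc
        push Not at hc
        exact hAN fun b hb => mem_centralizer_iff.2 fun w hw => (hc b hb w hw).symm
      have hu2 := hUD _ (hWB A hA hna) (sup_le (le_sup_left.trans hB₀N)
        (fun b hb => ⟨mem_sup_right (hA.le_thompson hb.1), hb.2⟩)) hu
      obtain ⟨w, hw, b, hb, rfl⟩ : ∃ w ∈ W, ∃ b ∈ A ⊓ centralizer (W : Set G), w * b = u := by
        haveI : ((W.subgroupOf M)).Normal := Subgroup.normal_subgroupOf_of_le_normalizer hMW
        have hBM : A ⊓ centralizer (W : Set G) ≤ M := fun b hb => mem_sup_right (hA.le_thompson hb.1)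
        have h := Subgroup.subgroupOf_sup hWM hBM
        have hus : (⟨u, (sup_le hWM hBM) hu2⟩ : ↥M) ∈ W.subgroupOf M ⊔
            (A ⊓ centralizer (W : Set G)).subgroupOf M := h ▸ hu2
        rw [Subgroup.mem_sup_of_normal_left] at hus
        obtain ⟨w, hw, b, hb, he⟩ := hus
        exact ⟨w, hw, b, hb, congrArg Subtype.val he⟩
      have hab := CfsgLib.PGroup.elemAb_comm hA.2.1 ha hb.1
      rw [show a * (w * b) * a⁻¹ * (w * b)⁻¹ = (a * w * a⁻¹) * (a * b) * a⁻¹ * b⁻¹ * w⁻¹ by group, hab,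
        show a * w * a⁻¹ * (b * a) * a⁻¹ * b⁻¹ * w⁻¹ = a * w * a⁻¹ * w⁻¹ by group]
      exact mul_mem (conj_mem_of_mem_normalizer (hMW (mem_sup_right (hA.le_thompson ha))) hw) (inv_mem hw)
  have hKP : K ≤ P := by
    conv_lhs => rw [← hK.2.1]
    rw [Subgroup.commutator_le]
    intro y hy j hj
    rw [commutatorElement_def]
    exact mul_mem (conj_mem_of_mem_normalizer (hMP (mem_sup_left hy)) (hJP hj)) (inv_mem (hJP hj))
  intro z hz
  have hzU : z ∈ U := Subgroup.subset_closure ⟨1, one_mem _, z, hz, by simp⟩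
  have hz2 : z * z = 1 := by rw [← pow_two]; exact (hZmem.1 hz).2.2
  have hzi : z⁻¹ = z := inv_eq_of_mul_eq_one_right hz2
  have hUW : ∀ u ∈ U, ∀ w ∈ W, u * w = w * u := fun u hu w hw =>
    (mem_centralizer_iff.1 ((hB₀N (hUD _ hWB₀ hB₀N hu)).2) w hw).symm
  -- `C` centralises `z`
  have hCz : ∀ n ∈ C, n * z * n⁻¹ = z := by
    intro n hn
    have key : ∀ m ∈ C, m * z * m⁻¹ * z ∈ Z₀ ⊓ W := by
      intro m hm
      have hwW : m * z * m⁻¹ * z ∈ W := by
        have h1 := (hKP (pCoreOf_le 2 K hm)).2 z hzU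
        rwa [hzi] at h1
      refine ⟨hZmem.2 ⟨hWJ hwW, fun j hj => ?_, by rw [pow_two]; exact hWsq _ hwW⟩, hwW⟩
      have hmT : m ∈ T1 := hnorm2 C ((pCoreOf_le 2 K).trans le_sup_left) (isPGroup_pCoreOf 2 K) hMC hm
      have hJn : m⁻¹ * j * m ∈ J := by
        rw [← hJ1] at hj ⊢
        obtain ⟨u, hu, rfl⟩ := hj
        exact ⟨(⟨m, hmT⟩ : ↥T1)⁻¹ * u * ((⟨m, hmT⟩ : ↥T1)⁻¹)⁻¹,
          (CfsgLib.Transfer.thompsonSubgroup_normal_inst' 2).conj_mem u hu _, by simp⟩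
      have h1 := (hZmem.1 hz).2.1 _ hJn
      have h2 : j * (m * z * m⁻¹) = m * z * m⁻¹ * j := by
        calc j * (m * z * m⁻¹) = m * ((m⁻¹ * j * m) * z) * m⁻¹ := by group
          _ = m * z * m⁻¹ * j := by rw [h1]; group
      rw [← mul_assoc, h2, mul_assoc, (hZmem.1 hz).2.1 j hj, ← mul_assoc]
    by_contra hne
    set w₀ := n * z * n⁻¹ * z with hw₀
    have hw₀1 : w₀ ≠ 1 := fun e => hne ((mul_eq_one_iff_eq_inv.1 e).trans hzi)
    set n' := k * n * k⁻¹ with hn'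
    have hn'C : n' ∈ C := conj_mem_of_mem_normalizer (le_normalizer_pCoreOf 2 K hk) hn
    set w₃ := k⁻¹ * z * k * z with hw₃
    have hw₃W : w₃ ∈ W := by
      have h1 := (hKP (inv_mem hk)).2 z hzU
      rwa [inv_inv, hzi] at h1
    have e1 : n' * z * n'⁻¹ * z = k * w₀ * k⁻¹ := by
      have hkz : k⁻¹ * z * k = w₃ * z := by rw [hw₃, mul_assoc _ z z, hz2, mul_one]
      have hkz' : z = k * (w₃ * z) * k⁻¹ := by rw [← hkz]; group
      calc n' * z * n'⁻¹ * z = k * (n * (k⁻¹ * z * k) * n⁻¹) * k⁻¹ * z := by rw [hn']; group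
        _ = k * (n * (w₃ * z) * n⁻¹) * k⁻¹ * z := by rw [hkz]
        _ = k * (w₃ * (n * z * n⁻¹)) * k⁻¹ * z := by rw [← mul_assoc n, hCc n hn w₃ hw₃W]; group
        _ = k * (w₃ * (w₀ * z)) * k⁻¹ * (k * (w₃ * z) * k⁻¹) := by
              rw [← hkz', hw₀, mul_assoc _ z z, hz2, mul_one]
        _ = k * (w₃ * (w₀ * (z * w₃) * z)) * k⁻¹ := by group
        _ = k * (w₃ * (w₀ * w₃) * (z * z)) * k⁻¹ := by rw [hUW z hzU w₃ hw₃W]; group
        _ = k * w₀ * k⁻¹ := by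
              rw [hz2, mul_one, CfsgLib.PGroup.elemAb_comm (CfsgLib.PGroup.elemAb_mono (Oz.elemAb C) hWU)
                (key n hn).2 hw₃W, ← mul_assoc w₃, hWsq w₃ hw₃W, one_mul]
    have hm' : k * w₀ * k⁻¹ ∈ Z₀ ⊓ W := e1 ▸ key n' hn'C
    refine hw₀1 (hfpf w₀ (key n hn).2 ?_)
    -- a group of order two has one involution
    by_contra hne2
    haveI : Fintype ↥(Z₀ ⊓ W : Subgroup G) := Fintype.ofFinite _
    have hnd : ([1, ⟨w₀, key n hn⟩, ⟨k * w₀ * k⁻¹, hm'⟩] : List ↥(Z₀ ⊓ W : Subgroup G)).Nodup := by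
      simp only [List.nodup_cons, List.mem_cons, List.not_mem_nil, or_false, not_or, List.nodup_nil,
        and_true, not_false_eq_true, Subtype.ext_iff, OneMemClass.coe_one]
      refine ⟨⟨Ne.symm hw₀1, fun e => hw₀1 ?_⟩, fun e => hne2 e.symm⟩
      simpa using e.symm
    have := hnd.length_le_card
    rw [← Nat.card_eq_fintype_card, hcard2] at this
    simp at this
  -- the fixed part
  set w₁' := k * z * k⁻¹ * z with hw₁'
  have hw₁'W : w₁' ∈ W := by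
    have h1 := (hKP hk).2 z hzU
    rwa [hzi] at h1
  have hkz : k * z * k⁻¹ = w₁' * z := by rw [hw₁', mul_assoc _ z z, hz2, mul_one]
  set w₂' := k * w₁' * k⁻¹ with hw₂'
  have hw₂'W : w₂' ∈ W := conj_mem_of_mem_normalizer (hKW hk) hw₁'W
  set c := w₂' * z with hc
  have hWc : ∀ {u v : G}, u ∈ W → v ∈ W → u * v = v * u := fun hu hv =>
    CfsgLib.PGroup.elemAb_comm (CfsgLib.PGroup.elemAb_mono (Oz.elemAb C) hWU) hu hv
  have hsum : k * w₂' * k⁻¹ * w₁' = w₂' := by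
    -- `w₁' w₂' (k·w₂')` is fixed by `k`
    set w₃' := k * w₂' * k⁻¹ with hw₃'
    have hw₃'W : w₃' ∈ W := conj_mem_of_mem_normalizer (hKW hk) hw₂'W
    have h4 : k * w₃' * k⁻¹ = w₁' := by
      rw [hw₃', hw₂']
      exact conj3 hk3 w₁'
    have hm : w₁' * w₂' * w₃' ∈ W := mul_mem (mul_mem hw₁'W hw₂'W) hw₃'W
    have h5 := hfpf _ hm (by
      rw [show k * (w₁' * w₂' * w₃') * k⁻¹ = (k * w₁' * k⁻¹) * (k * w₂' * k⁻¹) * (k * w₃' * k⁻¹) by group,
        ← hw₂', ← hw₃', h4,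
        mul_assoc w₁' w₂' w₃', hWc hw₁'W (mul_mem hw₂'W hw₃'W)])
    have h6 : w₃' * w₁' = w₂'⁻¹ := by
      rw [hWc hw₃'W hw₁'W]
      apply eq_inv_of_mul_eq_one_left
      rw [mul_assoc, hWc hw₃'W hw₂'W, ← mul_assoc, h5]
    rw [h6, inv_eq_of_mul_eq_one_right (hWsq w₂' hw₂'W)]
  have hkc : k * c * k⁻¹ = c := by
    rw [hc, show k * (w₂' * z) * k⁻¹ = (k * w₂' * k⁻¹) * (k * z * k⁻¹) by group, hkz, ← mul_assoc, hsum]
  have hcK : K ≤ centralizer ({c} : Set G) := by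
    intro y hy
    obtain ⟨i, hi⟩ := hdec y hy
    refine mem_centralizer_singleton_iff.2 ?_
    have h1 : Commute ((k ^ i)⁻¹ * y) c := by
      refine Commute.mul_right (hCc _ hi w₂' hw₂'W) ?_
      exact mul_inv_eq_iff_eq_mul.1 (hCz _ hi)
    have h2 : Commute (k ^ i) c := (show Commute k c from mul_inv_eq_iff_eq_mul.1 hkc).zpow_left i
    have := h2.mul_left h1
    rwa [mul_inv_cancel_left] at this
  have hcsq : c * c = 1 := by
    rw [hc, mul_assoc, ← mul_assoc z, hUW z hzU w₂' hw₂'W, mul_assoc w₂', hz2, mul_one, hWsq w₂' hw₂'W]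
  have hcJ : c ∈ J := mul_mem (hWJ hw₂'W) (hZmem.1 hz).1
  have hcj : ∀ j ∈ J, j * c = c * j := by
    intro j hj
    have hd : j * c * j⁻¹ * c ∈ W := by
      have h1 : j * w₂' * j⁻¹ ∈ W := conj_mem_of_mem_normalizer (hMW (mem_sup_right hj)) hw₂'W
      have : j * c * j⁻¹ * c = (j * w₂' * j⁻¹) * w₂' := by
        calc j * c * j⁻¹ * c = (j * w₂' * j⁻¹) * (j * z * j⁻¹) * (w₂' * z) := by rw [hc]; group
          _ = (j * w₂' * j⁻¹) * (z * (w₂' * z)) := by
                rw [(hZmem.1 hz).2.1 j hj, mul_inv_cancel_right]; group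
          _ = _ := by rw [← mul_assoc z, hUW z hzU w₂' hw₂'W, mul_assoc w₂', hz2, mul_one]
      rw [this]
      exact mul_mem h1 hw₂'W
    have hfixd := hfpf _ hd (by
      have hkj : j⁻¹ * k * j ∈ K := by
        have := conj_mem_of_mem_normalizer (hJK (inv_mem hj)) hk
        rwa [inv_inv] at this
      have h2 := mem_centralizer_singleton_iff.1 (hcK hkj)
      calc k * (j * c * j⁻¹ * c) * k⁻¹
          = j * ((j⁻¹ * k * j) * c) * (j⁻¹ * k * j)⁻¹ * j⁻¹ * (k * c * k⁻¹) := by group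
        _ = j * c * j⁻¹ * c := by rw [hkc, h2]; group)
    rw [mul_eq_one_iff_eq_inv, inv_eq_of_mul_eq_one_right hcsq] at hfixd
    exact mul_inv_eq_iff_eq_mul.1 hfixd
  refine ⟨c, hZmem.2 ⟨hcJ, hcj, by rw [pow_two]; exact hcsq⟩, ?_, mem_sup_right hcJ, ?_⟩
  · rw [mem_centralizer_iff]
    have : M ≤ centralizer ({c} : Set G) :=
      sup_le hcK fun j hj => mem_centralizer_singleton_iff.2 (hcj j hj)
    exact fun x hx => mem_centralizer_singleton_iff.1 (this hx)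
  · rw [hc, mul_assoc, hz2, mul_one]; exact hw₂'W

end CfsgLib.LocalEven.JComp
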