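import Cfsg.Agent.Lib.PStab.Complement
import Cfsg.Agent.Lib.LocalEven.S4Section

/-!
Thompson's normal `p`-complement theorem for the abelian Thompson subgroup, `p` odd or the group free of sections `S₄`.
-/

set_option autoImplicit false

namespace CfsgLib.LocalEven.Thompson

open Cfsg Subgroup CfsgLib.PStab
open scoped commutatorElement

universe u

variable {p : ℕ} [hp : Fact p.Prime]

section
variable {G : Type u} [Group G] [Finite G]

theorem final_base (P : Sylow p G) (hG : ¬ HasNormalPComplement p G)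
    (hO : pPrimeCore p G = ⊥) (hQ : HasNormalPComplement p (G ⧸ pCore p G))
    (hprop : ∀ M : Subgroup G, M ≠ ⊤ → (P : Subgroup G) ≤ M → HasNormalPComplement p M) :
    Subgroup.centralizer (pCore p G : Set G) ≤ pCore p G ∧
    (∀ M : Subgroup G, (P : Subgroup G) ≤ M → M ≠ ⊤ → M = P) ∧
    ∃ K : Subgroup G, K.Normal ∧ pCore p G ≤ K ∧ ((pCore p G).relIndex K).Coprime p ∧
      K ⊔ (P : Subgroup G) = ⊤ ∧ ∃ k : ℕ, K.index = p ^ k := by
  set H := pCore p G with hH
  set π := QuotientGroup.mk' H
  have hπ : Function.Surjective π := QuotientGroup.mk'_surjective H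
  obtain ⟨Kb, hKbn, hKc, k, hk⟩ := CfsgLib.Transfer.hasNormalPComplement_iff.1 hQ
  set K := Kb.comap π with hKdef
  have hKn : K.Normal := hKbn.comap π
  have hHK : H ≤ K := by
    intro x hx
    show π x ∈ Kb
    rw [show π x = 1 from (QuotientGroup.eq_one_iff x).2 hx]; exact one_mem _
  have hidx : K.index = p ^ k := by rw [hKdef, Subgroup.index_comap_of_surjective _ hπ, hk]
  have hrel : (H.relIndex K) = Nat.card Kb := by
    have h1 := Subgroup.relIndex_mul_index hHK
    have h2 := Subgroup.card_mul_index Kb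
    rw [hidx] at h1
    rw [hk] at h2
    have h4 : H.index = Nat.card (G ⧸ H) := rfl
    exact Nat.eq_of_mul_eq_mul_right (pow_pos hp.out.pos k) (h1.trans (h4.trans h2.symm))
  have hKsup : K ⊔ (P : Subgroup G) = ⊤ := CfsgLib.Transfer.sup_sylow_eq_top P hidx
  -- `p`-solubility and the centraliser
  have hsol : IsPSolvable p G := by
    obtain ⟨j, hj⟩ := IsPGroup.iff_card.1 (CfsgLib.Cores.isPGroup_pCore p (G := G))
    refine ⟨3, ![⊥, H, K, ⊤], rfl, rfl, ?_, ?_, ?_⟩
    · rw [Fin.monotone_iff_le_succ]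
      intro i
      fin_cases i
      · exact bot_le
      · exact hHK
      · exact le_top
    · intro i
      fin_cases i
      · exact (inferInstance : (⊥ : Subgroup G).Normal)
      · exact (inferInstance : H.Normal)
      · exact hKn
      · exact (inferInstance : (⊤ : Subgroup G).Normal)
    · intro i
      fin_cases i
      · exact Or.inl ⟨j, by simpa [Subgroup.relIndex_bot_left] using hj⟩
      · exact Or.inr (show (H.relIndex K).Coprime p from hrel ▸ hKc)
      · exact Or.inl ⟨k, show K.relIndex ⊤ = p ^ k by rw [Subgroup.relIndex_top_right, hidx]⟩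
  have hCH := CfsgLib.Transfer.centralizer_pCore_le_of_isPSolvable hsol hO
  -- `P` is maximal
  have hmaxP : ∀ M : Subgroup G, (P : Subgroup G) ≤ M → M ≠ ⊤ → M = P := by
    intro M hPM hM
    have hc := CfsgLib.Transfer.hasNormalPComplement_iff_pResidual.1 (hprop M hM hPM)
    have hL : pResidual p M = ⊥ := by
      rw [Subgroup.eq_bot_iff_forall]
      intro x hx
      have hco : (orderOf (x : G)).Coprime p := by
        rw [Subgroup.orderOf_coe]
        exact Nat.Coprime.coprime_dvd_left (Subgroup.orderOf_dvd_natCard _ hx) hc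
      have hxC : (x : G) ∈ Subgroup.centralizer (H : Set G) := by
        have h := CfsgLib.Transfer.mem_centralizer_of_hasNormalPComplement (hprop M hM hPM)
          (Q := H.subgroupOf M) ((CfsgLib.Cores.isPGroup_pCore p (G := G)).comap_of_injective M.subtype
            M.subtype_injective) (g := x) (by rw [Subgroup.normalizer_eq_top]; trivial)
          (by rwa [Subgroup.orderOf_coe] at hco)
        exact Subgroup.mem_centralizer_iff.2 fun y hy => congrArg Subtype.val
          (Subgroup.mem_centralizer_iff.1 h ⟨y, hPM (CfsgLib.Cores.pCore_le_sylow P hy)⟩ hy)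
      have hxH := hCH hxC
      have : (⟨x, hxH⟩ : H) = 1 := CfsgLib.Transfer.eq_one_of_coprime_of_isPGroup
        (CfsgLib.Cores.isPGroup_pCore p (G := G)) (by rwa [Subgroup.orderOf_mk])
      exact Subtype.ext (congrArg (fun y : H => (y : G)) this)
    have hMp : IsPGroup p M := by
      have h1 := CfsgLib.Transfer.isPGroup_quotient_pResidual (G := M) (p := p)
      exact h1.of_injective (QuotientGroup.mk' (pResidual p M))
        ((injective_iff_map_eq_one _).2 fun x hx => by
          have := (QuotientGroup.eq_one_iff x).1 hx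
          rwa [hL, Subgroup.mem_bot] at this)
    exact P.3 hMp hPM
  exact ⟨hCH, hmaxP, K, hKn, hHK, hrel ▸ hKc, hKsup, k, hidx⟩

end

/-- The statement in order `n`. -/
def ThompsonAStatement (p n : ℕ) : Prop :=
  ∀ (G : Type u) [Group G] [Finite G] (P : Sylow p G), Nat.card G = n →
    (p ≠ 2 ∨ ¬ Involves (Equiv.Perm (Fin 4)) G) →
    HasNormalPComplement p (Subgroup.normalizer (jGen 0 (P : Subgroup G) : Set G)) →
    HasNormalPComplement p (Subgroup.centralizer (zSyl (P : Subgroup G) : Set G)) →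
      HasNormalPComplement p G

theorem thompsonAStatement (n : ℕ) : ThompsonAStatement.{u} p n := by
  induction n using Nat.strong_induction_on with
  | _ n ih =>
  intro G _ _ P hn hS4 hJ hC
  by_contra hG
  obtain ⟨hHne, hprop, hK⟩ := reduce_pCore P (fun P1 => jGen 0 P1) (fun P1 _ => jGen_le 0 P1)
    (fun P1 h1 _ h3 => jGen_ne_bot (Or.inl rfl) (P.2.to_le h1) h3)
    (fun P1 _ => inf_le_right.trans (normalizer_le_normalizer_jGen 0 P1)) hJ
    (fun N hN hT hZ h => by
      obtain ⟨T, hT⟩ := hT
      have hlt : Nat.card N < n := hn ▸ lt_of_le_of_ne (Subgroup.card_le_card_group N)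
          fun e => hN (Subgroup.eq_top_of_card_eq N e)
      refine ih _ hlt N T rfl (hS4.imp_right fun h4 h5 => h4 (CfsgLib.LocalEven.Offender.involves_of_injective N.subtype N.subtype_injective h5)) (npc_congr_subgroupOf ?_ h) ?_
      · rw [← jGen_map N.subtype_injective, hT]
      · refine (CfsgLib.Transfer.hasNormalPComplement_congr
          (Subgroup.equivMapOfInjective _ N.subtype N.subtype_injective)).2 (npc_of_le ?_ hC)
        rintro _ ⟨c, hc, rfl⟩
        refine Subgroup.mem_centralizer_iff.2 fun z hz => ?_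
        obtain ⟨z', hz', hzz⟩ := hT.ge ⟨hz.1, hZ hz⟩
        refine hzz ▸ congrArg Subtype.val (Subgroup.mem_centralizer_iff.1 hc z' ⟨hz', ?_⟩)
        refine Subgroup.mem_centralizer_iff.2 fun w hw => Subtype.ext ?_
        rw [Subgroup.subtype_apply] at hzz
        rw [Subgroup.coe_mul, Subgroup.coe_mul, hzz]
        exact Subgroup.mem_centralizer_iff.1 hz.2 _ (hT.le ⟨w, hw, rfl⟩).1)
    hG
  by_cases hO : pPrimeCore p G = ⊥
  swap
  · apply hG
    set N := pPrimeCore p G
    have hNc := CfsgLib.Cores.coprime_card_pPrimeCore (G := G) p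
    refine npc_of_quotient hNc ?_
    set π := QuotientGroup.mk' N
    have hπ : Function.Surjective π := QuotientGroup.mk'_surjective N
    have hinj : Function.Injective (π.comp (P : Subgroup G).subtype) := by
      rw [injective_iff_map_eq_one]
      intro x hx
      have hxN : (x : G) ∈ N := (QuotientGroup.eq_one_iff _).1 hx
      exact CfsgLib.Transfer.eq_one_of_coprime_of_isPGroup P.2
        (Nat.Coprime.coprime_dvd_left (Subgroup.orderOf_coe x ▸ Subgroup.orderOf_dvd_natCard N hxN) hNc)
    have hPb : ((P.mapSurjective hπ : Sylow p (G ⧸ N)) : Subgroup (G ⧸ N)) = (P : Subgroup G).map π := rfl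
    refine ih _ (hn ▸ CfsgLib.Solvable.card_quotient_lt _ hO) (G ⧸ N) (P.mapSurjective hπ) rfl (hS4.imp_right fun h4 h5 => h4 (CfsgLib.LocalEven.Offender.involves_of_surjective π hπ h5)) ?_ ?_
    · rw [hPb]
      have h1 : (P : Subgroup G) = (⊤ : Subgroup P).map (P : Subgroup G).subtype := by
        rw [← MonoidHom.range_eq_map, Subgroup.range_subtype]
      have h2 := jGen_map (e := 0) hinj (⊤ : Subgroup P)
      rw [← Subgroup.map_map, ← h1] at h2
      rw [h2, ← Subgroup.map_map, ← jGen_map (P : Subgroup G).subtype_injective, ← h1]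
      exact npc_of_le_map π (normalizer_map_le hNc (P.2.to_le (jGen_le _ _))) hJ
    · refine npc_of_le_map π ?_ hC
      intro q hq
      have hzmap : (zSyl (P : Subgroup G)).map π ≤ zSyl ((P : Subgroup G).map π) := by
        rintro _ ⟨z, hz, rfl⟩
        refine ⟨⟨z, hz.1, rfl⟩, Subgroup.mem_centralizer_iff.2 ?_⟩
        rintro _ ⟨y, hy, rfl⟩
        rw [← map_mul, ← map_mul, Subgroup.mem_centralizer_iff.1 hz.2 y hy]
      have hqc : ∀ z ∈ zSyl (P : Subgroup G), π z * q = q * π z := fun z hz =>
        Subgroup.mem_centralizer_iff.1 hq _ (hPb ▸ hzmap ⟨z, hz, rfl⟩)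
      obtain ⟨g, hg, rfl⟩ := normalizer_map_le hNc (P.2.to_le (inf_le_left : zSyl (P : Subgroup G) ≤ _))
        (CfsgLib.Solvable.mem_normalizer_of_conj_mem (g := q) (by
          rintro _ ⟨z, hz, rfl⟩
          rw [← hqc z hz, mul_inv_cancel_right]
          exact ⟨z, hz, rfl⟩))
      refine ⟨g, Subgroup.mem_centralizer_iff.2 fun z hz => ?_, rfl⟩
      have hz' : g * z * g⁻¹ ∈ zSyl (P : Subgroup G) := (Subgroup.mem_normalizer_iff.1 hg z).1 hz
      have h1 : π (g * z * g⁻¹) = π z := by
        rw [map_mul, map_mul, map_inv, ← hqc z hz, mul_inv_cancel_right]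
      have h2 := congrArg Subtype.val (hinj (a₁ := ⟨_, hz'.1⟩) (a₂ := ⟨z, hz.1⟩) h1)
      exact (mul_inv_eq_iff_eq_mul.1 h2).symm
  set H := pCore p G with hH
  have hHp := CfsgLib.Cores.isPGroup_pCore p (G := G)
  have hPH : ¬ (P : Subgroup G) ≤ H := fun hle => hG ((npc_top_iff (eq_top_iff.2 (le_trans
    (le_of_eq (Subgroup.normalizer_eq_top_iff.2
      ((le_antisymm (CfsgLib.Cores.pCore_le_sylow P) hle) ▸ (inferInstance : H.Normal) :
        (P : Subgroup G).Normal)).symm) (normalizer_le_normalizer_jGen 0 _)))).1 hJ)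
  set π := QuotientGroup.mk' H
  have hπ : Function.Surjective π := QuotientGroup.mk'_surjective H
  set Pb := (P : Subgroup G).map π with hPb
  have hPbne : Pb ≠ ⊥ := fun e0 => hPH fun x hx =>
    (QuotientGroup.eq_one_iff x).1 (Subgroup.mem_bot.1 (e0.le ⟨x, hx, rfl⟩))
  have hkey : ∀ X : Subgroup (G ⧸ H), X ≤ Pb → X ≠ ⊥ →
      Pb ≤ Subgroup.normalizer (X : Set (G ⧸ H)) →
      HasNormalPComplement p (Subgroup.normalizer (X : Set (G ⧸ H))) := by
    intro X hX hXne hPX
    set K := X.comap π with hKdef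
    have hKp : IsPGroup p K :=
      ((P.2.map π).to_le hX).comap_of_ker_isPGroup π (by rw [QuotientGroup.ker_mk']; exact hHp)
    have hNK : Subgroup.normalizer (K : Set G) = (Subgroup.normalizer (X : Set (G ⧸ H))).comap π :=
      (Subgroup.comap_normalizer_eq_of_surjective _ hπ).symm
    have hHK : H < K := by
      refine lt_of_le_of_ne (fun x hx => ?_) fun e0 => hXne (le_bot_iff.1 fun y hy => ?_)
      · show π x ∈ X
        rw [show π x = 1 from (QuotientGroup.eq_one_iff x).2 hx]; exact one_mem _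
      · obtain ⟨x, rfl⟩ := hπ y
        exact Subgroup.mem_bot.2 ((QuotientGroup.eq_one_iff x).2 (e0.ge hy))
    refine npc_of_le_map π ?_ (hK K hKp hHK ?_)
    · rw [hNK, Subgroup.map_comap_eq_self_of_surjective hπ]
    · rw [hNK]
      exact fun x hx => hPX ⟨x, hx, rfl⟩
  have hzb : IsPGroup p Pb := P.2.map π
  have hquot : HasNormalPComplement p (G ⧸ H) := by
    refine ih _ (hn ▸ CfsgLib.Solvable.card_quotient_lt _ hHne) (G ⧸ H) (P.mapSurjective hπ) rfl (hS4.imp_right fun h4 h5 => h4 (CfsgLib.LocalEven.Offender.involves_of_surjective π hπ h5)) ?_ ?_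
    · exact hkey _ (jGen_le 0 Pb) (jGen_ne_bot (Or.inl rfl) hzb hPbne)
        (Subgroup.le_normalizer.trans (normalizer_le_normalizer_jGen 0 Pb))
    · refine npc_of_le ?_ (hkey (zSyl Pb) inf_le_left (zSyl_ne_bot hzb hPbne) ?_)
      · exact fun q hq => CfsgLib.Solvable.mem_normalizer_of_conj_mem fun z hz => by
          rw [← Subgroup.mem_centralizer_iff.1 hq z hz, mul_inv_cancel_right]; exact hz
      · exact fun q hq => CfsgLib.Solvable.mem_normalizer_of_conj_mem fun z hz => by
          rw [Subgroup.mem_centralizer_iff.1 hz.2 q hq, mul_inv_cancel_right]; exact hz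
  obtain ⟨hc, hmaxP, K, hKn, hHK, hKcop, hKP, k, hKidx⟩ := final_base P hG hO hquot hprop
  have hΩ : ∀ x ∈ zSyl (P : Subgroup G), x ^ p = 1 → ∀ g : G, g * x = x * g := by
    by_cases hp2 : p = 2
    swap
    · replace hp2 : p ≠ 2 := hp2
      obtain ⟨-, hst, -, -⟩ := final_structure hp2 P hG hO hquot hprop
      set Z := zjGen 0 (P : Subgroup G) with hZ
      have hZn : Z.Normal := zjGen_normal hp2 (fun Q _ hQ => hst.isPStableOn Q hQ) (Or.inl rfl) P
        ⟨le_rfl, fun _ _ _ h => h⟩ hc
      set M := Subgroup.centralizer (Z : Set G) ⊔ (P : Subgroup G) with hM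
      by_cases hMtop : M = ⊤
      swap
      · -- `J` is normal
        exfalso; apply hG
        have hMP := hmaxP M le_sup_right hMtop
        have hCH : Subgroup.centralizer (Z : Set G) ≤ H :=
          CfsgLib.Cores.le_pCore (P.2.to_le (le_sup_left.trans hMP.le))
        have hJH : jGen 0 (P : Subgroup G) ≤ H := fun x hx => hCH
          (Subgroup.mem_centralizer_iff.2 fun z hz => (Subgroup.mem_centralizer_iff.1 hz.2 x hx).symm)
        have hJeq : jGen 0 (P : Subgroup G) = jGen 0 H := by
          obtain ⟨A₀, h0⟩ := maxAdm_nonempty 0 (P : Subgroup G)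
          have hHle := CfsgLib.Cores.pCore_le_sylow (p := p) P
          refine le_antisymm (sSup_le fun A hA => ?_) (sSup_le fun A hA => ?_)
          · exact le_jGen ⟨(le_jGen hA).trans hJH, hA.2.1, fun C hC hCa => hA.2.2 C (hC.trans hHle) hCa⟩
          · exact le_jGen (maxAdm_of_le hHle h0 ((le_jGen h0).trans hJH) hA)
        refine (npc_top_iff (eq_top_iff.2 ?_)).1 hJ
        rw [hJeq]
        exact (Subgroup.normalizer_eq_top (H := H)).ge.trans (normalizer_le_normalizer_jGen 0 H)
      intro x hx hxp g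
      have hxA : ∀ A ∈ maxAdm 0 (P : Subgroup G), x ∈ A := fun A hA =>
        mem_of_commute_maxAdm (p := p) (Or.inl rfl) hA hx.1 hxp fun a ha =>
          (Subgroup.mem_centralizer_iff.1 hx.2 a (hA.1 ha)).symm
      obtain ⟨A₀, h0⟩ := maxAdm_nonempty 0 (P : Subgroup G)
      have hxZ : x ∈ Z := ⟨le_jGen h0 (hxA _ h0),
        Subgroup.mem_centralizer_iff.2 fun y hy => Subgroup.mem_centralizer_iff.1 hx.2 y (jGen_le _ _ hy)⟩
      have hle : M ≤ Subgroup.centralizer ({x} : Set G) := sup_le
        (fun c hc => Subgroup.mem_centralizer_singleton_iff.2 (Subgroup.mem_centralizer_iff.1 hc x hxZ).symm)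
        (fun s hs => Subgroup.mem_centralizer_singleton_iff.2 (Subgroup.mem_centralizer_iff.1 hx.2 s hs))
      exact Subgroup.mem_centralizer_singleton_iff.1 (hle (hMtop ▸ Subgroup.mem_top g))
    · subst hp2
      set V := omegaOne 2 (H ⊓ Subgroup.centralizer (H : Set G)) with hV
      haveI hVn : V.Normal := CfsgLib.PGroup.omegaOne_normal 2 _
      have hVe : IsElementaryAbelian 2 V := CfsgLib.PGroup.elemAb_omegaOne_of_comm fun a ha b hb =>
        Subgroup.mem_centralizer_iff.1 hb.2 a ha.1
      have hVH : V ≤ Subgroup.centralizer (H : Set G) := (CfsgLib.PGroup.omegaOne_le 2 _).trans inf_le_right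
      intro x hx hxp g
      have hxV : x ∈ V := by
        have h1 : x ∈ Subgroup.centralizer (H : Set G) :=
          Subgroup.centralizer_le (CfsgLib.Cores.pCore_le_sylow P) hx.2
        exact CfsgLib.PGroup.mem_omegaOne ⟨hc h1, h1⟩ hxp
      by_cases hM : Subgroup.centralizer (V : Set G) ⊔ (P : Subgroup G) = ⊤
      · have hle : Subgroup.centralizer (V : Set G) ⊔ (P : Subgroup G) ≤ Subgroup.centralizer ({x} : Set G) := sup_le
          (fun c hc => Subgroup.mem_centralizer_singleton_iff.2 (Subgroup.mem_centralizer_iff.1 hc x hxV).symm)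
          (fun s hs => Subgroup.mem_centralizer_singleton_iff.2 (Subgroup.mem_centralizer_iff.1 hx.2 s hs))
        exact Subgroup.mem_centralizer_singleton_iff.1 (hle (hM ▸ Subgroup.mem_top g))
      exfalso
      have hMP := hmaxP _ le_sup_right hM
      haveI : (Subgroup.centralizer (V : Set G)).Normal := inferInstance
      have hCV : Subgroup.centralizer (V : Set G) = H := le_antisymm
        (CfsgLib.Cores.le_pCore (P.2.to_le (le_sup_left.trans hMP.le))) (Subgroup.le_centralizer_iff.1 hVH)
      obtain ⟨A, hA, hAH⟩ : ∃ A ∈ maxAdm 0 (P : Subgroup G), ¬ A ≤ H := by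
        by_contra hall
        push Not at hall
        apply hG
        have hJH : jGen 0 (P : Subgroup G) ≤ H := sSup_le hall
        have hJeq : jGen 0 (P : Subgroup G) = jGen 0 H := by
          obtain ⟨A₀, h0⟩ := maxAdm_nonempty 0 (P : Subgroup G)
          have hHle := CfsgLib.Cores.pCore_le_sylow (p := 2) P
          refine le_antisymm (sSup_le fun A hA => ?_) (sSup_le fun A hA => ?_)
          · exact le_jGen ⟨(le_jGen hA).trans hJH, hA.2.1, fun C hC hCa => hA.2.2 C (hC.trans hHle) hCa⟩
          · exact le_jGen (maxAdm_of_le hHle h0 ((le_jGen h0).trans hJH) hA)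
        refine (npc_top_iff (eq_top_iff.2 ?_)).1 hJ
        rw [hJeq]
        exact (Subgroup.normalizer_eq_top (H := H)).ge.trans (normalizer_le_normalizer_jGen 0 H)
      set D := A ⊓ H with hD
      set B := D ⊔ V with hB
      have hDV : D ≤ Subgroup.centralizer (V : Set G) := inf_le_right.trans hCV.ge
      have hBc : B ≤ Subgroup.centralizer (B : Set G) := by
        refine sup_le (Subgroup.le_centralizer_iff.1 (sup_le ?_ (Subgroup.le_centralizer_iff.1 hDV)))
          (Subgroup.le_centralizer_iff.1 (sup_le hDV ?_))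
        · exact fun a ha => Subgroup.mem_centralizer_iff.2 fun b hb => adm_comm hA.2.1 hb.1 ha.1
        · exact fun a ha => Subgroup.mem_centralizer_iff.2 fun b hb => CfsgLib.PGroup.elemAb_comm hVe hb ha
      have hBcard : Nat.card B ≤ Nat.card A := hA.2.2 B
        (sup_le (inf_le_right.trans (CfsgLib.Cores.pCore_le_sylow P)) ((CfsgLib.PGroup.omegaOne_le 2 _).trans
          (inf_le_left.trans (CfsgLib.Cores.pCore_le_sylow P))))
        ⟨⟨⟨fun a b => Subtype.ext (Subgroup.mem_centralizer_iff.1 (hBc b.2) a a.2)⟩⟩, fun a _ => pow_zero a⟩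
      have hoff : Nat.card V * Nat.card ↥(A ⊓ H) ≤
          Nat.card A * Nat.card ↥(V ⊓ Subgroup.centralizer (A : Set G)) := by
        have e1 := Subgroup.relIndex_mul_relIndex ⊥ (D ⊓ V) V bot_le inf_le_right
        have e2 := Subgroup.relIndex_mul_relIndex ⊥ D B bot_le le_sup_left
        rw [Subgroup.relIndex_bot_left, Subgroup.relIndex_bot_left, Subgroup.inf_relIndex_right] at e1
        rw [Subgroup.relIndex_bot_left, Subgroup.relIndex_bot_left] at e2
        have h1 : D.relIndex V ≤ D.relIndex B :=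
          Subgroup.relIndex_le_of_le_right (le_sup_right : V ≤ B) Subgroup.FiniteIndex.index_ne_zero
        have h2 : Nat.card ↥(D ⊓ V) ≤ Nat.card ↥(V ⊓ Subgroup.centralizer (A : Set G)) :=
          Subgroup.card_le_of_le fun y hy => Subgroup.mem_inf.2 ⟨hy.2,
            Subgroup.mem_centralizer_iff.2 fun a ha => adm_comm hA.2.1 ha hy.1.1⟩
        calc Nat.card V * Nat.card D = Nat.card ↥(D ⊓ V) * (Nat.card D * D.relIndex V) := by rw [← e1]; ring
          _ ≤ Nat.card ↥(V ⊓ Subgroup.centralizer (A : Set G)) * Nat.card B := by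
              rw [← e2]; exact Nat.mul_le_mul h2 (Nat.mul_le_mul_left _ h1)
          _ ≤ Nat.card ↥(V ⊓ Subgroup.centralizer (A : Set G)) * Nat.card A := Nat.mul_le_mul_left _ hBcard
          _ = Nat.card A * Nat.card ↥(V ⊓ Subgroup.centralizer (A : Set G)) := mul_comm _ _
      have hquotK : IsPGroup 2 (G ⧸ K) := IsPGroup.of_card (n := k) (by rw [← Subgroup.index_eq_card, hKidx])
      have hfaith : ∀ y : G, IsPGroup 2 (Subgroup.zpowers y) → (∀ k ∈ K, ⁅y, k⁆ ∈ H) → y ∈ H := fun y hy h =>
        CfsgLib.LocalEven.Offender.mem_of_centralizes (CfsgLib.Cores.pCore_quotient_self (G := G) 2) hquotK hy h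
      obtain ⟨a, ha, haH, ha2, hacard⟩ := CfsgLib.LocalEven.Offender.exists_transvection (p := 2) (H := H) (K := K)
        hVe hCV hKcop hfaith (P.2.to_le hA.1) (fun a ha b hb => adm_comm hA.2.1 ha hb) hAH hoff
      exact (hS4.resolve_left (by simp)) (CfsgLib.LocalEven.Offender.involves_perm_four (H := H) (K := K)
        hVe hCV hHp hKcop hfaith ha haH ha2 hacard)
  set A := H ⊓ Subgroup.centralizer (H : Set G) with hA
  have hAn : A.Normal := inferInstance
  have : IsMulCommutative A := ⟨⟨fun a b => Subtype.ext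
    (Subgroup.mem_centralizer_iff.1 b.2.2 a a.2.1)⟩⟩
  have hZA : zSyl (P : Subgroup G) ≤ A := fun z hz => by
    have h1 : z ∈ Subgroup.centralizer (H : Set G) :=
      Subgroup.centralizer_le (CfsgLib.Cores.pCore_le_sylow P) hz.2
    exact ⟨hc h1, h1⟩
  have hcopH : (Nat.card (H.subgroupOf K)).Coprime (H.subgroupOf K).index := by
    obtain ⟨j, hj⟩ := IsPGroup.iff_card.1 hHp
    rw [Nat.card_congr (Subgroup.subgroupOfEquivOfLe hHK).toEquiv, hj]
    exact (hKcop.pow_right j).symm
  obtain ⟨Q', hQ'⟩ := Subgroup.exists_right_complement'_of_coprime hcopH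
  set Q := Q'.map K.subtype with hQ
  have hQc : (Nat.card Q).Coprime (Nat.card A) := by
    obtain ⟨j, hj⟩ := IsPGroup.iff_card.1 (hHp.to_le (inf_le_left : A ≤ H))
    rw [Subgroup.card_map_of_injective K.subtype_injective, ← hQ'.symm.index_eq_card, hj]
    exact hKcop.pow_right j
  have hbot := CfsgLib.Solvable.inf_centralizer_inf_commutator Q A
    (by rw [Subgroup.normalizer_eq_top A]; exact le_top) hQc
  have hAK : ⁅A, K⁆ ≤ ⁅A, Q⁆ := by
    rw [Subgroup.commutator_le]
    intro a ha k hk
    obtain ⟨h, hh, q, hq, e⟩ := CfsgLib.Solvable.exists_mul_of_mem_sup (K := H.subgroupOf K) (A := Q')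
      (by rw [Subgroup.normalizer_eq_top (H.subgroupOf K)]; exact le_top)
      (hQ'.sup_eq_top.ge (Subgroup.mem_top (⟨k, hk⟩ : K)))
    have hk' : k = (h : G) * q := congrArg Subtype.val e
    have h1 : ⁅a, (q : G)⁆ ∈ ⁅A, Q⁆ := Subgroup.commutator_mem_commutator ha ⟨q, hq, rfl⟩
    have h2 : ⁅a, (q : G)⁆ ∈ A := by
      rw [commutatorElement_def, mul_assoc a, mul_assoc a]
      exact mul_mem ha (by simpa [mul_assoc] using hAn.conj_mem _ (inv_mem ha) (q : G))
    have e1 : ⁅a, k⁆ = ⁅a, (h : G)⁆ * ((h : G) * ⁅a, (q : G)⁆ * (h : G)⁻¹) := by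
      rw [hk']; simp only [commutatorElement_def]; group
    have hh' : (h : G) ∈ H := hh
    rw [e1, commutatorElement_eq_one_iff_mul_comm.2 (Subgroup.mem_centralizer_iff.1 ha.2 h hh').symm,
      Subgroup.mem_centralizer_iff.1 h2.2 h hh', one_mul, mul_inv_cancel_right]
    exact h1
  have hzero : ⁅A, K⁆ = ⊥ := by
    by_contra hne
    have hle : ⁅A, K⁆ ≤ (P : Subgroup G) :=
      (Subgroup.commutator_le_left A K).trans (inf_le_left.trans (CfsgLib.Cores.pCore_le_sylow P))
    obtain ⟨x, hx, hx1, hxp⟩ := exists_pow_one_center P.2 hle hne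
      (by rw [Subgroup.normalizer_eq_top]; exact le_top)
    refine hx1 (Subgroup.mem_bot.1 (hbot.le ⟨⟨hZA hx.2, ?_⟩, hAK hx.1⟩))
    exact Subgroup.mem_centralizer_iff.2 fun q _ => hΩ x hx.2 hxp q
  apply hG
  refine (npc_top_iff (eq_top_iff.2 ?_)).1 hC
  rw [← hKP]
  refine sup_le (fun k hk => Subgroup.mem_centralizer_iff.2 fun z hz => ?_)
    (fun s hs => Subgroup.mem_centralizer_iff.2 fun z hz => (Subgroup.mem_centralizer_iff.1 hz.2 s hs).symm)
  exact commutatorElement_eq_one_iff_mul_comm.1
    (Subgroup.mem_bot.1 (hzero.le (Subgroup.commutator_mem_commutator (hZA hz) hk)))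


/-- Thompson's theorem, abelian form. -/
theorem hasNormalPComplement {G : Type u} [Group G] [Finite G] (P : Sylow p G)
    (hS4 : p ≠ 2 ∨ ¬ Involves (Equiv.Perm (Fin 4)) G)
    (hJ : HasNormalPComplement p (Subgroup.normalizer (jGen 0 (P : Subgroup G) : Set G)))
    (hC : HasNormalPComplement p (Subgroup.centralizer (zSyl (P : Subgroup G) : Set G))) :
    HasNormalPComplement p G :=
  thompsonAStatement _ G P rfl hS4 hJ hC

end CfsgLib.LocalEven.Thompson
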