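import Cfsg.Prelude.Def_JComponents
import Cfsg.Agent.Lib.LocalEven.JBlockOffender
import Cfsg.Agent.Lib.LocalEven.Baumann

/-!
`J`-components of a `Good` group `X`: they are the groups generated by the odd-order elements of
`O₂(X)⟨d⟩` for blocks `(a, d)` with `a` in a largest elementary abelian subgroup.
-/

set_option autoImplicit false

namespace CfsgLib.LocalEven.JComp

open Subgroup CfsgLib.LocalEven Cfsg
open scoped commutatorElement

section General

variable {G : Type*} [Group G]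

/-- The argument of S2941. -/
theorem le_normalizer_of_generated {K J Q : Subgroup G}
    (hgenK : Subgroup.closure {g : G | g ∈ K ∧ Odd (orderOf g)} = K) (hKJ : ⁅K, J⁆ = K)
    (hJ2 : IsPGroup 2 ↥J) (hQ1 : K ⊔ J ≤ normalizer (Q : Set G))
    (hQ2 : Q ≤ normalizer (J : Set G)) : Q ≤ normalizer (K : Set G) := by
  have hJK : J ≤ normalizer (K : Set G) := Subgroup.le_normalizer_iff_commutator_le_left.2 hKJ.le
  rw [sup_le_iff] at hQ1
  set M := K ⊔ J with hM
  have hMN : M ≤ normalizer (K : Set G) := sup_le Subgroup.le_normalizer hJK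
  have hMC : M ≤ Subgroup.closure {x : G | ∃ k ∈ K, ∃ j ∈ J, x = k * j * k⁻¹} := by
    have hJle : J ≤ Subgroup.closure {x : G | ∃ k ∈ K, ∃ j ∈ J, x = k * j * k⁻¹} :=
      fun j hj => Subgroup.subset_closure ⟨1, K.one_mem, j, hj, by simp⟩
    refine sup_le ?_ hJle
    conv_lhs => rw [← hKJ]
    rw [Subgroup.commutator_le]
    intro k hk j hj
    exact mul_mem (Subgroup.subset_closure ⟨k, hk, j, hj, rfl⟩) (inv_mem (hJle hj))
  have hQM : ∀ q ∈ Q, ∀ m ∈ M, q * m * q⁻¹ ∈ M := by
    intro q hq m hm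
    have : Subgroup.closure {x : G | ∃ k ∈ K, ∃ j ∈ J, x = k * j * k⁻¹} ≤
        M.comap (MulAut.conj q).toMonoidHom := by
      rw [Subgroup.closure_le]
      rintro _ ⟨k, hk, j, hj, rfl⟩
      have hq' : k⁻¹ * q * k⁻¹⁻¹ ∈ Q :=
        CfsgLib.LocalEven.conj_mem_of_mem_normalizer (hQ1.1 (K.inv_mem hk)) hq
      have hj' : (k⁻¹ * q * k⁻¹⁻¹) * j * (k⁻¹ * q * k⁻¹⁻¹)⁻¹ ∈ J :=
        CfsgLib.LocalEven.conj_mem_of_mem_normalizer (hQ2 hq') hj
      have hkM : k ∈ M := Subgroup.mem_sup_left hk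
      have := M.mul_mem (M.mul_mem hkM (Subgroup.mem_sup_right hj')) (M.inv_mem hkM)
      simpa [mul_assoc] using this
    exact this (hMC hm)
  have hodd : ∀ x ∈ M, Odd (orderOf x) → x ∈ K := by
    intro x hx hxo
    set N := normalizer (K : Set G) with hNdef
    set f := QuotientGroup.mk' (K.subgroupOf N) with hf
    have hsup : M.subgroupOf N = K.subgroupOf N ⊔ J.subgroupOf N :=
      Subgroup.subgroupOf_sup Subgroup.le_normalizer hJK
    have hxS : (⟨x, hMN hx⟩ : N) ∈ K.subgroupOf N ⊔ J.subgroupOf N := hsup ▸ hx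
    rw [Subgroup.mem_sup_of_normal_left] at hxS
    obtain ⟨k, hk, j, hj, hkj⟩ := hxS
    have hfx : f ⟨x, hMN hx⟩ = f j := by
      rw [← hkj, map_mul, show f k = 1 from (QuotientGroup.eq_one_iff k).2 hk, one_mul]
    obtain ⟨e, he⟩ := hJ2 ⟨(j : G), hj⟩
    have h2 : orderOf (f ⟨x, hMN hx⟩) ∣ 2 ^ e := by
      rw [hfx]
      apply orderOf_dvd_of_pow_eq_one
      rw [← map_pow, show j ^ 2 ^ e = 1 from Subtype.ext (congrArg Subtype.val he :), map_one]
    have h3 : orderOf (f ⟨x, hMN hx⟩) ∣ orderOf x :=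
      (orderOf_map_dvd f _).trans (by rw [Subgroup.orderOf_mk])
    have h4 : orderOf (f ⟨x, hMN hx⟩) = 1 :=
      Nat.eq_one_of_dvd_coprimes (((Nat.coprime_two_left).2 hxo).pow_left e) h2 h3
    rw [orderOf_eq_one_iff] at h4
    exact (QuotientGroup.eq_one_iff (⟨x, hMN hx⟩ : N)).1 h4
  rw [Subgroup.le_normalizer_iff]
  intro q hq
  have : Subgroup.closure {g : G | g ∈ K ∧ Odd (orderOf g)} ≤ K.comap (MulAut.conj q).toMonoidHom := by
    rw [Subgroup.closure_le]
    rintro k ⟨hk, hko⟩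
    refine hodd _ (hQM q hq k (Subgroup.mem_sup_left hk)) ?_
    rwa [orderOf_injective (MulAut.conj q).toMonoidHom (MulAut.conj q).injective]
  intro k hk
  exact this (hgenK.symm ▸ hk)

/-- A normal subgroup with 2-group quotient contains the odd-order elements. -/
theorem mem_of_odd_of_sup {P K Q : Subgroup G} {x : G} (hKP : K ≤ P) (hQP : Q ≤ P)
    (hn : P ≤ normalizer (K : Set G)) (hP : P ≤ Q ⊔ K) (hQ : IsPGroup 2 ↥Q) (hx : x ∈ P)
    (hodd : Odd (orderOf x)) : x ∈ K := by
  haveI : (K.subgroupOf P).Normal := Subgroup.normal_subgroupOf_of_le_normalizer hn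
  set f := QuotientGroup.mk' (K.subgroupOf P) with hf
  have hxs : (⟨x, hx⟩ : P) ∈ K.subgroupOf P ⊔ Q.subgroupOf P := by
    rw [← Subgroup.subgroupOf_sup hKP hQP, sup_comm]
    exact hP hx
  rw [Subgroup.mem_sup_of_normal_left] at hxs
  obtain ⟨k, hk, q, hq, hkq⟩ := hxs
  have hfx : f ⟨x, hx⟩ = f q := by
    rw [← hkq, map_mul, show f k = 1 from (QuotientGroup.eq_one_iff k).2 hk, one_mul]
  obtain ⟨e, he⟩ := hQ ⟨(q : G), hq⟩
  have h2 : orderOf (f ⟨x, hx⟩) ∣ 2 ^ e := by
    rw [hfx]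
    apply orderOf_dvd_of_pow_eq_one
    rw [← map_pow, show q ^ 2 ^ e = 1 from Subtype.ext (congrArg Subtype.val he :), map_one]
  have h3 : orderOf (f ⟨x, hx⟩) ∣ orderOf x := (orderOf_map_dvd f _).trans (by rw [Subgroup.orderOf_mk])
  have h4 := Nat.eq_one_of_dvd_coprimes (((Nat.coprime_two_left).2 hodd).pow_left e) h2 h3
  rw [orderOf_eq_one_iff] at h4
  exact (QuotientGroup.eq_one_iff (⟨x, hx⟩ : P)).1 h4

end General

variable {X : Type*} [Group X] [Finite X]

/-- `O₂(X)⟨d⟩`. -/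
noncomputable def dGroup (d : X) : Subgroup X := (zpowers (proj d)).comap proj

/-- The subgroup generated by the odd-order elements of `O₂(X)⟨d⟩`. -/
noncomputable def compOf (d : X) : Subgroup X :=
  Subgroup.closure {g | g ∈ dGroup d ∧ Odd (orderOf g)}

theorem mem_dGroup {d x : X} : x ∈ dGroup d ↔ proj x ∈ zpowers (proj d) := Iff.rfl

theorem pCore_le_dGroup (d : X) : Cfsg.pCore 2 X ≤ dGroup d := fun q hq =>
  mem_dGroup.2 (by rw [proj_eq_one_iff.2 hq]; exact one_mem _)

theorem self_mem_dGroup (d : X) : d ∈ dGroup d := mem_dGroup.2 (mem_zpowers _)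

theorem compOf_le_dGroup (d : X) : compOf d ≤ dGroup d := (Subgroup.closure_le _).2 fun _ h => h.1

theorem IsBlock.mem_compOf {a d : X} (h : IsBlock a d) : d ∈ compOf d :=
  Subgroup.subset_closure ⟨self_mem_dGroup d, by
    rcases (Nat.dvd_prime Nat.prime_three).1 (orderOf_dvd_of_pow_eq_one h.cube) with e | e <;> rw [e]
    · exact odd_one
    · decide⟩

theorem mem_normalizer_compOf {d g : X} (hg : proj g * proj d * (proj g)⁻¹ ∈ zpowers (proj d)) :
    g ∈ normalizer (compOf d : Set X) := by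
  refine CfsgLib.LocalEven.mem_normalizer_of_conj_le (map_le_iff_le_comap.2 ?_)
  conv_lhs => rw [compOf]
  rw [Subgroup.closure_le]
  rintro y ⟨hy, hodd⟩
  refine Subgroup.subset_closure ⟨?_, by
    show Odd (orderOf (MulAut.conj g y))
    rwa [MulEquiv.orderOf_eq]⟩
  obtain ⟨i, hi⟩ := mem_zpowers_iff.1 (mem_dGroup.1 hy)
  show proj (g * y * g⁻¹) ∈ zpowers (proj d)
  rw [map_mul, map_mul, map_inv, ← hi, ← conj_zpow]
  exact zpow_mem hg i

theorem dGroup_le_normalizer (d : X) : dGroup d ≤ normalizer (compOf d : Set X) := by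
  intro g hg
  refine mem_normalizer_compOf ?_
  obtain ⟨i, hi⟩ := mem_zpowers_iff.1 (mem_dGroup.1 hg)
  rw [← hi, (Commute.zpow_self (proj d) i).eq, mul_inv_cancel_right]
  exact mem_zpowers _

theorem Good.normalizer_of_trv (hX : Good X) {a d b d' : X} (h : IsBlock a d) (h' : IsBlock b d') :
    b ∈ normalizer (compOf d : Set X) := by
  refine mem_normalizer_compOf ?_
  by_cases hr : rng d = rng d'
  · obtain ⟨j, -, hj⟩ := hX.exists_shift h h' hr
    have hB := h.shift j
    have e := hB.inv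
    have hbi : (proj b)⁻¹ = proj b := by rw [← map_inv, inv_eq_of_mul_eq_one_right h'.sq]
    rw [hbi, ← hj, ← map_mul, ← map_mul, e, map_inv]
    exact inv_mem (mem_zpowers _)
  · rw [(show Commute _ _ from hX.proj_commute_trv_rot h' h (Ne.symm hr)).eq, mul_inv_cancel_right]
    exact mem_zpowers _

theorem isPGroup_pCore_two : IsPGroup 2 ↥(Cfsg.pCore 2 X) := CfsgLib.Cores.isPGroup_pCore 2

theorem Good.le_pCore_of_two (hX : Good X) {x : X} (hx : x ∈ rotGroup X) {k : ℕ} (hk : x ^ 2 ^ k = 1) :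
    x ∈ Cfsg.pCore 2 X := by
  rw [← proj_eq_one_iff, ← orderOf_eq_one_iff]
  refine Nat.eq_one_of_dvd_coprimes ((show Nat.Coprime 2 3 by decide).pow k 1)
    (orderOf_dvd_of_pow_eq_one (by rw [← map_pow, hk, map_one]))
    (orderOf_dvd_of_pow_eq_one (by rw [pow_one]; exact hX.proj_cube hx))

theorem Good.pCoreOf_eq (hX : Good X) {K : Subgroup X} (hK : K ≤ rotGroup X) :
    pCoreOf 2 K = K ⊓ Cfsg.pCore 2 X := by
  refine le_antisymm ?_ (le_pCoreOf inf_le_left (isPGroup_pCore_two.to_le inf_le_right) ?_)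
  · intro x hx
    refine ⟨pCoreOf_le 2 K hx, ?_⟩
    obtain ⟨k, hk⟩ := isPGroup_pCoreOf 2 K ⟨x, hx⟩
    exact hX.le_pCore_of_two (hK (pCoreOf_le 2 K hx)) (k := k) (congrArg Subtype.val hk)
  · intro k hk
    haveI := CfsgLib.Cores.pCore_characteristic (G := X) 2
    refine CfsgLib.LocalEven.mem_normalizer_of_conj_le ?_
    rintro _ ⟨x, hx, rfl⟩
    exact Subgroup.mem_inf.2 ⟨mul_mem (mul_mem hk hx.1) (inv_mem hk), Subgroup.Normal.conj_mem inferInstance x hx.2 k⟩

theorem IsBlock.compOf_le_rotGroup {a d : X} (h : IsBlock a d) : compOf d ≤ rotGroup X := by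
  refine (compOf_le_dGroup d).trans fun x hx => ?_
  obtain ⟨i, hi⟩ := mem_zpowers_iff.1 (mem_dGroup.1 hx)
  have h1 : (d ^ i)⁻¹ * x ∈ Cfsg.pCore 2 X := proj_eq_one_iff.1 (by
    rw [map_mul, map_inv, map_zpow, hi, inv_mul_cancel])
  have := mul_mem (zpow_mem h.mem_rotGroup i) (pCore_le_rotGroup h1)
  rwa [mul_inv_cancel_left] at this

theorem Good.normalizer_of_pCore (d : X) : Cfsg.pCore 2 X ≤ normalizer (compOf d : Set X) :=
  (pCore_le_dGroup d).trans (dGroup_le_normalizer d)

theorem pCore_le_normalizer_thompson (P : Sylow 2 X) :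
    Cfsg.pCore 2 X ≤ normalizer (thompsonSubgroupOf 2 (P : Subgroup X) : Set X) := by
  haveI : Fact (Nat.Prime 2) := ⟨Nat.prime_two⟩
  intro q hq
  refine CfsgLib.LocalEven.mem_normalizer_of_conj_le ?_
  rintro _ ⟨_, ⟨u, hu, rfl⟩, rfl⟩
  have hq' : q ∈ (P : Subgroup X) := CfsgLib.Cores.pCore_le_sylow P hq
  exact ⟨(⟨q, hq'⟩ : ↥(P : Subgroup X)) * u * (⟨q, hq'⟩ : ↥(P : Subgroup X))⁻¹,
    (CfsgLib.Transfer.thompsonSubgroup_normal_inst' 2).conj_mem u hu _, rfl⟩

/-- A trv-element of a largest elementary abelian subgroup has a conjugate in every `J(P)`. -/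
theorem Good.zq_le_thompson (hX : Good X) (P : Sylow 2 X) :
    zq X ≤ thompsonSubgroupOf 2 (P : Subgroup X) := by
  haveI : Fact (Nat.Prime 2) := ⟨Nat.prime_two⟩
  obtain ⟨A, hA, -⟩ := CfsgLib.Transfer.exists_maxEA_le_sylow P
  have h := (hX.offender hA).1
  refine le_sup_left.trans (CfsgLib.Transfer.le_thompsonSubgroupOf h (sup_le ?_ ?_))
  · exact fun v hv => CfsgLib.Cores.pCore_le_sylow P (mem_zq.1 hv).1
  · exact (hX.inf_centralizer_le hA.1).trans (CfsgLib.Cores.pCore_le_sylow P)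

/-- The transvection part of the elements of `J(P)`. -/
theorem Good.thompson_le (hX : Good X) (P : Sylow 2 X) :
    thompsonSubgroupOf 2 (P : Subgroup X) ≤ Subgroup.closure
      ({a | Trv.IsTrv (act a) ∧ ∃ A ∈ maxElementaryAbelianSubgroups 2 X, A ≤ (P : Subgroup X) ∧ a ∈ A} ∪
        (Cfsg.pCore 2 X : Set X)) := by
  haveI : Fact (Nat.Prime 2) := ⟨Nat.prime_two⟩
  obtain ⟨A₀, hA₀, hA₀P⟩ := CfsgLib.Transfer.exists_maxEA_le_sylow P
  refine map_le_iff_le_comap.2 (sSup_le fun B hB => map_le_iff_le_comap.1 ?_)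
  have hBX := CfsgLib.Transfer.maxEA_map_subtype hA₀ hA₀P hB
  refine ((hX.offender hBX).2.1).trans (Subgroup.closure_mono ?_)
  rintro a (⟨ha, ht⟩ | ha)
  · exact Or.inl ⟨ht, _, hBX, Subgroup.map_subtype_le _, ha⟩
  · exact Or.inr ha

theorem Good.thompson_le_normalizer (hX : Good X) (P : Sylow 2 X) {a d : X} (h : IsBlock a d) :
    thompsonSubgroupOf 2 (P : Subgroup X) ≤ normalizer (compOf d : Set X) := by
  refine (hX.thompson_le P).trans ((Subgroup.closure_le _).2 ?_)
  rintro b (⟨ht, A, hA, -, hb⟩ | hb)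
  · have hb2 : b * b = 1 := by rw [← pow_two]; exact hA.1.2 b hb
    obtain ⟨d', hd'⟩ := exists_block hX hb2 ht
    exact hX.normalizer_of_trv h hd'
  · exact Good.normalizer_of_pCore d hb

/-- `[K, J(P)] = K` when `J(P)` has an element acting as the transvection of the block. -/
theorem Good.commutator_compOf (hX : Good X) (P : Sylow 2 X) {a d : X} (h : IsBlock a d)
    (ha : a ∈ thompsonSubgroupOf 2 (P : Subgroup X)) :
    ⁅compOf d, thompsonSubgroupOf 2 (P : Subgroup X)⁆ = compOf d := by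
  set J := thompsonSubgroupOf 2 (P : Subgroup X) with hJ
  set K := compOf d with hK
  have hle : ⁅K, J⁆ ≤ K :=
    Subgroup.le_normalizer_iff_commutator_le_left.1 (hX.thompson_le_normalizer P h)
  refine le_antisymm hle ?_
  have hdC : d ∈ ⁅K, J⁆ := by
    have hm := Subgroup.commutator_mem_commutator h.mem_compOf ha
    have e : ⁅d, a⁆ = d * d := by
      have hai : a⁻¹ = a := inv_eq_of_mul_eq_one_right h.sq
      have h2 : a * d⁻¹ * a = d := by
        rw [← h.inv]
        calc a * (a * d * a) * a = (a * a) * d * (a * a) := by group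
          _ = d := by rw [h.sq, one_mul, mul_one]
      rw [commutatorElement_def, hai, mul_assoc (d * a), mul_assoc d a, ← mul_assoc a, h2]
    rw [e] at hm
    have h4 := mul_mem hm hm
    rwa [show d * d * (d * d) = d ^ 3 * d by simp only [pow_succ, pow_zero, one_mul, mul_assoc], h.cube,
      one_mul] at h4
  have hQ : Cfsg.pCore 2 X ≤ normalizer ((⁅K, J⁆ : Subgroup X) : Set X) := by
    intro q hq
    refine CfsgLib.LocalEven.mem_normalizer_of_conj_le ?_
    rw [Subgroup.map_commutator]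
    refine Subgroup.commutator_mono ?_ ?_
    · rintro _ ⟨k, hk, rfl⟩
      exact conj_mem_of_mem_normalizer (Good.normalizer_of_pCore d hq) hk
    · rintro _ ⟨j, hj, rfl⟩
      exact conj_mem_of_mem_normalizer (pCore_le_normalizer_thompson P hq) hj
  have hD : dGroup d ≤ normalizer ((⁅K, J⁆ : Subgroup X) : Set X) := by
    intro x hx
    obtain ⟨i, hi⟩ := mem_zpowers_iff.1 (mem_dGroup.1 hx)
    have h1 : (d ^ i)⁻¹ * x ∈ Cfsg.pCore 2 X := proj_eq_one_iff.1 (by
      rw [map_mul, map_inv, map_zpow, hi, inv_mul_cancel])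
    have := mul_mem (zpow_mem (Subgroup.le_normalizer hdC) i) (hQ h1)
    rwa [mul_inv_cancel_left] at this
  conv_lhs => rw [hK, compOf]
  rw [Subgroup.closure_le]
  rintro x ⟨hx, hodd⟩
  refine mem_of_odd_of_sup (Q := Cfsg.pCore 2 X) (hle.trans (compOf_le_dGroup d)) (pCore_le_dGroup d) hD
    (fun y hy => ?_) isPGroup_pCore_two hx hodd
  obtain ⟨i, hi⟩ := mem_zpowers_iff.1 (mem_dGroup.1 hy)
  have h1 : y * (d ^ i)⁻¹ ∈ Cfsg.pCore 2 X := proj_eq_one_iff.1 (by
    rw [map_mul, map_inv, map_zpow, hi, mul_inv_cancel])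
  have := Subgroup.mul_mem_sup h1 (zpow_mem hdC i)
  rwa [inv_mul_cancel_right] at this

theorem Good.compOf_relIndex (hX : Good X) {a d : X} (h : IsBlock a d) :
    (pCoreOf 2 (compOf d)).relIndex (compOf d) = 3 := by
  have hker : (proj (X := X)).ker = Cfsg.pCore 2 X := QuotientGroup.ker_mk' _
  rw [hX.pCoreOf_eq h.compOf_le_rotGroup, Subgroup.inf_relIndex_left, ← hker, Subgroup.relIndex_ker]
  have hm : (compOf d).map proj = zpowers (proj d) :=
    le_antisymm (map_le_iff_le_comap.2 (compOf_le_dGroup d)) (zpowers_le.2 ⟨d, h.mem_compOf, rfl⟩)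
  rw [hm, Nat.card_zpowers]
  haveI : Fact (Nat.Prime 3) := ⟨Nat.prime_three⟩
  refine orderOf_eq_prime (by rw [← map_pow, h.cube, map_one]) fun e => ?_
  have h2 := h.rot.2
  rw [act_eq_one_of_mem_pCore (proj_eq_one_iff.1 e)] at h2
  have hb : (Trv.mv (1 : MulAut ↥(zq X))).range = ⊥ := by
    rw [MonoidHom.range_eq_bot_iff]
    ext u
    simp [Trv.mv_apply, zq_sq]
  rw [hb, Subgroup.card_bot] at h2
  omega

theorem act_mem_rotCore {x : X} (hx : x ∈ rotGroup X) : act x ∈ rotCore X := by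
  rw [rotGroup] at hx
  induction hx using Subgroup.closure_induction with
  | mem v hv =>
    rcases hv with hv | ⟨b, hb⟩
    · rw [act_eq_one_of_mem_pCore hv]; exact one_mem _
    · exact hb.mem_rotCore
  | one => rw [map_one]; exact one_mem _
  | mul u v _ _ hu hv => rw [map_mul]; exact mul_mem hu hv
  | inv u _ hu => rw [map_inv]; exact inv_mem hu

/-- `[v, k] ∈ [Ω₁(Z(O₂(K))), K]` for a rotation `k` of `K`. -/
theorem Good.map_rng_le (hX : Good X) {K : Subgroup X} (hK : K ≤ rotGroup X)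
    (hV : zq X ≤ normalizer (K : Set X)) {k : X} (hk : k ∈ K) (hk3 : k ^ 3 = 1) :
    (rng k).map (zq X).subtype ≤ wOf K := by
  have hU : ∀ v : ↥(zq X), ∀ x ∈ K, ((Trv.mv (act x) v : ↥(zq X)) : X) ∈ omegaCenterOf (pCoreOf 2 K) := by
    intro v x hx
    set w := Trv.mv (act x) v with hw
    have hwV : (w : X) ∈ zq X := w.2
    obtain ⟨hwQ, hwc, hw2⟩ := mem_zq.1 hwV
    have hwK : (w : X) ∈ K := by
      have e : (w : X) = x * (v * x⁻¹ * (v : X)⁻¹) := by
        rw [hw, Trv.mv_apply, Subgroup.coe_mul, act_apply]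
        have : (v : X)⁻¹ = v := inv_eq_of_mul_eq_one_right (congrArg Subtype.val (zq_sq v))
        rw [this]; group
      rw [e]
      exact mul_mem hx (conj_mem_of_mem_normalizer (hV v.2) (inv_mem hx))
    refine Oz.mem_iff.2 ⟨?_, fun s hs => hwc s ?_, hw2⟩
    · rw [hX.pCoreOf_eq hK]; exact ⟨hwK, hwQ⟩
    · rw [hX.pCoreOf_eq hK] at hs; exact hs.2
  rintro _ ⟨_, ⟨v, rfl⟩, rfl⟩
  have hk' : act k ^ 3 = 1 := by rw [← map_pow, hk3, map_one]
  have h1 : Trv.mv (act k) v = Trv.mv (act (k * k)) (Trv.mv (act (k * k)) v) := by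
    have e : ∀ x : MulAut ↥(zq X), ∀ u, Trv.mv x (Trv.mv x u) = Trv.mv (x * x) u := fun x u => by
      simp only [Trv.mv_apply, map_mul, MulAut.mul_apply]
      rw [mul_assoc, Trv.mul_left_self zq_sq]
    rw [e, ← map_mul]
    congr 2
    rw [map_mul, map_mul, show act k * act k * (act k * act k) = act k ^ 3 * act k by
      simp only [pow_succ, pow_zero, one_mul, mul_assoc], hk', one_mul]
  rw [h1]
  set u := Trv.mv (act (k * k)) v with hu
  have hm : ⁅((u : ↥(zq X)) : X), k * k⁆ ∈ wOf K :=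
    Subgroup.commutator_mem_commutator (hU v _ (mul_mem hk hk)) (mul_mem hk hk)
  have e2 : ((Trv.mv (act (k * k)) u : ↥(zq X)) : X) = ⁅((u : ↥(zq X)) : X), k * k⁆ := by
    have hui : ((u : ↥(zq X)) : X)⁻¹ = u := inv_eq_of_mul_eq_one_right (congrArg Subtype.val (zq_sq u))
    rw [commutatorElement_def, hui, mul_assoc, mul_assoc, ← mul_assoc (k * k), Trv.mv_apply, mul_comm,
      Subgroup.coe_mul, act_apply]
  show ((Trv.mv (act (k * k)) u : ↥(zq X)) : X) ∈ wOf K
  rw [e2]
  exact hm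

theorem Good.exists_comp_of_axioms (hX : Good X) (P : Sylow 2 X) {K : Subgroup X}
    (hgen : Subgroup.closure {g : X | g ∈ K ∧ Odd (orderOf g)} = K)
    (hKJ : ⁅K, thompsonSubgroupOf 2 (P : Subgroup X)⁆ = K)
    (hidx : (pCoreOf 2 K).relIndex K = 3) (hW : Nat.card ↥(wOf K) = 4) :
    ∃ a d, IsBlock a d ∧ K = compOf d ∧
      ∃ A ∈ maxElementaryAbelianSubgroups 2 X, A ≤ (P : Subgroup X) ∧ a ∈ A := by
  haveI : Fact (Nat.Prime 2) := ⟨Nat.prime_two⟩
  set J := thompsonSubgroupOf 2 (P : Subgroup X) with hJ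
  have hJN : J ≤ normalizer (K : Set X) := Subgroup.le_normalizer_iff_commutator_le_left.2 hKJ.le
  have hJT : J ≤ trvGroup X := (hX.thompson_le P).trans ((Subgroup.closure_le _).2 (by
    rintro b (⟨ht, A, hA, -, hb⟩ | hb)
    · exact Subgroup.subset_closure (Or.inr ⟨by rw [← pow_two]; exact hA.1.2 b hb, ht⟩)
    · exact Subgroup.subset_closure (Or.inl (pCore_le_rotGroup hb))))
  haveI : (trvGroup X).Normal := ⟨fun x hx g => by
    have : trvGroup X ≤ (trvGroup X).comap (MulAut.conj g).toMonoidHom := by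
      conv_lhs => rw [trvGroup]
      rw [Subgroup.closure_le]
      rintro y (hy | ⟨hy, hyt⟩)
      · exact Subgroup.subset_closure (Or.inl (Subgroup.Normal.conj_mem inferInstance y hy g))
      · refine Subgroup.subset_closure (Or.inr ⟨?_, ?_⟩)
        · show MulAut.conj g y * MulAut.conj g y = 1
          rw [← map_mul, hy, map_one]
        · show Trv.IsTrv (act (g * y * g⁻¹))
          obtain ⟨d, hd⟩ := exists_block hX hy hyt
          exact (hd.conj g).trv
    exact this hx⟩
  have hKrot : K ≤ rotGroup X := by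
    have hKT : K ≤ trvGroup X := hKJ.ge.trans ((Subgroup.commutator_mono le_rfl hJT).trans
      (Subgroup.commutator_le_right _ _))
    conv_lhs => rw [← hgen]
    rw [Subgroup.closure_le]
    exact fun g hg => hX.mem_rotGroup_of_odd (hKT hg.1) hg.2
  obtain ⟨k, ⟨hk, hkodd⟩, hkQ⟩ : ∃ k ∈ {g : X | g ∈ K ∧ Odd (orderOf g)}, k ∉ Cfsg.pCore 2 X := by
    by_contra hcon
    push Not at hcon
    have : K ≤ Cfsg.pCore 2 X := hgen.ge.trans ((Subgroup.closure_le _).2 hcon)
    rw [hX.pCoreOf_eq hKrot, inf_eq_left.2 this, Subgroup.relIndex_self] at hidx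
    omega
  have hk3 : k ^ 3 = 1 := by
    have h1 : k ^ 3 ∈ Cfsg.pCore 2 X := proj_eq_one_iff.1 (by rw [map_pow]; exact hX.proj_cube (hKrot hk))
    obtain ⟨j, hj⟩ := exists_pow_of_mem_pCore h1
    rw [← orderOf_eq_one_iff]
    exact Nat.eq_one_of_dvd_coprimes (((Nat.coprime_two_left).2 hkodd).pow_left j)
      (orderOf_dvd_of_pow_eq_one hj) (orderOf_pow_dvd 3)
  have hcyc : K.map proj = zpowers (proj k) := by
    refine (Subgroup.eq_of_le_of_card_ge (zpowers_le.2 (Subgroup.mem_map_of_mem (proj (X := X)) hk)) ?_).symm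
    have hker : (proj (X := X)).ker = Cfsg.pCore 2 X := QuotientGroup.ker_mk' _
    rw [hX.pCoreOf_eq hKrot, Subgroup.inf_relIndex_left, ← hker, Subgroup.relIndex_ker] at hidx
    haveI : Fact (Nat.Prime 3) := ⟨Nat.prime_three⟩
    rw [hidx, Nat.card_zpowers, orderOf_eq_prime (by rw [← map_pow, hk3, map_one])
      (fun e => hkQ (proj_eq_one_iff.1 e))]
  obtain ⟨a, ⟨hat, A, hA, hAP, haA⟩, hnc⟩ : ∃ a ∈ {a | Trv.IsTrv (act a) ∧ ∃ A ∈ maxElementaryAbelianSubgroups 2 X,
      A ≤ (P : Subgroup X) ∧ a ∈ A}, proj a * proj k ≠ proj k * proj a := by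
    by_contra hcon
    push Not at hcon
    have hJc : ∀ j ∈ J, proj j * proj k = proj k * proj j := by
      suffices hc : ∀ j ∈ Subgroup.closure ({a | Trv.IsTrv (act a) ∧ ∃ A ∈ maxElementaryAbelianSubgroups 2 X,
          A ≤ (P : Subgroup X) ∧ a ∈ A} ∪ (Cfsg.pCore 2 X : Set X)), proj j * proj k = proj k * proj j from
        fun j hj => hc j (hX.thompson_le P hj)
      intro j hj'
      induction hj' using Subgroup.closure_induction with
      | mem v hv =>
        rcases hv with hv | hv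
        · exact hcon v hv
        · rw [proj_eq_one_iff.2 hv, one_mul, mul_one]
      | one => rw [map_one, one_mul, mul_one]
      | mul u v _ _ hu hv => rw [map_mul]; exact ((show Commute _ _ from hu).mul_left hv).eq
      | inv u _ hu => rw [map_inv]; exact (show Commute _ _ from hu).inv_left.eq
    apply hkQ
    refine (show K ≤ Cfsg.pCore 2 X from hKJ.ge.trans ?_) hk
    rw [Subgroup.commutator_le]
    intro x hx j hj
    obtain ⟨i, hi⟩ := mem_zpowers_iff.1 (hcyc.le ⟨x, hx, rfl⟩)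
    refine proj_eq_one_iff.1 ?_
    rw [map_commutatorElement, commutatorElement_eq_one_iff_mul_comm, ← hi]
    exact ((show Commute _ _ from hJc j hj).zpow_right i).symm.eq
  have ha2 : a * a = 1 := by rw [← pow_two]; exact hA.1.2 a haA
  obtain ⟨d, hd⟩ := exists_block hX ha2 hat
  have hVN : zq X ≤ normalizer (K : Set X) := (hX.zq_le_thompson P).trans hJN
  have hkne : act k ≠ 1 := by
    intro e
    exact hnc (hX.proj_commute e (k := 1) (by rw [pow_one, pow_two, ha2]))
  have hrot : Trv.IsRot (act k) := by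
    refine ⟨by rw [← map_pow, hk3, map_one], le_antisymm ?_ ?_⟩
    · have := Subgroup.card_le_of_le (hX.map_rng_le hKrot hVN hk hk3)
      rwa [Subgroup.card_map_of_injective (zq X).subtype_injective, hW] at this
    · have hodd : Odd (orderOf (act k)) := hkodd.of_dvd_nat (orderOf_map_dvd _ k)
      obtain ⟨w, hw, hwne⟩ : ∃ w ∈ (Trv.mv (act k)).range, act k w ≠ w := by
        by_contra hcon
        push Not at hcon
        exact hkne (Trv.eq_one_of_range_fixed zq_sq hodd hcon)
      have h3 : (act k) ^ 3 = 1 := by rw [← map_pow, hk3, map_one]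
      have hw1 : w ≠ 1 := fun e => hwne (by rw [e, map_one])
      have n1 : act k w ≠ 1 := fun e => hw1 ((act k).injective (by rw [e, map_one]))
      have n2 : act k (act k w) ≠ 1 := fun e => n1 ((act k).injective (by rw [e, map_one]))
      have n3 : act k (act k w) ≠ act k w := fun e => hwne ((act k).injective e)
      have n4 : act k (act k w) ≠ w := fun e => by
        have h4 : ((act k) ^ 3) w = w := by rw [h3, MulAut.one_apply]
        rw [pow_succ', pow_two, MulAut.mul_apply, MulAut.mul_apply, e] at h4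
        exact hwne h4
      have := Trv.length_le_card (S := (Trv.mv (act k)).range) [1, w, act k w, act k (act k w)]
        (by simp [List.nodup_cons, Ne.symm hw1, Ne.symm n1, Ne.symm n2, Ne.symm hwne, Ne.symm n3, Ne.symm n4])
        (by
          simp only [List.mem_cons, List.not_mem_nil, or_false]
          rintro z (rfl | rfl | rfl | rfl)
          exacts [one_mem _, hw, Trv.apply_mem_range _ hw, Trv.apply_mem_range _ (Trv.apply_mem_range _ hw)])
      simpa using this
  have hcore : act k ∈ rotCore X := act_mem_rotCore (hKrot hk)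
  have hr : rng d = rng k := by
    by_contra hr
    exact hnc (hX.proj_commute_trv hd hrot hcore hr)
  -- `a` inverts `k` modulo `O₂(X)`
  have hconj : proj a * proj k * proj a = (proj k)⁻¹ := by
    have hanorm : a ∈ normalizer (K : Set X) := hJN (CfsgLib.Transfer.le_thompsonSubgroupOf hA hAP haA)
    have hm : proj (a * k * a⁻¹) ∈ zpowers (proj k) :=
      hcyc.le ⟨_, conj_mem_of_mem_normalizer hanorm hk, rfl⟩
    rw [inv_eq_of_mul_eq_one_right ha2, map_mul, map_mul] at hm
    obtain ⟨i, hi⟩ := mem_zpowers_iff.1 hm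
    have h3 : (proj k) ^ (3 : ℤ) = 1 := by
      rw [← map_zpow, show (k : X) ^ (3 : ℤ) = k ^ 3 from zpow_natCast k 3, hk3, map_one]
    have hmod : (proj k) ^ i = (proj k) ^ (i % 3) := zpow_eq_zpow_emod i h3
    have haa : proj a * proj a = 1 := by rw [← map_mul, ha2, map_one]
    have hcases : i % 3 = 0 ∨ i % 3 = 1 ∨ i % 3 = 2 := by omega
    rcases hcases with e | e | e <;> rw [e, hi] at hmod
    · exfalso
      apply hkQ
      rw [← proj_eq_one_iff]
      calc proj k = proj a * (proj a * proj k * proj a) * proj a := by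
            rw [← mul_assoc, ← mul_assoc, haa, one_mul, mul_assoc, haa, mul_one]
        _ = 1 := by rw [hmod, zpow_zero, mul_one, haa]
    · exfalso
      apply hnc
      rw [zpow_one] at hmod
      calc proj a * proj k = (proj a * proj k * proj a) * proj a := by rw [mul_assoc _ (proj a), haa, mul_one]
        _ = proj k * proj a := by rw [hmod]
    · rw [hmod]
      apply eq_inv_of_mul_eq_one_left
      rw [← zpow_add_one, show (2 : ℤ) + 1 = 3 from rfl, h3]
  obtain ⟨i, hi⟩ := mem_zpowers_iff.1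
    (Trv.IsRot.mem_zpowers_of_range_eq zq_sq odd_rotCore hd.rot hrot hd.mem_rotCore hcore hr)
  set z := (d ^ i)⁻¹ * k with hz
  have hzp : proj z = 1 := by
    have hz1 : act z = 1 := by rw [hz, map_mul, map_inv, map_zpow, hi, inv_mul_cancel]
    refine hX.proj_eq_one_of_inverted ha2 hz1 ?_
    have haa : proj a * proj a = 1 := by rw [← map_mul, ha2, map_one]
    have hdi : proj a * proj (d ^ i)⁻¹ * proj a = proj (d ^ i) := by
      rw [← map_mul, ← map_mul, ← zpow_neg]
      congr 1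
      calc a * d ^ (-i) * a = (a * d * a⁻¹) ^ (-i) := by rw [conj_zpow, inv_eq_of_mul_eq_one_right ha2]
        _ = d ^ i := by rw [inv_eq_of_mul_eq_one_right ha2, hd.inv, inv_zpow', neg_neg]
    have hcm : Commute (proj k) (proj (d ^ i)) :=
      hX.proj_commute_rotGroup (hKrot hk) (Or.inl (zpow_mem hd.mem_rotGroup i))
    calc proj a * proj z * proj a = (proj a * proj (d ^ i)⁻¹ * proj a) * (proj a * proj k * proj a) := by
          rw [hz, map_mul]
          simp only [mul_assoc]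
          rw [← mul_assoc (proj a) (proj a), haa, one_mul]
      _ = proj (d ^ i) * (proj k)⁻¹ := by rw [hdi, hconj]
      _ = (proj z)⁻¹ := by
          rw [hz, map_mul, map_inv, mul_inv_rev, inv_inv]
          exact hcm.inv_left.eq.symm
  have hkd : proj k = (proj d) ^ i := by
    rw [hz, map_mul, map_inv, inv_mul_eq_one, map_zpow] at hzp
    exact hzp.symm
  have hdk : proj d ∈ zpowers (proj k) := by
    haveI : Fact (Nat.Prime 3) := ⟨Nat.prime_three⟩
    have hle : zpowers (proj k) ≤ zpowers (proj d) := zpowers_le.2 (hkd ▸ zpow_mem (mem_zpowers _) i)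
    have := Subgroup.eq_of_le_of_card_ge hle (by
      rw [Nat.card_zpowers, Nat.card_zpowers, orderOf_eq_prime (p := 3) (x := proj k)
        (by rw [← map_pow, hk3, map_one]) (fun e => hkQ (proj_eq_one_iff.1 e))]
      exact Nat.le_of_dvd (by norm_num) (orderOf_dvd_of_pow_eq_one (by rw [← map_pow, hd.cube, map_one])))
    rw [this]; exact mem_zpowers _
  have hKd : K ≤ dGroup d := fun x hx => by
    obtain ⟨j, hj⟩ := mem_zpowers_iff.1 (hcyc.le ⟨x, hx, rfl⟩)
    rw [mem_dGroup, ← hj, hkd]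
    exact zpow_mem (zpow_mem (mem_zpowers _) i) j
  haveI := CfsgLib.Cores.pCore_characteristic (G := X) 2
  have hQK : Cfsg.pCore 2 X ≤ normalizer (K : Set X) := le_normalizer_of_generated hgen hKJ
    (P.2.to_le (CfsgLib.Transfer.thompsonSubgroupOf_le 2 _))
    (le_top.trans (Subgroup.normalizer_eq_top (H := Cfsg.pCore 2 X)).ge) (pCore_le_normalizer_thompson P)
  have hsplit : ∀ y ∈ dGroup d, ∃ q ∈ Cfsg.pCore 2 X, ∃ m : ℤ, y = q * k ^ m := by
    intro y hy
    obtain ⟨j, hj⟩ := mem_zpowers_iff.1 (mem_dGroup.1 hy)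
    obtain ⟨m, hm⟩ := mem_zpowers_iff.1 hdk
    refine ⟨y * (k ^ (m * j))⁻¹, proj_eq_one_iff.1 ?_, m * j, by rw [inv_mul_cancel_right]⟩
    rw [map_mul, map_inv, map_zpow, zpow_mul, hm, hj, mul_inv_cancel]
  refine ⟨a, d, hd, le_antisymm ?_ ?_, A, hA, hAP, haA⟩
  · conv_lhs => rw [← hgen]
    exact Subgroup.closure_mono fun x hx => ⟨hKd hx.1, hx.2⟩
  · rw [compOf, Subgroup.closure_le]
    rintro x ⟨hx, hodd⟩
    refine mem_of_odd_of_sup (Q := Cfsg.pCore 2 X) hKd (pCore_le_dGroup d) (fun y hy => ?_)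
      (fun y hy => ?_) isPGroup_pCore_two hx hodd
    · obtain ⟨q, hq, m, rfl⟩ := hsplit y hy
      exact mul_mem (hQK hq) (zpow_mem (Subgroup.le_normalizer hk) m)
    · obtain ⟨q, hq, m, rfl⟩ := hsplit y hy
      exact Subgroup.mul_mem_sup hq (zpow_mem hk m)

end CfsgLib.LocalEven.JComp
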