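import Cfsg.Agent.Lib.LocalEven.JBeta

/-!
Components outside `M`: normality and the centre.
-/

set_option autoImplicit false

namespace CfsgLib.LocalEven.JComp

open Subgroup CfsgLib.LocalEven Cfsg
open scoped commutatorElement

variable {G : Type*} [Group G] [Finite G] {M T : Subgroup G}

theorem Straddle.main (h : Straddle M T) (hO : Cfsg.pCore 2 G = ⊥) {K L : Subgroup G}
    (hK : K ∈ jComponentsOutside M T) (hL : IsMaximalTwoLocal L) (hKL : K ⊔ thompsonSubgroupOf 2 T ≤ L) :
    T ≤ normalizer (K : Set G) ∧ ∀ i ∈ hyp T K, i ≠ 1 → ∀ j ∈ hyp T K, j ≠ 1 → i = j := by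
  have hs := h.sylow_maxLocal hK hL hKL
  by_cases hg : ∃ g ∈ normalizer (thompsonSubgroupOf 2 T : Set G), g ∉ L
  · obtain ⟨g, hg, hgL⟩ := hg
    obtain ⟨h1, h2⟩ := h.small hK.1.1 hK.2.1 hL hKL hs hg hgL
    exact ⟨h.normalizes hK.1.1 hK.2.1 hKL hs.1 h1, h2⟩
  · push Not at hg
    obtain ⟨P, hP⟩ := h.isPGroup.exists_le_sylow
    have he : T = (P : Subgroup G) := by
      by_contra hne
      obtain ⟨g, -, hgJ, -, hgL⟩ := h.exists_normalizing hs P.2 hP hne
      exact hgL (hg g hgJ)
    subst he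
    exact h.beta hO hK hL hKL hg

theorem Straddle.card_centre (h : Straddle M T) {K : Subgroup G} (hK : IsJComponent T K)
    (hs : ∀ i ∈ hyp T K, i ≠ 1 → ∀ j ∈ hyp T K, j ≠ 1 → i = j) :
    (Nat.card ↥(omegaCenterOf (thompsonSubgroupOf 2 T)) = 2 ∧ ∀ x ∈ hyp T K, x = 1) ∨
      ∃ c w, c ∈ hyp T K ∧ c ≠ 1 ∧ w ∈ omegaCenterOf (thompsonSubgroupOf 2 T) ∧ w ∉ hyp T K ∧
        Nat.card ↥(omegaCenterOf (thompsonSubgroupOf 2 T)) = 4 ∧
        ∀ z ∈ omegaCenterOf (thompsonSubgroupOf 2 T), z = 1 ∨ z = c ∨ z = w ∨ z = c * w := by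
  classical
  obtain ⟨w, d, hw, hwW, hw1, huniq, hd, -, -, hfix⟩ := exists_wgen h.isPGroup hK
  set Z₀ := omegaCenterOf (thompsonSubgroupOf 2 T) with hZ₀
  haveI := Fintype.ofFinite ↥Z₀
  have hwh := notMem_hyp (T := T) hwW hw1 hd hfix
  by_cases hc : ∃ c ∈ hyp T K, c ≠ 1
  · right
    obtain ⟨c, hc, hc1⟩ := hc
    have hall : ∀ z ∈ Z₀, z = 1 ∨ z = c ∨ z = w ∨ z = c * w := by
      intro z hz
      rcases mem_hyp_cases h.isPGroup hK hw huniq hz with h1 | h1
      · by_cases hz1 : z = 1
        · exact Or.inl hz1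
        · exact Or.inr (Or.inl (hs z h1 hz1 c hc hc1))
      · by_cases hz1 : z * w = 1
        · exact Or.inr (Or.inr (Or.inl (by rw [mem_of_mul_eq (omega_sq hw) hz1, one_mul])))
        · exact Or.inr (Or.inr (Or.inr (mem_of_mul_eq (omega_sq hw) (hs _ h1 hz1 c hc hc1))))
    refine ⟨c, w, hc, hc1, hw, hwh, ?_, hall⟩
    have hcw : c ≠ w := fun e => hwh (e ▸ hc)
    have n1 : c * w ≠ 1 := fun e => hwh (by rw [eq_inv_of_mul_eq_one_right e]; exact inv_mem hc)
    have n2 : c * w ≠ c := fun e => hw1 (mul_left_cancel (e.trans (mul_one c).symm))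
    have n3 : c * w ≠ w := fun e => hc1 (mul_right_cancel (e.trans (one_mul w).symm))
    have hu : (Finset.univ : Finset ↥Z₀) = {1, ⟨c, hc.1⟩, ⟨w, hw⟩, ⟨c * w, mul_mem hc.1 hw⟩} := by
      ext x
      simp only [Finset.mem_univ, Finset.mem_insert, Finset.mem_singleton, true_iff, Subtype.ext_iff,
        OneMemClass.coe_one]
      exact hall x x.2
    rw [Nat.card_eq_fintype_card, ← Finset.card_univ, hu, Finset.card_insert_of_notMem,
      Finset.card_insert_of_notMem, Finset.card_insert_of_notMem, Finset.card_singleton] <;>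
      simp [Subtype.ext_iff, hcw, Ne.symm hc1, Ne.symm hw1, Ne.symm n1, Ne.symm n2, Ne.symm n3]
  · left
    push Not at hc
    refine ⟨le_antisymm ?_ ?_, hc⟩
    · obtain ⟨h2, -, -⟩ := component_omega h.isPGroup hK
      rw [← h2]
      refine Subgroup.card_le_of_le fun z hz => ⟨hz, ?_⟩
      rcases mem_hyp_cases h.isPGroup hK hw huniq hz with h1 | h1
      · rw [hc z h1]; exact one_mem _
      · rw [mem_of_mul_eq (omega_sq hw) (hc _ h1), one_mul]; exact hwW
    · obtain ⟨h2, -, -⟩ := component_omega h.isPGroup hK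
      rw [← h2]
      exact Subgroup.card_le_of_le inf_le_left

theorem Straddle.centre_alternative (h : Straddle M T) (hO : Cfsg.pCore 2 G = ⊥) {K L : Subgroup G}
    (hK : K ∈ jComponentsOutside M T) (hL : IsMaximalTwoLocal L) (hKL : K ⊔ thompsonSubgroupOf 2 T ≤ L)
    (P : Sylow 2 G) (hTP : T ≤ (P : Subgroup G)) :
    (omegaCenterOf (P : Subgroup G) = omegaCenterOf (thompsonSubgroupOf 2 T) ∧
        Nat.card ↥(omegaCenterOf (thompsonSubgroupOf 2 T)) = 2) ∨
      (omegaCenterOf (P : Subgroup G) = omegaCenterOf (thompsonSubgroupOf 2 T) ∧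
        Nat.card ↥(omegaCenterOf (thompsonSubgroupOf 2 T)) = 4 ∧ T = (P : Subgroup G)) ∨
      (omegaCenterOf T = omegaCenterOf (thompsonSubgroupOf 2 T) ∧
        Nat.card ↥(omegaCenterOf (thompsonSubgroupOf 2 T)) = 4 ∧
        (L ⊓ centralizer (omegaCenterOf (thompsonSubgroupOf 2 T) : Set G)).relIndex
          (normalizer (omegaCenterOf (thompsonSubgroupOf 2 T) : Set G)) = 2) := by
  haveI : Fact (Nat.Prime 2) := ⟨Nat.prime_two⟩
  obtain ⟨hn, hsm⟩ := h.main hO hK hL hKL
  have hs := h.sylow_maxLocal hK hL hKL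
  set Z₀ := omegaCenterOf (thompsonSubgroupOf 2 T) with hZ₀
  have hTe : omegaCenterOf T = Z₀ := omega_thompson_eq h.isPGroup (h.centralizes hK.1.1 hn hsm)
  have hZle : omegaCenterOf (P : Subgroup G) ≤ Z₀ := (h.omega_sylow_le hL hs P hTP).trans hTe.le
  obtain ⟨z, -, hz, hz1⟩ := exists_mem_omega P.2 le_rfl Subgroup.le_normalizer
    (fun e => h.mem.1.2.1 (le_bot_iff.1 (hTP.trans e.le)))
  rcases h.card_centre hK.1.1 hsm with ⟨h2, -⟩ | ⟨c, w, hc, hc1, hw, hwh, h4, hall⟩
  · left
    refine ⟨Subgroup.eq_of_le_of_card_ge hZle ?_, h2⟩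
    rw [h2]
    exact Subgroup.one_lt_card_iff_ne_bot _ |>.2 fun e => hz1 (mem_bot.1 (e ▸ hz))
  · by_cases hTPe : T = (P : Subgroup G)
    · right; left
      refine ⟨?_, h4, hTPe⟩
      rw [← hTPe]
      exact hTe
    · right; right
      refine ⟨hTe, h4, ?_⟩
      obtain ⟨g, hgP, hgJ, -, hgL⟩ := h.exists_normalizing hs P.2 hTP hTPe
      have hcL : centralizer ({c} : Set G) ≤ L := h.centralizer_le hK.1.1 hK.2.1 hL hKL hc hc1
      have hC : centralizer (Z₀ : Set G) ≤ L := fun x hx =>
        hcL (mem_centralizer_singleton_iff.2 (mem_centralizer_iff.1 hx c hc.1).symm)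
      rw [inf_eq_right.2 hC]
      set N := normalizer (Z₀ : Set G) with hN
      have hgN : g ∈ N := Oz.normalizer_le (p := 2) _ hgJ
      -- `c` is not conjugate to a 2-central element
      have hzc : ∀ n : G, n * c * n⁻¹ ≠ z := by
        intro n e
        apply hTPe
        have hle : (P : Subgroup G).map (MulAut.conj n⁻¹).toMonoidHom ≤ L := by
          rintro _ ⟨x, hx, rfl⟩
          refine hcL (mem_centralizer_singleton_iff.2 ?_)
          have h1 := omega_comm hz hx
          rw [← e] at h1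
          show n⁻¹ * x * n⁻¹⁻¹ * c = c * (n⁻¹ * x * n⁻¹⁻¹)
          calc n⁻¹ * x * n⁻¹⁻¹ * c = n⁻¹ * (x * (n * c * n⁻¹)) * n := by group
            _ = n⁻¹ * (n * c * n⁻¹ * x) * n := by rw [h1]
            _ = _ := by group
        have h2 : IsPGroup 2 ↥((P : Subgroup G).map (MulAut.conj n⁻¹).toMonoidHom) := P.2.map _
        obtain ⟨Q, hQ, hPQ⟩ := exists_sylowTwoIn hle h2
        obtain ⟨y, hy⟩ := MulAction.exists_smul_eq ↥L (sylowOf hQ) (sylowOf hs)
        have hcardQ : Nat.card ↥Q = Nat.card ↥T := by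
          have h3 := Sylow.card_eq_multiplicity (sylowOf hQ)
          have h4 := Sylow.card_eq_multiplicity (sylowOf hs)
          rw [coe_sylowOf, Nat.card_congr (Subgroup.subgroupOfEquivOfLe hQ.1).toEquiv] at h3
          rw [coe_sylowOf, Nat.card_congr (Subgroup.subgroupOfEquivOfLe hs.1).toEquiv] at h4
          rw [h3, h4]
        refine Subgroup.eq_of_le_of_card_ge hTP ?_
        rw [← hcardQ, ← card_map_conj (P : Subgroup G) n⁻¹]
        exact Subgroup.card_le_of_le hPQ
      have hgz : g * z * g⁻¹ = z := by rw [omega_comm hz hgP, mul_inv_cancel_right]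
      set c' := g * c * g⁻¹ with hc'
      have hc'Z : c' ∈ Z₀ := conj_mem_omega hgJ hc.1
      have hc'1 : c' ≠ 1 := fun e => hc1 (conj_eq_one_iff.1 e)
      have hc'c : c' ≠ c := fun e => hgL (hcL (mem_centralizer_singleton_iff.2 (mul_inv_eq_iff_eq_mul.1 e)))
      have hc'z : c' ≠ z := hzc g
      have hcz : c ≠ z := fun e => hzc 1 (by simpa using e)
      have hfour : ∀ x ∈ Z₀, x = 1 ∨ x = c ∨ x = c' ∨ x = z := by
        classical
        intro x hx
        by_contra hcon
        push Not at hcon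
        haveI := Fintype.ofFinite ↥Z₀
        have h5 := Finset.card_le_univ
          ({1, ⟨c, hc.1⟩, ⟨c', hc'Z⟩, ⟨z, hZle hz⟩, ⟨x, hx⟩} : Finset ↥Z₀)
        rw [Finset.card_insert_of_notMem, Finset.card_insert_of_notMem, Finset.card_insert_of_notMem,
          Finset.card_insert_of_notMem, Finset.card_singleton, ← Nat.card_eq_fintype_card, h4] at h5
        · omega
        all_goals simp [Subtype.ext_iff, Ne.symm hc1, Ne.symm hc'1, Ne.symm hz1, Ne.symm hcon.1,
          Ne.symm hcon.2.1, Ne.symm hcon.2.2.1, Ne.symm hcon.2.2.2, Ne.symm hc'c, hc'z, hcz]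
      have horbit : ∀ n ∈ N, n * c * n⁻¹ = c ∨ n * c * n⁻¹ = c' := by
        intro n hn'
        rcases hfour _ (conj_mem_of_mem_normalizer hn' hc.1) with e | e | e | e
        · exact absurd (conj_eq_one_iff.1 e) hc1
        · exact Or.inl e
        · exact Or.inr e
        · exact absurd e (hzc n)
      have hz_fix : ∀ n ∈ N, n * z * n⁻¹ = z := by
        intro n hn'
        have hni : n⁻¹ ∈ N := inv_mem hn'
        rcases hfour _ (conj_mem_of_mem_normalizer hn' (hZle hz)) with e | e | e | e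
        · exact absurd (conj_eq_one_iff.1 e) hz1
        · exfalso
          apply hzc n⁻¹
          rw [← e]; group
        · exfalso
          apply hzc (n⁻¹ * g)
          calc n⁻¹ * g * c * (n⁻¹ * g)⁻¹ = n⁻¹ * (g * c * g⁻¹) * n := by group
            _ = n⁻¹ * (n * z * n⁻¹) * n := by rw [← hc', e]
            _ = z := by group
        · exact e
      have hmemC : ∀ n ∈ N, n ∈ centralizer (Z₀ : Set G) ↔ n * c * n⁻¹ = c := by
        intro n hn'
        constructor
        · intro hnc
          rw [← mem_centralizer_iff.1 hnc c hc.1, mul_inv_cancel_right]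
        · intro e
          refine mem_centralizer_iff.2 fun x hx => ?_
          have hc2 : n * c' * n⁻¹ = c' := by
            rcases hfour _ (conj_mem_of_mem_normalizer hn' hc'Z) with e' | e' | e' | e'
            · exact absurd (conj_eq_one_iff.1 e') hc'1
            · exact absurd (show c' = c from conj_injective (e'.trans e.symm)) hc'c
            · exact e'
            · exact absurd (show c' = z from conj_injective (e'.trans (hz_fix n hn').symm)) hc'z
          rcases hfour x hx with rfl | rfl | rfl | rfl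
          · rw [one_mul, mul_one]
          · exact (mul_inv_eq_iff_eq_mul.1 e).symm
          · exact (mul_inv_eq_iff_eq_mul.1 hc2).symm
          · exact (mul_inv_eq_iff_eq_mul.1 (hz_fix n hn')).symm
      rw [Subgroup.relIndex, Subgroup.index_eq_two_iff]
      refine ⟨⟨g, hgN⟩, fun b => ?_⟩
      rw [mem_subgroupOf, mem_subgroupOf, hmemC _ (b * ⟨g, hgN⟩ : ↥N).2, hmemC _ b.2]
      have hb' : (b : G) * c' * (b : G)⁻¹ = ((b * ⟨g, hgN⟩ : ↥N) : G) * c * ((b * ⟨g, hgN⟩ : ↥N) : G)⁻¹ := by
        rw [Subgroup.coe_mul, hc']; group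
      rw [← hb']
      rcases horbit _ b.2 with e | e
      · refine Or.inr ⟨e, fun e' => hc'c ?_⟩
        exact conj_injective (e'.trans e.symm)
      · refine Or.inl ⟨?_, fun e' => hc'c (e.symm.trans e')⟩
        rcases hfour _ (conj_mem_of_mem_normalizer b.2 hc'Z) with e' | e' | e' | e'
        · exact absurd (conj_eq_one_iff.1 e') hc'1
        · exact e'
        · exact absurd (show c' = c from conj_injective (e'.trans e.symm)) hc'c
        · exact absurd (show c' = z from conj_injective (e'.trans (hz_fix b b.2).symm)) hc'z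
where
  conj_injective {G : Type _} [Group G] {n x y : G} (e : n * x * n⁻¹ = n * y * n⁻¹) : x = y := by
    simpa using e

end CfsgLib.LocalEven.JComp
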