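import Cfsg.Agent.Lib.LocalEven.JFinal

/-!
Two components over a common Sylow 2-subgroup: the basic configuration.
-/

set_option autoImplicit false

namespace CfsgLib.LocalEven.JComp

open Subgroup CfsgLib.LocalEven Cfsg
open scoped commutatorElement

variable {G : Type*} [Group G] [Finite G]

/-- A component `K` with its maximal 2-local subgroup `L`, the involution `w` and the rotation `d`. -/
structure Side (T : Subgroup G) where
  K : Subgroup G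
  L : Subgroup G
  w : G
  d : G
  hK : IsJComponent T K
  hL : IsMaximalTwoLocal L
  hKL : K ≤ L
  hT : IsSylowTwoIn T L
  hn : T ≤ normalizer (K : Set G)
  huniq : ∀ N, IsTwoLocal N → K ⊔ thompsonSubgroupOf 2 T ≤ N → N ≤ L
  hwZ : w ∈ omegaCenterOf (thompsonSubgroupOf 2 T)
  hwW : w ∈ wOf K
  hw1 : w ≠ 1
  huw : ∀ x ∈ omegaCenterOf (thompsonSubgroupOf 2 T), x ∈ wOf K → x = 1 ∨ x = w
  hd : d ∈ K
  hd3 : d ^ 3 = 1
  hdec : ∀ y ∈ K, ∃ i : ℤ, (d ^ i)⁻¹ * y ∈ pCoreOf 2 K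
  hfix : ∀ x ∈ wOf K, d * x * d⁻¹ = x → x = 1
  hsm : ∀ i ∈ hyp T K, i ≠ 1 → ∀ j ∈ hyp T K, j ≠ 1 → i = j
  hTZ : ∀ t ∈ T, ∀ z ∈ omegaCenterOf (thompsonSubgroupOf 2 T), t * z = z * t

variable {T : Subgroup G} (s : Side T)

namespace Side

/-- The second involution of the four-group. -/
def p : G := s.d * s.w * s.d⁻¹

/-- The third involution of the four-group. -/
def q : G := s.w * s.p

/-- The index 2 subgroup of `T` centralising the four-group. -/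
def Q : Subgroup G := T ⊓ centralizer (wOf s.K : Set G)

theorem isPGroup (s : Side T) : IsPGroup 2 ↥T := s.hT.2.1

theorem jT (_s : Side T) : thompsonSubgroupOf 2 T ≤ T := CfsgLib.Transfer.thompsonSubgroupOf_le 2 T

theorem hW4 : Nat.card ↥(wOf s.K) = 4 := s.hK.2.2.2.2.1

theorem hWsq {x : G} (hx : x ∈ wOf s.K) : x * x = 1 := s.hK.2.2.2.2.2 x hx

theorem d_mem_normalizer : s.d ∈ normalizer (wOf s.K : Set G) := (wOf_le_pCoreOf s.hK).2.2 s.hd

theorem cycle : s.d * s.p * s.d⁻¹ = s.q ∧ s.d * s.q * s.d⁻¹ = s.w ∧ s.p ∈ wOf s.K ∧ s.p ≠ 1 ∧ s.w ≠ s.p :=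
  rot_cycle s.hW4 s.hK.2.2.2.2.2 s.hd3 s.d_mem_normalizer s.hfix s.hwW s.hw1

theorem pW : s.p ∈ wOf s.K := s.cycle.2.2.1

theorem qW : s.q ∈ wOf s.K := mul_mem s.hwW s.pW

theorem cases {x : G} (hx : x ∈ wOf s.K) : x = 1 ∨ x = s.w ∨ x = s.p ∨ x = s.q :=
  four_cases s.hW4 s.hK.2.2.2.2.2 s.hwW s.pW s.hw1 s.cycle.2.2.2.1 s.cycle.2.2.2.2 hx

theorem W_comm {x y : G} (hx : x ∈ wOf s.K) (hy : y ∈ wOf s.K) : x * y = y * x := by
  calc x * y = (y * y) * (x * y) * (x * x) := by rw [s.hWsq hy, s.hWsq hx, one_mul, mul_one]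
    _ = y * ((y * x) * (y * x)) * x := by group
    _ = y * x := by rw [s.hWsq (mul_mem hy hx), mul_one]

theorem W_le : wOf s.K ≤ T :=
  (component_omega s.isPGroup s.hK).2.1.trans s.jT

theorem w_comm {t : G} (ht : t ∈ T) : t * s.w = s.w * t := s.hTZ t ht s.w s.hwZ

theorem T_le_normalizer : T ≤ normalizer (wOf s.K : Set G) := s.hn.trans (normalizer_le_normalizer_wOf s.K)

theorem le_T {x : G} {N : Subgroup G} (hNL : N ≤ s.L) (hN : IsPGroup 2 ↥N)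
    (hTN : T ≤ normalizer (N : Set G)) (hx : x ∈ N) : x ∈ T := by
  haveI : Fact (Nat.Prime 2) := ⟨Nat.prime_two⟩
  have h2 : IsPGroup 2 ↥(T ⊔ N) := s.isPGroup.to_sup_of_normal_right' hN hTN
  have hle : T ⊔ N ≤ s.L := sup_le s.hT.1 hNL
  have hm := Subgroup.relIndex_mul_relIndex T (T ⊔ N) s.L le_sup_left hle
  obtain ⟨i, hi⟩ := IsPGroup.iff_card.1 h2
  have hodd : Odd (T.relIndex (T ⊔ N)) := s.hT.2.2.of_dvd_nat ⟨_, hm.symm⟩
  have h1 : T.relIndex (T ⊔ N) = 1 := Nat.eq_one_of_dvd_coprimes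
    (((Nat.coprime_two_left).2 hodd).pow_left i) (hi ▸ Subgroup.relIndex_dvd_card T _) dvd_rfl
  exact Subgroup.relIndex_eq_one.1 h1 (mem_sup_right hx)

theorem core_le_T : pCoreOf 2 s.K ≤ T := fun x hx =>
  s.le_T ((pCoreOf_le 2 s.K).trans s.hKL) (isPGroup_pCoreOf 2 s.K)
    (fun t ht => mem_normalizer_of_conj_le (le_of_eq ((pCoreOf_map 2 _ s.K).symm.trans
      (congrArg (pCoreOf 2) (map_conj_of_mem_normalizer (s.hn ht)))))) hx

theorem core_le_Q : pCoreOf 2 s.K ≤ s.Q := fun o ho =>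
  ⟨s.core_le_T ho, mem_centralizer_iff.2 fun x hx =>
    (omega_comm ((wOf_le_pCoreOf s.hK).2.1 hx) ho).symm⟩

theorem mem_Q_iff {t : G} : t ∈ s.Q ↔ t ∈ T ∧ t * s.p = s.p * t := by
  constructor
  · intro h
    exact ⟨h.1, (mem_centralizer_iff.1 h.2 _ s.pW).symm⟩
  · rintro ⟨ht, hp⟩
    refine ⟨ht, mem_centralizer_iff.2 fun x hx => ?_⟩
    rcases s.cases hx with rfl | rfl | rfl | rfl
    · rw [one_mul, mul_one]
    · exact (s.w_comm ht).symm
    · exact hp.symm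
    · show s.w * s.p * t = t * (s.w * s.p)
      rw [mul_assoc, ← hp, ← mul_assoc, ← s.w_comm ht, mul_assoc]

theorem Q_le : s.Q ≤ T := inf_le_left

theorem move {t : G} (ht : t ∈ T) (htQ : t ∉ s.Q) : t * s.p * t⁻¹ = s.q := by
  rcases s.cases (conj_mem_of_mem_normalizer (s.T_le_normalizer ht) s.pW) with e | e | e | e
  · exact absurd (conj_eq_one_iff.1 e) s.cycle.2.2.2.1
  · exfalso
    apply s.cycle.2.2.2.2
    calc s.w = t⁻¹ * (t * s.w * t⁻¹) * t := by group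
      _ = t⁻¹ * (t * s.p * t⁻¹) * t := by rw [e, s.w_comm ht, mul_inv_cancel_right]
      _ = s.p := by group
  · exact absurd (s.mem_Q_iff.2 ⟨ht, mul_inv_eq_iff_eq_mul.1 e⟩) htQ
  · exact e

theorem move_q {t : G} (ht : t ∈ T) (htQ : t ∉ s.Q) : t * s.q * t⁻¹ = s.p := by
  calc t * s.q * t⁻¹ = (t * s.w * t⁻¹) * (t * s.p * t⁻¹) := by rw [q]; group
    _ = s.w * (s.w * s.p) := by rw [s.w_comm ht, mul_inv_cancel_right, s.move ht htQ]; rfl
    _ = s.p := by rw [← mul_assoc, s.hWsq s.hwW, one_mul]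

theorem mul_mem_Q {t t' : G} (ht : t ∈ T) (htQ : t ∉ s.Q) (ht' : t' ∈ T) (htQ' : t' ∉ s.Q) :
    t * t' ∈ s.Q := by
  refine s.mem_Q_iff.2 ⟨mul_mem ht ht', ?_⟩
  calc t * t' * s.p = t * (t' * s.p * t'⁻¹) * t⁻¹ * (t * t') := by group
    _ = s.p * (t * t') := by rw [s.move ht' htQ', s.move_q ht htQ]

theorem T_le_normalizer_Q : T ≤ normalizer (s.Q : Set G) := fun t ht => by
  refine mem_normalizer_of_conj_le ?_
  rintro _ ⟨x, hx, rfl⟩
  exact Subgroup.mem_inf.2 ⟨mul_mem (mul_mem ht hx.1) (inv_mem ht), conj_mem_of_mem_normalizer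
    (Oz.mem_normalizer_centralizer (s.T_le_normalizer ht)) hx.2⟩

/-- A 2-element fixing the four-group pointwise acts trivially on `K/O₂(K)`. -/
theorem d_conj_Q {x : G} (hx : x ∈ s.Q) : s.d * x * s.d⁻¹ ∈ s.Q := by
  have hxd : x * s.d * x⁻¹ ∈ s.K := conj_mem_of_mem_normalizer (s.hn hx.1) s.hd
  obtain ⟨i, hi⟩ := s.hdec _ hxd
  set o := (s.d ^ i)⁻¹ * (x * s.d * x⁻¹) with ho
  have hoQ := s.core_le_Q hi
  have hxc : ∀ v ∈ wOf s.K, x * v * x⁻¹ = v := fun v hv => by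
    rw [← mem_centralizer_iff.1 hx.2 v hv, mul_inv_cancel_right]
  have hoc : ∀ v ∈ wOf s.K, o * v * o⁻¹ = v := fun v hv => by
    rw [← mem_centralizer_iff.1 hoQ.2 v hv, mul_inv_cancel_right]
  have key : ∀ v ∈ wOf s.K, s.d ^ i * v * (s.d ^ i)⁻¹ = s.d * v * s.d⁻¹ := by
    intro v hv
    have hxv : x⁻¹ * v * x = v := by
      calc x⁻¹ * v * x = x⁻¹ * (x * v * x⁻¹) * x := by rw [hxc v hv]
        _ = v := by group
    calc s.d ^ i * v * (s.d ^ i)⁻¹ = s.d ^ i * (o * v * o⁻¹) * (s.d ^ i)⁻¹ := by rw [hoc v hv]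
      _ = x * (s.d * (x⁻¹ * v * x) * s.d⁻¹) * x⁻¹ := by rw [ho]; group
      _ = s.d * v * s.d⁻¹ := by
        rw [hxv, hxc _ (conj_mem_of_mem_normalizer s.d_mem_normalizer hv)]
  have h3 : s.d ^ (3 : ℤ) = 1 := by rw [show (s.d : G) ^ (3 : ℤ) = s.d ^ 3 from zpow_natCast s.d 3, s.hd3]
  have hdi : s.d ^ i = s.d := by
    have h1 := key _ s.hwW
    rw [zpow_eq_zpow_emod i h3] at h1 ⊢
    have hcases : i % 3 = 0 ∨ i % 3 = 1 ∨ i % 3 = 2 := by omega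
    rcases hcases with e | e | e <;> rw [e] at h1 ⊢
    · exfalso
      rw [zpow_zero, one_mul, inv_one, mul_one] at h1
      exact s.hw1 (s.hfix _ s.hwW h1.symm)
    · rw [zpow_one]
    · exfalso
      rw [zpow_two] at h1
      apply s.hw1
      refine s.hfix _ s.hwW ?_
      calc s.d * s.w * s.d⁻¹ = s.d⁻¹ * ((s.d * s.d) * s.w * (s.d * s.d)⁻¹) * s.d := by group
        _ = s.d⁻¹ * (s.d * s.w * s.d⁻¹) * s.d := by rw [h1]
        _ = s.w := by group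
  have hox : x * s.d * x⁻¹ = s.d * o := by rw [ho, hdi]; group
  -- hence `d⁻¹ x d = o x`
  have h1 : s.d⁻¹ * x * s.d = o * x := by
    calc s.d⁻¹ * x * s.d = s.d⁻¹ * (x * s.d * x⁻¹) * x := by group
      _ = o * x := by rw [hox]; group
  have hcore : s.d * o * s.d⁻¹ ∈ s.Q := s.core_le_Q
    (conj_mem_of_mem_normalizer (le_normalizer_pCoreOf 2 s.K s.hd) hi)
  have h2 : s.d * x * s.d⁻¹ = (s.d * o * s.d⁻¹)⁻¹ * x := by
    calc s.d * x * s.d⁻¹ = (s.d * o * s.d⁻¹)⁻¹ * (s.d * (o * x) * s.d⁻¹) := by group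
      _ = (s.d * o * s.d⁻¹)⁻¹ * (s.d * (s.d⁻¹ * x * s.d) * s.d⁻¹) := by rw [h1]
      _ = (s.d * o * s.d⁻¹)⁻¹ * x := by group
  rw [h2]
  exact mul_mem (inv_mem hcore) hx

theorem d_mem_normalizer_Q : s.d ∈ normalizer (s.Q : Set G) :=
  mem_normalizer_of_conj_le (by rintro _ ⟨x, hx, rfl⟩; exact s.d_conj_Q hx)

theorem K_le_closure : s.K ≤ zpowers s.d ⊔ pCoreOf 2 s.K := fun y hy => by
  obtain ⟨i, hi⟩ := s.hdec y hy
  rw [show y = s.d ^ i * ((s.d ^ i)⁻¹ * y) by group]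
  exact mul_mem (mem_sup_left (zpow_mem (mem_zpowers s.d) i)) (mem_sup_right hi)

/-- An element outside `Q` inverts `d` modulo `O₂(K)`. -/
theorem conj_d {t : G} (ht : t ∈ T) (htQ : t ∉ s.Q) :
    ∃ o ∈ pCoreOf 2 s.K, t * s.d * t⁻¹ = s.d * s.d * o := by
  have hd' : t * s.d * t⁻¹ ∈ s.K := conj_mem_of_mem_normalizer (s.hn ht) s.hd
  obtain ⟨i, hi⟩ := s.hdec _ hd'
  set o := (s.d ^ i)⁻¹ * (t * s.d * t⁻¹) with ho
  have hoc : ∀ v ∈ wOf s.K, o * v * o⁻¹ = v := fun v hv => by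
    rw [← mem_centralizer_iff.1 (s.core_le_Q hi).2 v hv, mul_inv_cancel_right]
  have htw : t⁻¹ * s.w * t = s.w := by
    rw [mul_assoc, ← s.w_comm ht, inv_mul_cancel_left]
  have h1 : s.d ^ i * s.w * (s.d ^ i)⁻¹ = s.q := by
    calc s.d ^ i * s.w * (s.d ^ i)⁻¹ = s.d ^ i * (o * s.w * o⁻¹) * (s.d ^ i)⁻¹ := by rw [hoc _ s.hwW]
      _ = t * (s.d * (t⁻¹ * s.w * t) * s.d⁻¹) * t⁻¹ := by rw [ho]; group
      _ = s.q := by rw [htw]; exact s.move ht htQ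
  have h3 : s.d ^ (3 : ℤ) = 1 := by rw [show (s.d : G) ^ (3 : ℤ) = s.d ^ 3 from zpow_natCast s.d 3, s.hd3]
  refine ⟨o, hi, ?_⟩
  have hdi : s.d ^ i = s.d * s.d := by
    rw [zpow_eq_zpow_emod i h3] at h1 ⊢
    have hcases : i % 3 = 0 ∨ i % 3 = 1 ∨ i % 3 = 2 := by omega
    rcases hcases with e | e | e <;> rw [e] at h1 ⊢
    · exfalso
      rw [zpow_zero, one_mul, inv_one, mul_one] at h1
      exact s.cycle.2.2.2.1 (mul_left_cancel ((h1.symm : s.w * s.p = s.w).trans (mul_one _).symm))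
    · exfalso
      rw [zpow_one] at h1
      exact s.hw1 (mul_right_cancel (h1.symm.trans (one_mul s.p).symm))
    · rw [zpow_two]
  rw [ho, hdi]; group

/-- Conjugation by an element outside `Q` maps the `d`-conjugate of `v` to the `d²`-conjugate. -/
theorem conj_d_conj {t : G} (ht : t ∈ T) (htQ : t ∉ s.Q) (v : G) :
    ∃ o ∈ pCoreOf 2 s.K, t * (s.d * v * s.d⁻¹) * t⁻¹ =
      s.d * (s.d * (o * (t * v * t⁻¹) * o⁻¹) * s.d⁻¹) * s.d⁻¹ := by
  obtain ⟨o, ho, he⟩ := s.conj_d ht htQ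
  refine ⟨o, ho, ?_⟩
  calc t * (s.d * v * s.d⁻¹) * t⁻¹ = (t * s.d * t⁻¹) * (t * v * t⁻¹) * (t * s.d * t⁻¹)⁻¹ := by group
    _ = _ := by rw [he]; group

theorem exists_notMem_Q : ∃ A, IsMaxIn T A ∧ ∃ a ∈ A, a ∉ s.Q := by
  by_contra hcon
  push Not at hcon
  have h1 : thompsonSubgroupOf 2 T ≤ s.Q := thompson_le_iff.2 fun A hA => hcon A hA
  have hpZ : s.p ∈ omegaCenterOf (thompsonSubgroupOf 2 T) :=
    mem_omega ((component_omega s.isPGroup s.hK).2.1 s.pW)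
      (fun y hy => (mem_centralizer_iff.1 (h1 hy).2 _ s.pW).symm) (s.hWsq s.pW)
  rcases s.huw s.p hpZ s.pW with e | e
  · exact s.cycle.2.2.2.1 e
  · exact s.cycle.2.2.2.2 e.symm

theorem centralizer_le {c : G} (hc : c ∈ hyp T s.K) (hc1 : c ≠ 1) : centralizer ({c} : Set G) ≤ s.L :=
  (centralizer_singleton_le_normalizer c).trans (s.huniq _ (isTwoLocal_zpowers (omega_sq hc.1) hc1)
    ((le_centralizer_singleton hc).trans (centralizer_singleton_le_normalizer c)))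

/-- An element of `Ω₁(Z(J))` commuting with `d` lies in the hyperplane. -/
theorem mem_hyp_of_commute {x : G} (hx : x ∈ omegaCenterOf (thompsonSubgroupOf 2 T))
    (hdx : s.d * x = x * s.d) : x ∈ hyp T s.K := by
  refine mem_hyp_iff.2 ⟨hx, fun k hk => ?_⟩
  obtain ⟨i, hi⟩ := s.hdec k hk
  have h1 : (s.d ^ i)⁻¹ * k * x = x * ((s.d ^ i)⁻¹ * k) := s.hTZ _ (s.core_le_T hi) x hx
  have h2 : Commute (s.d ^ i) x := Commute.zpow_left hdx i
  calc k * x = s.d ^ i * ((s.d ^ i)⁻¹ * k * x) := by group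
    _ = (s.d ^ i * x) * ((s.d ^ i)⁻¹ * k) := by rw [h1, mul_assoc]
    _ = x * k := by rw [h2.eq]; group

end Side

/-- Two sides over the same Sylow subgroup with different maximal 2-local subgroups. -/
structure SidePair (T : Subgroup G) where
  s₁ : Side T
  s₂ : Side T
  hne : s₁.L ≠ s₂.L

namespace SidePair

variable (e : SidePair T)

/-- The pair read in the other order. -/
def symm : SidePair T := ⟨e.s₂, e.s₁, e.hne.symm⟩

theorem eq_bot_of_invariant {N : Subgroup G} (hNT : N ≤ T) (hTn : T ≤ normalizer (N : Set G))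
    (h1 : e.s₁.d ∈ normalizer (N : Set G)) (h2 : e.s₂.d ∈ normalizer (N : Set G)) : N = ⊥ := by
  by_contra hN
  have hloc : IsTwoLocal (normalizer (N : Set G)) := ⟨N, e.s₁.isPGroup.to_le hNT, hN, rfl⟩
  have hle : ∀ s : Side T, s.d ∈ normalizer (N : Set G) → s.K ⊔ thompsonSubgroupOf 2 T ≤ normalizer (N : Set G) :=
    fun s hs => sup_le (s.K_le_closure.trans (sup_le (zpowers_le.2 hs) (s.core_le_T.trans hTn)))
      (s.jT.trans hTn)
  obtain ⟨L, hL, hNL⟩ := exists_maximalTwoLocal hloc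
  refine e.hne ?_
  exact (hL.2 e.s₁.L e.s₁.hL.1 (e.s₁.huniq L hL.1 ((hle _ h1).trans hNL))).trans
    (hL.2 e.s₂.L e.s₂.hL.1 (e.s₂.huniq L hL.1 ((hle _ h2).trans hNL))).symm

theorem Q_ne : e.s₁.Q ≠ e.s₂.Q := fun he => by
  have := e.eq_bot_of_invariant (N := e.s₁.Q) e.s₁.Q_le e.s₁.T_le_normalizer_Q e.s₁.d_mem_normalizer_Q
    (by rw [he]; exact e.s₂.d_mem_normalizer_Q)
  exact e.s₁.cycle.2.2.2.1 (mem_bot.1 (this ▸ e.s₁.mem_Q_iff.2 ⟨e.s₁.W_le e.s₁.pW, rfl⟩))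

theorem exists_mem_Q_sdiff : ∃ t ∈ e.s₂.Q, t ∉ e.s₁.Q := by
  by_contra hcon
  push Not at hcon
  refine e.Q_ne (le_antisymm (fun t ht => ?_) hcon)
  by_contra ht2
  obtain ⟨A, hA, a, haA, ha⟩ := e.s₁.exists_notMem_Q
  have haT : a ∈ T := hA.1 haA
  have ha2 : a ∉ e.s₂.Q := fun h => ha (hcon a h)
  have h1 := hcon _ (e.s₂.mul_mem_Q ht.1 ht2 haT ha2)
  exact ha (by simpa using mul_mem (inv_mem ht) h1)

end SidePair

end CfsgLib.LocalEven.JComp
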