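import Cfsg.Agent.Lib.LocalEven.JPairShape

/-!
The amalgam attached to a maximal straddling subgroup.
-/

set_option autoImplicit false

namespace CfsgLib.LocalEven.JComp

open Subgroup CfsgLib.LocalEven Cfsg
open scoped commutatorElement

variable {G : Type*} [Group G] [Finite G] {M T : Subgroup G}

theorem mem_map_conj {H : Subgroup G} {g x : G} :
    x ∈ H.map (MulAut.conj g).toMonoidHom ↔ g⁻¹ * x * g ∈ H := by
  constructor
  · rintro ⟨y, hy, rfl⟩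
    rw [show g⁻¹ * (MulAut.conj g).toMonoidHom y * g = y from (by
      show g⁻¹ * (g * y * g⁻¹) * g = y
      group)]
    exact hy
  · exact fun h => ⟨_, h, show g * (g⁻¹ * x * g) * g⁻¹ = x by group⟩

theorem map_conj_inv (H : Subgroup G) (g : G) :
    (H.map (MulAut.conj g⁻¹).toMonoidHom).map (MulAut.conj g).toMonoidHom = H := by
  ext x
  rw [mem_map_conj, mem_map_conj, show g⁻¹⁻¹ * (g⁻¹ * x * g) * g⁻¹ = x by group]

theorem isMaximalTwoLocal_conj {L : Subgroup G} (g : G) (hL : IsMaximalTwoLocal L) :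
    IsMaximalTwoLocal (L.map (MulAut.conj g).toMonoidHom) := by
  refine ⟨isTwoLocal_conj g hL.1, fun N hN hle => ?_⟩
  have h := hL.2 _ (isTwoLocal_conj g⁻¹ hN) (fun x hx => mem_map_conj.2 (by
    rw [inv_inv]
    exact hle ⟨x, hx, rfl⟩))
  rw [← h, map_conj_inv]

theorem normalizer_le_normalizer_thompson {g : G} (hg : g ∈ normalizer (T : Set G)) :
    g ∈ normalizer (thompsonSubgroupOf 2 T : Set G) :=
  mem_normalizer_of_conj_le (le_of_eq (by rw [← thompson_conj, map_conj_of_mem_normalizer hg]))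

/-- The conjugate of a side by an element normalising `T`. -/
def Side.cj (s : Side T) (g : G) (hg : g ∈ normalizer (T : Set G)) : Side T where
  K := s.K.map (MulAut.conj g).toMonoidHom
  L := s.L.map (MulAut.conj g).toMonoidHom
  w := g * s.w * g⁻¹
  d := g * s.d * g⁻¹
  hK := isJComponent_of_conj_thompson s.hK (normalizer_le_normalizer_thompson hg)
  hL := isMaximalTwoLocal_conj g s.hL
  hKL := Subgroup.map_mono s.hKL
  hT := by
    have h := map_conj_of_mem_normalizer hg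
    refine ⟨h.ge.trans (Subgroup.map_mono s.hT.1), s.isPGroup, ?_⟩
    have h2 : (T.map (MulAut.conj g).toMonoidHom).relIndex (s.L.map (MulAut.conj g).toMonoidHom) =
        T.relIndex s.L := Subgroup.relIndex_map_map_of_injective _ _ (MulAut.conj g).injective
    rw [h] at h2
    rw [h2]
    exact s.hT.2.2
  hn := by
    refine (map_conj_of_mem_normalizer hg).ge.trans ?_
    refine (Subgroup.map_mono s.hn).trans (le_of_eq ?_)
    exact Subgroup.map_equiv_normalizer_eq _ _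
  huniq := fun N hN hle => by
    have hgJ := normalizer_le_normalizer_thompson hg
    have h := s.huniq _ (isTwoLocal_conj g⁻¹ hN) (sup_le
      (fun k hk => mem_map_conj.2 (by rw [inv_inv]; exact hle (mem_sup_left ⟨k, hk, rfl⟩)))
      (fun k hk => mem_map_conj.2 (by
        rw [inv_inv]; exact hle (mem_sup_right (conj_mem_of_mem_normalizer hgJ hk)))))
    rw [← map_conj_inv N g]
    exact Subgroup.map_mono h
  hwZ := conj_mem_omega (normalizer_le_normalizer_thompson hg) s.hwZ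
  hwW := by
    rw [wOf_map (MulAut.conj g).injective]
    exact ⟨_, s.hwW, rfl⟩
  hw1 := fun e => s.hw1 (conj_eq_one_iff.1 e)
  huw := fun x hx hxW => by
    rw [wOf_map (MulAut.conj g).injective, mem_map_conj] at hxW
    have hx' : g⁻¹ * x * g ∈ omegaCenterOf (thompsonSubgroupOf 2 T) := by
      have := conj_mem_omega (inv_mem (normalizer_le_normalizer_thompson hg)) hx
      rwa [inv_inv] at this
    rcases s.huw _ hx' hxW with e | e
    · left
      calc x = g * (g⁻¹ * x * g) * g⁻¹ := by group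
        _ = 1 := by rw [e]; group
    · right
      calc x = g * (g⁻¹ * x * g) * g⁻¹ := by group
        _ = _ := by rw [e]
  hd := ⟨s.d, s.hd, rfl⟩
  hd3 := by rw [conj_pow, s.hd3, mul_one, mul_inv_cancel]
  hdec := by
    rintro _ ⟨k, hk, rfl⟩
    obtain ⟨i, hi⟩ := s.hdec k hk
    refine ⟨i, ?_⟩
    rw [pCoreOf_map, mem_map_conj, conj_zpow]
    show g⁻¹ * ((g * s.d ^ i * g⁻¹)⁻¹ * (g * k * g⁻¹)) * g ∈ _
    rwa [show g⁻¹ * ((g * s.d ^ i * g⁻¹)⁻¹ * (g * k * g⁻¹)) * g = (s.d ^ i)⁻¹ * k by group]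
  hfix := fun x hx he => by
    rw [wOf_map (MulAut.conj g).injective, mem_map_conj] at hx
    have := s.hfix _ hx (by
      calc s.d * (g⁻¹ * x * g) * s.d⁻¹ = g⁻¹ * (g * s.d * g⁻¹ * x * (g * s.d * g⁻¹)⁻¹) * g := by group
        _ = _ := by rw [he])
    calc x = g * (g⁻¹ * x * g) * g⁻¹ := by group
      _ = 1 := by rw [this]; group
  hsm := by
    have key : ∀ i ∈ hyp T (s.K.map (MulAut.conj g).toMonoidHom), g⁻¹ * i * g ∈ hyp T s.K := by
      intro i hi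
      refine mem_hyp_iff.2 ⟨?_, fun k hk => ?_⟩
      · have := conj_mem_omega (inv_mem (normalizer_le_normalizer_thompson hg)) hi.1
        rwa [inv_inv] at this
      · have h1 : g * k * g⁻¹ * i = i * (g * k * g⁻¹) := (mem_hyp_iff.1 hi).2 _ ⟨k, hk, rfl⟩
        calc k * (g⁻¹ * i * g) = g⁻¹ * (g * k * g⁻¹ * i) * g := by group
          _ = g⁻¹ * (i * (g * k * g⁻¹)) * g := by rw [h1]
          _ = _ := by group
    have h1 : ∀ i : G, g⁻¹ * i * g = 1 → i = 1 := fun i e => by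
      calc i = g * (g⁻¹ * i * g) * g⁻¹ := by group
        _ = 1 := by rw [e]; group
    intro i hi hi1 j hj hj1
    have := s.hsm _ (key i hi) (fun e => hi1 (h1 i e)) _ (key j hj) (fun e => hj1 (h1 j e))
    simpa using this
  hTZ := s.hTZ

theorem Side.cj_mem_Q (s : Side T) {g : G} (hg : g ∈ normalizer (T : Set G)) {x : G} :
    x ∈ (s.cj g hg).Q ↔ g⁻¹ * x * g ∈ s.Q := by
  have hT : x ∈ T ↔ g⁻¹ * x * g ∈ T := Subgroup.mem_normalizer_iff''.1 hg x
  constructor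
  · intro h
    refine ⟨hT.1 h.1, mem_centralizer_iff.2 fun v hv => ?_⟩
    have h1 : g * v * g⁻¹ * x = x * (g * v * g⁻¹) := mem_centralizer_iff.1 h.2 _ (by
      show g * v * g⁻¹ ∈ wOf (s.K.map (MulAut.conj g).toMonoidHom)
      rw [wOf_map (MulAut.conj g).injective]
      exact ⟨v, hv, rfl⟩)
    calc v * (g⁻¹ * x * g) = g⁻¹ * (g * v * g⁻¹ * x) * g := by group
      _ = g⁻¹ * (x * (g * v * g⁻¹)) * g := by rw [h1]
      _ = _ := by group
  · intro h
    refine ⟨hT.2 h.1, mem_centralizer_iff.2 fun v hv => ?_⟩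
    have hv' : v ∈ wOf (s.K.map (MulAut.conj g).toMonoidHom) := hv
    rw [wOf_map (MulAut.conj g).injective, mem_map_conj] at hv'
    have h1 : (g⁻¹ * v * g) * (g⁻¹ * x * g) = g⁻¹ * x * g * (g⁻¹ * v * g) :=
      mem_centralizer_iff.1 h.2 _ hv'
    calc v * x = g * ((g⁻¹ * v * g) * (g⁻¹ * x * g)) * g⁻¹ := by group
      _ = g * (g⁻¹ * x * g * (g⁻¹ * v * g)) * g⁻¹ := by rw [h1]
      _ = _ := by group

namespace SidePair

variable {e : SidePair T}

/-- Over a Sylow subgroup the two involutions are not conjugate. -/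
theorem Fixed.symmetric_of_sylow (h : e.Fixed) (P : Sylow 2 G) (hP : T = (P : Subgroup G)) :
    e.Symmetric := by
  haveI : Fact (Nat.Prime 2) := ⟨Nat.prime_two⟩
  refine Or.inr fun g hg => ?_
  have hcen : ∀ z ∈ omegaCenterOf (thompsonSubgroupOf 2 T), z ∈ centralizer ((P : Subgroup G) : Set G) :=
    fun z hz => mem_centralizer_iff.2 fun t ht => e.s₁.hTZ t (hP ▸ ht) z hz
  have hg' : g⁻¹ * e.s₁.w * g = e.s₂.w := by rw [← hg]; group
  obtain ⟨n, hn, hne⟩ := P.conj_eq_normalizer_conj_of_mem_centralizer e.s₁.w g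
    (hcen _ e.s₁.hwZ) (hg' ▸ hcen _ e.s₂.hwZ)
  rw [hg'] at hne
  have hn1 : n * e.s₂.w * n⁻¹ = e.s₁.w := by rw [hne]; group
  have hnT : n ∈ normalizer (T : Set G) := by rw [hP]; exact hn
  have hnJ := normalizer_le_normalizer_thompson hnT
  have hne12 : e.s₁.w ≠ e.s₂.w := fun e' => notMem_hyp e.s₁.hwW e.s₁.hw1 e.s₁.hd e.s₁.hfix
    (e' ▸ h.c_mem)
  rcases h.zcases (conj_mem_omega hnJ e.s₁.hwZ) with h1 | h1 | h1 | h1
  · exact e.s₁.hw1 (conj_eq_one_iff.1 h1)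
  · -- an involution acting on the centre of a Sylow subgroup
    apply hne12
    obtain ⟨k, m, hm, hkm⟩ := Nat.exists_eq_two_pow_mul_odd (n := orderOf n) (orderOf_pos n).ne'
    have hsq : (n ^ 2) * e.s₁.w * (n ^ 2)⁻¹ = e.s₁.w := by
      rw [pow_two, show n * n * e.s₁.w * (n * n)⁻¹ = n * (n * e.s₁.w * n⁻¹) * n⁻¹ by group, h1, hn1]
    have hodd : n ^ m * e.s₁.w * (n ^ m)⁻¹ = e.s₂.w := by
      obtain ⟨j, rfl⟩ := hm
      have hc : Commute (n ^ 2) e.s₁.w := mul_inv_eq_iff_eq_mul.1 hsq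
      have hcj : (n ^ 2) ^ j * e.s₁.w * ((n ^ 2) ^ j)⁻¹ = e.s₁.w :=
        mul_inv_eq_iff_eq_mul.2 (hc.pow_left j).eq
      rw [pow_succ', pow_mul, show n * (n ^ 2) ^ j * e.s₁.w * (n * (n ^ 2) ^ j)⁻¹ =
        n * ((n ^ 2) ^ j * e.s₁.w * ((n ^ 2) ^ j)⁻¹) * n⁻¹ by group, hcj, h1]
    have hp : n ^ m ∈ (P : Subgroup G) := by
      have h2 : IsPGroup 2 ↥(zpowers (n ^ m)) := by
        intro u
        refine ⟨k, Subtype.ext ?_⟩
        obtain ⟨i, hi⟩ := mem_zpowers_iff.1 u.2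
        rw [SubgroupClass.coe_pow, ← hi, ← zpow_natCast, ← zpow_mul, mul_comm, zpow_mul, zpow_natCast,
          ← pow_mul, mul_comm m, ← hkm, pow_orderOf_eq_one, one_zpow]
        rfl
      exact (P.is_maximal' (P.2.to_sup_of_normal_left' h2 (zpowers_le.2 (pow_mem hn m))) le_sup_left).le
        (mem_sup_right (mem_zpowers _))
    rw [← hodd, e.s₁.hTZ _ (hP ▸ hp) _ e.s₁.hwZ, mul_inv_cancel_right]
  · exact hne12 (mul_left_cancel (mul_right_cancel (h1.trans hn1.symm)))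
  · -- a 3-cycle
    have hL : e.s₁.L.map (MulAut.conj n).toMonoidHom ≤ e.s₂.L := by
      rw [h.L_eq, show e.s₂.L = centralizer ({e.s₁.w} : Set G) from h.flip.L_eq, ← hn1]
      rintro _ ⟨x, hx, rfl⟩
      have h2 := mem_centralizer_singleton_iff.1 hx
      refine mem_centralizer_singleton_iff.2 ?_
      show n * x * n⁻¹ * (n * e.s₂.w * n⁻¹) = n * e.s₂.w * n⁻¹ * (n * x * n⁻¹)
      calc n * x * n⁻¹ * (n * e.s₂.w * n⁻¹) = n * (x * e.s₂.w) * n⁻¹ := by group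
        _ = n * (e.s₂.w * x) * n⁻¹ := by rw [h2]
        _ = _ := by group
    have hK : e.s₁.K.map (MulAut.conj n).toMonoidHom = e.s₂.K :=
      h.flip.comp_eq (isJComponent_of_conj_thompson e.s₁.hK hnJ) ((Subgroup.map_mono e.s₁.hKL).trans hL)
    have hw : n * e.s₁.w * n⁻¹ ∈ wOf e.s₂.K := by
      rw [← hK, wOf_map (MulAut.conj n).injective]
      exact ⟨_, e.s₁.hwW, rfl⟩
    rcases e.s₂.huw _ (conj_mem_omega hnJ e.s₁.hwZ) hw with e' | e'
    · exact e.s₁.hw1 (conj_eq_one_iff.1 e')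
    · rw [h1] at e'
      exact e.s₁.hw1 (mul_left_cancel (e'.trans (mul_one _).symm))

theorem cross_of_symmetric (hG : Amb G) (hP : ∃ P : Sylow 2 G, T ≤ (P : Subgroup G)) (e : SidePair T)
    (hs : e.Fixed → e.Symmetric) : e.Cross := fun hc => by
  by_cases h2 : e.s₂.d * e.s₁.w = e.s₁.w * e.s₂.d
  · by_cases h1 : e.s₁.d * e.s₂.w = e.s₂.w * e.s₁.d
    · exact Fixed.false ⟨hG, hP, hc, h1, h2⟩ (hs ⟨hG, hP, hc, h1, h2⟩)
    · exact e.symm.false_of_moved hc.symm h1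
  · exact e.false_of_moved hc h2

end SidePair

theorem Straddle.exists_side (h : Straddle M T) (hO : Cfsg.pCore 2 G = ⊥) {K : Subgroup G}
    (hK : K ∈ jComponentsOutside M T) : ∃ s : Side T, s.K = K := by
  obtain ⟨L, hL, hKL, huniq⟩ := h.exists_maxLocal hK.1.1 hK.2.1
  obtain ⟨hn, hsm⟩ := h.main hO hK hL hKL
  obtain ⟨w, d, hwZ, hwW, hw1, huw, hd, hd3, hdec, hfix⟩ := exists_wgen h.isPGroup hK.1.1
  exact ⟨⟨K, L, w, d, hK.1.1, hL, le_sup_left.trans hKL, h.sylow_maxLocal hK hL hKL, hn, huniq, hwZ, hwW,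
    hw1, huw, hd, hd3, hdec, hfix, hsm, h.centralizes hK.1.1 hn hsm⟩, rfl⟩

theorem Side.cj_ne (s : Side T) (hG : Amb G) {g : G} (hg : g ∈ normalizer (T : Set G)) (hgL : g ∉ s.L) :
    s.L ≠ (s.cj g hg).L := fun e => hgL <| by
  rw [← normalizer_maximalTwoLocal hG s.hL]
  exact mem_normalizer_of_conj_le (le_of_eq e.symm)

/-- The pair given by conjugation inside a larger 2-group. -/
theorem Side.exists_conj_pair (s : Side T) (hG : Amb G) (P : Sylow 2 G) (hTP : T ≤ (P : Subgroup G))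
    (hne : T ≠ (P : Subgroup G)) :
    ∃ (g : G) (hg : g ∈ normalizer (T : Set G)) (hgL : g ∉ s.L), g ∈ (P : Subgroup G) ∧
      SidePair.Cross ⟨s, s.cj g hg, s.cj_ne hG hg hgL⟩ := by
  haveI : Fact (Nat.Prime 2) := ⟨Nat.prime_two⟩
  obtain ⟨g, ⟨hgP, hg⟩, hgT⟩ := SetLike.not_le_iff_exists.1
    fun hle : (P : Subgroup G) ⊓ normalizer (T : Set G) ≤ T => hne (eq_of_inf_normalizer_le P.2 hTP hle)
  have hgL : g ∉ s.L := fun hgL => hgT (s.le_T_of_isPGroup le_sup_left (sup_le s.hT.1 (zpowers_le.2 hgL))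
    (P.2.to_le (sup_le hTP (zpowers_le.2 hgP))) (mem_sup_right (mem_zpowers g)))
  refine ⟨g, hg, hgL, hgP, SidePair.cross_of_symmetric hG ⟨P, hTP⟩ _ fun h => Or.inl ⟨g, ?_⟩⟩
  set e : SidePair T := ⟨s, s.cj g hg, s.cj_ne hG hg hgL⟩ with he
  obtain ⟨z, -, hz, hz1⟩ := exists_mem_omega P.2 le_rfl Subgroup.le_normalizer
    (fun e' => hne ((le_bot_iff.1 (hTP.trans e'.le)).trans e'.symm))
  have hgz : g * z * g⁻¹ = z := by rw [omega_comm hz hgP, mul_inv_cancel_right]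
  have hgJ := normalizer_le_normalizer_thompson hg
  have hw2 : e.s₂.w = g * e.s₁.w * g⁻¹ := rfl
  have hne12 : e.s₁.w ≠ e.s₂.w := fun e' => notMem_hyp e.s₁.hwW e.s₁.hw1 e.s₁.hd e.s₁.hfix
    (e' ▸ h.c_mem)
  have hz3 : z = e.s₂.w * e.s₁.w := by
    rcases h.zcases (s.omega_le_centre hG P hTP hz) with e' | e' | e' | e'
    · exact absurd e' hz1
    · exfalso
      apply hne12
      rw [e', hw2] at hgz
      have h1 : g * e.s₁.w * g⁻¹ = e.s₁.w := mul_left_cancel (mul_right_cancel hgz)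
      rw [hw2, h1]
    · exfalso
      apply hne12
      rw [e'] at hgz
      rw [hw2, hgz]
    · exact e'
  have hg2 : g * e.s₂.w * g⁻¹ = e.s₁.w := by
    have h1 : e.s₂.w = z * e.s₁.w := by
      rw [hz3, mul_assoc, e.s₁.hWsq e.s₁.hwW, mul_one]
    calc g * e.s₂.w * g⁻¹ = (g * z * g⁻¹) * (g * e.s₁.w * g⁻¹) := by rw [h1]; group
      _ = z * e.s₂.w := by rw [hgz, ← hw2]
      _ = e.s₁.w := by
        rw [hz3, e.s₁.hTZ _ (e.s₂.W_le e.s₂.hwW) _ e.s₁.hwZ, mul_assoc, e.s₂.hWsq e.s₂.hwW, mul_one]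
  have hV : (SidePair.V e).map (MulAut.conj g).toMonoidHom = e.symm.V := by
    show (omegaCenterOf (thompsonSubgroupOf 2 T) ⊔ wOf s.K).map _ =
      omegaCenterOf (thompsonSubgroupOf 2 T) ⊔ wOf (s.K.map (MulAut.conj g).toMonoidHom)
    have hZm : (omegaCenterOf (thompsonSubgroupOf 2 T)).map (MulAut.conj g).toMonoidHom =
        omegaCenterOf (thompsonSubgroupOf 2 T) := map_conj_of_mem_normalizer (Oz.normalizer_le (p := 2) _ hgJ)
    rw [Subgroup.map_sup, wOf_map (MulAut.conj g).injective, hZm]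
  have h1 : vconj g e.base = e.symm.base := Prod.ext hg2 hV
  refine ⟨h1, ?_⟩
  have hL2 : g * g ∈ e.s₁.L := e.s₁.centralizer_le h.c_mem e.s₂.hw1 (mem_centralizer_singleton_iff.2
    (mul_inv_eq_iff_eq_mul.1 (by
      rw [show g * g * e.s₂.w * (g * g)⁻¹ = g * (g * e.s₂.w * g⁻¹) * g⁻¹ by group, hg2, ← hw2])))
  rw [← h1, ← vconj_mul]
  exact h.vconj_base hL2

/-- The two sides of a maximal straddling subgroup. -/
theorem Straddle.exists_cross (h : Straddle M T) (hO : Cfsg.pCore 2 G = ⊥) :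
    ∃ e : SidePair T, e.Cross := by
  haveI : Fact (Nat.Prime 2) := ⟨Nat.prime_two⟩
  obtain ⟨S, hS⟩ := h.sylow
  obtain ⟨K, hK⟩ := h.amb.exists_outside hS h.mem
  obtain ⟨s, hsK⟩ := h.exists_side hO hK
  obtain ⟨P, hTP⟩ := h.isPGroup.exists_le_sylow
  by_cases hne : T = (P : Subgroup G)
  swap
  · obtain ⟨g, hg, hgL, -, hc⟩ := s.exists_conj_pair h.amb P hTP hne
    exact ⟨_, hc⟩
  have hsym : ∀ e : SidePair T, e.Fixed → e.Symmetric := fun e he => he.symmetric_of_sylow P hne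
  by_cases hNJ : normalizer (thompsonSubgroupOf 2 T : Set G) ≤ s.L
  swap
  · obtain ⟨g, hgJ, hgL⟩ := SetLike.not_le_iff_exists.1 hNJ
    have hgZ : g ∈ normalizer (omegaCenterOf (thompsonSubgroupOf 2 T) : Set G) :=
      Oz.normalizer_le (p := 2) _ hgJ
    have hgT : g ∈ normalizer (T : Set G) := by
      refine mem_normalizer_of_conj_le ?_
      rintro _ ⟨t, ht, rfl⟩
      show g * t * g⁻¹ ∈ T
      have hx : g * t * g⁻¹ ∈ normalizer ((P : Subgroup G) : Set G) := by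
        refine h.amb.center P (mem_centralizer_iff.2 fun z hz => ?_)
        have hz' : z ∈ omegaCenterOf (thompsonSubgroupOf 2 T) := s.omega_le_centre h.amb P hTP hz
        have hz'' := s.hTZ t ht _ ((Subgroup.mem_normalizer_iff''.1 hgZ z).1 hz')
        calc z * (g * t * g⁻¹) = g * ((g⁻¹ * z * g) * t) * g⁻¹ := by group
          _ = g * (t * (g⁻¹ * z * g)) * g⁻¹ := by rw [hz'']
          _ = _ := by group
      have h2 : IsPGroup 2 ↥(zpowers (g * t * g⁻¹)) := by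
        rw [← CfsgLib.LocalEven.conj_zpowers]
        exact (s.isPGroup.to_le (zpowers_le.2 ht)).map _
      exact hne.ge ((P.is_maximal' (P.2.to_sup_of_normal_left' h2 (zpowers_le.2 hx)) le_sup_left).le
        (mem_sup_right (mem_zpowers _)))
    exact ⟨⟨s, s.cj g hgT, s.cj_ne h.amb hgT hgL⟩,
      SidePair.cross_of_symmetric h.amb ⟨P, hTP⟩ _ (hsym _)⟩
  -- `N(J(T)) ≤ L`
  have hNP : normalizer (thompsonSubgroupOf 2 (P : Subgroup G) : Set G) ≤ s.L := hne ▸ hNJ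
  obtain ⟨T₂, hT₂, hT₂P⟩ := exists_maxStraddle_le P (hne.ge.trans s.hT.1)
    (straddling_nonempty h.amb hO P s.hL.1 hNP s.hT s.hK s.hKL)
  have h' : Straddle s.L T₂ := ⟨h.amb, ⟨P, hNP⟩, hT₂⟩
  obtain ⟨K₂, hK₂⟩ := h.amb.exists_outside hNP hT₂
  obtain ⟨s₂, hs₂K⟩ := h'.exists_side hO hK₂
  by_cases hT₂e : T₂ = T
  · subst hT₂e
    have hLne : s.L ≠ s₂.L := fun e => hK₂.2.1 (hs₂K ▸ e ▸ s₂.hKL)
    exact ⟨⟨s, s₂, hLne⟩, SidePair.cross_of_symmetric h.amb ⟨P, hTP⟩ _ (hsym _)⟩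
  -- the pair on `T₂`
  exfalso
  have hT₂ne : T₂ ≠ (P : Subgroup G) := fun e => hT₂e (e.trans hne.symm)
  obtain ⟨g, hg, hgL, hgP, hc⟩ := s₂.exists_conj_pair h.amb P hT₂P hT₂ne
  set e : SidePair T₂ := ⟨s₂, s₂.cj g hg, s₂.cj_ne h.amb hg hgL⟩ with he
  set Z := omegaCenterOf (thompsonSubgroupOf 2 T₂) with hZ
  have hwP : s.w ∈ omegaCenterOf (P : Subgroup G) := hne ▸ s.omega_eq.symm ▸ s.hwZ
  have hwZ : s.w ∈ Z := s₂.omega_le_centre h.amb P hT₂P hwP
  have hPT : ∀ x ∈ (P : Subgroup G), x ∈ T := fun x hx => hne.ge hx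
  set v := s.p with hv
  have hvv : v * v = 1 := s.hWsq s.pW
  have hconj : ∀ x ∈ (P : Subgroup G), x * v * x⁻¹ = v ∨ x * v * x⁻¹ = s.w * v := by
    intro x hx
    by_cases hxQ : x ∈ s.Q
    · left
      rw [(s.mem_Q_iff.1 hxQ).2, mul_inv_cancel_right]
    · exact Or.inr (s.move (hPT x hx) hxQ)
  have hvP : v ∈ (P : Subgroup G) := hne ▸ s.W_le s.pW
  have hvQ : v ∈ normalizer (s₂.Q : Set G) := by
    refine mem_normalizer_of_conj_le ?_
    rintro _ ⟨t, ht, rfl⟩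
    show v * t * v⁻¹ ∈ s₂.Q
    have h1 : v * t * v⁻¹ = (v * (t * v⁻¹ * t⁻¹)) * t := by group
    rw [h1]
    refine mul_mem ?_ ht
    rcases hconj t (hT₂P (s₂.Q_le ht)) with e' | e'
    · rw [show t * v⁻¹ * t⁻¹ = (t * v * t⁻¹)⁻¹ by group, e', mul_inv_cancel]; exact one_mem _
    · rw [show t * v⁻¹ * t⁻¹ = (t * v * t⁻¹)⁻¹ by group, e', mul_inv_rev, mul_inv_cancel_left]
      exact inv_mem (s₂.Z_le_Q hwZ)
  have hvT : v ∈ T₂ := by
    have hQ1 : s₂.Q ≠ ⊥ := fun e' => s₂.hw1 (mem_bot.1 (e' ▸ s₂.Z_le_Q s₂.hwZ))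
    have hvL : v ∈ s₂.L := s₂.huniq _ ⟨_, s₂.isPGroup.to_le s₂.Q_le, hQ1, rfl⟩
      ((sup_le_sup_left s₂.jT _).trans s₂.P_le_normalizer_Q) hvQ
    exact s₂.le_T_of_isPGroup le_sup_left (sup_le s₂.hT.1 (zpowers_le.2 hvL))
      (P.2.to_le (sup_le hT₂P (zpowers_le.2 hvP))) (mem_sup_right (mem_zpowers v))
  have hgv : ∃ x ∈ e.D, g * v * g⁻¹ = x * v := by
    rw [hc.D_eq]
    rcases hconj g hgP with e' | e'
    · exact ⟨1, one_mem _, by rw [e', one_mul]⟩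
    · exact ⟨s.w, hwZ, e'⟩
  obtain ⟨x, hx, hgx⟩ := hgv
  have hvD : v ∈ Z := by
    -- `v` lies in one of the two elementary subgroups
    have hor : v ∈ e.s₁.Q ∨ v ∈ e.s₂.Q := by
      by_contra hcon
      push Not at hcon
      obtain ⟨hv1, hv2⟩ := hcon
      have hu := (hc.mem_Q_or hvT).resolve_left hv1
      have hu' := (hc.Q_or hu).resolve_left fun hD => hv2 (by
        have h3 : e.s₂.p ∈ e.s₂.Q := e.s₂.mem_Q_iff.2 ⟨e.s₂.W_le e.s₂.pW, rfl⟩
        have h4 : v * e.s₂.p ∈ e.s₂.Q := hD.2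
        simpa using mul_mem h4 (inv_mem h3))
      set y := v * e.s₂.p * e.s₁.p with hy
      have hyZ : y ∈ Z := by rw [hc.D_eq] at hu'; exact hu'
      have hyc : ∀ t ∈ T₂, Commute t y := fun t ht => s₂.hTZ t ht y hyZ
      set a := e.s₁.p with ha
      set b := e.s₂.p with hb
      have haT := e.s₁.W_le e.s₁.pW
      have hbT := e.s₂.W_le e.s₂.pW
      have hve : v = y * (a * b) := by
        rw [hy, show v * b * a * (a * b) = v * b * (a * a) * b by group, e.s₁.hWsq e.s₁.pW, mul_one,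
          mul_assoc, e.s₂.hWsq e.s₂.pW, mul_one]
      have hab : a * b * (a * b) = 1 := by
        have h4 := hyc (a * b) (mul_mem haT hbT)
        have h5 := hvv
        rw [hve, show y * (a * b) * (y * (a * b)) = y * ((a * b) * y) * (a * b) by group, h4.eq,
          show y * (y * (a * b)) * (a * b) = y * y * (a * b * (a * b)) by group, omega_sq hyZ,
          one_mul] at h5
        exact h5
      apply hc
      show a * b = b * a
      calc a * b = (a * b * (a * b)) * ((b * b)⁻¹ * (b * (a * a)⁻¹ * a)) := by group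
        _ = b * a := by rw [hab, e.s₁.hWsq e.s₁.pW, e.s₂.hWsq e.s₂.pW]; group
    have hgD : g * v * g⁻¹ ∈ e.D → v ∈ Z := by
      intro hD
      rw [hc.D_eq] at hD
      have h1 := (Subgroup.mem_normalizer_iff.1
        (Oz.normalizer_le (p := 2) _ (normalizer_le_normalizer_thompson hg)) v).2 hD
      exact h1
    have hcj : ∀ u, g * u * g⁻¹ ∈ e.s₂.Q ↔ u ∈ e.s₁.Q := fun u => by
      show g * u * g⁻¹ ∈ (s₂.cj g hg).Q ↔ _
      rw [Side.cj_mem_Q, show g⁻¹ * (g * u * g⁻¹) * g = u by group]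
    rcases hor with h1 | h1
    · exact hgD ⟨hgx ▸ mul_mem hx.1 h1, (hcj v).2 h1⟩
    · have h2 : v ∈ e.s₁.Q := (hcj v).1 (hgx ▸ mul_mem hx.2 h1)
      have h3 : v ∈ e.D := ⟨h2, h1⟩
      rw [hc.D_eq] at h3
      exact h3
  -- `W_K` is the centre of `J(T₂)`
  have hWZ : wOf s.K ≤ Z := fun u hu => by
    rcases s.cases hu with rfl | rfl | rfl | rfl
    exacts [one_mem _, hwZ, hvD, mul_mem hwZ hvD]
  rcases h'.card_centre hK₂.1.1 (hs₂K ▸ s₂.hsm) with ⟨h2, -⟩ | ⟨c, -, hch, hc1, -, -, h4, -⟩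
  · have h3 := Subgroup.card_le_of_le hWZ
    rw [s.hW4, h2] at h3
    omega
  · have hWe : wOf s.K = Z := Subgroup.eq_of_le_of_card_ge hWZ (by rw [h4, s.hW4])
    have hcW : c ∈ wOf s.K := hWe ▸ hch.1
    obtain ⟨y, hy⟩ : ∃ y, y * s.w * y⁻¹ = c := by
      rcases s.cases hcW with rfl | rfl | rfl | rfl
      · exact absurd rfl hc1
      · exact ⟨1, by group⟩
      · exact ⟨s.d, rfl⟩
      · refine ⟨s.d * s.d, ?_⟩
        rw [← s.cycle.1, Side.p]
        group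
    have hcL : centralizer ({c} : Set G) ≤ s₂.L := s₂.centralizer_le (hs₂K ▸ hch) hc1
    have hle : (P : Subgroup G).map (MulAut.conj y).toMonoidHom ≤ s₂.L := by
      rintro _ ⟨t, ht, rfl⟩
      refine hcL (mem_centralizer_singleton_iff.2 ?_)
      show y * t * y⁻¹ * c = c * (y * t * y⁻¹)
      have h1 := omega_comm hwP ht
      rw [← hy]
      calc y * t * y⁻¹ * (y * s.w * y⁻¹) = y * (t * s.w) * y⁻¹ := by group
        _ = y * (s.w * t) * y⁻¹ := by rw [h1]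
        _ = _ := by group
    obtain ⟨Q, hQ, hPQ⟩ := exists_sylowTwoIn hle (P.2.map _)
    obtain ⟨u, hu⟩ := MulAction.exists_smul_eq ↥s₂.L (sylowOf hQ) (sylowOf s₂.hT)
    have hcardQ : Nat.card ↥Q = Nat.card ↥T₂ := by
      have h3 := Sylow.card_eq_multiplicity (sylowOf hQ)
      have h5 := Sylow.card_eq_multiplicity (sylowOf s₂.hT)
      rw [coe_sylowOf, Nat.card_congr (Subgroup.subgroupOfEquivOfLe hQ.1).toEquiv] at h3
      rw [coe_sylowOf, Nat.card_congr (Subgroup.subgroupOfEquivOfLe s₂.hT.1).toEquiv] at h5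
      rw [h3, h5]
    refine hT₂ne (Subgroup.eq_of_le_of_card_ge hT₂P ?_)
    rw [← hcardQ, ← card_map_conj (P : Subgroup G) y]
    exact Subgroup.card_le_of_le hPQ

theorem Straddle.amalgam (h : Straddle M T) (hO : Cfsg.pCore 2 G = ⊥) :
    ∃ K₁ K₂ : Subgroup G, K₁ ≠ K₂ ∧ IsJComponent T K₁ ∧ IsJComponent T K₂ ∧
      pCoreOf 2 ((K₁ ⊔ T) ⊔ (K₂ ⊔ T)) = ⊥ ∧
      ∀ P ∈ [K₁ ⊔ T, K₂ ⊔ T],
        centralizer (pCoreOf 2 P : Set G) ≤ pCoreOf 2 P ∧ IsSylowTwoIn T P ∧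
        (pCoreOf 2 P).relIndex P = 6 ∧ ¬ ⁅P, P⁆ ≤ pCoreOf 2 P ∧ ⁅omegaCenterOf T, P⁆ ≠ ⊥ ∧
        ∃ L : Subgroup G, IsMaximalTwoLocal L ∧ P ≤ L ∧ IsSylowTwoIn T L ∧
          ∀ L' : Subgroup G, IsMaximalTwoLocal L' → P ≤ L' → L' = L := by
  obtain ⟨e, hc⟩ := h.exists_cross hO
  have hu : ∀ s : Side T, ∀ L', IsMaximalTwoLocal L' → s.P ≤ L' → L' = s.L := fun s L' hL' hle =>
    (hL'.2 _ s.hL.1 (s.huniq L' hL'.1 ((sup_le_sup_left s.jT _).trans hle))).symm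
  refine ⟨e.s₁.K, e.s₂.K, fun he => e.hne ?_, e.s₁.hK, e.s₂.hK, ?_, ?_⟩
  · refine (hu e.s₂ e.s₁.L e.s₁.hL ?_)
    show e.s₂.K ⊔ T ≤ e.s₁.L
    rw [← he]
    exact e.s₁.P_le
  · by_contra hN
    set J := (e.s₁.K ⊔ T) ⊔ (e.s₂.K ⊔ T) with hJ
    obtain ⟨L, hL, hle⟩ := exists_maximalTwoLocal
      (N := normalizer (pCoreOf 2 J : Set G)) ⟨_, isPGroup_pCoreOf 2 J, hN, rfl⟩
    have hJn := le_normalizer_pCoreOf (X := G) 2 J
    exact e.hne ((hu e.s₁ L hL ((le_sup_left.trans hJn).trans hle)).symm.trans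
      (hu e.s₂ L hL ((le_sup_right.trans hJn).trans hle)))
  · intro P hP
    simp only [List.mem_cons, List.not_mem_nil, or_false] at hP
    have key : ∀ f : SidePair T, f.Cross → f.s₁.K ⊔ T = P →
        centralizer (pCoreOf 2 P : Set G) ≤ pCoreOf 2 P ∧ IsSylowTwoIn T P ∧
        (pCoreOf 2 P).relIndex P = 6 ∧ ¬ ⁅P, P⁆ ≤ pCoreOf 2 P ∧ ⁅omegaCenterOf T, P⁆ ≠ ⊥ ∧
        ∃ L : Subgroup G, IsMaximalTwoLocal L ∧ P ≤ L ∧ IsSylowTwoIn T L ∧
          ∀ L' : Subgroup G, IsMaximalTwoLocal L' → P ≤ L' → L' = L := by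
      rintro f hf rfl
      exact ⟨f.s₁.centralizer_core_le h.amb, f.s₁.sylow_P, hf.relIndex_core, f.s₁.not_commutator_le,
        f.s₁.omega_commutator_ne, f.s₁.L, f.s₁.hL, f.s₁.P_le, f.s₁.hT, hu f.s₁⟩
    rcases hP with rfl | rfl
    exacts [key e hc rfl, key e.symm hc.flip rfl]

theorem Straddle.symmetric_four (h : Straddle M T) (hO : Cfsg.pCore 2 G = ⊥) :
    ∃ P₁ P₂ : Subgroup G, P₁ ≠ P₂ ∧ IsMaximalTwoLocal P₁ ∧ IsMaximalTwoLocal P₂ ∧
      IsSylowTwoIn T P₁ ∧ IsSylowTwoIn T P₂ ∧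
      ((Nonempty (↥P₁ ≃* Equiv.Perm (Fin 4)) ∧ Nonempty (↥P₂ ≃* Equiv.Perm (Fin 4))) ∨
        (Nonempty (↥P₁ ≃* Equiv.Perm (Fin 4) × Multiplicative (ZMod 2)) ∧
          Nonempty (↥P₂ ≃* Equiv.Perm (Fin 4) × Multiplicative (ZMod 2)))) := by
  obtain ⟨e, hc⟩ := h.exists_cross hO
  refine ⟨e.s₁.L, e.s₂.L, e.hne, e.s₁.hL, e.s₂.hL, e.s₁.hT, e.s₂.hT, ?_⟩
  have hcard : ∀ s : Side T, 2 * Nat.card ↥(hyp T s.K) =
      Nat.card ↥(omegaCenterOf (thompsonSubgroupOf 2 T)) := fun s => by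
    have h4 := Subgroup.relIndex_mul_relIndex ⊥ (hyp T s.K) _ bot_le (hyp_le (T := T) (K := s.K))
    rw [Subgroup.relIndex_bot_left, Subgroup.relIndex_bot_left, s.relIndex_hyp] at h4
    omega
  have h1 := hcard e.s₁
  have h2 := hcard e.s₂
  have h3 : Nat.card ↥(hyp T e.s₂.K) = Nat.card ↥(hyp T e.s₁.K) := by omega
  have hpos : 0 < Nat.card ↥(hyp T e.s₁.K) := Nat.card_pos
  have hle := e.s₁.card_hyp_le
  obtain h5 | h5 : Nat.card ↥(hyp T e.s₁.K) = 1 ∨ Nat.card ↥(hyp T e.s₁.K) = 2 := by omega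
  · exact Or.inl ⟨(hc.L_iso h.amb).1 h5, (hc.flip.L_iso h.amb).1 (h3.trans h5)⟩
  · exact Or.inr ⟨(hc.L_iso h.amb).2 h5, (hc.flip.L_iso h.amb).2 (h3.trans h5)⟩

end CfsgLib.LocalEven.JComp
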