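import Cfsg.Agent.Lib.LocalEven.JPairSquares

/-!
Commuting four-groups with both involutions fixed: everything in the coset graph would commute.
-/

set_option autoImplicit false

namespace CfsgLib.LocalEven.JComp

open Subgroup CfsgLib.LocalEven Cfsg
open scoped commutatorElement

variable {G : Type*} [Group G] [Finite G] {T : Subgroup G}

namespace Side

variable (s : Side T)

theorem le_T_of_isPGroup {U : Subgroup G} (hTU : T ≤ U) (hUL : U ≤ s.L) (hU : IsPGroup 2 ↥U) : U ≤ T := by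
  haveI : Fact (Nat.Prime 2) := ⟨Nat.prime_two⟩
  have hm := Subgroup.relIndex_mul_relIndex T U s.L hTU hUL
  obtain ⟨i, hi⟩ := IsPGroup.iff_card.1 hU
  have hodd : Odd (T.relIndex U) := s.hT.2.2.of_dvd_nat ⟨_, hm.symm⟩
  exact Subgroup.relIndex_eq_one.1 (Nat.eq_one_of_dvd_coprimes
    (((Nat.coprime_two_left).2 hodd).pow_left i) (hi ▸ Subgroup.relIndex_dvd_card T U) dvd_rfl)

include s in
theorem omega_le_centre (hG : Amb G) (P : Sylow 2 G) (hTP : T ≤ (P : Subgroup G)) :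
    omegaCenterOf (P : Subgroup G) ≤ omegaCenterOf (thompsonSubgroupOf 2 T) := fun z hz =>
  omega_omega_le s.isPGroup (by
    have hzT : z ∈ T := pCoreOf_le_sylow s.hT ((constrained_of_twoLocal hG s.hL.1).1
      (mem_centralizer_iff.2 fun y hy => omega_comm hz (hTP (pCoreOf_le_sylow s.hT hy))))
    exact mem_omega hzT (fun y hy => omega_comm hz (hTP hy)) (omega_sq hz))

theorem mem_T_of_mem_L (hG : Amb G) (P : Sylow 2 G) (hTP : T ≤ (P : Subgroup G)) {x : G}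
    (hx2 : IsPGroup 2 ↥(zpowers x)) (hxL : x ∈ s.L)
    (hxZ : x ∈ centralizer (omegaCenterOf (thompsonSubgroupOf 2 T) : Set G)) : x ∈ T := by
  haveI : Fact (Nat.Prime 2) := ⟨Nat.prime_two⟩
  have hxN : x ∈ normalizer ((P : Subgroup G) : Set G) :=
    hG.center P (Subgroup.centralizer_le (SetLike.coe_subset_coe.2 (s.omega_le_centre hG P hTP)) hxZ)
  have hxP : x ∈ (P : Subgroup G) := by
    have h2 : IsPGroup 2 ↥((P : Subgroup G) ⊔ zpowers x) :=
      P.2.to_sup_of_normal_left' hx2 (zpowers_le.2 hxN)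
    exact (P.is_maximal' h2 le_sup_left).le (mem_sup_right (mem_zpowers x))
  exact s.le_T_of_isPGroup le_sup_left (sup_le s.hT.1 (zpowers_le.2 hxL))
    (P.2.to_le (sup_le hTP (zpowers_le.2 hxP))) (mem_sup_right (mem_zpowers x))

end Side

namespace SidePair

/-- Both involutions are fixed by the rotation of the other side. -/
structure Fixed (e : SidePair T) : Prop where
  amb : Amb G
  sylow : ∃ P : Sylow 2 G, T ≤ (P : Subgroup G)
  comm : e.s₁.p * e.s₂.p = e.s₂.p * e.s₁.p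
  fix₁ : e.s₁.d * e.s₂.w = e.s₂.w * e.s₁.d
  fix₂ : e.s₂.d * e.s₁.w = e.s₁.w * e.s₂.d

variable {e : SidePair T}

theorem Fixed.flip (h : e.Fixed) : e.symm.Fixed := ⟨h.amb, h.sylow, h.comm.symm, h.fix₂, h.fix₁⟩

theorem Fixed.c_mem (h : e.Fixed) : e.s₂.w ∈ hyp T e.s₁.K := e.s₁.mem_hyp_of_commute e.s₂.hwZ h.fix₁

theorem Fixed.zcases (h : e.Fixed) {z : G} (hz : z ∈ omegaCenterOf (thompsonSubgroupOf 2 T)) :
    z = 1 ∨ z = e.s₂.w ∨ z = e.s₁.w ∨ z = e.s₂.w * e.s₁.w := by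
  rcases mem_hyp_cases e.s₁.isPGroup e.s₁.hK e.s₁.hwZ e.s₁.huw hz with h1 | h1
  · by_cases hz1 : z = 1
    · exact Or.inl hz1
    · exact Or.inr (Or.inl (e.s₁.hsm z h1 hz1 _ h.c_mem e.s₂.hw1))
  · by_cases hz1 : z * e.s₁.w = 1
    · exact Or.inr (Or.inr (Or.inl (by rw [mem_of_mul_eq (omega_sq e.s₁.hwZ) hz1, one_mul])))
    · exact Or.inr (Or.inr (Or.inr
        (mem_of_mul_eq (omega_sq e.s₁.hwZ) (e.s₁.hsm _ h1 hz1 _ h.c_mem e.s₂.hw1))))

theorem Fixed.comp_eq (h : e.Fixed) {X : Subgroup G} (hX : IsJComponent T X) (hXL : X ≤ e.s₁.L) :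
    X = e.s₁.K := by
  by_contra hne
  have hC₁ := constrained_of_twoLocal h.amb e.s₁.hL.1
  have hC₂ := constrained_of_twoLocal h.amb e.s₂.hL.1
  obtain ⟨w', d', hw', hw'W, hw'1, -, hd', -, -, hfix'⟩ := exists_wgen e.s₁.isPGroup hX
  have h1 : w' ∈ hyp T e.s₁.K :=
    mem_hyp_of_comp h.amb hC₁ e.s₁.hT e.s₁.hK hX e.s₁.hKL hXL (Ne.symm hne) hw' hw'W
  have hwc : w' = e.s₂.w := e.s₁.hsm _ h1 hw'1 _ h.c_mem e.s₂.hw1
  have hXL₂ : X ≤ e.s₂.L := by
    have h2 := (h.amb.components_commute hC₁ e.s₁.hT hX e.s₁.hK hXL e.s₁.hKL hne).2.1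
    intro x hx
    refine e.s₂.centralizer_le h.flip.c_mem e.s₁.hw1 (mem_centralizer_singleton_iff.2 ?_)
    exact (mem_centralizer_iff.1 (h2 hx) _ e.s₁.hwW).symm
  have hne₂ : X ≠ e.s₂.K := by
    intro he
    subst he
    have hle := e.s₂.huniq _ e.s₁.hL.1 (sup_le hXL (e.s₁.jT.trans e.s₁.hT.1))
    exact e.hne (e.s₁.hL.2 _ e.s₂.hL.1 hle).symm
  have h3 := (h.amb.components_commute hC₂ e.s₂.hT hX e.s₂.hK hXL₂ e.s₂.hKL hne₂).2.1
  refine hw'1 (hfix' _ hw'W ?_)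
  rw [hwc, ← mem_centralizer_iff.1 (h3 hd') _ e.s₂.hwW, mul_inv_cancel_right]

theorem Fixed.normalizing (h : e.Fixed) {n : G} (hnL : n ∈ e.s₁.L)
    (hnJ : n ∈ normalizer (thompsonSubgroupOf 2 T : Set G)) :
    n ∈ normalizer (T : Set G) ∧ n ∈ normalizer (e.s₁.K : Set G) ∧ n * e.s₂.w = e.s₂.w * n ∧
      n * e.s₁.w = e.s₁.w * n := by
  obtain ⟨P, hTP⟩ := h.sylow
  have hnK : n ∈ normalizer (e.s₁.K : Set G) := by
    refine mem_normalizer_of_conj_le (le_of_eq (h.comp_eq (isJComponent_of_conj_thompson e.s₁.hK hnJ) ?_))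
    rintro _ ⟨k, hk, rfl⟩
    exact mul_mem (mul_mem hnL (e.s₁.hKL hk)) (inv_mem hnL)
  have hnT : n ∈ normalizer (T : Set G) := by
    refine mem_normalizer_of_conj_le ?_
    rintro _ ⟨t, ht, rfl⟩
    refine e.s₁.mem_T_of_mem_L h.amb P hTP ?_ (mul_mem (mul_mem hnL (e.s₁.hT.1 ht)) (inv_mem hnL))
      (mem_centralizer_iff.2 fun z hz => ?_)
    · show IsPGroup 2 ↥(zpowers (n * t * n⁻¹))
      rw [← CfsgLib.LocalEven.conj_zpowers]
      exact (e.s₁.isPGroup.to_le (zpowers_le.2 ht)).map _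
    · show z * (n * t * n⁻¹) = n * t * n⁻¹ * z
      have hz' : n⁻¹ * z * n ∈ omegaCenterOf (thompsonSubgroupOf 2 T) := by
        have := conj_mem_omega (inv_mem hnJ) hz
        rwa [inv_inv] at this
      have hc := e.s₁.hTZ t ht _ hz'
      calc z * (n * t * n⁻¹) = n * ((n⁻¹ * z * n) * t) * n⁻¹ := by group
        _ = n * (t * (n⁻¹ * z * n)) * n⁻¹ := by rw [hc]
        _ = _ := by group
  have h1 : n * e.s₂.w * n⁻¹ ∈ hyp T e.s₁.K := by
    refine mem_hyp_iff.2 ⟨conj_mem_omega hnJ e.s₂.hwZ, fun k hk => ?_⟩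
    have := (mem_hyp_iff.1 h.c_mem).2 _ ((Subgroup.mem_normalizer_iff''.1 hnK k).1 hk)
    calc k * (n * e.s₂.w * n⁻¹) = n * ((n⁻¹ * k * n) * e.s₂.w) * n⁻¹ := by group
      _ = n * (e.s₂.w * (n⁻¹ * k * n)) * n⁻¹ := by rw [this]
      _ = _ := by group
  have h2 := e.s₁.hsm _ h1 (fun e' => e.s₂.hw1 (conj_eq_one_iff.1 e')) _ h.c_mem e.s₂.hw1
  have h3 := (e.s₁.huw _ (conj_mem_omega hnJ e.s₁.hwZ)
    (conj_mem_of_mem_normalizer (normalizer_le_normalizer_wOf _ hnK) e.s₁.hwW)).resolve_left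
    fun e' => e.s₁.hw1 (conj_eq_one_iff.1 e')
  exact ⟨hnT, hnK, mul_inv_eq_iff_eq_mul.1 h2, mul_inv_eq_iff_eq_mul.1 h3⟩

theorem Fixed.L_eq (h : e.Fixed) : e.s₁.L = centralizer ({e.s₂.w} : Set G) := by
  refine le_antisymm ?_ (e.s₁.centralizer_le h.c_mem e.s₂.hw1)
  refine h.amb.le_of_components (constrained_of_twoLocal h.amb e.s₁.hL.1) e.s₁.hT ?_ fun X hX hXL => ?_
  · rintro n ⟨hn, hnJ⟩
    exact mem_centralizer_singleton_iff.2 (h.normalizing hn hnJ).2.2.1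
  · rw [h.comp_eq hX hXL]
    exact fun k hk => mem_centralizer_singleton_iff.2 ((mem_hyp_iff.1 h.c_mem).2 k hk)

/-- The module of the first side. -/
def V (e : SidePair T) : Subgroup G := omegaCenterOf (thompsonSubgroupOf 2 T) ⊔ wOf e.s₁.K

theorem Z_le_T (e : SidePair T) : omegaCenterOf (thompsonSubgroupOf 2 T) ≤ T :=
  (omega_le _).trans e.s₁.jT

theorem V_le (e : SidePair T) : e.V ≤ T := sup_le e.Z_le_T e.s₁.W_le

theorem V_elemAb (e : SidePair T) : IsElementaryAbelian 2 e.V := by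
  rw [V, ← Subgroup.closure_eq (omegaCenterOf _), ← Subgroup.closure_eq (wOf e.s₁.K), ← Subgroup.closure_union]
  refine elemAb_of_pairs ?_ ?_
  · rintro x (hx | hx)
    exacts [omega_sq hx, e.s₁.hWsq hx]
  · rintro x (hx | hx) y (hy | hy)
    · exact (e.s₁.hTZ x (e.Z_le_T hx) y hy)
    · exact (e.s₁.hTZ y (e.s₁.W_le hy) x hx).symm
    · exact e.s₁.hTZ x (e.s₁.W_le hx) y hy
    · exact e.s₁.W_comm hx hy

theorem Fixed.L_le_normalizer_V (h : e.Fixed) : e.s₁.L ≤ normalizer (e.V : Set G) := by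
  refine h.amb.le_of_components (constrained_of_twoLocal h.amb e.s₁.hL.1) e.s₁.hT ?_ fun X hX hXL => ?_
  · rintro n ⟨hn, hnJ⟩
    refine mem_normalizer_of_conj_le ?_
    rw [V, Subgroup.map_sup]
    refine sup_le_sup ?_ ?_
    · rintro _ ⟨z, hz, rfl⟩
      exact conj_mem_omega hnJ hz
    · rintro _ ⟨z, hz, rfl⟩
      exact conj_mem_of_mem_normalizer (normalizer_le_normalizer_wOf _ (h.normalizing hn hnJ).2.1) hz
  · rw [h.comp_eq hX hXL]
    intro k hk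
    refine mem_normalizer_of_conj_le ?_
    rw [V, Subgroup.map_sup]
    have hW : ∀ z ∈ wOf e.s₁.K, k * z * k⁻¹ ∈ wOf e.s₁.K := fun z hz =>
      conj_mem_of_mem_normalizer ((wOf_le_pCoreOf e.s₁.hK).2.2 hk) hz
    refine sup_le ?_ ?_
    · rintro _ ⟨z, hz, rfl⟩
      have hc : k * e.s₂.w * k⁻¹ = e.s₂.w := by
        rw [(mem_hyp_iff.1 h.c_mem).2 k hk, mul_inv_cancel_right]
      show k * z * k⁻¹ ∈ _
      rcases h.zcases hz with rfl | rfl | rfl | rfl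
      · rw [mul_one, mul_inv_cancel]; exact one_mem _
      · rw [hc]; exact mem_sup_left e.s₂.hwZ
      · exact mem_sup_right (hW _ e.s₁.hwW)
      · rw [show k * (e.s₂.w * e.s₁.w) * k⁻¹ = (k * e.s₂.w * k⁻¹) * (k * e.s₁.w * k⁻¹) by group, hc]
        exact mul_mem (mem_sup_left e.s₂.hwZ) (mem_sup_right (hW _ e.s₁.hwW))
    · rintro _ ⟨z, hz, rfl⟩
      exact mem_sup_right (hW z hz)

theorem Fixed.le_normalizer_other (h : e.Fixed) {n : G} (hnL : n ∈ e.s₁.L)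
    (hnJ : n ∈ normalizer (thompsonSubgroupOf 2 T : Set G)) : n ∈ normalizer (e.symm.V : Set G) :=
  h.flip.L_le_normalizer_V (e.s₂.centralizer_le h.flip.c_mem e.s₁.hw1
    (mem_centralizer_singleton_iff.2 (h.normalizing hnL hnJ).2.2.2))

theorem Fixed.commute_base (h : e.Fixed) : ∀ x ∈ e.V, ∀ y ∈ e.symm.V, x * y = y * x := by
  intro x hx y hy
  have h1 : ∀ a ∈ wOf e.s₁.K, ∀ b ∈ wOf e.s₂.K, a * b = b * a := by
    have hp : e.s₂.p ∈ e.s₁.Q := e.s₁.mem_Q_iff.2 ⟨e.s₂.W_le e.s₂.pW, h.comm.symm⟩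
    intro a ha b hb
    have hb' : b ∈ e.s₁.Q := by
      rcases e.s₂.cases hb with rfl | rfl | rfl | rfl
      · exact one_mem _
      · exact e.s₁.mem_Q_iff.2 ⟨e.s₂.W_le e.s₂.hwW, (e.s₂.w_comm (e.s₁.W_le e.s₁.pW)).symm⟩
      · exact hp
      · exact mul_mem (e.s₁.mem_Q_iff.2 ⟨e.s₂.W_le e.s₂.hwW, (e.s₂.w_comm (e.s₁.W_le e.s₁.pW)).symm⟩) hp
    exact mem_centralizer_iff.1 hb'.2 a ha
  have hle : e.V ≤ centralizer (e.symm.V : Set G) := by
    refine sup_le (fun z hz => mem_centralizer_iff.2 fun y hy => e.s₁.hTZ y (e.symm.V_le hy) z hz) ?_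
    intro a ha
    have h2 : e.symm.V ≤ centralizer ({a} : Set G) := sup_le
      (fun z hz => mem_centralizer_singleton_iff.2 (e.s₁.hTZ a (e.s₁.W_le ha) z hz).symm)
      (fun b hb => mem_centralizer_singleton_iff.2 (h1 a ha b hb).symm)
    exact mem_centralizer_iff.2 fun y hy => mem_centralizer_singleton_iff.1 (h2 hy)
  exact (mem_centralizer_iff.1 (hle hx) y hy).symm

/-- Conjugates of the second module by the first 2-local commute with it. -/
theorem Fixed.commute_two (h : e.Fixed) {k : G} (hk : k ∈ e.s₁.L) :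
    ∀ x ∈ e.symm.V, ∀ y ∈ e.symm.V, x * (k * y * k⁻¹) = k * y * k⁻¹ * x := by
  set d := e.s₁.d with hd
  set R := e.s₁.L ⊓ normalizer (e.symm.V : Set G) with hR
  have hV1 : e.s₁.L ≤ normalizer (e.V : Set G) := h.L_le_normalizer_V
  -- the case of a power of the rotation
  have hrot : ∀ i : ℤ, ∀ x ∈ e.symm.V, ∀ y ∈ e.symm.V, x * (d ^ i * y * (d ^ i)⁻¹) = d ^ i * y * (d ^ i)⁻¹ * x := by
    have h3 : d ^ (3 : ℤ) = 1 := by rw [show d ^ (3 : ℤ) = d ^ 3 from zpow_natCast d 3, e.s₁.hd3]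
    have hdL : d ∈ e.s₁.L := e.s₁.hKL e.s₁.hd
    have hgen : ∀ y ∈ e.symm.V, ∃ v ∈ e.V, ∃ j : Bool, y = if j then v * e.s₂.p else v := by
      intro y hy
      have hle : e.symm.V ≤ e.V ⊔ zpowers e.s₂.p := by
        refine sup_le (le_sup_left.trans le_sup_left) fun b hb => ?_
        rcases e.s₂.cases hb with rfl | rfl | rfl | rfl
        · exact one_mem _
        · exact mem_sup_left (mem_sup_left e.s₂.hwZ)
        · exact mem_sup_right (mem_zpowers _)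
        · exact mul_mem (mem_sup_left (mem_sup_left e.s₂.hwZ)) (mem_sup_right (mem_zpowers _))
      rcases mem_sup_zpowers_cases (e.s₂.hWsq e.s₂.pW)
        (fun v hv => (h.commute_base v hv _ (mem_sup_right e.s₂.pW)).symm) (hle hy) with h' | ⟨v, hv, hv'⟩
      · exact ⟨y, h', false, rfl⟩
      · exact ⟨v, hv, true, hv'⟩
    have hkey : ∀ i : ℤ, e.s₂.p * (d ^ i * e.s₂.p * (d ^ i)⁻¹) = d ^ i * e.s₂.p * (d ^ i)⁻¹ * e.s₂.p := by
      have h1 : e.s₂.p * (d * e.s₂.p * d⁻¹) = d * e.s₂.p * d⁻¹ * e.s₂.p := by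
        by_contra hne
        exact e.false_of_nonabelian h.comm h.fix₁ h.fix₂ hne
      intro i
      rw [zpow_eq_zpow_emod i h3]
      have hcases : i % 3 = 0 ∨ i % 3 = 1 ∨ i % 3 = 2 := by omega
      rcases hcases with e' | e' | e' <;> rw [e']
      · rw [zpow_zero, one_mul, inv_one, mul_one]
      · rw [zpow_one]; exact h1
      · rw [zpow_two]
        have h4 : d * (d * (d * e.s₂.p * d⁻¹) * d⁻¹) * d⁻¹ = e.s₂.p := conj3 e.s₁.hd3 e.s₂.p
        calc e.s₂.p * (d * d * e.s₂.p * (d * d)⁻¹)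
            = (d * d) * ((d * e.s₂.p * d⁻¹) * e.s₂.p) * (d * d)⁻¹ := by
              conv_lhs => arg 1; rw [← h4]
              group
          _ = (d * d) * (e.s₂.p * (d * e.s₂.p * d⁻¹)) * (d * d)⁻¹ := by rw [h1]
          _ = d * d * e.s₂.p * (d * d)⁻¹ * (d * (d * (d * e.s₂.p * d⁻¹) * d⁻¹) * d⁻¹) := by group
          _ = _ := by rw [h4]
    intro i x hx y hy
    have hdn : d ^ i ∈ normalizer (e.V : Set G) := hV1 (zpow_mem hdL i)
    obtain ⟨v, hv, j, rfl⟩ := hgen y hy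
    have hA : x * (d ^ i * v * (d ^ i)⁻¹) = d ^ i * v * (d ^ i)⁻¹ * x :=
      (h.commute_base _ (conj_mem_of_mem_normalizer hdn hv) x hx).symm
    cases j with
    | false => exact hA
    | true =>
      have hB : x * (d ^ i * e.s₂.p * (d ^ i)⁻¹) = d ^ i * e.s₂.p * (d ^ i)⁻¹ * x := by
        obtain ⟨v', hv', j', rfl⟩ := hgen x hx
        have hC : v' * (d ^ i * e.s₂.p * (d ^ i)⁻¹) = d ^ i * e.s₂.p * (d ^ i)⁻¹ * v' := by
          have hv'' : (d ^ i)⁻¹ * v' * d ^ i ∈ e.V := (Subgroup.mem_normalizer_iff''.1 hdn v').1 hv'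
          have := h.commute_base _ hv'' _ (mem_sup_right e.s₂.pW)
          calc v' * (d ^ i * e.s₂.p * (d ^ i)⁻¹) = d ^ i * (((d ^ i)⁻¹ * v' * d ^ i) * e.s₂.p) * (d ^ i)⁻¹ := by
                group
            _ = d ^ i * (e.s₂.p * ((d ^ i)⁻¹ * v' * d ^ i)) * (d ^ i)⁻¹ := by rw [this]
            _ = _ := by group
        cases j' with
        | false => exact hC
        | true =>
          simp only [if_true]
          calc v' * e.s₂.p * (d ^ i * e.s₂.p * (d ^ i)⁻¹) = v' * (e.s₂.p * (d ^ i * e.s₂.p * (d ^ i)⁻¹)) := by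
                group
            _ = (v' * (d ^ i * e.s₂.p * (d ^ i)⁻¹)) * e.s₂.p := by rw [hkey]; group
            _ = _ := by rw [hC]; group
      simp only [if_true]
      calc x * (d ^ i * (v * e.s₂.p) * (d ^ i)⁻¹)
          = (x * (d ^ i * v * (d ^ i)⁻¹)) * (d ^ i * e.s₂.p * (d ^ i)⁻¹) := by group
        _ = d ^ i * v * (d ^ i)⁻¹ * (x * (d ^ i * e.s₂.p * (d ^ i)⁻¹)) := by rw [hA]; group
        _ = _ := by rw [hB]; group
  -- decompose `k`
  have hLK : e.s₁.L ≤ normalizer (e.s₁.K : Set G) := by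
    refine h.amb.le_of_components (constrained_of_twoLocal h.amb e.s₁.hL.1) e.s₁.hT ?_ fun X hX hXL => ?_
    · rintro n ⟨hn, hnJ⟩; exact (h.normalizing hn hnJ).2.1
    · rw [h.comp_eq hX hXL]; exact Subgroup.le_normalizer
  have hRJ : e.s₁.L ⊓ normalizer (thompsonSubgroupOf 2 T : Set G) ≤ R := fun n hn =>
    ⟨hn.1, h.le_normalizer_other hn.1 hn.2⟩
  have htop : e.s₁.L ≤ e.s₁.K ⊔ R := h.amb.le_of_components (constrained_of_twoLocal h.amb e.s₁.hL.1) e.s₁.hT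
    (hRJ.trans le_sup_right) fun X hX hXL => by rw [h.comp_eq hX hXL]; exact le_sup_left
  have hk' : k ∈ ((e.s₁.K ⊔ R : Subgroup G) : Set G) := htop hk
  rw [Subgroup.coe_mul_of_right_le_normalizer_left _ R (inf_le_left.trans hLK)] at hk'
  obtain ⟨κ, hκ, ρ, hρ, rfl⟩ := hk'
  obtain ⟨i, hi⟩ := e.s₁.hdec κ hκ
  intro x hx y hy
  set o := (d ^ i)⁻¹ * κ with ho
  have hoT : o ∈ T := e.s₁.core_le_T hi
  have hoV : o ∈ normalizer (e.symm.V : Set G) :=
    h.flip.L_le_normalizer_V (e.s₂.hT.1 hoT)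
  have hy' : o * (ρ * y * ρ⁻¹) * o⁻¹ ∈ e.symm.V :=
    conj_mem_of_mem_normalizer hoV (conj_mem_of_mem_normalizer hρ.2 hy)
  have := hrot i x hx _ hy'
  have he : κ * ρ * y * (κ * ρ)⁻¹ = d ^ i * (o * (ρ * y * ρ⁻¹) * o⁻¹) * (d ^ i)⁻¹ := by rw [ho]; group
  rwa [he]

/-- The base vertex. -/
def base (e : SidePair T) : G × Subgroup G := (e.s₂.w, e.V)

end SidePair

/-- Conjugation of vertices. -/
def vconj (g : G) (a : G × Subgroup G) : G × Subgroup G :=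
  (g * a.1 * g⁻¹, a.2.map (MulAut.conj g).toMonoidHom)

theorem vconj_mul (g h : G) (a : G × Subgroup G) : vconj (g * h) a = vconj g (vconj h a) := by
  refine Prod.ext (by simp only [vconj]; group) ?_
  simp only [vconj, Subgroup.map_map]
  congr 1
  ext x
  show g * h * x * (g * h)⁻¹ = g * (h * x * h⁻¹) * g⁻¹
  group

theorem vconj_one (a : G × Subgroup G) : vconj 1 a = a := by
  refine Prod.ext (by simp [vconj]) ?_
  exact map_conj_of_mem_normalizer (one_mem _)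

theorem vconj_inv (g : G) (a : G × Subgroup G) : vconj g⁻¹ (vconj g a) = a := by
  rw [← vconj_mul, inv_mul_cancel, vconj_one]

namespace SidePair

variable {e : SidePair T}

/-- Vertices. -/
def IsVertex (e : SidePair T) (a : G × Subgroup G) : Prop :=
  ∃ g, a = vconj g e.base ∨ a = vconj g e.symm.base

/-- Edges. -/
def Adj (e : SidePair T) (a b : G × Subgroup G) : Prop :=
  ∃ g, (a = vconj g e.base ∧ b = vconj g e.symm.base) ∨ (a = vconj g e.symm.base ∧ b = vconj g e.base)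

/-- Walks of length `n`. -/
def Walk (e : SidePair T) : ℕ → G × Subgroup G → G × Subgroup G → Prop
  | 0, a, b => a = b
  | n + 1, a, b => ∃ x, e.Adj a x ∧ e.Walk n x b

theorem Adj.symm' {a b : G × Subgroup G} (h : e.Adj a b) : e.Adj b a := by
  obtain ⟨g, h | h⟩ := h
  exacts [⟨g, Or.inr h.symm⟩, ⟨g, Or.inl h.symm⟩]

theorem Adj.flip {a b : G × Subgroup G} (h : e.Adj a b) : e.symm.Adj a b := by
  obtain ⟨g, h | h⟩ := h
  exacts [⟨g, Or.inr h⟩, ⟨g, Or.inl h⟩]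

theorem Adj.conj {a b : G × Subgroup G} (h : e.Adj a b) (k : G) : e.Adj (vconj k a) (vconj k b) := by
  obtain ⟨g, ⟨rfl, rfl⟩ | ⟨rfl, rfl⟩⟩ := h
  · exact ⟨k * g, Or.inl ⟨(vconj_mul ..).symm, (vconj_mul ..).symm⟩⟩
  · exact ⟨k * g, Or.inr ⟨(vconj_mul ..).symm, (vconj_mul ..).symm⟩⟩

theorem Adj.isVertex {a b : G × Subgroup G} (h : e.Adj a b) : e.IsVertex a ∧ e.IsVertex b := by
  obtain ⟨g, h | h⟩ := h
  exacts [⟨⟨g, Or.inl h.1⟩, ⟨g, Or.inr h.2⟩⟩, ⟨⟨g, Or.inr h.1⟩, ⟨g, Or.inl h.2⟩⟩]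

theorem Walk.conj {n : ℕ} : ∀ {a b : G × Subgroup G}, e.Walk n a b → ∀ k, e.Walk n (vconj k a) (vconj k b) := by
  induction n with
  | zero => intro a b h k; rw [show a = b from h]; rfl
  | succ n ih => rintro a b ⟨x, h1, h2⟩ k; exact ⟨_, h1.conj k, ih h2 k⟩

theorem Walk.append {m : ℕ} : ∀ {n : ℕ} {a b c : G × Subgroup G}, e.Walk n a b → e.Walk m b c →
    e.Walk (n + m) a c := by
  intro n
  induction n with
  | zero => intro a b c h h'; rw [show a = b from h, Nat.zero_add]; exact h'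
  | succ n ih =>
    rintro a b c ⟨x, h1, h2⟩ h'
    rw [Nat.succ_add]
    exact ⟨x, h1, ih h2 h'⟩

theorem Walk.snoc {n : ℕ} {a b c : G × Subgroup G} (h : e.Walk n a b) (h' : e.Adj b c) : e.Walk (n + 1) a c :=
  h.append (m := 1) ⟨c, h', rfl⟩

theorem Walk.last : ∀ {n : ℕ} {a b : G × Subgroup G}, e.Walk (n + 1) a b →
    ∃ x, e.Walk n a x ∧ e.Adj x b := by
  intro n
  induction n with
  | zero =>
    rintro a b ⟨x, h1, h2⟩
    rw [show x = b from h2] at h1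
    exact ⟨a, rfl, h1⟩
  | succ n ih =>
    rintro a b ⟨x, h1, h2⟩
    obtain ⟨y, h3, h4⟩ := ih h2
    exact ⟨y, ⟨x, h1, h3⟩, h4⟩

theorem Walk.reverse : ∀ {n : ℕ} {a b : G × Subgroup G}, e.Walk n a b → e.Walk n b a := by
  intro n
  induction n with
  | zero => intro a b h; exact (show a = b from h).symm
  | succ n ih =>
    rintro a b ⟨x, h1, h2⟩
    exact (ih h2).snoc h1.symm'

/-- The symmetry condition. -/
def Symmetric (e : SidePair T) : Prop :=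
  (∃ g, vconj g e.base = e.symm.base ∧ vconj g e.symm.base = e.base) ∨
    ∀ g, g * e.s₂.w * g⁻¹ ≠ e.s₁.w

theorem Symmetric.flip (hs : e.Symmetric) : e.symm.Symmetric := by
  rcases hs with ⟨g, h1, h2⟩ | h
  · exact Or.inl ⟨g, h2, h1⟩
  · refine Or.inr fun g hg => h g⁻¹ ?_
    have : g * e.s₁.w * g⁻¹ = e.s₂.w := hg
    rw [← this]; group

theorem Fixed.vconj_base (h : e.Fixed) {k : G} (hk : k ∈ e.s₁.L) : vconj k e.base = e.base := by
  refine Prod.ext ?_ (map_conj_of_mem_normalizer (h.L_le_normalizer_V hk))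
  have h1 := mem_centralizer_singleton_iff.1 (h.L_eq.le hk)
  show k * e.s₂.w * k⁻¹ = e.s₂.w
  rw [h1, mul_inv_cancel_right]

theorem Fixed.eq_base (h : e.Fixed) (hs : e.Symmetric) {a : G × Subgroup G} (ha : e.IsVertex a)
    (he : a.1 = e.s₂.w) : a = e.base := by
  obtain ⟨g, rfl | rfl⟩ := ha
  · exact h.vconj_base (e.s₁.centralizer_le h.c_mem e.s₂.hw1
      (mem_centralizer_singleton_iff.2 (mul_inv_eq_iff_eq_mul.1 he)))
  · have he' : g * e.s₁.w * g⁻¹ = e.s₂.w := he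
    rcases hs with ⟨g₀, h1, -⟩ | hn
    · rw [← h1, ← vconj_mul]
      have hg₀ : g₀ * e.s₂.w * g₀⁻¹ = e.s₁.w := congrArg Prod.fst h1
      refine h.vconj_base (e.s₁.centralizer_le h.c_mem e.s₂.hw1
        (mem_centralizer_singleton_iff.2 (mul_inv_eq_iff_eq_mul.1 ?_)))
      calc g * g₀ * e.s₂.w * (g * g₀)⁻¹ = g * (g₀ * e.s₂.w * g₀⁻¹) * g⁻¹ := by group
        _ = e.s₂.w := by rw [hg₀, he']
    · exact absurd (by rw [← he']; group) (hn g⁻¹)

theorem Fixed.vertex_eq (h : e.Fixed) (hs : e.Symmetric) {a b : G × Subgroup G} (ha : e.IsVertex a)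
    (hb : e.IsVertex b) (he : a.1 = b.1) : a = b := by
  obtain ⟨g, hg | hg⟩ := hb
  · have h1 : vconj g⁻¹ a = e.base := h.eq_base hs (by
      obtain ⟨g', hg'⟩ := ha
      refine ⟨g⁻¹ * g', hg'.imp (fun e' => ?_) (fun e' => ?_)⟩ <;> rw [e', ← vconj_mul]) (by
      show g⁻¹ * a.1 * g⁻¹⁻¹ = e.s₂.w
      rw [he, hg]
      show g⁻¹ * (g * e.s₂.w * g⁻¹) * g⁻¹⁻¹ = e.s₂.w
      group)
    rw [hg, ← h1, ← vconj_mul, mul_inv_cancel, vconj_one]
  · have h1 : vconj g⁻¹ a = e.symm.base := h.flip.eq_base hs.flip (by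
      obtain ⟨g', hg'⟩ := ha
      refine ⟨g⁻¹ * g', hg'.symm.imp (fun e' => ?_) (fun e' => ?_)⟩ <;>
        (rw [e', ← vconj_mul]; try rfl)) (by
      show g⁻¹ * a.1 * g⁻¹⁻¹ = e.s₁.w
      rw [he, hg]
      show g⁻¹ * (g * e.s₁.w * g⁻¹) * g⁻¹⁻¹ = e.s₁.w
      group)
    rw [hg, ← h1, ← vconj_mul, mul_inv_cancel, vconj_one]

theorem Fixed.adj_base (h : e.Fixed) (hs : e.Symmetric) {b : G × Subgroup G} (hb : e.Adj e.base b) :
    ∃ k ∈ e.s₁.L, b = vconj k e.symm.base := by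
  obtain ⟨g, ⟨h1, h2⟩ | ⟨h1, h2⟩⟩ := hb
  · refine ⟨g, e.s₁.centralizer_le h.c_mem e.s₂.hw1 (mem_centralizer_singleton_iff.2 ?_), h2⟩
    exact mul_inv_eq_iff_eq_mul.1 (congrArg Prod.fst h1).symm
  · rcases hs with ⟨g₀, h3, h4⟩ | hn
    · refine ⟨g * g₀, e.s₁.centralizer_le h.c_mem e.s₂.hw1 (mem_centralizer_singleton_iff.2 ?_), by
        rw [vconj_mul, h4]; exact h2⟩
      have e1 : vconj (g * g₀) e.base = e.base := by rw [vconj_mul, h3]; exact h1.symm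
      exact mul_inv_eq_iff_eq_mul.1 (congrArg Prod.fst e1)
    · have e1 : e.s₂.w = g * e.s₁.w * g⁻¹ := congrArg Prod.fst h1
      exact absurd (by rw [e1]; group) (hn g⁻¹)

theorem Fixed.commute_two' (h : e.Fixed) (hs : e.Symmetric) {a b : G × Subgroup G} (ha : e.Adj e.base a)
    (hb : e.Adj e.base b) : ∀ x ∈ a.2, ∀ y ∈ b.2, x * y = y * x := by
  obtain ⟨k, hk, rfl⟩ := h.adj_base hs ha
  obtain ⟨k', hk', rfl⟩ := h.adj_base hs hb
  rintro _ ⟨x, hx, rfl⟩ _ ⟨y, hy, rfl⟩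
  have := h.commute_two (mul_mem (inv_mem hk) hk') x hx y hy
  show k * x * k⁻¹ * (k' * y * k'⁻¹) = k' * y * k'⁻¹ * (k * x * k⁻¹)
  calc k * x * k⁻¹ * (k' * y * k'⁻¹) = k * (x * (k⁻¹ * k' * y * (k⁻¹ * k')⁻¹)) * k⁻¹ := by group
    _ = k * (k⁻¹ * k' * y * (k⁻¹ * k')⁻¹ * x) * k⁻¹ := by rw [this]
    _ = _ := by group

theorem Fixed.edge (h : e.Fixed) {z : G} (hz : z * z = 1) (hzc : ∀ x ∈ e.V, z * x = x * z) {y : G}
    (hy : y ∈ e.symm.V) : z * y * z⁻¹ * y = 1 ∨ z * y * z⁻¹ * y = e.s₂.w := by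
  obtain ⟨P, hTP⟩ := h.sylow
  have hzp : IsPGroup 2 ↥(zpowers z) := fun u => ⟨1, Subtype.ext (by
    rw [SubgroupClass.coe_pow, pow_one]
    exact (CfsgLib.PGroup.elemAb_zpowers (p := 2) (x := z) (by rw [pow_two, hz])).2 u u.2)⟩
  have hzT : z ∈ T := e.s₁.mem_T_of_mem_L h.amb P hTP hzp
    (e.s₁.centralizer_le h.c_mem e.s₂.hw1 (mem_centralizer_singleton_iff.2 (hzc _ (mem_sup_left e.s₂.hwZ))))
    (mem_centralizer_iff.2 fun x hx => (hzc x (mem_sup_left hx)).symm)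
  have hle : e.symm.V ≤ commIn z e.symm.V_elemAb (zpowers e.s₂.w) := by
    refine sup_le (fun x hx => ⟨mem_sup_left hx, ?_, ?_⟩) (fun x hx => ⟨mem_sup_right hx,
      mem_sup_right (conj_mem_of_mem_normalizer (e.s₂.T_le_normalizer hzT) hx), ?_⟩)
    · rw [e.s₁.hTZ z hzT x hx, mul_inv_cancel_right]; exact mem_sup_left hx
    · rw [e.s₁.hTZ z hzT x hx, mul_inv_cancel_right, omega_sq hx]; exact one_mem _
    · by_cases hzQ : z ∈ e.s₂.Q
      · rw [← mem_centralizer_iff.1 hzQ.2 x hx, mul_inv_cancel_right, e.s₂.hWsq hx]; exact one_mem _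
      · rcases e.s₂.cases hx with rfl | rfl | rfl | rfl
        · simp [one_mem]
        · rw [e.s₂.w_comm hzT, mul_inv_cancel_right, e.s₂.hWsq e.s₂.hwW]; exact one_mem _
        · rw [e.s₂.move hzT hzQ, Side.q, mul_assoc, e.s₂.hWsq e.s₂.pW, mul_one]; exact mem_zpowers _
        · rw [e.s₂.move_q hzT hzQ, Side.q, e.s₂.W_comm e.s₂.hwW e.s₂.pW, ← mul_assoc, e.s₂.hWsq e.s₂.pW,
            one_mul]
          exact mem_zpowers _
  exact mem_zpowers_sq (e.s₂.hWsq e.s₂.hwW) (hle hy).2.2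

theorem Fixed.edge' (h : e.Fixed) {a v : G × Subgroup G} (hav : e.Adj a v) {z : G} (hz : z * z = 1)
    (hzc : ∀ x ∈ v.2, z * x = x * z) {y : G} (hy : y ∈ a.2) :
    z * y * z⁻¹ * y = 1 ∨ z * y * z⁻¹ * y = v.1 := by
  have key : ∀ (f : SidePair T), f.Fixed → ∀ g : G, v = vconj g f.base → a = vconj g f.symm.base →
      z * y * z⁻¹ * y = 1 ∨ z * y * z⁻¹ * y = v.1 := by
    rintro f hf g rfl rfl
    obtain ⟨y', hy', rfl⟩ := hy
    have hz' : g⁻¹ * z * g * (g⁻¹ * z * g) = 1 := by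
      rw [show g⁻¹ * z * g * (g⁻¹ * z * g) = g⁻¹ * (z * z) * g by group, hz, mul_one, inv_mul_cancel]
    have hc' : ∀ x ∈ f.V, g⁻¹ * z * g * x = x * (g⁻¹ * z * g) := by
      intro x hx
      have := hzc _ ⟨x, hx, rfl⟩
      have h1 : z * (g * x * g⁻¹) = g * x * g⁻¹ * z := this
      calc g⁻¹ * z * g * x = g⁻¹ * (z * (g * x * g⁻¹)) * g := by group
        _ = g⁻¹ * (g * x * g⁻¹ * z) * g := by rw [h1]
        _ = _ := by group
    have e1 : z * (g * y' * g⁻¹) * z⁻¹ * (g * y' * g⁻¹) =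
        g * ((g⁻¹ * z * g) * y' * (g⁻¹ * z * g)⁻¹ * y') * g⁻¹ := by group
    show z * (g * y' * g⁻¹) * z⁻¹ * (g * y' * g⁻¹) = 1 ∨
      z * (g * y' * g⁻¹) * z⁻¹ * (g * y' * g⁻¹) = g * f.s₂.w * g⁻¹
    rcases hf.edge hz' hc' hy' with e2 | e2
    · left; rw [e1, e2, mul_one, mul_inv_cancel]
    · right; rw [e1, e2]
  obtain ⟨g, ⟨h1, h2⟩ | ⟨h1, h2⟩⟩ := hav
  · exact key e.symm h.flip g h2 h1
  · exact key e h g h2 h1

theorem Fixed.vertex_elemAb {a : G × Subgroup G} (ha : e.IsVertex a) : IsElementaryAbelian 2 a.2 := by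
  obtain ⟨g, rfl | rfl⟩ := ha
  · exact CfsgLib.PGroup.elemAb_map e.V_elemAb _
  · exact CfsgLib.PGroup.elemAb_map e.symm.V_elemAb _

/-- All modules in a connected component commute. -/
theorem Fixed.walk_commute (h : e.Fixed) (hs : e.Symmetric) : ∀ (n : ℕ) {a b : G × Subgroup G},
    e.IsVertex a → e.Walk n a b → ∀ x ∈ a.2, ∀ y ∈ b.2, x * y = y * x := by
  have hconj : ∀ {g x y : G}, x * y = y * x → g * x * g⁻¹ * (g * y * g⁻¹) = g * y * g⁻¹ * (g * x * g⁻¹) := by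
    intro g x y hxy
    calc g * x * g⁻¹ * (g * y * g⁻¹) = g * (x * y) * g⁻¹ := by group
      _ = g * (y * x) * g⁻¹ := by rw [hxy]
      _ = _ := by group
  intro n
  induction n using Nat.strong_induction_on with
  | _ n ih =>
  intro a b ha hw y hy z hz
  match n, hw with
  | 0, hw =>
    rw [show a = b from hw] at hy
    exact CfsgLib.PGroup.elemAb_comm (Fixed.vertex_elemAb (e := e) ((show a = b from hw) ▸ ha)) hy hz
  | 1, ⟨x, h1, h2⟩ =>
    rw [show x = b from h2] at h1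
    obtain ⟨g, ⟨rfl, rfl⟩ | ⟨rfl, rfl⟩⟩ := h1
    · obtain ⟨y', hy', rfl⟩ := hy
      obtain ⟨z', hz', rfl⟩ := hz
      exact hconj (h.commute_base y' hy' z' hz')
    · obtain ⟨y', hy', rfl⟩ := hy
      obtain ⟨z', hz', rfl⟩ := hz
      exact hconj (h.flip.commute_base y' hy' z' hz')
  | 2, ⟨x, h1, x', h2, h3⟩ =>
    rw [show x' = b from h3] at h2
    have main : ∀ (f : SidePair T), f.Fixed → f.Symmetric → ∀ g, x = vconj g f.base → f.Adj x a →
        f.Adj x b → y * z = z * y := by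
      rintro f hf hfs g rfl hxa hxb
      have ha' := hxa.conj g⁻¹
      have hb' := hxb.conj g⁻¹
      rw [vconj_inv] at ha' hb'
      have := hf.commute_two' hfs ha' hb' _ ⟨y, hy, rfl⟩ _ ⟨z, hz, rfl⟩
      have h4 : g⁻¹ * y * g⁻¹⁻¹ * (g⁻¹ * z * g⁻¹⁻¹) = g⁻¹ * z * g⁻¹⁻¹ * (g⁻¹ * y * g⁻¹⁻¹) := this
      have h5 := hconj (g := g) h4
      simpa [mul_assoc] using h5
    obtain ⟨g, hg | hg⟩ := h1.isVertex.2
    · exact main e h hs g hg h1.symm' h2
    · exact main e.symm h.flip hs.flip g hg h1.symm'.flip h2.flip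
  | m + 3, ⟨x, h1, h2⟩ =>
    obtain ⟨x', h3, h4⟩ := h2.last
    by_contra hne
    have hz2 : z * z = 1 := by
      have := (Fixed.vertex_elemAb (e := e) h4.isVertex.2).2 z hz
      rwa [pow_two] at this
    have hy2 : y * y = 1 := by
      have := (Fixed.vertex_elemAb (e := e) ha).2 y hy
      rwa [pow_two] at this
    have hzx : ∀ v ∈ x.2, z * v = v * z := fun v hv =>
      (ih (m + 2) (by omega) h1.isVertex.2 h2 v hv z hz).symm
    have hyx' : ∀ v ∈ x'.2, y * v = v * y := fun v hv =>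
      ih (m + 2) (by omega) ha (show e.Walk (m + 2) a x' from ⟨x, h1, h3⟩) y hy v hv
    have hzi : z⁻¹ = z := inv_eq_of_mul_eq_one_right hz2
    have hyi : y⁻¹ = y := inv_eq_of_mul_eq_one_right hy2
    have e1 := (h.edge' h1 hz2 hzx hy).resolve_left fun e' => hne (by
      have h5 : z * y * z⁻¹ = y⁻¹ := eq_inv_of_mul_eq_one_left e'
      rw [hyi] at h5
      exact (mul_inv_eq_iff_eq_mul.1 h5).symm)
    have e2 := (h.edge' h4.symm' hy2 hyx' hz).resolve_left fun e' => hne (by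
      have h5 : y * z * y⁻¹ = z⁻¹ := eq_inv_of_mul_eq_one_left e'
      rw [hzi] at h5
      exact mul_inv_eq_iff_eq_mul.1 h5)
    have hcx : x.1 * x.1 = 1 := by
      have key : ∀ (f : SidePair T) (g : G), g * f.s₂.w * g⁻¹ * (g * f.s₂.w * g⁻¹) = 1 := fun f g => by
        rw [show g * f.s₂.w * g⁻¹ * (g * f.s₂.w * g⁻¹) = g * (f.s₂.w * f.s₂.w) * g⁻¹ by group,
          f.s₂.hWsq f.s₂.hwW, mul_one, mul_inv_cancel]
      obtain ⟨g, hg | hg⟩ := h1.isVertex.2 <;> rw [hg]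
      · exact key e g
      · exact key e.symm g
    have hxx' : x = x' := h.vertex_eq hs h1.isVertex.2 h4.isVertex.1 (by
      rw [← e2, hyi, ← inv_eq_of_mul_eq_one_right hcx, ← e1, hzi]
      simp only [mul_inv_rev, hyi, hzi, mul_assoc])
    rw [← hxx'] at h4
    exact hne (ih 2 (by omega) ha (show e.Walk 2 a b from ⟨x, h1, b, h4, rfl⟩) y hy z hz)

theorem Fixed.false (h : e.Fixed) (hs : e.Symmetric) : False := by
  set N := closure {x | ∃ n a, e.Walk n e.base a ∧ x ∈ a.2} with hN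
  have hbase : e.IsVertex e.base := ⟨1, Or.inl (vconj_one _).symm⟩
  have hvert : ∀ {n : ℕ} {a : G × Subgroup G}, e.Walk n e.base a → e.IsVertex a := by
    intro n a hw
    match n, hw with
    | 0, hw => exact (show e.base = a from hw) ▸ hbase
    | m + 1, hw => obtain ⟨x, -, hx⟩ := hw.last; exact hx.isVertex.2
  have hNe : IsElementaryAbelian 2 N := by
    refine elemAb_of_pairs ?_ ?_
    · rintro x ⟨n, a, hw, hx⟩
      have := (Fixed.vertex_elemAb (e := e) (hvert hw)).2 x hx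
      rwa [pow_two] at this
    · rintro x ⟨n, a, hw, hx⟩ y ⟨m, b, hw', hy⟩
      exact h.walk_commute hs _ (hvert hw) (hw.reverse.append hw') x hx y hy
  have hN1 : N ≠ ⊥ := fun e' => e.s₂.hw1 (mem_bot.1 (e' ▸ subset_closure
    ⟨0, e.base, rfl, mem_sup_left e.s₂.hwZ⟩))
  have hN2 : IsPGroup 2 ↥N := fun u => ⟨1, Subtype.ext (by
    rw [SubgroupClass.coe_pow, pow_one]; exact hNe.2 u u.2)⟩
  have hadj : e.Adj e.base e.symm.base := ⟨1, Or.inl ⟨(vconj_one _).symm, (vconj_one _).symm⟩⟩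
  have hle : ∀ (k : G) (c : G × Subgroup G), (∃ n, e.Walk n e.base c) → vconj k c = c →
      k ∈ normalizer (N : Set G) := by
    rintro k c ⟨m, hm⟩ hk
    refine mem_normalizer_of_conj_le ?_
    rw [hN, MonoidHom.map_closure, Subgroup.closure_le]
    rintro _ ⟨x, ⟨n, a, hw, hx⟩, rfl⟩
    refine subset_closure ⟨m + (m + n), vconj k a, hm.append ?_, ⟨x, hx, rfl⟩⟩
    have := (hm.reverse.append hw).conj k
    rwa [hk] at this
  have h1 : e.s₁.L ≤ normalizer (N : Set G) := fun k hk => hle k e.base ⟨0, rfl⟩ (h.vconj_base hk)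
  have h2 : e.s₂.L ≤ normalizer (N : Set G) := fun k hk =>
    hle k e.symm.base ⟨1, _, hadj, rfl⟩ (h.flip.vconj_base hk)
  exact e.hne ((e.s₁.hL.2 _ ⟨N, hN2, hN1, rfl⟩ h1).symm.trans (e.s₂.hL.2 _ ⟨N, hN2, hN1, rfl⟩ h2))

end SidePair

end CfsgLib.LocalEven.JComp
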