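import Cfsg.Agent.Lib.LocalEven.JPairBasic

/-!
Commuting four-groups are impossible when the involution of one side is moved by the other.
-/

set_option autoImplicit false

namespace CfsgLib.LocalEven.JComp

open Subgroup CfsgLib.LocalEven Cfsg
open scoped commutatorElement

variable {G : Type*} [Group G] [Finite G]

theorem card_le_two_mul_inf {B H : Subgroup G}
    (h : ∀ x ∈ B, x ∉ H → ∀ y ∈ B, y ∉ H → x * y ∈ H) : Nat.card ↥B ≤ 2 * Nat.card ↥(B ⊓ H) := by
  classical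
  by_cases hle : B ≤ H
  · rw [inf_eq_left.2 hle]; omega
  obtain ⟨a, haB, haH⟩ := SetLike.not_le_iff_exists.1 hle
  let f : ↥B → ↥(B ⊓ H) × Bool := fun x =>
    if hx : (x : G) ∈ H then (⟨x, x.2, hx⟩, false) else (⟨a * x, mul_mem haB x.2, h a haB haH x x.2 hx⟩, true)
  have hinj : Function.Injective f := by
    intro x y hxy
    simp only [f] at hxy
    split_ifs at hxy with h1 h2 h2
    · exact Subtype.ext (congrArg (fun u => ((u.1 : ↥(B ⊓ H)) : G)) hxy)
    · simp at hxy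
    · simp at hxy
    · exact Subtype.ext (mul_left_cancel (congrArg (fun u => ((u.1 : ↥(B ⊓ H)) : G)) hxy))
  have := Nat.card_le_card_of_injective f hinj
  rw [Nat.card_prod, Nat.card_eq_fintype_card (α := Bool), Fintype.card_bool] at this
  omega

theorem mem_zpowers_sq {x y : G} (hx : x * x = 1) (hy : y ∈ zpowers x) : y = 1 ∨ y = x := by
  obtain ⟨i, rfl⟩ := mem_zpowers_iff.1 hy
  rw [zpow_eq_zpow_emod' i (show x ^ 2 = 1 by rw [pow_two, hx])]
  have hc : i % (2 : ℕ) = 0 ∨ i % (2 : ℕ) = 1 := by omega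
  rcases hc with e | e <;> rw [e]
  · exact Or.inl (zpow_zero x)
  · exact Or.inr (zpow_one x)

theorem two_mul_card_le {H : Subgroup G} {x : G} (hx : x * x = 1) (hxH : x ∉ H) :
    2 * Nat.card ↥H ≤ Nat.card ↥(H ⊔ zpowers x) := by
  have h1 := card_mul_card_le H (zpowers x)
  have h2 : H ⊓ zpowers x = ⊥ := by
    refine eq_bot_iff.2 fun y ⟨hy, hy'⟩ => mem_bot.2 ?_
    rcases mem_zpowers_sq hx hy' with e | e
    · exact e
    · exact absurd (e ▸ hy) hxH
  have h3 : Nat.card ↥(zpowers x) = 2 := by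
    rw [Nat.card_zpowers]
    exact orderOf_eq_prime (by rw [pow_two, hx]) fun e => hxH (e ▸ one_mem H)
  rw [h2, Subgroup.card_bot, mul_one, h3] at h1
  omega

theorem mem_sup_zpowers_cases {H : Subgroup G} {x y : G} (hx : x * x = 1)
    (hc : ∀ h ∈ H, x * h = h * x) (hy : y ∈ H ⊔ zpowers x) : y ∈ H ∨ ∃ h ∈ H, y = h * x := by
  have hn : zpowers x ≤ normalizer (H : Set G) := zpowers_le.2 (mem_normalizer_of_conj_le (by
    rintro _ ⟨h, hh, rfl⟩
    show x * h * x⁻¹ ∈ H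
    rw [hc h hh, mul_inv_cancel_right]
    exact hh))
  have hy' : y ∈ ((H ⊔ zpowers x : Subgroup G) : Set G) := hy
  rw [Subgroup.coe_mul_of_right_le_normalizer_left H (zpowers x) hn] at hy'
  obtain ⟨h, hh, i, hi, rfl⟩ := hy'
  rcases mem_zpowers_sq hx hi with e | e
  · left; rw [e]; simpa using hh
  · right; exact ⟨h, hh, by rw [e]⟩

/-- Elements of an elementary abelian group whose commutator with `a` lies in `N`. -/
def commIn (a : G) {X : Subgroup G} (hX : IsElementaryAbelian 2 X) (N : Subgroup G) : Subgroup G where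
  carrier := {x | x ∈ X ∧ a * x * a⁻¹ ∈ X ∧ a * x * a⁻¹ * x ∈ N}
  one_mem' := ⟨one_mem _, by simp [one_mem], by simp [one_mem]⟩
  mul_mem' := by
    rintro x y ⟨hx, hx', hxN⟩ ⟨hy, hy', hyN⟩
    refine ⟨mul_mem hx hy, ?_, ?_⟩
    · rw [show a * (x * y) * a⁻¹ = a * x * a⁻¹ * (a * y * a⁻¹) by group]
      exact mul_mem hx' hy'
    · have e : a * (x * y) * a⁻¹ * (x * y) = (a * x * a⁻¹ * x) * (a * y * a⁻¹ * y) := by
        calc a * (x * y) * a⁻¹ * (x * y) = a * x * a⁻¹ * ((a * y * a⁻¹) * x) * y := by group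
          _ = a * x * a⁻¹ * (x * (a * y * a⁻¹)) * y := by rw [CfsgLib.PGroup.elemAb_comm hX hy' hx]
          _ = _ := by group
      rw [e]
      exact mul_mem hxN hyN
  inv_mem' := by
    intro x hx
    have h1 : x⁻¹ = x := inv_eq_of_mul_eq_one_right (by
      have := hX.2 x hx.1
      rwa [pow_two] at this)
    rw [h1]
    exact hx

variable {T : Subgroup G}

namespace SidePair

variable (e : SidePair T)

theorem p_mem_Q (hc : e.s₁.p * e.s₂.p = e.s₂.p * e.s₁.p) : e.s₁.p ∈ e.s₂.Q :=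
  e.s₂.mem_Q_iff.2 ⟨e.s₁.W_le e.s₁.pW, hc⟩

set_option maxHeartbeats 1000000 in
theorem false_of_moved (hc : e.s₁.p * e.s₂.p = e.s₂.p * e.s₁.p)
    (hmoved : e.s₂.d * e.s₁.w ≠ e.s₁.w * e.s₂.d) : False := by
  set r := e.s₁ with hr
  set s := e.s₂ with hs
  set d := s.d with hd
  have hy0Q : r.p ∈ s.Q := e.p_mem_Q hc
  set y0 := r.p with hy0
  set u := r.w with hu
  set c := u * s.w with hcdef
  have huh : u ∉ hyp T s.K := fun h => hmoved ((mem_hyp_iff.1 h).2 d s.hd)
  have hch : c ∈ hyp T s.K := (mem_hyp_cases s.isPGroup s.hK s.hwZ s.huw r.hwZ).resolve_left huh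
  have hucw : u = c * s.w := mem_of_mul_eq (s.hWsq s.hwW) rfl
  have hcd : d * c = c * d := (mem_hyp_iff.1 hch).2 d s.hd
  have hcT : ∀ t ∈ T, t * c = c * t := fun t ht => s.hTZ t ht c hch.1
  have hdc : ∀ x, d * (c * x) * d⁻¹ = c * (d * x * d⁻¹) := fun x => by
    rw [← mul_assoc d c, hcd]; group
  set u1 := c * s.p with hu1
  set u2 := c * s.q with hu2
  have hu1e : d * u * d⁻¹ = u1 := by rw [hucw, hdc]; rfl
  have hu2e : d * u1 * d⁻¹ = u2 := by rw [hu1, hdc, hd, s.cycle.1]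
  have hu0e : d * u2 * d⁻¹ = u := by rw [hu2, hdc, hd, s.cycle.2.1, ← hucw]
  set y1 := d * y0 * d⁻¹ with hy1
  set y2 := d * y1 * d⁻¹ with hy2
  have hy0e : d * y2 * d⁻¹ = y0 := conj3 s.hd3 y0
  have hdQ : ∀ x ∈ s.Q, d * x * d⁻¹ ∈ s.Q := fun x hx => s.d_conj_Q hx
  have hdQ' : ∀ x ∈ s.Q, d⁻¹ * x * d ∈ s.Q := fun x hx =>
    (Subgroup.mem_normalizer_iff''.1 s.d_mem_normalizer_Q x).1 hx
  have hy1Q : y1 ∈ s.Q := hdQ _ hy0Q
  have hy2Q : y2 ∈ s.Q := hdQ _ hy1Q
  have hu12 : u1 ≠ u2 := fun h => s.hw1 (by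
    have h1 : s.p = s.w * s.p := mul_left_cancel h
    exact (mul_right_cancel (h1.symm.trans (one_mul _).symm)))
  have hu1ne : u1 ≠ 1 := fun h => r.hw1 (conj_eq_one_iff.1 (hu1e.trans h))
  have hu2ne : u2 ≠ 1 := fun h => hu1ne (conj_eq_one_iff.1 (hu2e.trans h))
  -- values of commutators
  have hv0 : ∀ t ∈ T, t * y0 * t⁻¹ = y0 ∨ t * y0 * t⁻¹ = u * y0 := by
    intro t ht
    by_cases htQ : t ∈ r.Q
    · left; rw [hy0, (r.mem_Q_iff.1 htQ).2, mul_inv_cancel_right]
    · right; exact r.move ht htQ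
  have hv1 : ∀ x ∈ s.Q, x * y1 * x⁻¹ = y1 ∨ x * y1 * x⁻¹ = u1 * y1 := by
    intro x hx
    have h1 : x * y1 * x⁻¹ = d * ((d⁻¹ * x * d) * y0 * (d⁻¹ * x * d)⁻¹) * d⁻¹ := by rw [hy1]; group
    rcases hv0 _ (s.Q_le (hdQ' x hx)) with h | h <;> rw [h] at h1
    · exact Or.inl h1
    · right; rw [h1, hy1, ← hu1e]; group
  have hv2 : ∀ x ∈ s.Q, x * y2 * x⁻¹ = y2 ∨ x * y2 * x⁻¹ = u2 * y2 := by
    intro x hx
    have h1 : x * y2 * x⁻¹ = d * ((d⁻¹ * x * d) * y1 * (d⁻¹ * x * d)⁻¹) * d⁻¹ := by rw [hy2]; group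
    rcases hv1 _ (hdQ' x hx) with h | h <;> rw [h] at h1
    · exact Or.inl h1
    · right; rw [h1, hy2, ← hu2e]; group
  have hy0sq : y0 * y0 = 1 := r.hWsq r.pW
  have hy1sq : y1 * y1 = 1 := by
    rw [hy1, show d * y0 * d⁻¹ * (d * y0 * d⁻¹) = d * (y0 * y0) * d⁻¹ by group, hy0sq, mul_one, mul_inv_cancel]
  have hy2sq : y2 * y2 = 1 := by
    rw [hy2, show d * y1 * d⁻¹ * (d * y1 * d⁻¹) = d * (y1 * y1) * d⁻¹ by group, hy1sq, mul_one, mul_inv_cancel]
  have hconj : ∀ {x v : G}, x * v = v * x → d * x * d⁻¹ * (d * v * d⁻¹) = d * v * d⁻¹ * (d * x * d⁻¹) := by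
    intro x v hxv
    calc d * x * d⁻¹ * (d * v * d⁻¹) = d * (x * v) * d⁻¹ := by group
      _ = d * (v * x) * d⁻¹ := by rw [hxv]
      _ = _ := by group
  have h01 : y0 * y1 = y1 * y0 := by
    rcases hv0 y1 (s.Q_le hy1Q) with h | h
    · exact (mul_inv_eq_iff_eq_mul.1 h).symm
    · rcases hv1 y0 hy0Q with h' | h'
      · exact mul_inv_eq_iff_eq_mul.1 h'
      · exfalso
        apply hmoved
        have hi0 : y0⁻¹ = y0 := inv_eq_of_mul_eq_one_right hy0sq
        have hi1 : y1⁻¹ = y1 := inv_eq_of_mul_eq_one_right hy1sq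
        have e1 : u = y1 * y0 * y1⁻¹ * y0⁻¹ := by rw [h, mul_inv_cancel_right]
        have e2 : u1 = y0 * y1 * y0⁻¹ * y1⁻¹ := by rw [h', mul_inv_cancel_right]
        have e3 : u1 = u⁻¹ := by rw [e1, e2]; group
        rw [inv_eq_of_mul_eq_one_right (r.hWsq r.hwW)] at e3
        exact mul_inv_eq_iff_eq_mul.1 (hu1e.trans e3)
  have h12 : y1 * y2 = y2 * y1 := hconj h01
  have h20 : y2 * y0 = y0 * y2 := by
    have := hconj h12
    rwa [← hy2, hy0e] at this
  -- the central part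
  set U := closure ({c} ∪ (wOf s.K : Set G)) with hU
  have hUc : ∀ z ∈ U, ∀ x ∈ s.Q, x * z = z * x := by
    intro z hz x hx
    have hle : U ≤ centralizer ({x} : Set G) := (closure_le _).2 fun v hv => by
      refine mem_centralizer_singleton_iff.2 ?_
      rcases hv with hv | hv
      · rw [Set.mem_singleton_iff.1 hv]; exact (hcT x hx.1).symm
      · exact mem_centralizer_iff.1 hx.2 v hv
    exact (mem_centralizer_singleton_iff.1 (hle hz)).symm
  have hcU : c ∈ U := subset_closure (Or.inl rfl)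
  have hWU : ∀ v ∈ wOf s.K, v ∈ U := fun v hv => subset_closure (Or.inr hv)
  have huU : u ∈ U := by rw [hucw]; exact mul_mem hcU (hWU _ s.hwW)
  have hu1U : u1 ∈ U := mul_mem hcU (hWU _ s.pW)
  have hu2U : u2 ∈ U := mul_mem hcU (hWU _ s.qW)
  have hcQ : c ∈ s.Q := s.mem_Q_iff.2 ⟨s.jT (omega_le _ hch.1), (hcT s.p (s.W_le s.pW)).symm⟩
  have hWQ : ∀ v ∈ wOf s.K, v ∈ s.Q := fun v hv => ⟨s.W_le hv, mem_centralizer_iff.2 fun z hz => s.W_comm hz hv⟩
  have hUQ : U ≤ s.Q := (closure_le _).2 fun v hv => by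
    rcases hv with hv | hv
    · rw [Set.mem_singleton_iff.1 hv]; exact hcQ
    · exact hWQ v hv
  -- `y₁y₂` is not central
  have hy12 : y1 * y2 ∉ U := by
    intro hmem
    obtain ⟨x, hx, hxr⟩ := e.exists_mem_Q_sdiff
    apply hxr
    refine r.mem_Q_iff.2 ⟨hx.1, ?_⟩
    have key : ∀ z ∈ s.Q, z * y1 * z⁻¹ = y1 := by
      intro z hz
      have h1 : (z * y1 * z⁻¹) * (z * y2 * z⁻¹) = y1 * y2 := by
        rw [show (z * y1 * z⁻¹) * (z * y2 * z⁻¹) = z * (y1 * y2) * z⁻¹ by group, hUc _ hmem z hz,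
          mul_inv_cancel_right]
      rcases hv1 z hz with h | h
      · exact h
      · exfalso
        rcases hv2 z hz with h' | h' <;> rw [h, h'] at h1
        · exact hu1ne (mul_right_cancel (b := y1) ((mul_right_cancel h1).trans (one_mul y1).symm))
        · have e1 : u1 * u2 = 1 := by
            have : u1 * u2 * (y1 * y2) = 1 * (y1 * y2) := by
              rw [one_mul]
              calc u1 * u2 * (y1 * y2) = u1 * (u2 * y1) * y2 := by group
                _ = u1 * (y1 * u2) * y2 := by rw [← hUc u2 hu2U y1 hy1Q]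
                _ = u1 * y1 * (u2 * y2) := by group
                _ = y1 * y2 := h1
            exact mul_right_cancel this
          have h2 : u1⁻¹ = u1 := inv_eq_of_mul_eq_one_right (by
            rw [hu1, show c * s.p * (c * s.p) = c * (s.p * c) * s.p by group, hcT s.p (s.W_le s.pW),
              ← mul_assoc c c, omega_sq hch.1, one_mul, s.hWsq s.pW])
          exact hu12 (h2.symm.trans (inv_eq_of_mul_eq_one_right e1))
    have h1 := key (d * x * d⁻¹) (hdQ x hx)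
    rw [hy1] at h1
    have h2 : d * (x * y0 * x⁻¹) * d⁻¹ = d * y0 * d⁻¹ :=
      (show d * (x * y0 * x⁻¹) * d⁻¹ = d * x * d⁻¹ * (d * y0 * d⁻¹) * (d * x * d⁻¹)⁻¹ by group).trans h1
    exact mul_inv_eq_iff_eq_mul.1 (mul_left_cancel (mul_right_cancel h2))
  -- the elementary group
  set X := closure (insert y0 (insert y1 (insert y2 ({c} ∪ (wOf s.K : Set G))))) with hX
  have hgenQ : ∀ v ∈ insert y0 (insert y1 (insert y2 ({c} ∪ (wOf s.K : Set G)))), v ∈ s.Q := by
    rintro v (rfl | rfl | rfl | hv)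
    exacts [hy0Q, hy1Q, hy2Q, hUQ (subset_closure hv)]
  have hXQ : X ≤ s.Q := (closure_le _).2 hgenQ
  have hUX : U ≤ X := Subgroup.closure_mono (by intro v hv; exact Or.inr (Or.inr (Or.inr hv)))
  have hy0X : y0 ∈ X := subset_closure (Or.inl rfl)
  have hy1X : y1 ∈ X := subset_closure (Or.inr (Or.inl rfl))
  have hy2X : y2 ∈ X := subset_closure (Or.inr (Or.inr (Or.inl rfl)))
  have hXe : IsElementaryAbelian 2 X := by
    refine elemAb_of_pairs ?_ ?_
    · rintro v (rfl | rfl | rfl | hv | hv)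
      exacts [hy0sq, hy1sq, hy2sq, by rw [Set.mem_singleton_iff.1 hv]; exact omega_sq hch.1, s.hWsq hv]
    · intro v hv z hz
      have hUv : ∀ t, t ∈ ({c} ∪ (wOf s.K : Set G)) → ∀ x ∈ s.Q, x * t = t * x := fun t ht =>
        hUc t (subset_closure ht)
      have hz' := hgenQ z hz
      have hv' := hgenQ v hv
      rcases hv with rfl | rfl | rfl | hv
      · rcases hz with rfl | rfl | rfl | hz
        exacts [rfl, h01, h20.symm, hUv z hz _ hv']
      · rcases hz with rfl | rfl | rfl | hz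
        exacts [h01.symm, rfl, h12, hUv z hz _ hv']
      · rcases hz with rfl | rfl | rfl | hz
        exacts [h20, h12.symm, rfl, hUv z hz _ hv']
      · exact (hUv v hv z hz').symm
  -- the element `a`
  obtain ⟨A, hA, a, haA, haQ⟩ := s.exists_notMem_Q
  have haT : a ∈ T := hA.1 haA
  have hAc : ∀ x ∈ A, ∀ y ∈ A, x * y = y * x := fun x hx y hy => CfsgLib.PGroup.elemAb_comm hA.2.1 hx hy
  have haa : a * a = 1 := by rw [← pow_two]; exact hA.2.1.2 a haA
  have hai : a⁻¹ = a := inv_eq_of_mul_eq_one_right haa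
  have hau1 : a * u1 * a⁻¹ = u2 := by
    rw [hu1, show a * (c * s.p) * a⁻¹ = (a * c) * s.p * a⁻¹ by group, hcT a haT,
      show c * a * s.p * a⁻¹ = c * (a * s.p * a⁻¹) by group, s.move haT haQ]
  obtain ⟨ε, hεa, hε, hε'⟩ : ∃ ε, a * y1 * a⁻¹ = y2 * ε ∧ ε ∈ U ∧ (ε = 1 ∨ ε = u2) := by
    obtain ⟨o, ho, he⟩ := s.conj_d_conj haT haQ y0
    have hoQ := s.core_le_Q ho
    rw [← hy1] at he
    have hou : o * u * o⁻¹ = u := by rw [hUc u huU o hoQ, mul_inv_cancel_right]
    have hu2y : u2 * y2 = y2 * u2 := (hUc u2 hu2U y2 hy2Q).symm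
    rcases hv0 a haT with h | h <;> rw [h] at he
    · rcases hv0 o hoQ.1 with h' | h' <;> rw [h'] at he
      · exact ⟨1, by rw [he, mul_one], one_mem _, Or.inl rfl⟩
      · refine ⟨u2, ?_, hu2U, Or.inr rfl⟩
        rw [he, ← hd, ← hu2y, ← hu2e, ← hu1e, hy2, hy1]; group
    · rw [show o * (u * y0) * o⁻¹ = (o * u * o⁻¹) * (o * y0 * o⁻¹) by group, hou] at he
      rcases hv0 o hoQ.1 with h' | h' <;> rw [h'] at he
      · refine ⟨u2, ?_, hu2U, Or.inr rfl⟩
        rw [he, ← hd, ← hu2y, ← hu2e, ← hu1e, hy2, hy1]; group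
      · refine ⟨1, ?_, one_mem _, Or.inl rfl⟩
        rw [he, ← hd, ← mul_assoc u u, r.hWsq r.hwW, one_mul, mul_one]
  have hεsq : ε * ε = 1 := by
    rcases hε' with rfl | rfl
    · exact one_mul 1
    · have := hXe.2 _ (hUX hu2U)
      rwa [pow_two] at this
  have hy2ε : y2 = a * y1 * a⁻¹ * ε := by rw [hεa, mul_assoc, hεsq, mul_one]
  -- the `a`-fixed element
  obtain ⟨s', hs'X, hs'a, hs'v⟩ : ∃ s' ∈ X, a * s' = s' * a ∧ ∃ v ∈ U, s' = y1 * y2 * v := by
    rcases hε' with hεe | hεe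
    · refine ⟨y1 * y2, mul_mem hy1X hy2X, mul_inv_eq_iff_eq_mul.1 ?_, 1, one_mem _, by rw [mul_one]⟩
      rw [hεe, mul_one] at hεa
      have h1 : a * y2 * a⁻¹ = y1 := by
        rw [← hεa, hai, show a * (a * y1 * a) * a = (a * a) * y1 * (a * a) by group, haa, one_mul, mul_one]
      rw [show a * (y1 * y2) * a⁻¹ = a * y1 * a⁻¹ * (a * y2 * a⁻¹) by group, hεa, h1, h12]
    · refine ⟨y1 * y2 * u1, mul_mem (mul_mem hy1X hy2X) (hUX hu1U), mul_inv_eq_iff_eq_mul.1 ?_, u1, hu1U, rfl⟩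
      rw [hεe] at hεa
      have h1 : a * (y1 * y2 * u1) * a⁻¹ = (y2 * u2) * (a * y2 * a⁻¹) * u2 := by
        rw [← hεa, ← hau1]; group
      have h2 : a * y2 * a⁻¹ = y1 * u1 := by
        have e1 : y2 = a * y1 * a⁻¹ * u2 := by rw [hεa, mul_assoc, ← hεe, hεsq, mul_one]
        have e2 : a * u2 * a⁻¹ = u1 := by
          rw [← hau1, hai, show a * (a * u1 * a) * a = (a * a) * u1 * (a * a) by group, haa, one_mul, mul_one]
        rw [e1, hai, show a * (a * y1 * a * u2) * a = (a * a) * y1 * (a * u2 * a) by group, haa, one_mul]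
        rw [hai] at e2
        rw [e2]
      rw [h1, h2]
      calc y2 * u2 * (y1 * u1) * u2 = y2 * (u2 * y1) * (u1 * u2) := by group
        _ = y2 * (y1 * u2) * (u2 * u1) := by
          rw [← hUc u2 hu2U y1 hy1Q, hUc u2 hu2U u1 (hUQ hu1U)]
        _ = (y2 * y1) * ((u2 * u2) * u1) := by group
        _ = y1 * y2 * u1 := by
          rw [← h12, show u2 * u2 = 1 by rw [← hεe]; exact hεsq, one_mul]
  -- `B` and the kernels
  set B := A ⊓ s.Q with hB
  have hAB : Nat.card ↥A ≤ 2 * Nat.card ↥B := card_le_two_mul_inf fun x hx hxQ y hy hyQ =>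
    s.mul_mem_Q (hA.1 hx) hxQ (hA.1 hy) hyQ
  set B1 := B ⊓ centralizer ({y1} : Set G) with hB1
  set C := B1 ⊓ centralizer ({y0} : Set G) with hC
  have hB1h : Nat.card ↥B ≤ 2 * Nat.card ↥B1 := by
    refine card_le_two_mul_inf fun x hx hxc z hz hzc => mem_centralizer_singleton_iff.2 ?_
    have hx' := (hv1 x hx.2).resolve_left fun h =>
      hxc (mem_centralizer_singleton_iff.2 (mul_inv_eq_iff_eq_mul.1 h))
    have hz' := (hv1 z hz.2).resolve_left fun h =>
      hzc (mem_centralizer_singleton_iff.2 (mul_inv_eq_iff_eq_mul.1 h))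
    have hu1sq : u1 * u1 = 1 := by
      have := hXe.2 _ (hUX hu1U)
      rwa [pow_two] at this
    refine mul_inv_eq_iff_eq_mul.1 ?_
    calc x * z * y1 * (x * z)⁻¹ = x * (z * y1 * z⁻¹) * x⁻¹ := by group
      _ = (x * u1) * y1 * x⁻¹ := by rw [hz']; group
      _ = u1 * (x * y1 * x⁻¹) := by rw [hUc u1 hu1U x hx.2]; group
      _ = y1 := by rw [hx', ← mul_assoc, hu1sq, one_mul]
  have hCh : Nat.card ↥B1 ≤ 2 * Nat.card ↥C := by
    refine card_le_two_mul_inf fun x hx hxc z hz hzc => mem_centralizer_singleton_iff.2 ?_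
    have hx' := (hv0 x hx.1.2.1).resolve_left fun h =>
      hxc (mem_centralizer_singleton_iff.2 (mul_inv_eq_iff_eq_mul.1 h))
    have hz' := (hv0 z hz.1.2.1).resolve_left fun h =>
      hzc (mem_centralizer_singleton_iff.2 (mul_inv_eq_iff_eq_mul.1 h))
    refine mul_inv_eq_iff_eq_mul.1 ?_
    calc x * z * y0 * (x * z)⁻¹ = x * (z * y0 * z⁻¹) * x⁻¹ := by group
      _ = (x * u) * y0 * x⁻¹ := by rw [hz']; group
      _ = u * (x * y0 * x⁻¹) := by rw [hUc u huU x hx.1.2]; group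
      _ = y0 := by rw [hx', ← mul_assoc, r.hWsq r.hwW, one_mul]
  have hby2 : ∀ b ∈ B1, b * y2 = y2 * b := by
    intro b hb
    have hb1 : b * y1 = y1 * b := mem_centralizer_singleton_iff.1 hb.2
    have hba : b * a = a * b := hAc b hb.1.1 a haA
    rw [hy2ε, hai]
    calc b * (a * y1 * a * ε) = (b * a) * y1 * a * ε := by group
      _ = a * (b * y1) * a * ε := by rw [hba]; group
      _ = a * y1 * (b * a) * ε := by rw [hb1]; group
      _ = a * y1 * a * (b * ε) := by rw [hba]; group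
      _ = a * y1 * a * ε * b := by rw [hUc ε hε b hb.1.2]; group
  have hbs : ∀ b ∈ B1, b * s' = s' * b := by
    intro b hb
    obtain ⟨v, hv, rfl⟩ := hs'v
    calc b * (y1 * y2 * v) = (b * y1) * y2 * v := by group
      _ = y1 * (b * y2) * v := by rw [mem_centralizer_singleton_iff.1 hb.2]; group
      _ = y1 * y2 * (b * v) := by rw [hby2 b hb]; group
      _ = _ := by rw [hUc v hv b hb.1.2]; group
  have hCX : ∀ b ∈ C, ∀ x ∈ X, b * x = x * b := by
    intro b hb x hx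
    have hle : X ≤ centralizer ({b} : Set G) := (closure_le _).2 fun v hv => by
      refine mem_centralizer_singleton_iff.2 ?_
      rcases hv with rfl | rfl | rfl | hv
      exacts [(mem_centralizer_singleton_iff.1 hb.2).symm, (mem_centralizer_singleton_iff.1 hb.1.2).symm,
        (hby2 b hb.1).symm, (hUc v (subset_closure hv) b hb.1.1.2).symm]
    exact (mem_centralizer_singleton_iff.1 (hle hx)).symm
  set F := X ⊓ centralizer (A : Set G) with hF
  have hmain : Nat.card ↥C * Nat.card ↥X ≤ 2 * Nat.card ↥B * Nat.card ↥F := by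
    have hE : IsElementaryAbelian 2 (C ⊔ X) :=
      elemAb_sup_of_comm (CfsgLib.PGroup.elemAb_mono hA.2.1 (inf_le_left.trans (inf_le_left.trans inf_le_left) : C ≤ A))
        hXe hCX
    refine (card_mul_card_le C X).trans (Nat.mul_le_mul ?_ (Subgroup.card_le_of_le ?_))
    · exact (hA.2.2 _ (sup_le ((inf_le_left.trans (inf_le_left.trans inf_le_left) : C ≤ A).trans hA.1)
        (hXQ.trans s.Q_le)) hE).trans hAB
    · intro x hx
      exact ⟨hx.2, mem_centralizer_iff.2 fun z hz => hAc z hz x hx.1.1.1.1⟩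
  -- the chain
  have hFa : ∀ x ∈ F, a * x = x * a := fun x hx => mem_centralizer_iff.1 hx.2 a haA
  have hFb : ∀ x ∈ F, ∀ b ∈ A, b * x = x * b := fun x hx b hb => mem_centralizer_iff.1 hx.2 b hb
  have hpQ : s.p ∈ X := hUX (hWU _ s.pW)
  have hpa : ¬ a * s.p = s.p * a := fun h => haQ (s.mem_Q_iff.2 ⟨haT, h⟩)
  set Xa := commIn a hXe U with hXa
  have hXaF : ∀ x ∈ X, a * x = x * a → x ∈ Xa := fun x hx hax =>
    ⟨hx, by rw [hax, mul_inv_cancel_right]; exact hx, by
      rw [hax, mul_inv_cancel_right]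
      have := hXe.2 x hx
      rw [pow_two] at this
      rw [this]; exact one_mem _⟩
  have hXap : s.p ∈ Xa := ⟨hpQ, by rw [s.move haT haQ]; exact hUX (hWU _ s.qW), by
    rw [s.move haT haQ]; exact mul_mem (hWU _ s.qW) (hWU _ s.pW)⟩
  have hXay0 : y0 ∈ Xa := by
    rcases hv0 a haT with h | h
    · exact hXaF y0 hy0X (mul_inv_eq_iff_eq_mul.1 h)
    · refine ⟨hy0X, by rw [h]; exact mul_mem (hUX huU) hy0X, ?_⟩
      rw [h, mul_assoc, hy0sq, mul_one]; exact huU
  have hy1Xa : y1 ∉ Xa := fun h => hy12 (by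
    have h1 : a * y1 * a⁻¹ * y1 ∈ U := h.2.2
    rw [hεa] at h1
    have e1 : y2 * ε * y1 = y1 * y2 * ε := by
      rw [mul_assoc, ← hUc ε hε y1 hy1Q, ← mul_assoc, ← h12]
    rw [e1] at h1
    have := mul_mem h1 (inv_mem hε)
    rwa [mul_inv_cancel_right] at this)
  have hsqX : ∀ x ∈ X, x * x = 1 := fun x hx => by rw [← pow_two]; exact hXe.2 x hx
  have hcm : ∀ x ∈ X, ∀ z ∈ X, x * z = z * x := fun x hx z hz => CfsgLib.PGroup.elemAb_comm hXe hx hz
  -- last two steps of the chain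
  have last : ∀ H : Subgroup G, H ≤ Xa → H ≤ X → s.p ∉ H →
      4 * Nat.card ↥H ≤ Nat.card ↥X := by
    intro H hHa hHX hpH
    have h1 := two_mul_card_le (s.hWsq s.pW) hpH
    have h2 := two_mul_card_le hy1sq (H := H ⊔ zpowers s.p)
      (fun h => hy1Xa (sup_le hHa (zpowers_le.2 hXap) h))
    have h3 : H ⊔ zpowers s.p ⊔ zpowers y1 ≤ X := sup_le (sup_le hHX (zpowers_le.2 hpQ)) (zpowers_le.2 hy1X)
    have := h2.trans (Subgroup.card_le_of_le h3)
    omega
  have hFX : F ≤ X := inf_le_left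
  have hFXa : F ≤ Xa := fun x hx => hXaF x hx.1 (hFa x hx)
  have hs'Xa : s' ∈ Xa := hXaF s' hs'X hs'a
  have hFpos : 0 < Nat.card ↥F := Nat.card_pos
  have hCpos : 0 < Nat.card ↥C := Nat.card_pos
  have hfinish : ∀ k : ℕ, Nat.card ↥B ≤ k * Nat.card ↥C → 4 * k * Nat.card ↥F ≤ Nat.card ↥X → False := by
    intro k hk hXk
    have h1 : Nat.card ↥C * (4 * k * Nat.card ↥F) ≤ 2 * (k * Nat.card ↥C) * Nat.card ↥F :=
      ((Nat.mul_le_mul_left _ hXk).trans hmain).trans (Nat.mul_le_mul_right _ (Nat.mul_le_mul_left _ hk))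
    have hk0 : 0 < k := by
      rcases Nat.eq_zero_or_pos k with rfl | h
      · have : 0 < Nat.card ↥B := Nat.card_pos
        omega
      · exact h
    have h2 : 0 < Nat.card ↥C * k * Nat.card ↥F := Nat.mul_pos (Nat.mul_pos hCpos hk0) hFpos
    have h3 : Nat.card ↥C * (4 * k * Nat.card ↥F) = 4 * (Nat.card ↥C * k * Nat.card ↥F) := by ring
    have h4 : 2 * (k * Nat.card ↥C) * Nat.card ↥F = 2 * (Nat.card ↥C * k * Nat.card ↥F) := by ring
    omega
  by_cases hb : B1 = B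
  · -- `B` fixes `y₁`
    by_cases hb0 : C = B1
    · exact hfinish 1 (by rw [hb0, hb, one_mul]) (by
        rw [mul_one]
        exact last F hFXa hFX fun h => hpa (hFa _ h))
    · obtain ⟨b0, hb0B, hb0C⟩ := SetLike.exists_of_lt (lt_of_le_of_ne (inf_le_left : C ≤ B1) hb0)
      have hb0y : ¬ b0 * y0 = y0 * b0 := fun h => hb0C ⟨hb0B, mem_centralizer_singleton_iff.2 h⟩
      have hy0F : y0 ∉ F := fun h => hb0y (hFb _ h b0 hb0B.1.1)
      refine hfinish 2 (hb ▸ hCh) ?_
      have hp : s.p ∉ F ⊔ zpowers y0 := by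
        intro h
        rcases mem_sup_zpowers_cases hy0sq (fun x hx => hcm y0 hy0X x (hFX hx)) h with h' | ⟨x, hx, he⟩
        · exact hpa (hFa _ h')
        · apply hb0y
          have e1 : y0 = x⁻¹ * s.p := by rw [he]; group
          rw [e1]
          have h5 := hFb x hx b0 hb0B.1.1
          have h6 : b0 * s.p = s.p * b0 := (s.mem_Q_iff.1 hb0B.1.2).2
          calc b0 * (x⁻¹ * s.p) = (b0 * x⁻¹) * s.p := by group
            _ = x⁻¹ * (b0 * s.p) := by rw [((show Commute b0 x from h5).inv_right).eq]; group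
            _ = _ := by rw [h6]; group
      have h1 := two_mul_card_le hy0sq hy0F
      have h2 := last _ (sup_le hFXa (zpowers_le.2 hXay0)) (sup_le hFX (zpowers_le.2 hy0X)) hp
      omega
  · obtain ⟨b1, hb1B, hb1C⟩ := SetLike.exists_of_lt (lt_of_le_of_ne (inf_le_left : B1 ≤ B) hb)
    have hb1y : ¬ b1 * y1 = y1 * b1 := fun h => hb1C ⟨hb1B, mem_centralizer_singleton_iff.2 h⟩
    have hs'F : s' ∉ F := by
      intro h
      obtain ⟨v, hv, hs'e⟩ := hs'v
      have h5 := hFb _ h b1 hb1B.1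
      rw [hs'e] at h5
      have h6 : b1 * (y1 * y2) * b1⁻¹ = y1 * y2 := by
        have h7 : b1 * (y1 * y2) = y1 * y2 * v * b1 * v⁻¹ := by
          rw [← h5]; group
        rw [h7, mul_assoc (y1 * y2 * v) b1, ((show Commute b1 v from hUc v hv b1 hb1B.2).inv_right).eq]
        group
      rcases hv1 b1 hb1B.2 with h8 | h8
      · exact hb1y (mul_inv_eq_iff_eq_mul.1 h8)
      · rw [show b1 * (y1 * y2) * b1⁻¹ = (b1 * y1 * b1⁻¹) * (b1 * y2 * b1⁻¹) by group, h8] at h6
        rcases hv2 b1 hb1B.2 with h9 | h9 <;> rw [h9] at h6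
        · exact hu1ne (mul_right_cancel (b := y1) ((mul_right_cancel h6).trans (one_mul y1).symm))
        · apply hu12
          have e1 : u1 * u2 * (y1 * y2) = 1 * (y1 * y2) := by
            rw [one_mul]
            calc u1 * u2 * (y1 * y2) = u1 * (u2 * y1) * y2 := by group
              _ = u1 * (y1 * u2) * y2 := by rw [← hUc u2 hu2U y1 hy1Q]
              _ = u1 * y1 * (u2 * y2) := by group
              _ = y1 * y2 := h6
          have e2 := mul_right_cancel e1
          exact mul_right_cancel (e2.trans (hsqX u2 (hUX hu2U)).symm)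
    have h1 := two_mul_card_le (hsqX s' hs'X) hs'F
    have hFs : F ⊔ zpowers s' ≤ Xa := sup_le hFXa (zpowers_le.2 hs'Xa)
    have hFsX : F ⊔ zpowers s' ≤ X := sup_le hFX (zpowers_le.2 hs'X)
    have hFsa : F ⊔ zpowers s' ≤ centralizer ({a} : Set G) := sup_le
      (fun x hx => mem_centralizer_singleton_iff.2 (hFa x hx).symm)
      (zpowers_le.2 (mem_centralizer_singleton_iff.2 hs'a.symm))
    have hpFs : s.p ∉ F ⊔ zpowers s' := fun h => hpa (mem_centralizer_singleton_iff.1 (hFsa h)).symm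
    by_cases hb0 : C = B1
    · refine hfinish 2 (hb0 ▸ hB1h) ?_
      have h2 := last _ hFs hFsX hpFs
      omega
    · obtain ⟨b0, hb0B, hb0C⟩ := SetLike.exists_of_lt (lt_of_le_of_ne (inf_le_left : C ≤ B1) hb0)
      have hb0y : ¬ b0 * y0 = y0 * b0 := fun h => hb0C ⟨hb0B, mem_centralizer_singleton_iff.2 h⟩
      have hFsb : F ⊔ zpowers s' ≤ centralizer ({b0} : Set G) := sup_le
        (fun x hx => mem_centralizer_singleton_iff.2 (hFb x hx b0 hb0B.1.1).symm)
        (zpowers_le.2 (mem_centralizer_singleton_iff.2 (hbs b0 hb0B).symm))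
      have hy0n : y0 ∉ F ⊔ zpowers s' := fun h => hb0y (mem_centralizer_singleton_iff.1 (hFsb h)).symm
      have h2 := two_mul_card_le hy0sq hy0n
      refine hfinish 4 (by omega) ?_
      have hp : s.p ∉ F ⊔ zpowers s' ⊔ zpowers y0 := by
        intro h
        rcases mem_sup_zpowers_cases hy0sq (fun x hx => hcm y0 hy0X x (hFsX hx)) h with h' | ⟨x, hx, he⟩
        · exact hpFs h'
        · apply hb0y
          have e1 : y0 = x⁻¹ * s.p := by rw [he]; group
          rw [e1]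
          have h5 : b0 * x = x * b0 := (mem_centralizer_singleton_iff.1 (hFsb hx)).symm
          have h6 : b0 * s.p = s.p * b0 := (s.mem_Q_iff.1 hb0B.1.2).2
          calc b0 * (x⁻¹ * s.p) = (b0 * x⁻¹) * s.p := by group
            _ = x⁻¹ * (b0 * s.p) := by rw [((show Commute b0 x from h5).inv_right).eq]; group
            _ = _ := by rw [h6]; group
      have h3 := last _ (sup_le hFs (zpowers_le.2 hXay0)) (sup_le hFsX (zpowers_le.2 hy0X)) hp
      omega

end SidePair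

end CfsgLib.LocalEven.JComp
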