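import Cfsg.Agent.Lib.LocalEven.JPairGraph
import Cfsg.Agent.Lib.Classical.Dickson.SmallIdent

/-!
The shape of the amalgam when the two four-groups do not commute.
-/

set_option autoImplicit false

namespace CfsgLib.LocalEven.JComp

open Subgroup CfsgLib.LocalEven Cfsg
open scoped commutatorElement Pointwise

variable {G : Type*} [Group G] [Finite G] {T : Subgroup G}

namespace Side

variable (s : Side T)

theorem d_ne_one : s.d ≠ 1 := fun h =>
  s.hw1 (s.hfix _ s.hwW (by rw [h, one_mul, inv_one, mul_one]))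

theorem orderOf_d : orderOf s.d = 3 := by
  haveI : Fact (Nat.Prime 3) := ⟨Nat.prime_three⟩
  exact orderOf_eq_prime s.hd3 s.d_ne_one

theorem zpow_mem_T {i : ℤ} (h : s.d ^ i ∈ T) : s.d ^ i = 1 := by
  obtain ⟨k, hk⟩ := s.isPGroup ⟨_, h⟩
  have h1 : (s.d ^ i) ^ (2 ^ k) = 1 := congrArg Subtype.val hk
  have h3 : (s.d ^ i) ^ 3 = 1 := by
    rw [← zpow_natCast, ← zpow_mul, mul_comm, zpow_mul, zpow_natCast, s.hd3, one_zpow]
  have h4 := Nat.dvd_gcd (orderOf_dvd_of_pow_eq_one h1) (orderOf_dvd_of_pow_eq_one h3)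
  have hg : Nat.gcd (2 ^ k) 3 = 1 := (Nat.Coprime.pow_left k (by norm_num))
  rw [hg, Nat.dvd_one] at h4
  exact orderOf_eq_one_iff.1 h4

theorem d_notMem : s.d ∉ T := fun h => s.d_ne_one (by
  have := s.zpow_mem_T (i := 1) (by rwa [zpow_one])
  rwa [zpow_one] at this)

include s in
theorem omega_eq : omegaCenterOf T = omegaCenterOf (thompsonSubgroupOf 2 T) :=
  omega_thompson_eq s.isPGroup s.hTZ

include s in
theorem Z_le : omegaCenterOf (thompsonSubgroupOf 2 T) ≤ T := (omega_le _).trans s.jT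

theorem Z_le_Q : omegaCenterOf (thompsonSubgroupOf 2 T) ≤ s.Q := fun z hz =>
  s.mem_Q_iff.2 ⟨s.Z_le hz, (s.hTZ _ (s.W_le s.pW) z hz).symm⟩

/-- `⟨K, T⟩`. -/
def P : Subgroup G := s.K ⊔ T

theorem T_le_P : T ≤ s.P := le_sup_right

theorem P_le : s.P ≤ s.L := sup_le s.hKL s.hT.1

theorem mem_P {y : G} (hy : y ∈ s.P) : ∃ i : ℤ, ∃ t ∈ T, y = s.d ^ i * t := by
  have h1 : y ∈ ((s.K ⊔ T : Subgroup G) : Set G) := hy
  rw [Subgroup.coe_mul_of_right_le_normalizer_left _ T s.hn] at h1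
  obtain ⟨k, hk, t, ht, rfl⟩ := h1
  obtain ⟨i, hi⟩ := s.hdec k hk
  exact ⟨i, (s.d ^ i)⁻¹ * k * t, mul_mem (s.core_le_T hi) ht, by group⟩

theorem sylow_P : IsSylowTwoIn T s.P :=
  ⟨le_sup_right, s.isPGroup, s.hT.2.2.of_dvd_nat
    ⟨_, (Subgroup.relIndex_mul_relIndex T s.P s.L le_sup_right s.P_le).symm⟩⟩

theorem relIndex_P : T.relIndex s.P = 3 := by
  have hle : Nat.card ↥s.P ≤ Nat.card (↥(zpowers s.d) × ↥T) := by
    refine Nat.card_le_card_of_surjective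
      (fun x => (⟨(x.1 : G) * x.2, mul_mem (mem_sup_left ((zpowers_le.2 s.hd) x.1.2)) (mem_sup_right x.2.2)⟩ :
        ↥s.P)) fun y => ?_
    obtain ⟨i, t, ht, he⟩ := s.mem_P y.2
    exact ⟨(⟨_, zpow_mem (mem_zpowers s.d) i⟩, ⟨t, ht⟩), Subtype.ext he.symm⟩
  rw [Nat.card_prod, Nat.card_zpowers, s.orderOf_d] at hle
  have hm : Nat.card ↥T * T.relIndex s.P = Nat.card ↥s.P := by
    rw [← Subgroup.relIndex_bot_left, Subgroup.relIndex_mul_relIndex _ _ _ bot_le s.T_le_P,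
      Subgroup.relIndex_bot_left]
  obtain ⟨r, hr⟩ := s.sylow_P.2.2
  have h1 : T.relIndex s.P ≠ 1 := fun e => s.d_notMem (Subgroup.relIndex_eq_one.1 e (mem_sup_left s.hd))
  have hpos : 0 < Nat.card ↥T := Nat.card_pos
  have : T.relIndex s.P ≤ 3 := by nlinarith
  omega

theorem P_le_normalizer_Q : s.P ≤ normalizer (s.Q : Set G) :=
  sup_le (s.K_le_closure.trans (sup_le (zpowers_le.2 s.d_mem_normalizer_Q)
    (s.core_le_T.trans s.T_le_normalizer_Q))) s.T_le_normalizer_Q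

theorem pCoreOf_P : pCoreOf 2 s.P = s.Q := by
  refine le_antisymm (fun t ht => ?_) (le_pCoreOf (s.Q_le.trans le_sup_right) (s.isPGroup.to_le s.Q_le)
    s.P_le_normalizer_Q)
  have htT : t ∈ T := pCoreOf_le_sylow s.sylow_P ht
  by_contra htQ
  obtain ⟨o, ho, he⟩ := s.conj_d htT htQ
  set x := t * s.d * t⁻¹ * s.d⁻¹ with hx
  have hxP : x ∈ pCoreOf 2 s.P := by
    have h1 := conj_mem_of_mem_normalizer (le_normalizer_pCoreOf 2 s.P (mem_sup_left s.hd)) (inv_mem ht)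
    rw [hx, show t * s.d * t⁻¹ * s.d⁻¹ = t * (s.d * t⁻¹ * s.d⁻¹) by group]
    exact mul_mem ht h1
  have hxK : x ∈ s.K := mul_mem (conj_mem_of_mem_normalizer (s.hn htT) s.hd) (inv_mem s.hd)
  have hxT : x ∈ T := pCoreOf_le_sylow s.sylow_P hxP
  apply s.d_notMem
  have hdo : s.d * o * s.d⁻¹ ∈ T :=
    s.core_le_T (conj_mem_of_mem_normalizer (le_normalizer_pCoreOf 2 s.K s.hd) ho)
  have : s.d = x * (s.d * o * s.d⁻¹)⁻¹ := by rw [hx, he]; group
  rw [this]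
  exact mul_mem hxT (inv_mem hdo)

theorem not_commutator_le : ¬ ⁅s.P, s.P⁆ ≤ pCoreOf 2 s.P := fun h => by
  have h1 : s.K ≤ ⁅s.P, s.P⁆ := by
    conv_lhs => rw [← s.hK.2.1]
    exact Subgroup.commutator_mono le_sup_left (s.jT.trans le_sup_right)
  rw [s.pCoreOf_P] at h
  exact s.d_notMem (s.Q_le (h (h1 s.hd)))

theorem pCoreOf_L_le : pCoreOf 2 s.L ≤ s.Q := by
  rw [← s.pCoreOf_P]
  exact le_pCoreOf ((pCoreOf_le_sylow s.hT).trans le_sup_right) (isPGroup_pCoreOf 2 s.L)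
    (s.P_le.trans (le_normalizer_pCoreOf 2 s.L))

theorem centralizer_core_le (hG : Amb G) :
    centralizer (pCoreOf 2 s.P : Set G) ≤ pCoreOf 2 s.P := by
  rw [s.pCoreOf_P]
  exact (Subgroup.centralizer_le (SetLike.coe_subset_coe.2 s.pCoreOf_L_le)).trans
    ((constrained_of_twoLocal hG s.hL.1).1.trans s.pCoreOf_L_le)

theorem omega_commutator_ne : ⁅omegaCenterOf T, s.P⁆ ≠ ⊥ := fun h => by
  refine s.hw1 (s.hfix _ s.hwW ?_)
  have h1 := Subgroup.commutator_mem_commutator (H₁ := omegaCenterOf T) (H₂ := s.P)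
    (s.omega_eq.symm ▸ s.hwZ) (mem_sup_left s.hd)
  rw [h, mem_bot, commutatorElement_eq_one_iff_mul_comm] at h1
  rw [← h1, mul_inv_cancel_right]

theorem relIndex_hyp : (hyp T s.K).relIndex (omegaCenterOf (thompsonSubgroupOf 2 T)) = 2 := by
  set Z := omegaCenterOf (thompsonSubgroupOf 2 T) with hZ
  have hwh : s.w ∉ hyp T s.K := notMem_hyp s.hwW s.hw1 s.hd s.hfix
  rw [Subgroup.relIndex, Subgroup.index_eq_two_iff]
  refine ⟨⟨s.w, s.hwZ⟩, fun b => ?_⟩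
  rw [mem_subgroupOf, mem_subgroupOf, Subgroup.coe_mul]
  rcases mem_hyp_cases s.isPGroup s.hK s.hwZ s.huw b.2 with h | h
  · refine Or.inr ⟨h, fun h' => hwh ?_⟩
    simpa using mul_mem (inv_mem h) h'
  · refine Or.inl ⟨h, fun h' => hwh ?_⟩
    simpa using mul_mem (inv_mem h') h

theorem card_hyp_le : Nat.card ↥(hyp T s.K) ≤ 2 := by
  by_cases h : ∃ c ∈ hyp T s.K, c ≠ 1
  · obtain ⟨c, hc, hc1⟩ := h
    have hle : hyp T s.K ≤ zpowers c := fun x hx => by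
      by_cases hx1 : x = 1
      · rw [hx1]; exact one_mem _
      · rw [s.hsm x hx hx1 c hc hc1]; exact mem_zpowers c
    refine (Subgroup.card_le_of_le hle).trans ?_
    rw [Nat.card_zpowers]
    exact Nat.le_of_dvd two_pos (orderOf_dvd_of_pow_eq_one (by rw [pow_two, omega_sq hc.1]))
  · push Not at h
    rw [(Subgroup.eq_bot_iff_forall _).2 h, Subgroup.card_bot]
    omega

end Side

namespace SidePair

variable (e : SidePair T)

/-- The two four-groups do not commute. -/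
def Cross : Prop := e.s₁.p * e.s₂.p ≠ e.s₂.p * e.s₁.p

variable {e}

theorem Cross.flip (h : e.Cross) : e.symm.Cross := Ne.symm h

theorem Cross.p_notMem (h : e.Cross) : e.s₂.p ∉ e.s₁.Q := fun hp => h (e.s₁.mem_Q_iff.1 hp).2.symm

theorem Cross.w_eq (h : e.Cross) : e.s₁.w = e.s₂.w := by
  have h1 := e.s₂.move (e.s₁.W_le e.s₁.pW) h.flip.p_notMem
  have h2 := e.s₁.move (e.s₂.W_le e.s₂.pW) h.p_notMem
  rw [mul_inv_eq_iff_eq_mul] at h1 h2
  have h3 : 1 * (e.s₁.p * e.s₂.p) = e.s₂.w * e.s₁.w * (e.s₁.p * e.s₂.p) := by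
    calc 1 * (e.s₁.p * e.s₂.p) = e.s₁.p * e.s₂.p := one_mul _
      _ = e.s₂.w * (e.s₂.p * e.s₁.p) := by rw [h1, Side.q, mul_assoc]
      _ = _ := by rw [h2, Side.q]; simp only [mul_assoc]
  have h4 := (mul_right_cancel h3).symm
  rw [mem_of_mul_eq (e.s₁.hWsq e.s₁.hwW) h4, one_mul]

theorem Cross.mem_Q_or (h : e.Cross) {t : G} (ht : t ∈ T) : t ∈ e.s₁.Q ∨ t * e.s₂.p ∈ e.s₁.Q := by
  by_cases h1 : t ∈ e.s₁.Q
  · exact Or.inl h1
  · exact Or.inr (e.s₁.mul_mem_Q ht h1 (e.s₂.W_le e.s₂.pW) h.p_notMem)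

theorem p_mem_self (e : SidePair T) : e.s₁.p ∈ e.s₁.Q := e.s₁.mem_Q_iff.2 ⟨e.s₁.W_le e.s₁.pW, rfl⟩

theorem Cross.Q_or (h : e.Cross) {t : G} (ht : t ∈ e.s₁.Q) : t ∈ e.D ∨ t * e.s₁.p ∈ e.D := by
  rcases h.flip.mem_Q_or ht.1 with h1 | h1
  · exact Or.inl ⟨ht, h1⟩
  · exact Or.inr ⟨mul_mem ht (p_mem_self e), h1⟩

theorem Cross.d_mem_normalizer_sq (h : e.Cross) : e.s₁.d ∈ normalizer (sqGen e.D : Set G) := by
  have hsq : sqGen e.D = sqGen e.s₁.Q := by
    refine le_antisymm (closure_mono (Set.image_mono fun x hx => hx.1)) ((Subgroup.closure_le _).2 ?_)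
    rintro _ ⟨x, hx, rfl⟩
    rcases h.Q_or hx with h1 | h1
    · exact subset_closure ⟨x, h1, rfl⟩
    · refine subset_closure ⟨x * e.s₁.p, h1, ?_⟩
      have hc := (e.s₁.mem_Q_iff.1 hx).2
      show x * e.s₁.p * (x * e.s₁.p) = x * x
      calc x * e.s₁.p * (x * e.s₁.p) = x * (e.s₁.p * x) * e.s₁.p := by group
        _ = x * x * (e.s₁.p * e.s₁.p) := by rw [← hc]; group
        _ = _ := by rw [e.s₁.hWsq e.s₁.pW, mul_one]
  rw [hsq]
  refine mem_normalizer_of_conj_le (le_of_eq ?_)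
  rw [sqGen_map, map_conj_of_mem_normalizer e.s₁.d_mem_normalizer_Q]

theorem Cross.D_eq (h : e.Cross) : e.D = omegaCenterOf (thompsonSubgroupOf 2 T) := by
  have hbot : sqGen e.D = ⊥ := by
    refine e.eq_bot_of_invariant ?_ ?_ h.d_mem_normalizer_sq ?_
    · refine (Subgroup.closure_le _).2 ?_
      rintro _ ⟨x, hx, rfl⟩
      exact mul_mem hx.1.1 hx.1.1
    · exact fun t ht => mem_normalizer_of_conj_le (le_of_eq (by
        rw [sqGen_map, map_conj_of_mem_normalizer (e.T_le_normalizer_D ht)]))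
    · rw [← e.D_symm]; exact h.flip.d_mem_normalizer_sq
  have hsq : ∀ x ∈ e.D, x * x = 1 := fun x hx =>
    mem_bot.1 (hbot ▸ subset_closure ⟨x, hx, rfl⟩)
  refine le_antisymm (fun x hx => ?_) fun z hz => ⟨e.s₁.Z_le_Q hz, e.s₂.Z_le_Q hz⟩
  rw [← e.s₁.omega_eq]
  refine mem_omega hx.1.1 (fun t ht => ?_) (hsq x hx)
  have hT : T ≤ centralizer ({x} : Set G) := by
    have hD : e.D ≤ centralizer ({x} : Set G) := fun y hy => mem_centralizer_singleton_iff.2 <| by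
      calc y * x = (x * x) * (y * x) * (y * y) := by rw [hsq x hx, hsq y hy, one_mul, mul_one]
        _ = x * ((x * y) * (x * y)) * y := by group
        _ = x * y := by rw [hsq _ (mul_mem hx hy), mul_one]
    have hp₁ : e.s₁.p ∈ centralizer ({x} : Set G) :=
      mem_centralizer_singleton_iff.2 (e.s₁.mem_Q_iff.1 hx.1).2.symm
    have hp₂ : e.s₂.p ∈ centralizer ({x} : Set G) :=
      mem_centralizer_singleton_iff.2 (e.s₂.mem_Q_iff.1 hx.2).2.symm
    have hQ : ∀ y ∈ e.s₁.Q, y ∈ centralizer ({x} : Set G) := by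
      intro y hy
      rcases h.Q_or hy with h1 | h1
      · exact hD h1
      · simpa using mul_mem (hD h1) (inv_mem hp₁)
    intro y hy
    rcases h.mem_Q_or hy with h1 | h1
    · exact hQ y h1
    · simpa using mul_mem (hQ _ h1) (inv_mem hp₂)
  exact mem_centralizer_singleton_iff.1 (hT ht)

theorem Cross.Q_decomp (h : e.Cross) {x : G} (hx : x ∈ e.s₁.Q) :
    ∃ i ∈ hyp T e.s₁.K, ∃ v ∈ wOf e.s₁.K, x = i * v := by
  have key : ∀ z ∈ omegaCenterOf (thompsonSubgroupOf 2 T), ∀ u ∈ wOf e.s₁.K,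
      ∃ i ∈ hyp T e.s₁.K, ∃ v ∈ wOf e.s₁.K, z * u = i * v := by
    intro z hz u hu
    rcases mem_hyp_cases e.s₁.isPGroup e.s₁.hK e.s₁.hwZ e.s₁.huw hz with h1 | h1
    · exact ⟨z, h1, u, hu, rfl⟩
    · exact ⟨_, h1, e.s₁.w * u, mul_mem e.s₁.hwW hu, by
        rw [← mul_assoc, mul_assoc z, e.s₁.hWsq e.s₁.hwW, mul_one]⟩
  rcases h.Q_or hx with h1 | h1
  · simpa using key x (h.D_eq ▸ h1) 1 (one_mem _)
  · obtain ⟨i, hi, v, hv, he⟩ := key _ (h.D_eq ▸ h1) _ e.s₁.pW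
    exact ⟨i, hi, v, hv, by rw [← he, mul_assoc, e.s₁.hWsq e.s₁.pW, mul_one]⟩

theorem Cross.Q_comm (h : e.Cross) {x y : G} (hx : x ∈ e.s₁.Q) (hy : y ∈ e.s₁.Q) : x * y = y * x := by
  obtain ⟨i, hi, v, hv, rfl⟩ := h.Q_decomp hx
  have h1 := e.s₁.hTZ y hy.1 i hi.1
  have h2 := mem_centralizer_iff.1 hy.2 v hv
  calc i * v * y = i * (v * y) := mul_assoc _ _ _
    _ = (i * y) * v := by rw [h2, mul_assoc]
    _ = y * (i * v) := by rw [← h1, mul_assoc]

theorem Cross.Q_sq (h : e.Cross) {x : G} (hx : x ∈ e.s₁.Q) : x * x = 1 := by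
  obtain ⟨i, hi, v, hv, rfl⟩ := h.Q_decomp hx
  have h1 := e.s₁.hTZ v (e.s₁.W_le hv) i hi.1
  calc i * v * (i * v) = i * (v * i) * v := by group
    _ = i * i * (v * v) := by rw [h1]; group
    _ = 1 := by rw [omega_sq hi.1, e.s₁.hWsq hv, mul_one]

theorem Cross.mem_hyp_of_d (h : e.Cross) {t : G} (ht : t ∈ T) (hc : e.s₁.d * t = t * e.s₁.d) :
    t ∈ hyp T e.s₁.K := by
  have htQ : t ∈ e.s₁.Q := by
    by_contra htQ
    obtain ⟨o, ho, he⟩ := e.s₁.conj_d ht htQ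
    apply e.s₁.d_notMem
    have h1 : e.s₁.d = e.s₁.d * e.s₁.d * o := by rw [← he, ← hc, mul_inv_cancel_right]
    have h2 : e.s₁.d * o = 1 := by
      refine mul_left_cancel (a := e.s₁.d) ?_
      rw [← mul_assoc, ← h1, mul_one]
    rw [eq_inv_of_mul_eq_one_left h2]
    exact inv_mem (e.s₁.core_le_T ho)
  obtain ⟨i, hi, v, hv, rfl⟩ := h.Q_decomp htQ
  have hv1 : v = 1 := by
    refine e.s₁.hfix v hv ?_
    have hid := (mem_hyp_iff.1 hi).2 _ e.s₁.hd
    have h1 : i * (e.s₁.d * v) = i * (v * e.s₁.d) := by rw [← mul_assoc, ← hid, mul_assoc, hc, mul_assoc]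
    rw [mul_left_cancel h1, mul_inv_cancel_right]
  rw [hv1, mul_one]; exact hi

theorem Cross.relIndex_Q (h : e.Cross) : e.s₁.Q.relIndex T = 2 := by
  rw [Subgroup.relIndex, Subgroup.index_eq_two_iff]
  refine ⟨⟨e.s₂.p, e.s₂.W_le e.s₂.pW⟩, fun b => ?_⟩
  rw [mem_subgroupOf, mem_subgroupOf, Subgroup.coe_mul]
  rcases h.mem_Q_or b.2 with h1 | h1
  · refine Or.inr ⟨h1, fun h2 => h.p_notMem ?_⟩
    simpa using mul_mem (inv_mem h1) h2
  · refine Or.inl ⟨h1, fun h2 => h.p_notMem ?_⟩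
    simpa using mul_mem (inv_mem h2) h1

theorem Cross.relIndex_D (h : e.Cross) : e.D.relIndex e.s₁.Q = 2 := by
  rw [Subgroup.relIndex, Subgroup.index_eq_two_iff]
  refine ⟨⟨e.s₁.p, p_mem_self e⟩, fun b => ?_⟩
  rw [mem_subgroupOf, mem_subgroupOf, Subgroup.coe_mul]
  have hpD : e.s₁.p ∉ e.D := fun hp => h.flip.p_notMem hp.2
  rcases h.Q_or b.2 with h1 | h1
  · refine Or.inr ⟨h1, fun h2 => hpD ?_⟩
    simpa using mul_mem (inv_mem h1) h2
  · refine Or.inl ⟨h1, fun h2 => hpD ?_⟩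
    simpa using mul_mem (inv_mem h2) h1

theorem Cross.relIndex_core (h : e.Cross) : (pCoreOf 2 e.s₁.P).relIndex e.s₁.P = 6 := by
  rw [e.s₁.pCoreOf_P, ← Subgroup.relIndex_mul_relIndex _ T _ e.s₁.Q_le e.s₁.T_le_P, h.relIndex_Q,
    e.s₁.relIndex_P]

theorem Cross.card_T (h : e.Cross) :
    Nat.card ↥T = 4 * Nat.card ↥(omegaCenterOf (thompsonSubgroupOf 2 T)) := by
  rw [← h.D_eq]
  have h1 := Subgroup.relIndex_mul_relIndex ⊥ e.D e.s₁.Q bot_le inf_le_left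
  have h2 := Subgroup.relIndex_mul_relIndex ⊥ e.s₁.Q T bot_le e.s₁.Q_le
  rw [Subgroup.relIndex_bot_left, Subgroup.relIndex_bot_left] at h1 h2
  rw [h.relIndex_D] at h1
  rw [h.relIndex_Q] at h2
  omega

theorem Cross.L_eq (h : e.Cross) (hG : Amb G) : e.s₁.L = e.s₁.P := by
  set s := e.s₁ with hs
  have hC := constrained_of_twoLocal hG s.hL.1
  have hOe : pCoreOf 2 s.L = s.Q := le_antisymm s.pCoreOf_L_le fun x hx =>
    hC.1 (mem_centralizer_iff.2 fun y hy => h.Q_comm (s.pCoreOf_L_le hy) hx)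
  have hcomp : ∀ X, IsJComponent T X → X ≤ s.L → X = s.K := by
    intro X hX hXL
    by_contra hne
    have h2 := (hG.components_commute hC s.hT hX s.hK hXL s.hKL hne).2.1
    have h3 := (hG.components_commute hC s.hT s.hK hX s.hKL hXL (Ne.symm hne)).2.1
    have hWT : wOf X ≤ T := (component_omega s.isPGroup hX).2.1.trans s.jT
    have hWh : wOf X ≤ hyp T s.K := fun x hx =>
      h.mem_hyp_of_d (hWT hx) (by
        first
          | exact (mem_centralizer_iff.1 (h3 s.hd) x hx).symm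
          | exact (mem_centralizer_iff.1 (h2 s.hd) x hx).symm)
    have h5 := (Subgroup.card_le_of_le hWh).trans s.card_hyp_le
    rw [hX.2.2.2.2.1] at h5
    omega
  refine le_antisymm (hG.le_of_components hC s.hT ?_ fun X hX hXL => hcomp X hX hXL ▸ le_sup_left) s.P_le
  rintro n ⟨hnL, hnJ⟩
  have hnK : n ∈ normalizer (s.K : Set G) := by
    refine mem_normalizer_of_conj_le (le_of_eq (hcomp _ (isJComponent_of_conj_thompson s.hK hnJ) ?_))
    rintro _ ⟨k, hk, rfl⟩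
    exact mul_mem (mul_mem hnL (s.hKL hk)) (inv_mem hnL)
  have hnW := normalizer_le_normalizer_wOf _ hnK
  have hnw : n * s.w * n⁻¹ = s.w := (s.huw _ (conj_mem_omega hnJ s.hwZ)
    (conj_mem_of_mem_normalizer hnW s.hwW)).resolve_left fun e' => s.hw1 (conj_eq_one_iff.1 e')
  have hnh : ∀ i ∈ hyp T s.K, n * i * n⁻¹ = i := by
    intro i hi
    by_cases hi1 : i = 1
    · rw [hi1, mul_one, mul_inv_cancel]
    refine s.hsm _ (mem_hyp_iff.2 ⟨conj_mem_omega hnJ hi.1, fun k hk => ?_⟩)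
      (fun e' => hi1 (conj_eq_one_iff.1 e')) i hi hi1
    have := (mem_hyp_iff.1 hi).2 _ ((Subgroup.mem_normalizer_iff''.1 hnK k).1 hk)
    calc k * (n * i * n⁻¹) = n * ((n⁻¹ * k * n) * i) * n⁻¹ := by group
      _ = n * (i * (n⁻¹ * k * n)) * n⁻¹ := by rw [this]
      _ = _ := by group
  have hfin : ∀ m, m * s.p * m⁻¹ = s.p → m * s.w * m⁻¹ = s.w →
      (∀ i ∈ hyp T s.K, m * i * m⁻¹ = i) → m ∈ T := by
    intro m hp hw hh
    refine s.Q_le (hOe ▸ hC.1 (mem_centralizer_iff.2 fun y hy => ?_))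
    obtain ⟨i, hi, v, hv, rfl⟩ := h.Q_decomp (hOe ▸ hy)
    have hv' : m * v * m⁻¹ = v := by
      rcases s.cases hv with rfl | rfl | rfl | rfl
      · group
      · exact hw
      · exact hp
      · show m * (s.w * s.p) * m⁻¹ = s.w * s.p
        calc m * (s.w * s.p) * m⁻¹ = (m * s.w * m⁻¹) * (m * s.p * m⁻¹) := by group
          _ = _ := by rw [hw, hp]
    have e1 : m * (i * v) * m⁻¹ = i * v := by
      calc m * (i * v) * m⁻¹ = (m * i * m⁻¹) * (m * v * m⁻¹) := by group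
        _ = _ := by rw [hh i hi, hv']
    exact (mul_inv_eq_iff_eq_mul.1 e1).symm
  rcases s.cases (conj_mem_of_mem_normalizer hnW s.pW) with e' | e' | e' | e'
  · exact absurd (conj_eq_one_iff.1 e') s.cycle.2.2.2.1
  · exfalso
    apply s.cycle.2.2.2.2
    calc s.w = n⁻¹ * (n * s.w * n⁻¹) * n := by group
      _ = n⁻¹ * (n * s.p * n⁻¹) * n := by rw [hnw, e']
      _ = s.p := by group
  · exact mem_sup_right (hfin n e' hnw hnh)
  · set t := e.s₂.p with ht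
    have htT : t ∈ T := e.s₂.W_le e.s₂.pW
    have h1 : t * n ∈ T := by
      refine hfin _ ?_ ?_ fun i hi => ?_
      · rw [show t * n * s.p * (t * n)⁻¹ = t * (n * s.p * n⁻¹) * t⁻¹ by group, e']
        exact s.move_q htT h.p_notMem
      · rw [show t * n * s.w * (t * n)⁻¹ = t * (n * s.w * n⁻¹) * t⁻¹ by group, hnw,
          s.w_comm htT, mul_inv_cancel_right]
      · rw [show t * n * i * (t * n)⁻¹ = t * (n * i * n⁻¹) * t⁻¹ by group, hnh i hi,
          s.hTZ t htT i hi.1, mul_inv_cancel_right]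
    have := mul_mem (inv_mem htT) h1
    rw [inv_mul_cancel_left] at this
    exact mem_sup_right this

/-- The complement of the centraliser of the component in the centre. -/
def H (e : SidePair T) : Subgroup G := e.s₁.K ⊔ zpowers e.s₂.p

theorem Cross.K_le (h : e.Cross) : e.s₁.K ≤ wOf e.s₁.K ⊔ zpowers e.s₁.d := by
  conv_lhs => rw [← e.s₁.hK.1]
  refine (Subgroup.closure_le _).2 fun y ⟨hy, hodd⟩ => ?_
  obtain ⟨j, hj⟩ := e.s₁.hdec y hy
  obtain ⟨i, hi, v, hv, he⟩ := h.Q_decomp (e.s₁.core_le_Q hj)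
  set S := wOf e.s₁.K ⊔ zpowers e.s₁.d with hS
  set b := e.s₁.d ^ j * v with hb
  have hbS : b ∈ S := mul_mem (mem_sup_right (zpow_mem (mem_zpowers _) j)) (mem_sup_left hv)
  have hdi : Commute (e.s₁.d ^ j) i := Commute.zpow_left ((mem_hyp_iff.1 hi).2 _ e.s₁.hd) j
  have hib : Commute i b := Commute.mul_right hdi.symm (e.s₁.hTZ v (e.s₁.W_le hv) i hi.1).symm
  have hy' : y = i * b := by
    calc y = e.s₁.d ^ j * ((e.s₁.d ^ j)⁻¹ * y) := by group
      _ = e.s₁.d ^ j * i * v := by rw [he, mul_assoc]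
      _ = i * b := by rw [hdi.eq, hb, mul_assoc]
  have h1 : y ^ orderOf y = 1 := pow_orderOf_eq_one y
  obtain ⟨m, hm⟩ := hodd
  rw [hm, hy', hib.mul_pow, pow_succ, pow_mul, pow_two, omega_sq hi.1, one_pow, one_mul] at h1
  show y ∈ S
  rw [hy', eq_inv_of_mul_eq_one_left h1]
  exact mul_mem (inv_mem (pow_mem hbS _)) hbS

theorem Cross.K_mul (h : e.Cross) {y : G} (hy : y ∈ e.s₁.K) :
    ∃ v ∈ wOf e.s₁.K, ∃ j : ℤ, y = v * e.s₁.d ^ j := by
  have h1 : y ∈ ((wOf e.s₁.K ⊔ zpowers e.s₁.d : Subgroup G) : Set G) := h.K_le hy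
  rw [Subgroup.coe_mul_of_right_le_normalizer_left _ _ (zpowers_le.2 e.s₁.d_mem_normalizer)] at h1
  obtain ⟨v, hv, u, hu, rfl⟩ := h1
  obtain ⟨j, rfl⟩ := mem_zpowers_iff.1 hu
  exact ⟨v, hv, j, rfl⟩

theorem Cross.card_K (h : e.Cross) : Nat.card ↥e.s₁.K ≤ 12 := by
  have hle : Nat.card ↥e.s₁.K ≤ Nat.card (↥(wOf e.s₁.K) × ↥(zpowers e.s₁.d)) := by
    refine Nat.card_le_card_of_surjective
      (fun x => (⟨(x.1 : G) * x.2, mul_mem ((wOf_le_pCoreOf e.s₁.hK).1.trans (pCoreOf_le 2 _) x.1.2)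
        ((zpowers_le.2 e.s₁.hd) x.2.2)⟩ : ↥e.s₁.K)) fun y => ?_
    obtain ⟨v, hv, j, he⟩ := h.K_mul y.2
    exact ⟨(⟨v, hv⟩, ⟨_, zpow_mem (mem_zpowers _) j⟩), Subtype.ext he.symm⟩
  rwa [Nat.card_prod, e.s₁.hW4, Nat.card_zpowers, e.s₁.orderOf_d] at hle

theorem H_mem (e : SidePair T) {y : G} (hy : y ∈ e.H) :
    y ∈ e.s₁.K ∨ ∃ k ∈ e.s₁.K, y = k * e.s₂.p := by
  have h1 : y ∈ ((e.s₁.K ⊔ zpowers e.s₂.p : Subgroup G) : Set G) := hy
  rw [Subgroup.coe_mul_of_right_le_normalizer_left _ _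
    (zpowers_le.2 (e.s₁.hn (e.s₂.W_le e.s₂.pW)))] at h1
  obtain ⟨k, hk, u, hu, rfl⟩ := h1
  rcases mem_zpowers_sq (e.s₂.hWsq e.s₂.pW) hu with rfl | rfl
  · left
    simpa using hk
  · exact Or.inr ⟨k, hk, rfl⟩

theorem Cross.hyp_inf_H (h : e.Cross) {i : G} (hi : i ∈ hyp T e.s₁.K) (hiH : i ∈ e.H) : i = 1 := by
  set s := e.s₁ with hs
  have hKT : ∀ k ∈ s.K, k ∈ T → k ∈ wOf s.K := by
    intro k hk hkT
    obtain ⟨v, hv, j, rfl⟩ := h.K_mul hk
    have h1 : s.d ^ j ∈ T := by simpa using mul_mem (inv_mem (s.W_le hv)) hkT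
    rw [s.zpow_mem_T h1, mul_one]; exact hv
  have hiT : i ∈ T := s.Z_le hi.1
  rcases e.H_mem hiH with h1 | ⟨k, hk, hk'⟩
  · refine s.hfix i (hKT i h1 hiT) ?_
    rw [(mem_hyp_iff.1 hi).2 _ s.hd, mul_inv_cancel_right]
  · exfalso
    have hp := e.s₂.W_le e.s₂.pW
    have hkT : k ∈ T := by
      have : k = i * e.s₂.p⁻¹ := by rw [hk']; group
      rw [this]; exact mul_mem hiT (inv_mem hp)
    have hkQ : k ∈ s.Q := ⟨hkT, mem_centralizer_iff.2 fun x hx => s.W_comm hx (hKT k hk hkT)⟩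
    refine h.p_notMem ?_
    have : e.s₂.p = k⁻¹ * i := by rw [hk']; group
    rw [this]
    exact mul_mem (inv_mem hkQ) (s.Z_le_Q hi.1)

theorem Cross.H_le (_h : e.Cross) : e.H ≤ e.s₁.P :=
  sup_le le_sup_left (zpowers_le.2 (mem_sup_right (e.s₂.W_le e.s₂.pW)))

theorem Cross.P_le_sup (h : e.Cross) : e.s₁.P ≤ e.H ⊔ hyp T e.s₁.K := by
  have hW : wOf e.s₁.K ≤ e.H := ((wOf_le_pCoreOf e.s₁.hK).1.trans (pCoreOf_le 2 _)).trans le_sup_left
  refine sup_le (le_sup_left.trans le_sup_left) fun t ht => ?_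
  have hQ : ∀ y ∈ e.s₁.Q, y ∈ e.H ⊔ hyp T e.s₁.K := by
    intro y hy
    obtain ⟨i, hi, v, hv, rfl⟩ := h.Q_decomp hy
    exact mul_mem (mem_sup_right hi) (mem_sup_left (hW hv))
  rcases h.mem_Q_or ht with h1 | h1
  · exact hQ t h1
  · simpa using mul_mem (hQ _ h1) (inv_mem (mem_sup_left (T := hyp T e.s₁.K)
      (mem_sup_right (S := e.s₁.K) (mem_zpowers e.s₂.p))))

/-- The coordinates on `⟨K, T⟩`. -/
def coord (e : SidePair T) : ↥e.H × ↥(hyp T e.s₁.K) →* G :=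
  MonoidHom.noncommCoprod e.H.subtype (hyp T e.s₁.K).subtype fun a i => by
    have hle : e.H ≤ centralizer ({(i : G)} : Set G) :=
      sup_le (fun k hk => mem_centralizer_singleton_iff.2 ((mem_hyp_iff.1 i.2).2 k hk))
        (zpowers_le.2 (mem_centralizer_singleton_iff.2 (e.s₁.hTZ _ (e.s₂.W_le e.s₂.pW) _ i.2.1)))
    exact mem_centralizer_singleton_iff.1 (hle a.2)

theorem Cross.coord_injective (h : e.Cross) : Function.Injective e.coord := by
  refine (injective_iff_map_eq_one _).2 fun x hx => ?_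
  have hx' : (x.1 : G) * x.2 = 1 := hx
  have h1 : (x.2 : G) = (x.1 : G)⁻¹ := eq_inv_of_mul_eq_one_right hx'
  have h2 : (x.2 : G) = 1 := h.hyp_inf_H x.2.2 (h1 ▸ inv_mem x.1.2)
  rw [h2, mul_one] at hx'
  exact Prod.ext (Subtype.ext hx') (Subtype.ext h2)

theorem Cross.coord_range (h : e.Cross) : e.coord.range = e.s₁.P := by
  refine le_antisymm ?_ (h.P_le_sup.trans (sup_le ?_ ?_))
  · rintro _ ⟨x, rfl⟩
    exact mul_mem (h.H_le x.1.2) (mem_sup_right (e.s₁.Z_le x.2.2.1))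
  · exact fun a ha => ⟨(⟨a, ha⟩, 1), show a * 1 = a from mul_one a⟩
  · exact fun a ha => ⟨(1, ⟨a, ha⟩), show 1 * a = a from one_mul a⟩

theorem Cross.card_H (h : e.Cross) : Nat.card ↥e.H = 24 := by
  have h1 : Nat.card ↥e.H ≤ 24 := by
    have hle : Nat.card ↥e.H ≤ Nat.card (↥e.s₁.K × ↥(zpowers e.s₂.p)) := by
      refine Nat.card_le_card_of_surjective
        (fun x => (⟨(x.1 : G) * x.2, mul_mem (mem_sup_left x.1.2) (mem_sup_right x.2.2)⟩ : ↥e.H)) fun y => ?_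
      rcases e.H_mem y.2 with h1 | ⟨k, hk, he⟩
      · exact ⟨(⟨y, h1⟩, 1), Subtype.ext (mul_one _)⟩
      · exact ⟨(⟨k, hk⟩, ⟨_, mem_zpowers _⟩), Subtype.ext he.symm⟩
    rw [Nat.card_prod, Nat.card_zpowers] at hle
    have h2 : orderOf e.s₂.p ≤ 2 :=
      Nat.le_of_dvd two_pos (orderOf_dvd_of_pow_eq_one (by rw [pow_two, e.s₂.hWsq e.s₂.pW]))
    calc Nat.card ↥e.H ≤ _ := hle
      _ ≤ 12 * 2 := Nat.mul_le_mul h.card_K h2
  have h2 : Nat.card ↥e.s₁.P = Nat.card ↥e.H * Nat.card ↥(hyp T e.s₁.K) := by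
    rw [← h.coord_range, ← Nat.card_congr (MonoidHom.ofInjective h.coord_injective).toEquiv, Nat.card_prod]
  have h3 := Subgroup.relIndex_mul_relIndex ⊥ T e.s₁.P bot_le e.s₁.T_le_P
  have h4 := Subgroup.relIndex_mul_relIndex ⊥ (hyp T e.s₁.K) _ bot_le (hyp_le (T := T) (K := e.s₁.K))
  rw [Subgroup.relIndex_bot_left, Subgroup.relIndex_bot_left] at h3 h4
  rw [e.s₁.relIndex_P, h.card_T] at h3
  rw [e.s₁.relIndex_hyp] at h4
  have hpos : 0 < Nat.card ↥(hyp T e.s₁.K) := Nat.card_pos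
  rw [← h4, h2] at h3
  nlinarith

theorem Cross.H_sym (h : e.Cross) : Nonempty (↥e.H ≃* Equiv.Perm (Fin 4)) := by
  haveI : Fact (Nat.Prime 3) := ⟨Nat.prime_three⟩
  refine CfsgLib.Classical.Dickson.sym_four_of h.card_H fun a b ha hb hab => ?_
  set d' : ↥e.H := ⟨e.s₁.d, mem_sup_left e.s₁.hd⟩ with hd'
  have hd'3 : orderOf d' = 3 := by rw [← Subgroup.orderOf_coe]; exact e.s₁.orderOf_d
  have hcard : ∀ x : ↥e.H, orderOf x = 3 →
      Nat.card ↥(zpowers x) = 3 ^ (Nat.card ↥e.H).factorization 3 := by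
    intro x hx
    rw [Nat.card_zpowers, hx, h.card_H]
    have : (24 : ℕ).factorization 3 = 1 := by
      rw [show (24 : ℕ) = 2 ^ 3 * 3 by norm_num, Nat.factorization_mul (by norm_num) (by norm_num),
        Nat.prime_two.factorization_pow, Nat.prime_three.factorization]
      simp
    rw [this, pow_one]
  obtain ⟨y, hy⟩ := MulAction.exists_smul_eq ↥e.H
    (Sylow.ofCard (zpowers b) (hcard b hb)) (Sylow.ofCard (zpowers d') (hcard d' hd'3))
  set a' := y * a * y⁻¹ with ha'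
  set b' := y * b * y⁻¹ with hb'
  have hb'm : d' ∈ zpowers b' := by
    have he : (zpowers b).map (MulAut.conj y).toMonoidHom = zpowers d' := by
      have := congrArg (fun P : Sylow 3 ↥e.H => (P : Subgroup ↥e.H)) hy
      simpa [Sylow.coe_subgroup_smul, CfsgLib.Solvable.conj_smul_eq_map] using this
    rw [MonoidHom.map_zpowers] at he
    exact he.ge (mem_zpowers d')
  have hcomm : Commute a' d' := by
    obtain ⟨j, hj⟩ := mem_zpowers_iff.1 hb'm
    rw [← hj]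
    refine Commute.zpow_right ?_ j
    show a' * b' = b' * a'
    have hab' : a * b = b * a := hab
    calc a' * b' = y * (a * b) * y⁻¹ := by rw [ha', hb']; group
      _ = y * (b * a) * y⁻¹ := by rw [hab']
      _ = _ := by rw [ha', hb']; group
  have hcomm' : Commute (a' : G) e.s₁.d := congrArg Subtype.val hcomm.eq
  obtain ⟨j, t, ht, he⟩ := e.s₁.mem_P (h.H_le a'.2)
  have ht' : t = (e.s₁.d ^ j)⁻¹ * a' := by rw [he]; group
  have htH : t ∈ e.H := ht' ▸ mul_mem (inv_mem (zpow_mem (mem_sup_left e.s₁.hd) j)) a'.2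
  have htd : e.s₁.d * t = t * e.s₁.d := by
    rw [ht']
    exact ((((Commute.refl e.s₁.d).zpow_right j).inv_right).mul_right hcomm'.symm).eq
  rw [h.hyp_inf_H (h.mem_hyp_of_d ht htd) htH, mul_one] at he
  have ha2 : orderOf (a' : G) = 2 := by
    rw [Subgroup.orderOf_coe, ← ha, ha']
    exact CfsgLib.Invol.orderOf_conj_eq y a
  have h3 : (a' : G) ^ 3 = 1 := by
    rw [he, ← zpow_natCast, ← zpow_mul, mul_comm, zpow_mul, zpow_natCast, e.s₁.hd3, one_zpow]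
  have := orderOf_dvd_of_pow_eq_one h3
  rw [ha2] at this
  omega

theorem Cross.L_iso (h : e.Cross) (hG : Amb G) :
    (Nat.card ↥(hyp T e.s₁.K) = 1 → Nonempty (↥e.s₁.L ≃* Equiv.Perm (Fin 4))) ∧
      (Nat.card ↥(hyp T e.s₁.K) = 2 →
        Nonempty (↥e.s₁.L ≃* Equiv.Perm (Fin 4) × Multiplicative (ZMod 2))) := by
  obtain ⟨f⟩ := h.H_sym
  have g : ↥e.s₁.L ≃* ↥e.H × ↥(hyp T e.s₁.K) :=
    ((MonoidHom.ofInjective h.coord_injective).trans
      (MulEquiv.subgroupCongr (h.coord_range.trans (h.L_eq hG).symm))).symm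
  constructor
  · intro h1
    haveI : Subsingleton ↥(hyp T e.s₁.K) := (Nat.card_eq_one_iff_unique.1 h1).1
    haveI : Unique ↥(hyp T e.s₁.K) := uniqueOfSubsingleton 1
    exact ⟨(g.trans MulEquiv.prodUnique).trans f⟩
  · intro h2
    haveI : Fact (Nat.Prime 2) := ⟨Nat.prime_two⟩
    exact ⟨g.trans (MulEquiv.prodCongr f
      (mulEquivOfPrimeCardEq (p := 2) h2 (by rw [Nat.card_eq_fintype_card, Fintype.card_multiplicative, ZMod.card])))⟩

end SidePair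

end CfsgLib.LocalEven.JComp
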