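import Cfsg.Agent.Lib.LocalEven.JPairMoved

/-!
Squares of `Q₁ ∩ Q₂`: neighbouring four-groups over one side commute.
-/

set_option autoImplicit false

namespace CfsgLib.LocalEven.JComp

open Subgroup CfsgLib.LocalEven Cfsg
open scoped commutatorElement

variable {G : Type*} [Group G] [Finite G]

/-- The subgroup generated by the squares of elements of `D`. -/
def sqGen (D : Subgroup G) : Subgroup G := closure ((fun x => x * x) '' (D : Set G))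

omit [Finite G] in
theorem sqGen_map (D : Subgroup G) (g : G) :
    (sqGen D).map (MulAut.conj g).toMonoidHom = sqGen (D.map (MulAut.conj g).toMonoidHom) := by
  rw [sqGen, sqGen, MonoidHom.map_closure]
  congr 1
  ext y
  constructor
  · rintro ⟨_, ⟨x, hx, rfl⟩, rfl⟩
    exact ⟨_, ⟨x, hx, rfl⟩, (map_mul _ x x).symm⟩
  · rintro ⟨_, ⟨x, hx, rfl⟩, rfl⟩
    exact ⟨x * x, ⟨x, hx, rfl⟩, map_mul _ x x⟩

variable {T : Subgroup G}

namespace SidePair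

variable (e : SidePair T)

/-- `Q₁ ∩ Q₂`. -/
def D : Subgroup G := e.s₁.Q ⊓ e.s₂.Q

theorem D_symm : e.symm.D = e.D := inf_comm _ _

theorem T_le_normalizer_D : T ≤ normalizer (e.D : Set G) := fun t ht => mem_normalizer_of_conj_le (by
  rintro _ ⟨x, hx, rfl⟩
  exact Subgroup.mem_inf.2 ⟨conj_mem_of_mem_normalizer (e.s₁.T_le_normalizer_Q ht) hx.1,
    conj_mem_of_mem_normalizer (e.s₂.T_le_normalizer_Q ht) hx.2⟩)

/-- The data of a noncommuting pair of neighbours. -/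
theorem sq_data (hc : e.s₁.p * e.s₂.p = e.s₂.p * e.s₁.p) (hfix : e.s₁.d * e.s₂.w = e.s₂.w * e.s₁.d)
    (hnc : e.s₂.p * (e.s₁.d * e.s₂.p * e.s₁.d⁻¹) ≠ e.s₁.d * e.s₂.p * e.s₁.d⁻¹ * e.s₂.p) :
    let y0 := e.s₂.p
    let y1 := e.s₁.d * e.s₂.p * e.s₁.d⁻¹
    let u := e.s₂.w
    y0 ∈ e.D ∧ y1 ∈ e.s₁.Q ∧ y1 ∉ e.s₂.Q ∧ y1 * y1 = 1 ∧ y1 * y0 * y1⁻¹ = u * y0 ∧
      y0 * y1 * y0⁻¹ = u * y1 ∧
      (∀ x ∈ e.s₁.Q, x * y1 * x⁻¹ = y1 ∨ x * y1 * x⁻¹ = u * y1) ∧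
      (∀ x ∈ e.D, x * y1 = y1 * x ∨ (x * y0 ∈ e.D ∧ x * y0 * y1 = y1 * (x * y0))) := by
  set r := e.s₁
  set s := e.s₂
  intro y0 y1 u
  have hy0Q : y0 ∈ r.Q := r.mem_Q_iff.2 ⟨s.W_le s.pW, hc.symm⟩
  have hy0s : y0 ∈ s.Q := s.mem_Q_iff.2 ⟨s.W_le s.pW, rfl⟩
  have hy1Q : y1 ∈ r.Q := r.d_conj_Q hy0Q
  have hy1s : y1 ∉ s.Q := fun h => hnc (s.mem_Q_iff.1 h).2.symm
  have hy0sq : y0 * y0 = 1 := s.hWsq s.pW
  have hy1sq : y1 * y1 = 1 := by
    show r.d * s.p * r.d⁻¹ * (r.d * s.p * r.d⁻¹) = 1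
    rw [show r.d * s.p * r.d⁻¹ * (r.d * s.p * r.d⁻¹) = r.d * (s.p * s.p) * r.d⁻¹ by group, s.hWsq s.pW,
      mul_one, mul_inv_cancel]
  have h1 : y1 * y0 * y1⁻¹ = u * y0 := s.move hy1Q.1 hy1s
  have h2 : y0 * y1 * y0⁻¹ = u * y1 := by
    have hi0 : y0⁻¹ = y0 := inv_eq_of_mul_eq_one_right hy0sq
    have hi1 : y1⁻¹ = y1 := inv_eq_of_mul_eq_one_right hy1sq
    have hui : u⁻¹ = u := inv_eq_of_mul_eq_one_right (s.hWsq s.hwW)
    have e1 : u = y1 * y0 * y1⁻¹ * y0⁻¹ := by rw [h1, mul_inv_cancel_right]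
    have e2 : u⁻¹ = y0 * y1 * y0⁻¹ * y1⁻¹ := by rw [e1]; group
    rw [hui] at e2
    rw [e2, inv_mul_cancel_right]
  have hval : ∀ x ∈ r.Q, x * y1 * x⁻¹ = y1 ∨ x * y1 * x⁻¹ = u * y1 := by
    intro x hx
    have hx' : r.d⁻¹ * x * r.d ∈ r.Q := (Subgroup.mem_normalizer_iff''.1 r.d_mem_normalizer_Q x).1 hx
    have e1 : x * y1 * x⁻¹ = r.d * ((r.d⁻¹ * x * r.d) * y0 * (r.d⁻¹ * x * r.d)⁻¹) * r.d⁻¹ := by
      show x * (r.d * s.p * r.d⁻¹) * x⁻¹ = _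
      group
      rfl
    by_cases hs : r.d⁻¹ * x * r.d ∈ s.Q
    · left
      rw [e1, (s.mem_Q_iff.1 hs).2, mul_inv_cancel_right]
    · right
      rw [e1, s.move hx'.1 hs]
      show r.d * (s.w * s.p) * r.d⁻¹ = s.w * (r.d * s.p * r.d⁻¹)
      rw [← mul_assoc r.d, hfix]; group
  refine ⟨⟨hy0Q, hy0s⟩, hy1Q, hy1s, hy1sq, h1, h2, hval, fun x hx => ?_⟩
  rcases hval x hx.1 with h | h
  · exact Or.inl (mul_inv_eq_iff_eq_mul.1 h)
  · right
    refine ⟨mul_mem hx ⟨hy0Q, hy0s⟩, mul_inv_eq_iff_eq_mul.1 ?_⟩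
    have hxu : x * u * x⁻¹ = u := by rw [s.w_comm hx.1.1, mul_inv_cancel_right]
    calc x * y0 * y1 * (x * y0)⁻¹ = x * (y0 * y1 * y0⁻¹) * x⁻¹ := by group
      _ = (x * u * x⁻¹) * (x * y1 * x⁻¹) := by rw [h2]; group
      _ = y1 := by rw [hxu, h, ← mul_assoc, s.hWsq s.hwW, one_mul]

/-- The squares of `Q₁ ∩ Q₂` are normalised by the rotation of a side with noncommuting neighbours. -/
theorem d_mem_normalizer_sqGen (hc : e.s₁.p * e.s₂.p = e.s₂.p * e.s₁.p)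
    (hfix : e.s₁.d * e.s₂.w = e.s₂.w * e.s₁.d)
    (hnc : e.s₂.p * (e.s₁.d * e.s₂.p * e.s₁.d⁻¹) ≠ e.s₁.d * e.s₂.p * e.s₁.d⁻¹ * e.s₂.p) :
    e.s₁.d ∈ normalizer (sqGen e.D : Set G) := by
  obtain ⟨hy0D, hy1Q, hy1s, hy1sq, h1, h2, hval, hsplit⟩ := e.sq_data hc hfix hnc
  set r := e.s₁
  set s := e.s₂
  set y1 := r.d * s.p * r.d⁻¹ with hy1
  set C' := e.D ⊓ centralizer ({y1} : Set G) with hC'
  -- both `D` and its conjugate have the squares of `C'`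
  have hle1 : sqGen e.D ≤ sqGen C' := by
    refine (closure_le _).2 ?_
    rintro _ ⟨x, hx, rfl⟩
    rcases hsplit x hx with h | ⟨hxy, h⟩
    · exact subset_closure ⟨x, ⟨hx, mem_centralizer_singleton_iff.2 h⟩, rfl⟩
    · refine subset_closure ⟨x * s.p, ⟨hxy, mem_centralizer_singleton_iff.2 h⟩, ?_⟩
      have hxp : x * s.p = s.p * x := (s.mem_Q_iff.1 hx.2).2
      show x * s.p * (x * s.p) = x * x
      calc x * s.p * (x * s.p) = x * s.p * (s.p * x) := by rw [hxp]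
        _ = x * (s.p * s.p) * x := by group
        _ = x * x := by rw [s.hWsq s.pW, mul_one]
  have hle2 : sqGen C' ≤ (sqGen e.D).map (MulAut.conj r.d).toMonoidHom := by
    rw [sqGen_map]
    refine Subgroup.closure_mono (Set.image_mono ?_)
    intro x hx
    obtain ⟨hxD, hxc⟩ := hx
    have hx' : r.d⁻¹ * x * r.d ∈ r.Q := (Subgroup.mem_normalizer_iff''.1 r.d_mem_normalizer_Q x).1 hxD.1
    refine ⟨r.d⁻¹ * x * r.d, ⟨hx', s.mem_Q_iff.2 ⟨hx'.1, ?_⟩⟩, by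
      show r.d * (r.d⁻¹ * x * r.d) * r.d⁻¹ = x
      group⟩
    have := mem_centralizer_singleton_iff.1 hxc
    rw [hy1] at this
    calc r.d⁻¹ * x * r.d * s.p = r.d⁻¹ * (x * (r.d * s.p * r.d⁻¹)) * r.d := by group
      _ = r.d⁻¹ * (r.d * s.p * r.d⁻¹ * x) * r.d := by rw [this]
      _ = _ := by group
  refine mem_normalizer_of_conj_le (le_of_eq (Subgroup.eq_of_le_of_card_ge (hle1.trans hle2) ?_).symm)
  exact le_of_eq (card_map_conj _ _)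

/-- If the neighbours of the first side do not commute, `Q₁ ∩ Q₂` would be invariant on both sides. -/
theorem false_of_nonabelian (hc : e.s₁.p * e.s₂.p = e.s₂.p * e.s₁.p)
    (hfix : e.s₁.d * e.s₂.w = e.s₂.w * e.s₁.d) (hfix' : e.s₂.d * e.s₁.w = e.s₁.w * e.s₂.d)
    (hnc : e.s₂.p * (e.s₁.d * e.s₂.p * e.s₁.d⁻¹) ≠ e.s₁.d * e.s₂.p * e.s₁.d⁻¹ * e.s₂.p) : False := by
  obtain ⟨hy0D, hy1Q, hy1s, hy1sq, h1, h2, hval, hsplit⟩ := e.sq_data hc hfix hnc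
  have hd1 := e.d_mem_normalizer_sqGen hc hfix hnc
  set r := e.s₁
  set s := e.s₂
  set y1 := r.d * s.p * r.d⁻¹ with hy1
  have hd2 : s.d ∈ normalizer (sqGen e.D : Set G) := by
    by_cases hab : r.p * (s.d * r.p * s.d⁻¹) = s.d * r.p * s.d⁻¹ * r.p
    · set x1 := s.d * r.p * s.d⁻¹ with hx1
      have hp1s : r.p ∈ s.Q := e.p_mem_Q hc
      have hx1D : x1 ∈ e.D := ⟨r.mem_Q_iff.2 ⟨(s.d_conj_Q hp1s).1, hab.symm⟩, s.d_conj_Q hp1s⟩
      set x2 := s.d * x1 * s.d⁻¹ with hx2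
      -- `x₂ ∈ x₁ ⟨c₁, c₂⟩`
      have hcen : ∃ z ∈ omegaCenterOf (thompsonSubgroupOf 2 T), x2 = z * x1 := by
        have hA : ∃ z1 ∈ omegaCenterOf (thompsonSubgroupOf 2 T), y1 * x1 * y1⁻¹ = z1 * x1 := by
          rcases hsplit x1 hx1D with h | ⟨-, h⟩
          · exact ⟨1, one_mem _, by rw [one_mul, ← h, mul_inv_cancel_right]⟩
          · refine ⟨s.w, s.hwZ, ?_⟩
            have hx1u : x1 * s.w = s.w * x1 := s.w_comm hx1D.1.1
            have hx1p : x1 * s.p = s.p * x1 := (s.mem_Q_iff.1 hx1D.2).2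
            have h' : y1 * (x1 * s.p) * y1⁻¹ = x1 * s.p := by rw [← h, mul_inv_cancel_right]
            calc y1 * x1 * y1⁻¹ = (y1 * (x1 * s.p) * y1⁻¹) * (y1 * s.p * y1⁻¹)⁻¹ := by group
              _ = x1 * s.p * (s.p⁻¹ * s.w⁻¹) := by rw [h', h1, mul_inv_rev]
              _ = x1 * s.w := by rw [inv_eq_of_mul_eq_one_right (s.hWsq s.hwW)]; group
              _ = s.w * x1 := hx1u
        obtain ⟨z1, hz1, hz1e⟩ := hA
        obtain ⟨o, ho, hoe⟩ := s.conj_d_conj hy1Q.1 hy1s r.p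
        rw [(r.mem_Q_iff.1 hy1Q).2, mul_inv_cancel_right, ← hx1, hz1e] at hoe
        have hB : ∃ z2 ∈ omegaCenterOf (thompsonSubgroupOf 2 T), z1 * x1 = z2 * x2 := by
          by_cases hor : o ∈ r.Q
          · refine ⟨1, one_mem _, ?_⟩
            rw [hoe, (r.mem_Q_iff.1 hor).2, mul_inv_cancel_right, one_mul]
          · refine ⟨r.w, r.hwZ, ?_⟩
            rw [hoe, r.move (s.core_le_T ho) hor]
            show s.d * (s.d * (r.w * r.p) * s.d⁻¹) * s.d⁻¹ = r.w * (s.d * (s.d * r.p * s.d⁻¹) * s.d⁻¹)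
            rw [← mul_assoc s.d r.w, hfix']
            simp only [← mul_assoc, hfix']
        obtain ⟨z2, hz2, hz2e⟩ := hB
        refine ⟨z2⁻¹ * z1, mul_mem (inv_mem hz2) hz1, ?_⟩
        rw [mul_assoc, hz2e, inv_mul_cancel_left]
      obtain ⟨z, hz, hzx⟩ := hcen
      have hle : e.D.map (MulAut.conj s.d).toMonoidHom ≤ e.D := by
        rintro _ ⟨x, hx, rfl⟩
        refine Subgroup.mem_inf.2 ⟨r.mem_Q_iff.2 ⟨(s.d_conj_Q hx.2).1, ?_⟩, s.d_conj_Q hx.2⟩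
        -- `d x d⁻¹` commutes with `x₁`, hence with `x₂`, hence `x` with `x₁`
        have ha : s.d * x * s.d⁻¹ * x1 = x1 * (s.d * x * s.d⁻¹) := by
          have hxp : x * r.p = r.p * x := (r.mem_Q_iff.1 hx.1).2
          calc s.d * x * s.d⁻¹ * x1 = s.d * (x * r.p) * s.d⁻¹ := by rw [hx1]; group
            _ = s.d * (r.p * x) * s.d⁻¹ := by rw [hxp]
            _ = _ := by rw [hx1]; group
        have hdxT : s.d * x * s.d⁻¹ ∈ T := (s.d_conj_Q hx.2).1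
        have hb : s.d * x * s.d⁻¹ * x2 = x2 * (s.d * x * s.d⁻¹) := by
          rw [hzx]
          calc s.d * x * s.d⁻¹ * (z * x1) = (s.d * x * s.d⁻¹ * z) * x1 := by group
            _ = z * (s.d * x * s.d⁻¹ * x1) := by rw [s.hTZ _ hdxT z hz]; group
            _ = _ := by rw [ha]; group
        show s.d * x * s.d⁻¹ * r.p = r.p * (s.d * x * s.d⁻¹)
        have hc2 : x * x1 = x1 * x := by
          calc x * x1 = s.d⁻¹ * (s.d * x * s.d⁻¹ * x2) * s.d := by rw [hx2]; group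
            _ = s.d⁻¹ * (x2 * (s.d * x * s.d⁻¹)) * s.d := by rw [hb]
            _ = x1 * x := by rw [hx2]; group
        have hd : s.d * x * s.d⁻¹ * x2 = x2 * (s.d * x * s.d⁻¹) := hb
        have hxT : x ∈ T := hx.1.1
        have he : x * x2 = x2 * x := by
          rw [hzx]
          calc x * (z * x1) = (x * z) * x1 := by group
            _ = z * (x * x1) := by rw [s.hTZ _ hxT z hz]; group
            _ = _ := by rw [hc2]; group
        have h3 : s.d * x2 * s.d⁻¹ = r.p := conj3 s.hd3 r.p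
        calc s.d * x * s.d⁻¹ * r.p = s.d * (x * x2) * s.d⁻¹ := by rw [← h3]; group
          _ = s.d * (x2 * x) * s.d⁻¹ := by rw [he]
          _ = r.p * (s.d * x * s.d⁻¹) := by rw [← h3]; group
      refine mem_normalizer_of_conj_le ?_
      rw [sqGen_map]
      exact Subgroup.closure_mono (Set.image_mono hle)
    · have := e.symm.d_mem_normalizer_sqGen hc.symm hfix' hab
      rwa [e.D_symm] at this
  have hD : sqGen e.D = ⊥ := e.eq_bot_of_invariant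
    ((closure_le _).2 (by rintro _ ⟨x, hx, rfl⟩; exact mul_mem hx.1.1 hx.1.1))
    (fun t ht => mem_normalizer_of_conj_le (by
      rw [sqGen_map, map_conj_of_mem_normalizer (e.T_le_normalizer_D ht)])) hd1 hd2
  have hDsq : ∀ x ∈ e.D, x * x = 1 := fun x hx => mem_bot.1 (hD ▸ subset_closure ⟨x, hx, rfl⟩)
  -- the third neighbour would be an element of order four
  set y2 := r.d * y1 * r.d⁻¹ with hy2
  have hy2sq : y2 * y2 = 1 := by
    rw [hy2, show r.d * y1 * r.d⁻¹ * (r.d * y1 * r.d⁻¹) = r.d * (y1 * y1) * r.d⁻¹ by group, hy1sq, mul_one,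
      mul_inv_cancel]
  have hdu : r.d * s.w * r.d⁻¹ = s.w := by rw [hfix, mul_inv_cancel_right]
  have hy2y1 : y2 * y1 * y2⁻¹ = s.w * y1 := by
    calc y2 * y1 * y2⁻¹ = r.d * (y1 * s.p * y1⁻¹) * r.d⁻¹ := by rw [hy2, hy1]; group
      _ = (r.d * s.w * r.d⁻¹) * y1 := by rw [h1, hy1]; group
      _ = s.w * y1 := by rw [hdu]
  have hy2y0 : y2 * s.p * y2⁻¹ = s.w * s.p := by
    have e1 : r.d * y2 * r.d⁻¹ = s.p := conj3 r.hd3 s.p
    have e2 : y1 * y2 * y1⁻¹ = s.w * y2 := by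
      calc y1 * y2 * y1⁻¹ = r.d * (s.p * y1 * s.p⁻¹) * r.d⁻¹ := by rw [hy2, hy1]; group
        _ = (r.d * s.w * r.d⁻¹) * y2 := by rw [h2, hy2]; group
        _ = s.w * y2 := by rw [hdu]
    calc y2 * s.p * y2⁻¹ = r.d * (y1 * y2 * y1⁻¹) * r.d⁻¹ := by rw [← e1, hy2]; group
      _ = (r.d * s.w * r.d⁻¹) * (r.d * y2 * r.d⁻¹) := by rw [e2]; group
      _ = s.w * s.p := by rw [hdu, e1]
  have hy2Q : y2 ∈ r.Q := r.d_conj_Q hy1Q
  have hui : s.w⁻¹ = s.w := inv_eq_of_mul_eq_one_right (s.hWsq s.hwW)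
  have hsp : s.p⁻¹ = s.p := inv_eq_of_mul_eq_one_right (s.hWsq s.pW)
  set δ := y2 * (s.p * y1)⁻¹ with hδ
  have hδp : δ * s.p * δ⁻¹ = s.p := by
    have e1 : (s.p * y1)⁻¹ * s.p * (s.p * y1) = y1⁻¹ * s.p * y1 := by group
    have e2 : y1⁻¹ * s.p * y1 = s.w * s.p := by
      rw [inv_eq_of_mul_eq_one_right hy1sq]
      conv_rhs => rw [← h1, inv_eq_of_mul_eq_one_right hy1sq]
    calc δ * s.p * δ⁻¹ = y2 * ((s.p * y1)⁻¹ * s.p * (s.p * y1)) * y2⁻¹ := by rw [hδ]; group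
      _ = (y2 * s.w * y2⁻¹) * (y2 * s.p * y2⁻¹) := by rw [e1, e2]; group
      _ = s.p := by rw [s.w_comm hy2Q.1, mul_inv_cancel_right, hy2y0, ← mul_assoc, s.hWsq s.hwW, one_mul]
  have hδy : δ * y1 * δ⁻¹ = y1 := by
    have e1 : (s.p * y1)⁻¹ * y1 * (s.p * y1) = y1⁻¹ * (s.p⁻¹ * y1 * s.p) * y1 := by group
    have e2 : s.p⁻¹ * y1 * s.p = s.w * y1 := by
      rw [hsp]
      conv_rhs => rw [← h2, hsp]
    calc δ * y1 * δ⁻¹ = y2 * ((s.p * y1)⁻¹ * y1 * (s.p * y1)) * y2⁻¹ := by rw [hδ]; group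
      _ = y2 * (y1⁻¹ * s.w * y1 * y1) * y2⁻¹ := by rw [e1, e2]; group
      _ = y2 * (s.w * y1) * y2⁻¹ := by
        rw [show y1⁻¹ * s.w * y1 = y1⁻¹ * (s.w * y1) by group, ← s.w_comm hy1Q.1, inv_mul_cancel_left, s.w_comm hy1Q.1]
      _ = (y2 * s.w * y2⁻¹) * (y2 * y1 * y2⁻¹) := by group
      _ = y1 := by rw [s.w_comm hy2Q.1, mul_inv_cancel_right, hy2y1, ← mul_assoc, s.hWsq s.hwW, one_mul]
  have hδD : δ ∈ e.D := Subgroup.mem_inf.2 ⟨mul_mem hy2Q (inv_mem (mul_mem hy0D.1 hy1Q)), s.mem_Q_iff.2 ⟨mul_mem hy2Q.1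
    (inv_mem (mul_mem hy0D.1.1 hy1Q.1)), mul_inv_eq_iff_eq_mul.1 hδp⟩⟩
  apply s.hw1
  have hδc : δ * (s.p * y1) = s.p * y1 * δ := by
    calc δ * (s.p * y1) = (δ * s.p * δ⁻¹) * (δ * y1 * δ⁻¹) * δ := by group
      _ = _ := by rw [hδp, hδy]
  have e3 : y2 = δ * (s.p * y1) := by rw [hδ]; group
  have e4 : s.p * y1 * (s.p * y1) = s.w := by
    calc s.p * y1 * (s.p * y1) = (s.p * y1 * s.p⁻¹) * y1 := by rw [hsp]; group
      _ = s.w := by rw [h2, mul_assoc, hy1sq, mul_one]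
  calc s.w = (δ * δ) * (s.p * y1 * (s.p * y1)) := by rw [hDsq δ hδD, one_mul, e4]
    _ = δ * ((s.p * y1) * δ) * (s.p * y1) := by rw [← hδc]; group
    _ = y2 * y2 := by rw [e3]; group
    _ = 1 := hy2sq

end SidePair

end CfsgLib.LocalEven.JComp
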