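import Cfsg.Agent.Lib.LocalEven.JTransfer
import Cfsg.Agent.Lib.LocalEven.SubnormalCore
import Cfsg.Agent.Lib.Local.Residual

/-!
Components and their four-group normalisers; maximal straddling subgroups.
-/

set_option autoImplicit false

namespace CfsgLib.LocalEven.JComp

open Subgroup CfsgLib.LocalEven Cfsg
open scoped commutatorElement

section Good

variable {X : Type*} [Group X] [Finite X]

theorem isPGroup_zq : IsPGroup 2 ↥(zq X) := fun u =>
  ⟨1, Subtype.ext (by
    rw [SubgroupClass.coe_pow, pow_one]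
    exact (Oz.elemAb (p := 2) (Cfsg.pCore 2 X)).2 u.1 u.2)⟩

theorem Good.mem_normalizer_of_wOf (hX : Good X) {P : Sylow 2 X} {K : Subgroup X}
    (hK : IsJComponent (P : Subgroup X) K) {n : X} (hn : n ∈ normalizer (wOf K : Set X)) :
    n ∈ normalizer (K : Set X) := by
  obtain ⟨a, d, h, rfl⟩ := hX.exists_jBlock hK
  have hb := h.1.conj n
  refine mem_normalizer_compOf ?_
  rw [← map_inv, ← map_mul, ← map_mul]
  refine hX.proj_mem_zpowers h.1 hb ?_
  show rng d = rng (n * d * n⁻¹)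
  have hle : rng (n * d * n⁻¹) ≤ rng d := by
    show (Trv.mv (act (n * d * n⁻¹))).range ≤ _
    rw [map_mul, map_mul, map_inv, Trv.range_conj]
    rintro _ ⟨v, hv, rfl⟩
    have h1 : (v : X) ∈ wOf (compOf d) := by rw [← hX.map_rng_eq h]; exact ⟨v, hv, rfl⟩
    have h2 := conj_mem_of_mem_normalizer hn h1
    rw [← hX.map_rng_eq h] at h2
    obtain ⟨w, hw, hwe⟩ := h2
    have : act n v = w := Subtype.ext (by rw [act_apply]; exact hwe.symm)
    show act n v ∈ rng d
    rw [this]; exact hw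
  exact (Subgroup.eq_of_le_of_card_ge hle (le_of_eq (h.1.rot.2.trans hb.rot.2.symm))).symm

end Good

variable {G : Type*} [Group G] [Finite G]

theorem map_conj_of_mem_normalizer {H : Subgroup G} {g : G} (hg : g ∈ normalizer (H : Set G)) :
    H.map (MulAut.conj g).toMonoidHom = H :=
  Subgroup.mem_normalizer_iff_map_conj_eq.1 hg

theorem constrained_of_twoLocal (hG : Amb G) {N : Subgroup G} (hN : IsTwoLocal N) : Constrained N := by
  obtain ⟨R, hR, hR1, rfl⟩ := hN
  have hchar := hG.char.2 R hR hR1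
  have hRQ : R ≤ pCoreOf 2 (normalizer (R : Set G)) := le_pCoreOf Subgroup.le_normalizer hR le_rfl
  refine ⟨fun x hx => ?_, fun e => hR1 (le_bot_iff.1 (e ▸ hRQ))⟩
  have hxN : x ∈ normalizer (R : Set G) := by
    refine mem_normalizer_of_conj_le ?_
    rintro _ ⟨r, hr, rfl⟩
    show x * r * x⁻¹ ∈ R
    rw [← mem_centralizer_iff.1 hx r (hRQ hr), mul_inv_cancel_right]
    exact hr
  exact inf_centralizer_pCoreOf_le hchar (Subgroup.mem_inf.2 ⟨hxN, hx⟩)

theorem component_ne_bot {T K : Subgroup G} (hK : IsJComponent T K) : wOf K ≠ ⊥ := fun e => by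
  have h := hK.2.2.2.2.1
  rw [e, Subgroup.card_bot] at h
  omega

theorem wOf_isPGroup {T K : Subgroup G} (hK : IsJComponent T K) : IsPGroup 2 ↥(wOf K) :=
  (isPGroup_pCoreOf 2 K).to_le (wOf_le_pCoreOf hK).1

theorem normalizer_wOf_twoLocal {T K : Subgroup G} (hK : IsJComponent T K) :
    IsTwoLocal (normalizer (wOf K : Set G)) :=
  ⟨_, wOf_isPGroup hK, component_ne_bot hK, rfl⟩

theorem le_normalizer_wOf {T K : Subgroup G} (hK : IsJComponent T K) :
    K ⊔ thompsonSubgroupOf 2 T ≤ normalizer (wOf K : Set G) :=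
  sup_le (wOf_le_pCoreOf hK).2.2 ((component_normalizer hK).trans (normalizer_le_normalizer_wOf K))

theorem isJComponent_congr {T T' K : Subgroup G} (h : thompsonSubgroupOf 2 T' = thompsonSubgroupOf 2 T) :
    IsJComponent T' K ↔ IsJComponent T K := by
  unfold IsJComponent
  rw [h]

theorem thompson_not_le {T K L : Subgroup G} (hK : IsJComponent T K) (hKL : K ≤ L) :
    ¬ thompsonSubgroupOf 2 T ≤ pCoreOf 2 L := by
  intro hJ
  have hn := le_normalizer_pCoreOf (X := G) 2 L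
  have hKQ : K ≤ pCoreOf 2 L := by
    conv_lhs => rw [← hK.2.1]
    rw [Subgroup.commutator_le]
    intro k hk j hj
    rw [commutatorElement_def]
    exact mul_mem (conj_mem_of_mem_normalizer (hn (hKL hk)) (hJ hj)) (inv_mem (hJ hj))
  have : K ≤ pCoreOf 2 K := le_pCoreOf le_rfl ((isPGroup_pCoreOf 2 L).to_le hKQ) Subgroup.le_normalizer
  have h := hK.2.2.1
  rw [Subgroup.relIndex_eq_one.2 this] at h
  omega

theorem maxElemAbelianOrder_eq {T A : Subgroup G} (hA : IsMaxIn T A) :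
    maxElemAbelianOrder T = Nat.card ↥A := by
  obtain ⟨A', hA', rfl⟩ := isMaxIn_iff.1 hA
  rw [card_map_of_injective T.subtype_injective, maxElemAbelianOrder]
  have : (fun B : Subgroup ↥T => Nat.card ↥B) '' maxElementaryAbelianSubgroups 2 ↥T = {Nat.card ↥A'} := by
    ext n
    constructor
    · rintro ⟨B, hB, rfl⟩
      exact le_antisymm (hA'.2 B hB.1) (hB.2 A' hA'.1)
    · rintro rfl
      exact ⟨A', hA', rfl⟩
  rw [this, csSup_singleton]

theorem maxElemAbelianOrder_mono {T S : Subgroup G} (h : thompsonSubgroupOf 2 T ≤ S) :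
    maxElemAbelianOrder T ≤ maxElemAbelianOrder S := by
  obtain ⟨A, hA⟩ := exists_isMaxIn T
  obtain ⟨B, hB⟩ := exists_isMaxIn S
  rw [maxElemAbelianOrder_eq hA, maxElemAbelianOrder_eq hB]
  exact hB.2.2 A (hA.le_thompson.trans h) hA.2.1

theorem thompson_le_of_order {T S : Subgroup G} (h : thompsonSubgroupOf 2 T ≤ S)
    (ha : maxElemAbelianOrder S ≤ maxElemAbelianOrder T) :
    thompsonSubgroupOf 2 T ≤ thompsonSubgroupOf 2 S := by
  refine thompson_le_iff.2 fun A hA => IsMaxIn.le_thompson ⟨hA.le_thompson.trans h, hA.2.1, fun B hB hBe => ?_⟩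
  obtain ⟨B', hB'⟩ := exists_isMaxIn S
  calc Nat.card ↥B ≤ Nat.card ↥B' := hB'.2.2 B hB hBe
    _ = maxElemAbelianOrder S := (maxElemAbelianOrder_eq hB').symm
    _ ≤ maxElemAbelianOrder T := ha
    _ = _ := maxElemAbelianOrder_eq hA

theorem maxElemAbelianOrder_congr {T T' : Subgroup G}
    (h : thompsonSubgroupOf 2 T' = thompsonSubgroupOf 2 T) : maxElemAbelianOrder T' = maxElemAbelianOrder T := by
  obtain ⟨A, hA⟩ := exists_isMaxIn T
  rw [maxElemAbelianOrder_eq hA, maxElemAbelianOrder_eq (hA.of_thompson_eq h)]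

theorem maxElemAbelianOrder_conj (T : Subgroup G) (g : G) :
    maxElemAbelianOrder (T.map (MulAut.conj g).toMonoidHom) = maxElemAbelianOrder T := by
  obtain ⟨A, hA⟩ := exists_isMaxIn T
  have hA' : IsMaxIn (T.map (MulAut.conj g).toMonoidHom) (A.map (MulAut.conj g).toMonoidHom) := by
    refine ⟨map_mono hA.1, CfsgLib.PGroup.elemAb_map hA.2.1 _, fun B hB hBe => ?_⟩
    rw [card_map_conj]
    refine le_trans (le_of_eq (card_map_conj B g⁻¹).symm) (hA.2.2 _ ?_ (CfsgLib.PGroup.elemAb_map hBe _))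
    rintro _ ⟨b, hb, rfl⟩
    obtain ⟨t, ht, rfl⟩ := hB hb
    show g⁻¹ * (g * t * g⁻¹) * g⁻¹⁻¹ ∈ T
    rw [show g⁻¹ * (g * t * g⁻¹) * g⁻¹⁻¹ = t by group]
    exact ht
  rw [maxElemAbelianOrder_eq hA, maxElemAbelianOrder_eq hA', card_map_conj]

theorem thompson_conj (T : Subgroup G) (g : G) :
    thompsonSubgroupOf 2 (T.map (MulAut.conj g).toMonoidHom) =
      (thompsonSubgroupOf 2 T).map (MulAut.conj g).toMonoidHom :=
  thompson_map (MulAut.conj g).injective T

theorem isJComponent_conj {T K : Subgroup G} (g : G) (hK : IsJComponent T K) :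
    IsJComponent (T.map (MulAut.conj g).toMonoidHom) (K.map (MulAut.conj g).toMonoidHom) :=
  (isJComponent_map_iff (MulAut.conj g).injective T K).2 hK

/-- For a component in `jComponentsZero`, a Sylow subgroup of `N(W_K)` above `J(T)`. -/
theorem exists_wSylow (hG : Amb G) {T K : Subgroup G} (hT : IsPGroup 2 ↥T) (hK : K ∈ jComponentsZero T) :
    ∃ S, IsSylowTwoIn S (normalizer (wOf K : Set G)) ∧ thompsonSubgroupOf 2 S = thompsonSubgroupOf 2 T ∧
      IsJComponent S K ∧ Constrained (normalizer (wOf K : Set G)) := by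
  obtain ⟨S, hS, hJS⟩ := exists_sylowTwoIn (le_sup_right.trans (le_normalizer_wOf hK.1)) (thompson_isPGroup hT)
  exact ⟨S, hS, hK.2 S hJS hS, (isJComponent_congr (hK.2 S hJS hS)).2 hK.1,
    constrained_of_twoLocal hG (normalizer_wOf_twoLocal hK.1)⟩

theorem Amb.normalizer_eq (hG : Amb G) {T K : Subgroup G} (hT : IsPGroup 2 ↥T) (hK : K ∈ jComponentsZero T) :
    normalizer (K : Set G) = normalizer (wOf K : Set G) := by
  refine le_antisymm (normalizer_le_normalizer_wOf K) fun n hn => ?_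
  obtain ⟨S, hS, -, hKS, hN⟩ := exists_wSylow hG hT hK
  set N := normalizer (wOf K : Set G)
  have hKN : K ≤ N := le_sup_left.trans (le_normalizer_wOf hK.1)
  have hn' : (⟨n, hn⟩ : ↥N) ∈ normalizer (wOf (K.subgroupOf N) : Set ↥N) := by
    refine mem_normalizer_of_conj_le ?_
    rintro _ ⟨w, hw, rfl⟩
    have e : (wOf (K.subgroupOf N)).map N.subtype = wOf K := by
      rw [← wOf_map N.subtype_injective, map_subgroupOf_eq_of_le hKN]
    obtain ⟨w', hw', he⟩ := e.ge (conj_mem_of_mem_normalizer hn (e.le ⟨w, hw, rfl⟩))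
    have : (⟨n, hn⟩ : ↥N) * w * (⟨n, hn⟩ : ↥N)⁻¹ = w' := Subtype.ext he.symm
    show (⟨n, hn⟩ : ↥N) * w * (⟨n, hn⟩ : ↥N)⁻¹ ∈ _
    rw [this]; exact hw'
  have h := (hG.good hN).mem_normalizer_of_wOf ((isJComponent_subgroupOf hS hKN).2 hKS) hn'
  refine mem_normalizer_of_conj_le ?_
  rintro _ ⟨k, hk, rfl⟩
  exact conj_mem_of_mem_normalizer (g := (⟨n, hn⟩ : ↥N)) (x := ⟨k, hKN hk⟩) h hk

theorem Amb.isJComponent_of_conj (hG : Amb G) {T K : Subgroup G} (hT : IsPGroup 2 ↥T)
    (hK : K ∈ jComponentsZero T) (g : G)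
    (hJ : thompsonSubgroupOf 2 (T.map (MulAut.conj g).toMonoidHom) ≤ normalizer (wOf K : Set G)) :
    IsJComponent (T.map (MulAut.conj g).toMonoidHom) K := by
  haveI : Fact (Nat.Prime 2) := ⟨Nat.prime_two⟩
  obtain ⟨S, hS, hJS, -, -⟩ := exists_wSylow hG hT hK
  set N := normalizer (wOf K : Set G) with hN
  set T' := T.map (MulAut.conj g).toMonoidHom with hT'
  obtain ⟨S', hS', hJ'⟩ := exists_sylowTwoIn hJ (thompson_isPGroup (hT.map _))
  obtain ⟨y, hy⟩ := MulAction.exists_smul_eq ↥N (sylowOf hS) (sylowOf hS')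
  have hS'e : S' = S.map (MulAut.conj (y : G)).toMonoidHom := by
    have e := congrArg (fun P : Sylow 2 ↥N => (P : Subgroup ↥N).map N.subtype) hy
    simp only [coe_sylowOf, map_subgroupOf_eq_of_le hS'.1, Sylow.coe_subgroup_smul] at e
    rw [← e, CfsgLib.Solvable.conj_smul_eq_map, Subgroup.map_map]
    conv_rhs => rw [← map_subgroupOf_eq_of_le hS.1, Subgroup.map_map]
    congr 1
  have hle : thompsonSubgroupOf 2 T' ≤ thompsonSubgroupOf 2 S' := thompson_le_of_order hJ' (by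
    rw [hS'e, maxElemAbelianOrder_conj, maxElemAbelianOrder_congr hJS, maxElemAbelianOrder_conj])
  have he : thompsonSubgroupOf 2 T' = thompsonSubgroupOf 2 S' := by
    refine Subgroup.eq_of_le_of_card_ge hle (le_of_eq ?_)
    rw [hS'e, thompson_conj, card_map_conj, hJS, hT', thompson_conj, card_map_conj]
  have hyK : (y : G) ∈ normalizer (K : Set G) := (hG.normalizer_eq hT hK).ge y.2
  have h := isJComponent_conj (y : G) hK.1
  rw [map_conj_of_mem_normalizer hyK] at h
  refine (isJComponent_congr ?_).2 h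
  rw [he, hS'e, thompson_conj, hJS, thompson_conj]

/-- Maximal straddling subgroups. -/
structure MaxStraddle (M T : Subgroup G) : Prop where
  mem : T ∈ maxStraddlingTwoSubgroups M

theorem sylow_le_normalizer_thompson (S : Sylow 2 G) :
    (S : Subgroup G) ≤ normalizer (thompsonSubgroupOf 2 (S : Subgroup G) : Set G) :=
  le_normalizer_thompson _

theorem thompson_ne_bot {T : Subgroup G} (hT : IsPGroup 2 ↥T) (hT1 : T ≠ ⊥) :
    thompsonSubgroupOf 2 T ≠ ⊥ := by
  haveI : Fact (Nat.Prime 2) := ⟨Nat.prime_two⟩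
  obtain ⟨t, ht, ht1⟩ := (Subgroup.bot_or_exists_ne_one T).resolve_left hT1
  have hdvd : 2 ∣ Nat.card ↥T :=
    hT.card_eq_or_dvd.resolve_left (mt (Subgroup.eq_bot_of_card_eq T) hT1)
  obtain ⟨y, hy⟩ := exists_prime_orderOf_dvd_card' (G := ↥T) 2 hdvd
  intro e
  obtain ⟨A, hA⟩ := exists_isMaxIn T
  have hy2 : (y : G) ^ 2 = 1 := congrArg Subtype.val ((hy ▸ pow_orderOf_eq_one y : y ^ 2 = 1))
  have h1 := hA.2.2 (zpowers (y : G)) (zpowers_le.2 y.2) (CfsgLib.PGroup.elemAb_zpowers hy2)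
  rw [Nat.card_zpowers, Subgroup.orderOf_coe, hy, (eq_bot_iff.2 (e ▸ hA.le_thompson) : A = ⊥),
    Subgroup.card_bot] at h1
  omega

variable {S : Sylow 2 G} {M T : Subgroup G}

/-- `N(J(T)) ≤ M`. -/
theorem normalizer_thompson_le (hMJ : normalizer (thompsonSubgroupOf 2 (S : Subgroup G) : Set G) ≤ M)
    (hT : T ∈ maxStraddlingTwoSubgroups M) : normalizer (thompsonSubgroupOf 2 T : Set G) ≤ M := by
  haveI : Fact (Nat.Prime 2) := ⟨Nat.prime_two⟩
  obtain ⟨⟨hT2, hT1, hTM, L, hL, hTL, hLM⟩, hmax⟩ := hT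
  obtain ⟨S₁, hTS₁⟩ := (hT2.comap_subtype (K := M)).exists_le_sylow
  have hSM : (S : Subgroup G) ≤ M := (sylow_le_normalizer_thompson S).trans hMJ
  obtain ⟨m, hm⟩ := MulAction.exists_smul_eq ↥M (S.subtype hSM) S₁
  set U := (S₁ : Subgroup ↥M).map M.subtype with hU
  have hUe : U = (S : Subgroup G).map (MulAut.conj (m : G)).toMonoidHom := by
    rw [hU, ← hm, Sylow.coe_subgroup_smul, CfsgLib.Solvable.conj_smul_eq_map, Subgroup.map_map,
      Sylow.coe_subtype]
    conv_rhs => rw [← map_subgroupOf_eq_of_le hSM, Subgroup.map_map]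
    congr 1
  have hTU : T ≤ U := fun t ht => ⟨⟨t, hTM ht⟩, hTS₁ ht, rfl⟩
  by_cases hTe : T = U
  · rw [hTe, hUe, thompson_conj]
    intro x hx
    have h1 : (m : G)⁻¹ * x * m ∈ normalizer (thompsonSubgroupOf 2 (S : Subgroup G) : Set G) := by
      refine mem_normalizer_of_conj_le ?_
      rintro _ ⟨j, hj, rfl⟩
      have h2 := conj_mem_of_mem_normalizer hx ⟨j, hj, rfl⟩
      obtain ⟨j', hj', he⟩ := h2
      have : (m : G)⁻¹ * x * m * j * ((m : G)⁻¹ * x * m)⁻¹ = j' := by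
        have he' : (m : G) * j' * (m : G)⁻¹ = x * ((m : G) * j * (m : G)⁻¹) * x⁻¹ := he
        calc (m : G)⁻¹ * x * m * j * ((m : G)⁻¹ * x * m)⁻¹
            = (m : G)⁻¹ * (x * ((m : G) * j * (m : G)⁻¹) * x⁻¹) * m := by group
          _ = j' := by rw [← he']; group
      show (m : G)⁻¹ * x * m * j * ((m : G)⁻¹ * x * m)⁻¹ ∈ _
      rw [this]; exact hj'
    have := mul_mem (mul_mem m.2 (hMJ h1)) (inv_mem m.2)
    convert this using 1
    group
  · by_contra hc
    have hU2 : IsPGroup 2 ↥U := S₁.2.map _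
    set D := U ⊓ normalizer (T : Set G) with hD
    have hlt : T < D := lt_of_le_of_ne (le_inf hTU Subgroup.le_normalizer) fun e =>
      hTe (eq_of_inf_normalizer_le hU2 hTU e.ge)
    have hDJ : D ≤ normalizer (thompsonSubgroupOf 2 T : Set G) := fun x hx =>
      mem_normalizer_of_conj_le (le_of_eq (by
        rw [← thompson_conj, map_conj_of_mem_normalizer hx.2]))
    have hDstr : D ∈ straddlingTwoSubgroups M := by
      refine ⟨hU2.to_le inf_le_left, fun e => ?_, inf_le_left.trans (map_subtype_le _), _, ⟨_,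
        thompson_isPGroup hT2, thompson_ne_bot hT2 hT1, rfl⟩, hDJ, hc⟩
      exact hT1 (le_bot_iff.1 (e ▸ hlt.le))
    have hJD : thompsonSubgroupOf 2 T ≤ D :=
      (CfsgLib.Transfer.thompsonSubgroupOf_le 2 T).trans hlt.le
    obtain ⟨h1, h2⟩ := hmax D hDstr
    have ha : maxElemAbelianOrder D = maxElemAbelianOrder T := le_antisymm h1 (maxElemAbelianOrder_mono hJD)
    obtain ⟨h3, h4⟩ := h2 ha
    have hJe : thompsonSubgroupOf 2 T = thompsonSubgroupOf 2 D :=
      Subgroup.eq_of_le_of_card_ge (thompson_le_of_order hJD ha.le) h3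
    exact hlt.ne (Subgroup.eq_of_le_of_card_ge hlt.le (h4 (by rw [hJe])))

/-- A 2-local outside `M` containing `J(T)`. -/
theorem Amb.straddle (hG : Amb G)
    (hMJ : normalizer (thompsonSubgroupOf 2 (S : Subgroup G) : Set G) ≤ M)
    (hT : T ∈ maxStraddlingTwoSubgroups M) {L T₀ : Subgroup G} (hL : IsTwoLocal L) (hLM : ¬ L ≤ M)
    (hT₀ : IsSylowTwoIn T₀ L) (hJ : thompsonSubgroupOf 2 T ≤ T₀) :
    thompsonSubgroupOf 2 T = thompsonSubgroupOf 2 T₀ ∧ T₀ ∈ straddlingTwoSubgroups M ∧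
      T₀ ∈ jOvergroups T₀ ∪ straddlingTwoSubgroups M ∧ L ∈ jOvergroups T₀ ∧
      (T ≤ L → IsSylowTwoIn T L) := by
  haveI : Fact (Nat.Prime 2) := ⟨Nat.prime_two⟩
  have hNT := normalizer_thompson_le hMJ hT
  obtain ⟨⟨hT2, hT1, hTM, -⟩, hmax⟩ := hT
  have hJ1 := thompson_ne_bot hT2 hT1
  set D := T₀ ⊓ normalizer (thompsonSubgroupOf 2 T : Set G) with hD
  have hJD : thompsonSubgroupOf 2 T ≤ D := le_inf hJ Subgroup.le_normalizer
  have hDstr : D ∈ straddlingTwoSubgroups M := ⟨hT₀.2.1.to_le inf_le_left,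
    fun e => hJ1 (le_bot_iff.1 (e ▸ hJD)), inf_le_right.trans hNT, L, hL, inf_le_left.trans hT₀.1, hLM⟩
  obtain ⟨h1, h2⟩ := hmax D hDstr
  have ha : maxElemAbelianOrder D = maxElemAbelianOrder T := le_antisymm h1 (maxElemAbelianOrder_mono hJD)
  have hJe : thompsonSubgroupOf 2 T = thompsonSubgroupOf 2 D :=
    Subgroup.eq_of_le_of_card_ge (thompson_le_of_order hJD ha.le) (h2 ha).1
  have hDT : D = T₀ := by
    refine eq_of_inf_normalizer_le hT₀.2.1 inf_le_left fun x hx => ⟨hx.1, ?_⟩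
    refine mem_normalizer_of_conj_le (le_of_eq ?_)
    rw [hJe, ← thompson_conj, map_conj_of_mem_normalizer hx.2]
  rw [hDT] at hJe hDstr
  have hover : L ∈ jOvergroups T₀ := by
    refine ⟨hT₀, fun hle => hLM ?_, (constrained_of_twoLocal hG hL).1⟩
    refine le_trans ?_ hNT
    have hQT := pCoreOf_le_sylow hT₀
    have e : thompsonSubgroupOf 2 (pCoreOf 2 L) = thompsonSubgroupOf 2 T₀ :=
      CfsgLib.Transfer.thompsonSubgroupOf_eq_of_le hQT hle
    intro l hl
    refine mem_normalizer_of_conj_le (le_of_eq ?_)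
    rw [hJe, ← e, ← thompson_conj, map_conj_of_mem_normalizer (le_normalizer_pCoreOf 2 L hl)]
  refine ⟨hJe, hDstr, Or.inr hDstr, hover, fun hTL => ?_⟩
  obtain ⟨T', hT', hTT'⟩ := exists_sylowTwoIn hTL hT2
  have hJT' : thompsonSubgroupOf 2 T ≤ T' := (CfsgLib.Transfer.thompsonSubgroupOf_le 2 T).trans hTT'
  set D' := T' ⊓ normalizer (thompsonSubgroupOf 2 T : Set G) with hD'
  have hJD' : thompsonSubgroupOf 2 T ≤ D' := le_inf hJT' Subgroup.le_normalizer
  have hD'str : D' ∈ straddlingTwoSubgroups M := ⟨hT'.2.1.to_le inf_le_left,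
    fun e => hJ1 (le_bot_iff.1 (e ▸ hJD')), inf_le_right.trans hNT, L, hL, inf_le_left.trans hT'.1, hLM⟩
  obtain ⟨g1, g2⟩ := hmax D' hD'str
  have ha' : maxElemAbelianOrder D' = maxElemAbelianOrder T := le_antisymm g1 (maxElemAbelianOrder_mono hJD')
  have hJe' : thompsonSubgroupOf 2 T = thompsonSubgroupOf 2 D' :=
    Subgroup.eq_of_le_of_card_ge (thompson_le_of_order hJD' ha'.le) (g2 ha').1
  have hTD' : T ≤ D' := le_inf hTT' (le_normalizer_thompson T)
  have hTe : T = D' := Subgroup.eq_of_le_of_card_ge hTD' ((g2 ha').2 (by rw [hJe']))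
  have hD'T : D' = T' := by
    refine eq_of_inf_normalizer_le hT'.2.1 inf_le_left fun x hx => ⟨hx.1, ?_⟩
    refine mem_normalizer_of_conj_le (le_of_eq ?_)
    rw [hJe', ← thompson_conj, map_conj_of_mem_normalizer hx.2]
  rw [hTe, hD'T]
  exact hT'

/-- There is a component outside `M`. -/
theorem Amb.exists_outside (hG : Amb G)
    (hMJ : normalizer (thompsonSubgroupOf 2 (S : Subgroup G) : Set G) ≤ M)
    (hT : T ∈ maxStraddlingTwoSubgroups M) : (jComponentsOutside M T).Nonempty := by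
  obtain ⟨L, hL, hTL, hLM⟩ := hT.1.2.2.2
  obtain ⟨T', hT', hTT'⟩ := exists_sylowTwoIn hTL hT.1.1
  obtain ⟨-, -, -, -, hTs⟩ := hG.straddle hMJ hT hL hLM hT'
    ((CfsgLib.Transfer.thompsonSubgroupOf_le 2 T).trans hTT')
  have hTs := hTs hTL
  have hC := constrained_of_twoLocal hG hL
  obtain ⟨K, hK, hKL, hKM⟩ : ∃ K, IsJComponent T K ∧ K ≤ L ∧ ¬ K ≤ M := by
    by_contra hcon
    push Not at hcon
    exact hLM (hG.le_of_components hC hTs (inf_le_right.trans (normalizer_thompson_le hMJ hT)) hcon)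
  refine ⟨K, ⟨hK, fun S' hJS' hS' => ?_⟩, hKM, fun e => hC.2 ?_⟩
  · have hNM : ¬ normalizer (wOf K : Set G) ≤ M := fun h =>
      hKM ((le_sup_left.trans (le_normalizer_wOf hK)).trans h)
    exact (hG.straddle hMJ hT (normalizer_wOf_twoLocal hK) hNM hS' hJS').1.symm
  · rw [← le_bot_iff, ← e]
    refine le_pCoreOf ((pCoreOf_le_sylow hTs).trans le_sup_right) (isPGroup_pCoreOf 2 L) ?_
    exact (sup_le hKL hTs.1).trans (le_normalizer_pCoreOf 2 L)

/-- S2945. -/
theorem Amb.isJComponent_of_subnormal (hG : Amb G) {T L K : Subgroup G} (hT : IsPGroup 2 ↥T)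
    (hLT : L ∈ jOvergroups T) (hKL : K ≤ L)
    (hKsn : (K.subgroupOf (K ⊔ thompsonSubgroupOf 2 T)).IsSubnormal) (g : G)
    (hKg : K ∈ jComponentsZero (T.map (MulAut.conj g).toMonoidHom)) : IsJComponent T K := by
  haveI : Fact (Nat.Prime 2) := ⟨Nat.prime_two⟩
  have hTg : IsPGroup 2 ↥(T.map (MulAut.conj g).toMonoidHom) := hT.map _
  set J := thompsonSubgroupOf 2 T with hJ
  suffices hJW : J ≤ normalizer (wOf K : Set G) by
    have e : (T.map (MulAut.conj g).toMonoidHom).map (MulAut.conj g⁻¹).toMonoidHom = T := by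
      rw [Subgroup.map_map]
      convert Subgroup.map_id T using 2
      ext x
      show g⁻¹ * (g * x * g⁻¹) * g⁻¹⁻¹ = x
      group
    have h := hG.isJComponent_of_conj hTg hKg g⁻¹ (by rw [e]; exact hJW)
    rwa [e] at h
  have hC := Constrained.of_jOvergroups hLT
  have hX := hG.good hC
  have hJL : J ≤ L := (CfsgLib.Transfer.thompsonSubgroupOf_le 2 T).trans hLT.1.1
  obtain ⟨k₀, hk₀, hk₀3, hdec₀, hfpf₀⟩ := exists_rotation hKg.1
  obtain ⟨hWC, -, -⟩ := wOf_le_pCoreOf hKg.1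
  -- everything inside `↥L`
  set P := sylowOf hLT.1 with hP
  set J' := thompsonSubgroupOf 2 (P : Subgroup ↥L) with hJ'
  have hJe : J'.map L.subtype = J := by
    rw [hJ', ← thompson_map L.subtype_injective, hP, coe_sylowOf, map_subgroupOf_eq_of_le hLT.1.1]
  set K' := K.subgroupOf L with hK'
  have hKe : K'.map L.subtype = K := map_subgroupOf_eq_of_le hKL
  have hK'g : Subgroup.closure {x : ↥L | x ∈ K' ∧ Odd (orderOf x)} = K' := by
    apply Subgroup.map_injective L.subtype_injective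
    rw [MonoidHom.map_closure, hKe]
    conv_rhs => rw [← hKg.1.1]
    congr 1
    ext x
    constructor
    · rintro ⟨y, ⟨hy, ho⟩, rfl⟩
      exact ⟨hy, by rwa [← Subgroup.orderOf_coe] at ho⟩
    · rintro ⟨hx, ho⟩
      exact ⟨⟨x, hKL hx⟩, ⟨hx, by rwa [← Subgroup.orderOf_coe]⟩, rfl⟩
  set Y := K' ⊔ J' with hY
  have hsn : (K'.subgroupOf Y).IsSubnormal := by
    let e : ↥Y ≃* ↥(K ⊔ J) := (Y.equivMapOfInjective L.subtype L.subtype_injective).trans
      (MulEquiv.subgroupCongr (by rw [hY, Subgroup.map_sup, hKe, hJe]))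
    have h1 := Subgroup.IsSubnormal.map (f := e.symm.toMonoidHom) e.symm.surjective hKsn
    convert h1 using 1
    ext y
    constructor
    · intro hy
      exact ⟨e y, hy, e.symm_apply_apply y⟩
    · rintro ⟨z, hz, rfl⟩
      show ((((e.symm z : ↥Y) : ↥L) : G)) ∈ K
      have := congrArg Subtype.val (e.apply_symm_apply z)
      show ((((e.symm z : ↥Y) : ↥L) : G)) ∈ K
      rw [show ((((e.symm z : ↥Y) : ↥L) : G)) = (z : G) from this]
      exact hz
  set C := pCoreOf 2 K' with hCdef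
  set O := pCoreOf 2 Y with hO
  have hYO : Y ≤ normalizer (O : Set ↥L) := le_normalizer_pCoreOf 2 Y
  have hCO : C ≤ O := by
    have h1 := Subn.pCoreOf_le_pCore (p := 2) hsn
    have h2 := Subgroup.map_mono (f := Y.subtype) h1
    rwa [← pCoreOf_map_inj Y.subtype_injective, map_subgroupOf_eq_of_le (le_sup_left : K' ≤ Y)] at h2
  have hCe : C.map L.subtype = pCoreOf 2 K := by
    rw [hCdef, ← pCoreOf_map_inj L.subtype_injective, hKe]
  -- normal 2-subgroups of `Y` normalise `K'`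
  have hON : ∀ R : Subgroup ↥L, R ≤ O → R ≤ normalizer (K' : Set ↥L) := by
    intro R hRO
    refine hRO.trans ?_
    set M := K' ⊔ O with hM
    have hMY : M ≤ Y := sup_le le_sup_left (pCoreOf_le 2 Y)
    have hOn : M ≤ normalizer (O : Set ↥L) := hMY.trans hYO
    have hsn' : (K'.subgroupOf M).IsSubnormal := by
      have h1 := hsn.comap (f := Subgroup.inclusion hMY)
      convert h1 using 1
      ext u
      exact Iff.rfl
    have hidx : (K'.subgroupOf M).index ∣ Nat.card ↥O := by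
      have h1 := Subgroup.relIndex_mul_relIndex ⊥ K' M bot_le le_sup_left
      rw [Subgroup.relIndex_bot_left, Subgroup.relIndex_bot_left] at h1
      have h2 := card_sup_mul_inf_of_le_normalizer (A := K') (B := O) (le_sup_left.trans hOn)
      rw [sup_comm, ← hM, ← h1, mul_assoc, mul_comm (Nat.card ↥O)] at h2
      exact ⟨_, (Nat.eq_of_mul_eq_mul_left Nat.card_pos h2).symm⟩
    obtain ⟨e, he⟩ := IsPGroup.iff_card.1 (isPGroup_pCoreOf (X := ↥L) 2 Y)
    have hodd : ∀ x ∈ M, Odd (orderOf x) → x ∈ K' := fun x hx ho =>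
      CfsgLib.Local.mem_of_isSubnormal_of_index_dvd (p := 2) hsn' (k := e) (he ▸ hidx)
        (x := (⟨x, hx⟩ : ↥M)) (by
          rw [Subgroup.orderOf_mk]
          exact Nat.coprime_comm.1 ((Nat.coprime_two_left).2 ho))
    intro o ho
    refine mem_normalizer_of_conj_le (map_le_iff_le_comap.2 ?_)
    conv_lhs => rw [← hK'g]
    rw [Subgroup.closure_le]
    rintro x ⟨hx, hxo⟩
    refine hodd _ (mul_mem (mul_mem (mem_sup_right ho) (mem_sup_left hx)) (inv_mem (mem_sup_right ho))) ?_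
    show Odd (orderOf (MulAut.conj o x))
    rwa [MulEquiv.orderOf_eq]
  -- reduce to transvections
  suffices hmain : ∀ a : ↥L, a ∈ J' → a * a = 1 → Trv.IsTrv (act a) → (a : G) ∈ normalizer (wOf K : Set G) by
    rw [← hJe]
    refine map_le_iff_le_comap.2 (thompson_le_iff.2 fun A hA => ?_)
    obtain ⟨A₁, hA₁, hA₁e⟩ := isMaxIn_iff.1 hA
    obtain ⟨B₀, hB₀, hB₀P⟩ := CfsgLib.Transfer.exists_maxEA_le_sylow P
    have hAX : A ∈ maxElementaryAbelianSubgroups 2 ↥L :=
      hA₁e ▸ CfsgLib.Transfer.maxEA_map_subtype hB₀ hB₀P hA₁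
    obtain ⟨-, hgen, -, -⟩ := hX.offender hAX
    have hYN : ∀ r ∈ O, (r : G) ∈ normalizer (wOf K : Set G) := by
      intro r hr
      refine normalizer_le_normalizer_wOf K (mem_normalizer_of_conj_le ?_)
      rintro _ ⟨x, hx, rfl⟩
      exact conj_mem_of_mem_normalizer (g := r) (x := ⟨x, hKL hx⟩) (hON O le_rfl hr) hx
    intro a ha
    obtain ⟨a₀, ha₀, rfl⟩ : ∃ a₀ ∈ A, a₀ = a := ⟨a, ha, rfl⟩
    -- split off the transvections
    let W' : Subgroup ↥L := (normalizer (wOf K : Set G)).comap L.subtype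
    let R : Subgroup ↥L := Cfsg.pCore 2 ↥L ⊓ Y
    have hRO : R ≤ O := le_pCoreOf inf_le_right ((CfsgLib.Cores.isPGroup_pCore 2).to_le inf_le_left) (by
      intro y hy
      haveI := CfsgLib.Cores.pCore_characteristic (G := ↥L) 2
      refine mem_normalizer_of_conj_le ?_
      rintro _ ⟨x, hx, rfl⟩
      exact Subgroup.mem_inf.2 ⟨Subgroup.Normal.conj_mem inferInstance x hx.1 y,
        mul_mem (mul_mem hy hx.2) (inv_mem hy)⟩)
    have hAJ : A ≤ J' := hA.le_thompson
    set S₀ := {b | b ∈ A ∧ Trv.IsTrv (act b)} with hS₀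
    have hS₀A : Subgroup.closure S₀ ≤ A := (Subgroup.closure_le A).2 fun b hb => hb.1
    have hS₀W : Subgroup.closure S₀ ≤ W' := (Subgroup.closure_le W').2 fun b hb =>
      hmain b (hAJ hb.1) (by rw [← pow_two]; exact hAX.1.2 b hb.1) hb.2
    haveI := CfsgLib.Cores.pCore_characteristic (G := ↥L) 2
    have hsplit : a₀ ∈ Subgroup.closure S₀ ⊔ Cfsg.pCore 2 ↥L := by
      have := hgen ha₀
      rwa [Subgroup.closure_union, Subgroup.closure_eq] at this
    rw [Subgroup.mem_sup_of_normal_right] at hsplit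
    obtain ⟨b, hb, q, hq, hbq⟩ := hsplit
    have hqA : q ∈ A := by
      rw [← inv_mul_cancel_left b q, hbq]
      exact mul_mem (inv_mem (hS₀A hb)) ha₀
    rw [← hbq]
    exact W'.mul_mem (hS₀W hb) (hYN q (hRO ⟨hq, mem_sup_right (hAJ hqA)⟩))
  intro a haJ ha2 hat
  obtain ⟨d, hd⟩ := exists_block hX ha2 hat
  by_contra hanW
  have haY : a ∈ Y := mem_sup_right haJ
  set k : ↥L := ⟨k₀, hKL hk₀⟩ with hk
  have hkK : k ∈ K' := hk₀
  have hk3 : k ^ 3 = 1 := Subtype.ext hk₀3
  have hdec : ∀ y ∈ K', ∃ i : ℤ, (k ^ i)⁻¹ * y ∈ C := by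
    intro y hy
    obtain ⟨i, hi⟩ := hdec₀ y hy
    refine ⟨i, ?_⟩
    obtain ⟨c, hc, hce⟩ := hCe.ge hi
    rwa [show (k ^ i)⁻¹ * y = c from Subtype.ext (by rw [Subgroup.coe_mul, InvMemClass.coe_inv, SubgroupClass.coe_zpow]; exact hce.symm)]
  -- the preimage of `O₃(Y/O)`
  haveI : (O.subgroupOf Y).Normal := Subgroup.normal_subgroupOf_of_le_normalizer hYO
  set q := QuotientGroup.mk' (O.subgroupOf Y) with hq
  set D3 := pCore 3 (↥Y ⧸ O.subgroupOf Y) with hD3
  haveI := CfsgLib.Cores.pCore_characteristic (G := ↥Y ⧸ O.subgroupOf Y) 3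
  have hkD : q ⟨k, mem_sup_left hkK⟩ ∈ D3 := by
    have h1 : ((K'.subgroupOf Y).map q).IsSubnormal := hsn.map (QuotientGroup.mk'_surjective _)
    have h2 : IsPGroup 3 ↥((K'.subgroupOf Y).map q) := by
      rintro ⟨_, y, hy, rfl⟩
      refine ⟨1, Subtype.ext ?_⟩
      show (q y) ^ 3 ^ 1 = 1
      obtain ⟨i, hi⟩ := hdec _ hy
      have hqy : q y = q ((⟨k, mem_sup_left hkK⟩ : ↥Y) ^ i) := by
        rw [eq_comm, hq, QuotientGroup.mk'_apply, QuotientGroup.mk'_apply, QuotientGroup.eq]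
        show ((((⟨k, mem_sup_left hkK⟩ : ↥Y) ^ i)⁻¹ * y : ↥Y) : ↥L) ∈ O
        rw [Subgroup.coe_mul, InvMemClass.coe_inv, SubgroupClass.coe_zpow]
        exact hCO hi
      rw [pow_one, hqy, map_zpow, ← zpow_natCast, zpow_comm, zpow_natCast, ← map_pow,
        show (⟨k, mem_sup_left hkK⟩ : ↥Y) ^ 3 = 1 from Subtype.ext hk3, map_one, one_zpow]
    exact CfsgLib.Cores.le_pCore_of_isSubnormal h1 h2 ⟨_, hkK, rfl⟩
  set e := k⁻¹ * (a * k * a) with he
  have hai : a⁻¹ = a := inv_eq_of_mul_eq_one_right ha2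
  have heY : e ∈ Y := mul_mem (inv_mem (mem_sup_left hkK)) (mul_mem (mul_mem haY (mem_sup_left hkK)) haY)
  have heD : q ⟨e, heY⟩ ∈ D3 := by
    rw [show (⟨e, heY⟩ : ↥Y) = (⟨k, mem_sup_left hkK⟩)⁻¹ * (⟨a, haY⟩ * ⟨k, mem_sup_left hkK⟩ * (⟨a, haY⟩)⁻¹) from
      Subtype.ext (by simp only [e, Subgroup.coe_mul, InvMemClass.coe_inv, hai]), map_mul, map_inv, map_mul, map_mul, map_inv]
    exact mul_mem (inv_mem hkD) (Subgroup.Normal.conj_mem inferInstance _ hkD _)
  obtain ⟨t, ht⟩ := (CfsgLib.Cores.isPGroup_pCore (G := ↥Y ⧸ O.subgroupOf Y) 3) ⟨_, heD⟩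
  have he3 : e ^ 3 ^ t ∈ O := by
    have h1 : q ((⟨e, heY⟩ : ↥Y) ^ 3 ^ t) = 1 := by rw [map_pow]; exact congrArg Subtype.val ht
    exact (QuotientGroup.eq_one_iff ((⟨e, heY⟩ : ↥Y) ^ 3 ^ t)).1 h1
  obtain ⟨s, hs⟩ := isPGroup_pCoreOf (X := ↥L) 2 Y ⟨_, he3⟩
  have hs' : (e ^ 3 ^ t) ^ 2 ^ s = 1 := congrArg Subtype.val hs
  obtain ⟨m, hm2, hm3⟩ : ∃ m : ℕ, 2 ^ s ∣ m ∧ m % 3 ^ t = 1 % 3 ^ t := by
    obtain ⟨m, h1, h2⟩ := Nat.chineseRemainder ((show Nat.Coprime 2 3 by decide).pow s t) 0 1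
    exact ⟨m, Nat.modEq_zero_iff_dvd.1 h1, h2⟩
  set x := e ^ m with hx
  have hx3 : x ^ 3 ^ t = 1 := by
    obtain ⟨r, rfl⟩ := hm2
    rw [hx, ← pow_mul, show 2 ^ s * r * 3 ^ t = 3 ^ t * 2 ^ s * r by ring, pow_mul, pow_mul, hs', one_pow]
  have hxY : x ∈ Y := pow_mem heY m
  have hxe : e⁻¹ * x ∈ O := by
    have h1 : q ((⟨e, heY⟩ : ↥Y)⁻¹ * ⟨x, hxY⟩) = 1 := by
      rw [map_mul, map_inv, show (⟨x, hxY⟩ : ↥Y) = ⟨e, heY⟩ ^ m from Subtype.ext (by rw [SubgroupClass.coe_pow]),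
        map_pow, inv_mul_eq_one]
      have h2 : (q ⟨e, heY⟩) ^ 3 ^ t = 1 := congrArg Subtype.val ht
      conv_lhs => rw [← pow_one (q ⟨e, heY⟩)]
      rw [pow_eq_pow_mod 1 h2, pow_eq_pow_mod m h2, hm3]
    exact (QuotientGroup.eq_one_iff ((⟨e, heY⟩ : ↥Y)⁻¹ * (⟨x, hxY⟩ : ↥Y))).1 h1
  have hxodd : Odd (orderOf x) := (Odd.pow (by decide : Odd 3)).of_dvd_nat (orderOf_dvd_of_pow_eq_one hx3)
  have hxrot : x ∈ rotGroup ↥L := by
    refine hX.mem_rotGroup_of_odd (pow_mem ?_ m) hxodd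
    have hb := hd.conj k⁻¹
    rw [show e = k⁻¹ * a * k⁻¹⁻¹ * a by simp [e, mul_assoc]]
    exact mul_mem (Subgroup.subset_closure (Or.inr ⟨hb.sq, hb.trv⟩))
      (Subgroup.subset_closure (Or.inr ⟨ha2, hat⟩))
  have hinv : a * x * a = x⁻¹ := by
    calc a * x * a = (a * e * a⁻¹) ^ m := by rw [conj_pow, hai]
      _ = x⁻¹ := by
        rw [hx, ← inv_pow, hai, he]
        congr 1
        calc a * (k⁻¹ * (a * k * a)) * a = a * k⁻¹ * a * k * (a * a) := by group
          _ = (k⁻¹ * (a * k * a))⁻¹ := by rw [ha2, mul_one]; simp [hai, mul_assoc]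
  -- the image of `x` lives on the four-group of `d`
  have hDx : act d * act x = act x * act d := by
    have hc : ∀ y ∈ rotGroup ↥L, act d * act y = act y * act d := by
      intro y hy
      rw [rotGroup] at hy
      induction hy using Subgroup.closure_induction with
      | mem v hv =>
        rcases hv with hv | ⟨b, hb⟩
        · rw [act_eq_one_of_mem_pCore hv, one_mul, mul_one]
        · exact hd.act_commute hb
      | one => rw [map_one, one_mul, mul_one]
      | mul u v _ _ hu hv => rw [map_mul]; exact ((show Commute _ _ from hu).mul_right hv).eq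
      | inv u _ hu => rw [map_inv]; exact (show Commute _ _ from hu).inv_right.eq
    exact hc x hxrot
  have hker : ∀ v : ↥(zq ↥L), act d v = v → act x v = v := by
    intro v hv
    have ha' : ∀ w, act d w = w → act a w = w := fun w hw =>
      Trv.fixed_of_rot_fixed zq_sq hd.act_inv hd.act_sq hd.le hd.rot hw
    have h1 : act d (act x v) = act x v := by
      rw [show act d (act x v) = (act d * act x) v from rfl, hDx, MulAut.mul_apply, hv]
    have h2 : act x⁻¹ v = act x v := by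
      rw [← hinv, map_mul, map_mul, MulAut.mul_apply, MulAut.mul_apply, ha' v hv, ha' _ h1]
    have h3 : (act x ^ 2) v = v := by
      rw [pow_two, MulAut.mul_apply]
      conv_lhs => rw [← h2, map_inv]
      exact MulAut.apply_inv_self ↥(zq ↥L) (act x) v
    obtain ⟨r, hr⟩ := hxodd
    have h4 := Trv.iterate_fixed h3 r
    rw [← pow_mul] at h4
    have h5 : (act x ^ (2 * r + 1)) v = v := by
      rw [← hr, ← map_pow, pow_orderOf_eq_one, map_one, MulAut.one_apply]
    rw [pow_succ', MulAut.mul_apply, h4] at h5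
    exact h5
  have hrange : (Trv.mv (act x)).range ≤ (Trv.mv (act d)).range := by
    rintro _ ⟨v, rfl⟩
    have hinj : Function.Injective (fun w : ↥(Trv.mv (act d)).range =>
        (⟨Trv.mv (act d) (w : ↥(zq ↥L)), ⟨_, rfl⟩⟩ : ↥(Trv.mv (act d)).range)) := by
      intro w₁ w₂ hw
      have hw' : Trv.mv (act d) ((w₁ : ↥(zq ↥L)) * w₂) = 1 := by
        rw [map_mul, show Trv.mv (act d) (w₁ : ↥(zq ↥L)) = Trv.mv (act d) w₂ from congrArg Subtype.val hw, zq_sq]
      have := hd.rot.eq_one_of_fixed zq_sq (mul_mem w₁.2 w₂.2) ((Trv.mv_eq_one_iff zq_sq _ _).1 hw')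
      exact Subtype.ext (by rw [← Trv.mul_right_self zq_sq (w₁ : ↥(zq ↥L)) w₂, this, one_mul])
    obtain ⟨⟨w, hw⟩, hwv⟩ := (Finite.injective_iff_surjective.1 hinj) ⟨Trv.mv (act d) v, ⟨_, rfl⟩⟩
    have hwv' : Trv.mv (act d) w = Trv.mv (act d) v := congrArg Subtype.val hwv
    have hk0 : act d (v * w) = v * w := by
      rw [← Trv.mv_eq_one_iff zq_sq, map_mul, hwv', zq_sq]
    have h1 : Trv.mv (act x) v = Trv.mv (act x) w := by
      have := (Trv.mv_eq_one_iff zq_sq _ _).2 (hker _ hk0)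
      rw [map_mul] at this
      rw [← Trv.mul_right_self zq_sq (Trv.mv (act x) v) (Trv.mv (act x) w), this, one_mul]
    rw [h1]
    obtain ⟨u, rfl⟩ := hw
    refine mul_mem ⟨act x u, ?_⟩ ⟨u, rfl⟩
    simp only [Trv.mv_apply, map_mul]
    rw [show act d (act x u) = (act d * act x) u from rfl, hDx]
    rfl
  by_cases hx1 : act x = 1
  · -- `a` normalises `K' O`
    have hxQ : x ∈ Cfsg.pCore 2 ↥L := proj_eq_one_iff.1 (hX.proj_eq_one_of_inverted ha2 hx1
      (by rw [← map_mul, ← map_mul, hinv, map_inv]))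
    obtain ⟨r, hr⟩ := exists_pow_of_mem_pCore hxQ
    have hxone : x = 1 := orderOf_eq_one_iff.1 (Nat.eq_one_of_dvd_coprimes
      (((Nat.coprime_two_left).2 hxodd).pow_left r) (orderOf_dvd_of_pow_eq_one hr) dvd_rfl)
    rw [hxone, mul_one, inv_mem_iff] at hxe
    apply hanW
    refine normalizer_le_normalizer_wOf K (mem_normalizer_of_conj_le ?_)
    set M := K' ⊔ O with hM
    have haM : a ∈ normalizer (K' : Set ↥L) := by
      have hMY : M ≤ Y := sup_le le_sup_left (pCoreOf_le 2 Y)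
      have hOK : M ≤ normalizer (K' : Set ↥L) := sup_le Subgroup.le_normalizer (hON O le_rfl)
      have hkM : a * k * a ∈ M := by
        have := mul_mem (mem_sup_left (T := O) hkK) (mem_sup_right (S := K') hxe)
        rwa [he, mul_inv_cancel_left] at this
      refine mem_normalizer_of_conj_le (map_le_iff_le_comap.2 ?_)
      conv_lhs => rw [← hK'g]
      rw [Subgroup.closure_le]
      rintro y ⟨hy, hyo⟩
      obtain ⟨i, hi⟩ := hdec y hy
      have hyM : a * y * a⁻¹ ∈ M := by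
        rw [show a * y * a⁻¹ = (a * k * a⁻¹) ^ i * (a * ((k ^ i)⁻¹ * y) * a⁻¹) by rw [conj_zpow]; group]
        refine mul_mem (zpow_mem (by rwa [hai]) i) (mem_sup_right ?_)
        exact conj_mem_of_mem_normalizer (hYO haY) (hCO hi)
      refine mem_of_odd_of_sup (K := K') (Q := O) le_sup_left le_sup_right hOK (by rw [sup_comm])
        (isPGroup_pCoreOf 2 Y) hyM ?_
      show Odd (orderOf (MulAut.conj a y))
      rwa [MulEquiv.orderOf_eq]
    rintro _ ⟨z, hz, rfl⟩
    exact conj_mem_of_mem_normalizer (g := a) (x := ⟨z, hKL hz⟩) haM hz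
  -- now `[V, x]` is the four-group of `d`
  have hxcard : (Trv.mv (act x)).range = (Trv.mv (act d)).range := by
    refine Subgroup.eq_of_le_of_card_ge hrange ?_
    rw [hd.rot.2]
    obtain ⟨w, hw, hwne⟩ : ∃ w ∈ (Trv.mv (act x)).range, act x w ≠ w := by
      by_contra hcon
      push Not at hcon
      exact hx1 (Trv.eq_one_of_range_fixed zq_sq (hxodd.of_dvd_nat (orderOf_map_dvd _ x)) hcon)
    have hfx : ∀ v ∈ (Trv.mv (act x)).range, act x v = v → v = 1 := fun v hv hf =>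
      Trv.eq_one_of_fixed_mem_range zq_sq hxodd (by rw [← map_pow, pow_orderOf_eq_one, map_one]) hv hf
    have hw1 : w ≠ 1 := fun e => hwne (by rw [e, map_one])
    have n1 : act x w ≠ 1 := fun e => hw1 ((act x).injective (by rw [e, map_one]))
    have n2 : act x w * w ≠ 1 := fun e => hwne ((Trv.mv_eq_one_iff zq_sq _ _).1 e)
    have n3 : act x w * w ≠ act x w := fun e => hw1 (mul_left_cancel (e.trans (mul_one _).symm))
    have n4 : act x w * w ≠ w := fun e => n1 (mul_right_cancel (e.trans (one_mul _).symm))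
    have := Trv.length_le_card (S := (Trv.mv (act x)).range) [1, w, act x w, act x w * w]
      (by simp [List.nodup_cons, Ne.symm hw1, Ne.symm n1, Ne.symm n2, Ne.symm n3, Ne.symm n4, Ne.symm hwne])
      (by
        simp only [List.mem_cons, List.not_mem_nil, or_false]
        rintro z (rfl | rfl | rfl | rfl)
        exacts [one_mem _, hw, Trv.apply_mem_range _ hw, mul_mem (Trv.apply_mem_range _ hw) hw])
    simpa using this
  -- `O` centralises it
  have hOW : ∀ o ∈ O, ∀ w ∈ (Trv.mv (act x)).range, act o w = w := by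
    intro o ho
    have hoc : act o * act x = act x * act o := by
      haveI : (rotGroup ↥L).Normal := rotGroup_normal
      have h1 : o * x * o⁻¹ * x⁻¹ ∈ rotGroup ↥L :=
        mul_mem (Subgroup.Normal.conj_mem inferInstance x hxrot o) (inv_mem hxrot)
      have h2 : o * x * o⁻¹ * x⁻¹ ∈ O := by
        rw [show o * x * o⁻¹ * x⁻¹ = o * (x * o⁻¹ * x⁻¹) by group]
        exact mul_mem ho (conj_mem_of_mem_normalizer (hYO hxY) (inv_mem ho))
      obtain ⟨r, hr⟩ := isPGroup_pCoreOf (X := ↥L) 2 Y ⟨_, h2⟩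
      have h3 := act_eq_one_of_mem_pCore (hX.le_pCore_of_two h1 (k := r) (congrArg Subtype.val hr))
      rw [map_mul, map_mul, map_mul, map_inv, map_inv, mul_inv_eq_one, mul_inv_eq_iff_eq_mul] at h3
      exact h3
    intro w hw
    -- a 2-element commuting with a fixed point free element of a four-group
    obtain ⟨r, hr⟩ := isPGroup_pCoreOf (X := ↥L) 2 Y ⟨o, ho⟩
    have hr' : act o ^ 2 ^ r = 1 := by rw [← map_pow, show o ^ 2 ^ r = 1 from congrArg Subtype.val hr, map_one]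
    have hB : IsPGroup 2 ↥(zpowers (act o)) := by
      rintro ⟨g, hg⟩
      obtain ⟨i, rfl⟩ := mem_zpowers_iff.1 hg
      exact ⟨r, Subtype.ext (by
        show (act o ^ i) ^ 2 ^ r = 1
        rw [← zpow_natCast, zpow_comm, zpow_natCast, hr', one_zpow])⟩
    have hstab : ∀ b ∈ zpowers (act o), ∀ u ∈ (Trv.mv (act x)).range, b u ∈ (Trv.mv (act x)).range := by
      intro b hb u hu
      obtain ⟨v, rfl⟩ := hu
      obtain ⟨i, rfl⟩ := mem_zpowers_iff.1 hb
      refine ⟨(act o ^ i) v, ?_⟩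
      rw [Trv.mv_apply, Trv.mv_apply, map_mul,
        show act x ((act o ^ i) v) = (act x * act o ^ i) v from rfl,
        ((show Commute (act x) (act o) from hoc.symm).zpow_right i).eq]
      rfl
    obtain ⟨u, hu, hu1, hufix⟩ := Trv.exists_fixed zq_sq hB _ hstab (by
      intro e; apply hx1
      refine Trv.eq_one_of_range_fixed zq_sq (hxodd.of_dvd_nat (orderOf_map_dvd _ x)) fun z hz => ?_
      rw [e, mem_bot] at hz
      rw [hz, map_one])
    have huo : act o u = u := hufix _ (mem_zpowers _)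
    have hxu : act o (act x u) = act x u := by
      rw [show act o (act x u) = (act o * act x) u from rfl, hoc, MulAut.mul_apply, huo]
    have hfx : ∀ v ∈ (Trv.mv (act x)).range, act x v = v → v = 1 := fun v hv hf =>
      Trv.eq_one_of_fixed_mem_range zq_sq hxodd (by rw [← map_pow, pow_orderOf_eq_one, map_one]) hv hf
    have n0 : act x u ≠ u := fun e => hu1 (hfx u hu e)
    have n1 : act x u ≠ 1 := fun e => hu1 ((act x).injective (by rw [e, map_one]))
    have n2 : act x u * u ≠ 1 := fun e => n0 ((Trv.mv_eq_one_iff zq_sq _ _).1 e)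
    by_contra hne
    have c1 : w ≠ 1 := fun e => hne (by rw [e, map_one])
    have c2 : w ≠ u := fun e => hne (by rw [e, huo])
    have c3 : w ≠ act x u := fun e => hne (by rw [e, hxu])
    have c4 : w ≠ act x u * u := fun e => hne (by rw [e, map_mul, hxu, huo])
    have n3 : act x u * u ≠ act x u := fun e => hu1 (mul_left_cancel (e.trans (mul_one _).symm))
    have n4 : act x u * u ≠ u := fun e => n1 (mul_right_cancel (e.trans (one_mul _).symm))
    have := Trv.length_le_card (S := (Trv.mv (act x)).range) [1, u, act x u, act x u * u, w]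
      (by simp [List.nodup_cons, Ne.symm hu1, Ne.symm n1, Ne.symm n2, Ne.symm n3, Ne.symm n4, Ne.symm n0,
        Ne.symm c1, Ne.symm c2, Ne.symm c3, Ne.symm c4])
      (by
        simp only [List.mem_cons, List.not_mem_nil, or_false]
        rintro z (rfl | rfl | rfl | rfl | rfl)
        exacts [one_mem _, hu, Trv.apply_mem_range _ hu, mul_mem (Trv.apply_mem_range _ hu) hu, hw])
    rw [hxcard, hd.rot.2] at this
    simp at this
  -- the module `V₂ = C_V(O)`
  set V2 : Subgroup ↥L := zq ↥L ⊓ centralizer (O : Set ↥L) with hV2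
  have hVO : zq ↥L ≤ O := by
    refine le_pCoreOf (le_trans ?_ le_sup_right) isPGroup_zq
      (le_top.trans (Subgroup.normalizer_eq_top (H := zq ↥L)).ge)
    exact hX.zq_le_thompson P
  have hV2e : IsElementaryAbelian 2 V2 := CfsgLib.PGroup.elemAb_mono (Oz.elemAb _) inf_le_left
  letI : CommGroup ↥V2 :=
    { (inferInstance : Group ↥V2) with mul_comm := fun u v => hV2e.1.is_comm.comm u v }
  have hV2sq : ∀ u : ↥V2, u * u = 1 := fun u => Subtype.ext (by
    have := hV2e.2 (u : ↥L) u.2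
    rwa [pow_two] at this)
  have hYV : Y ≤ normalizer (V2 : Set ↥L) := by
    intro y hy
    refine mem_normalizer_of_conj_le ?_
    rintro _ ⟨v, hv, rfl⟩
    exact Subgroup.mem_inf.2 ⟨Subgroup.Normal.conj_mem inferInstance v hv.1 y,
      conj_mem_of_mem_normalizer (Oz.mem_normalizer_centralizer (hYO hy)) hv.2⟩
  set φ := (conjOn V2).comp (Subgroup.inclusion hYV) with hφ
  have hφa : ∀ (y : ↥Y) (v : ↥V2), ((φ y v : ↥V2) : ↥L) = (y : ↥L) * v * (y : ↥L)⁻¹ := fun _ _ => rfl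
  have hφO : ∀ y : ↥Y, (y : ↥L) ∈ O → φ y = 1 := fun y hy => by
    ext v
    rw [hφa, MulAut.one_apply, mem_centralizer_iff.1 v.2.2 _ hy, mul_inv_cancel_right]
  have hφker : O.subgroupOf Y ≤ φ.ker := fun y hy => hφO y hy
  set ψ := QuotientGroup.lift (O.subgroupOf Y) φ hφker with hψ
  have hψq : ∀ y : ↥Y, ψ (q y) = φ y := fun y => rfl
  set K3 : ↥Y := ⟨k, mem_sup_left hkK⟩ with hK3
  set A3 : ↥Y := ⟨a, haY⟩ with hA3
  set X3 : ↥Y := ⟨x, hxY⟩ with hX3
  have hP3 : IsPGroup 3 ↥(D3.map ψ) := (CfsgLib.Cores.isPGroup_pCore 3).map ψ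
  have hkP : φ K3 ∈ D3.map ψ := ⟨_, hkD, hψq _⟩
  have hk'P : φ (A3 * K3 * A3⁻¹) ∈ D3.map ψ := ⟨q (A3 * K3 * A3⁻¹), by
    rw [map_mul, map_mul, map_inv]; exact Subgroup.Normal.conj_mem inferInstance _ hkD _, hψq _⟩
  have hxk : φ X3 = (φ K3)⁻¹ * φ (A3 * K3 * A3⁻¹) := by
    rw [← map_inv, ← map_mul]
    have h1 : φ ((K3⁻¹ * (A3 * K3 * A3⁻¹))⁻¹ * X3) = 1 := hφO _ (by
      simp only [K3, A3, X3, Subgroup.coe_mul, InvMemClass.coe_inv, hai]
      exact hxe)
    rw [map_mul, map_inv, inv_mul_eq_one] at h1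
    exact h1.symm
  -- `x` moves `V₂`
  have hxV2 : φ X3 ≠ 1 := by
    intro e1
    obtain ⟨w, hw, hwne⟩ : ∃ w ∈ (Trv.mv (act x)).range, act x w ≠ w := by
      by_contra hcon
      push Not at hcon
      exact hx1 (Trv.eq_one_of_range_fixed zq_sq (hxodd.of_dvd_nat (orderOf_map_dvd _ x)) hcon)
    have hw2 : ((w : ↥(zq ↥L)) : ↥L) ∈ V2 := ⟨w.2, mem_centralizer_iff.2 fun o ho => by
      have := congrArg Subtype.val (hOW o ho w hw)
      rw [act_apply] at this
      exact mul_inv_eq_iff_eq_mul.1 this⟩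
    apply hwne
    apply Subtype.ext
    have := congrArg Subtype.val (DFunLike.congr_fun e1 (⟨_, hw2⟩ : ↥V2))
    rw [hφa, MulAut.one_apply] at this
    rw [act_apply]
    exact this
  have hk1 : φ K3 ≠ 1 := fun e1 => hxV2 (by
    rw [hxk, map_mul, map_mul, map_inv, e1, mul_one, mul_inv_cancel, inv_one, one_mul])
  have hK33 : φ K3 ^ 3 = 1 := by
    rw [← map_pow, show K3 ^ 3 = 1 from Subtype.ext hk3, map_one]
  have hWK : wOf K' = (wOf K).subgroupOf L := by
    apply Subgroup.map_injective L.subtype_injective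
    rw [← wOf_map L.subtype_injective, hKe,
      map_subgroupOf_eq_of_le ((hWC.trans (pCoreOf_le 2 K)).trans hKL)]
  have hW4 : Nat.card ↥(wOf K') = 4 := by
    have e : (wOf K').map L.subtype = wOf K := by rw [← wOf_map L.subtype_injective, hKe]
    rw [← card_map_of_injective (K := wOf K') L.subtype_injective, e]
    exact hKg.1.2.2.2.2.1
  have hrW : (Trv.mv (φ K3)).range.map V2.subtype ≤ wOf K' := by
    have hU : ∀ (v : ↥V2) (y : ↥Y), (y : ↥L) ∈ K' →
        ((Trv.mv (φ y) v : ↥V2) : ↥L) ∈ omegaCenterOf (pCoreOf 2 K') := by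
      intro v y hy
      set z := Trv.mv (φ y) v with hz
      have hvi : (v : ↥L)⁻¹ = v := inv_eq_of_mul_eq_one_right (congrArg Subtype.val (hV2sq v))
      have hzK : (z : ↥L) ∈ K' := by
        rw [hz, Trv.mv_apply, Subgroup.coe_mul, hφa,
          show (y : ↥L) * v * (y : ↥L)⁻¹ * v = (y : ↥L) * (v * (y : ↥L)⁻¹ * (v : ↥L)⁻¹) by rw [hvi]; group]
        exact mul_mem hy (conj_mem_of_mem_normalizer (hON _ hVO v.2.1) (inv_mem hy))
      refine Oz.mem_iff.2 ⟨?_, fun s hs => ?_, ?_⟩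
      · have hle : K' ⊓ zq ↥L ≤ pCoreOf 2 K' := le_pCoreOf inf_le_left
          ((IsPGroup.to_le isPGroup_zq (inf_le_right : K' ⊓ zq ↥L ≤ zq ↥L)))
          (fun s hs => mem_normalizer_of_conj_le (by
            rintro _ ⟨u, hu, rfl⟩
            exact Subgroup.mem_inf.2 ⟨mul_mem (mul_mem hs hu.1) (inv_mem hs),
              Subgroup.Normal.conj_mem inferInstance u hu.2 s⟩))
        exact hle ⟨hzK, z.2.1⟩
      · exact mem_centralizer_iff.1 z.2.2 s (hCO hs)
      · rw [pow_two]; exact congrArg Subtype.val (hV2sq z)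
    rintro _ ⟨_, ⟨v, rfl⟩, rfl⟩
    have e2 : ∀ (y : MulAut ↥V2) u, Trv.mv y (Trv.mv y u) = Trv.mv (y * y) u := fun y u => by
      simp only [Trv.mv_apply, map_mul, MulAut.mul_apply]
      rw [mul_assoc, Trv.mul_left_self hV2sq]
    have h1 : Trv.mv (φ K3) v = Trv.mv (φ (K3 * K3)) (Trv.mv (φ (K3 * K3)) v) := by
      rw [e2, map_mul, show φ K3 * φ K3 * (φ K3 * φ K3) = φ K3 ^ 3 * φ K3 by
        simp only [pow_succ, pow_zero, one_mul, mul_assoc], hK33, one_mul]
    rw [h1]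
    set u := Trv.mv (φ (K3 * K3)) v with hu
    have hkk : ((K3 * K3 : ↥Y) : ↥L) ∈ K' := mul_mem hkK hkK
    have hm : ⁅((u : ↥V2) : ↥L), ((K3 * K3 : ↥Y) : ↥L)⁆ ∈ wOf K' :=
      Subgroup.commutator_mem_commutator (hU v _ hkk) hkk
    have hui : ((u : ↥V2) : ↥L)⁻¹ = u := inv_eq_of_mul_eq_one_right (congrArg Subtype.val (hV2sq u))
    rw [commutatorElement_def, hui, mul_assoc, mul_assoc, ← mul_assoc ((K3 * K3 : ↥Y) : ↥L)] at hm
    show ((Trv.mv (φ (K3 * K3)) u : ↥V2) : ↥L) ∈ wOf K'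
    rw [Trv.mv_apply, mul_comm, Subgroup.coe_mul, hφa]
    exact hm
  have hfk : ∀ v ∈ (Trv.mv (φ K3)).range, φ K3 v = v → v = 1 := fun v hv hf =>
    Trv.eq_one_of_fixed_mem_range hV2sq (k := 3) (by decide) hK33 hv hf
  have hcard4 : Nat.card ↥(Trv.mv (φ K3)).range = 4 := by
    refine le_antisymm ?_ ?_
    · have := Subgroup.card_le_of_le hrW
      rwa [card_map_of_injective V2.subtype_injective, hW4] at this
    · obtain ⟨w, hw, hwne⟩ : ∃ w ∈ (Trv.mv (φ K3)).range, φ K3 w ≠ w := by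
        by_contra hcon
        push Not at hcon
        refine hk1 (Trv.eq_one_of_range_fixed hV2sq ?_ hcon)
        exact (show Odd 3 by decide).of_dvd_nat (orderOf_dvd_of_pow_eq_one hK33)
      have hw1 : w ≠ 1 := fun e => hwne (by rw [e, map_one])
      have n1 : φ K3 w ≠ 1 := fun e => hw1 ((φ K3).injective (by rw [e, map_one]))
      have n2 : φ K3 w * w ≠ 1 := fun e => hwne ((Trv.mv_eq_one_iff hV2sq _ _).1 e)
      have n3 : φ K3 w * w ≠ φ K3 w := fun e => hw1 (mul_left_cancel (e.trans (mul_one _).symm))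
      have n4 : φ K3 w * w ≠ w := fun e => n1 (mul_right_cancel (e.trans (one_mul _).symm))
      have := Trv.length_le_card (S := (Trv.mv (φ K3)).range) [1, w, φ K3 w, φ K3 w * w]
        (by simp [List.nodup_cons, Ne.symm hw1, Ne.symm n1, Ne.symm n2, Ne.symm n3, Ne.symm n4, Ne.symm hwne])
        (by
          simp only [List.mem_cons, List.not_mem_nil, or_false]
          rintro z (rfl | rfl | rfl | rfl)
          exacts [one_mem _, hw, Trv.apply_mem_range _ hw, mul_mem (Trv.apply_mem_range _ hw) hw])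
      simpa using this
  have hrot : Trv.IsRot (φ K3) := ⟨hK33, hcard4⟩
  have hrot' : Trv.IsRot (φ (A3 * K3 * A3⁻¹)) := by rw [map_mul, map_mul, map_inv]; exact hrot.conj _
  have hWeq : (Trv.mv (φ K3)).range.map V2.subtype = wOf K' := Subgroup.eq_of_le_of_card_ge hrW (by
    rw [card_map_of_injective V2.subtype_injective, hcard4, hW4])
  by_cases hr : (Trv.mv (φ (A3 * K3 * A3⁻¹))).range = (Trv.mv (φ K3)).range
  · apply hanW
    refine mem_normalizer_of_conj_le ?_
    rintro _ ⟨w, hw, rfl⟩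
    have hwL : w ∈ L := hKL (pCoreOf_le 2 K (hWC hw))
    have hw' : (⟨w, hwL⟩ : ↥L) ∈ wOf K' := by rw [hWK]; exact hw
    rw [← hWeq] at hw'
    obtain ⟨v, hv, hve⟩ := hw'
    have h2 : φ A3 v ∈ (Trv.mv (φ (A3 * K3 * A3⁻¹))).range := by
      rw [map_mul, map_mul, map_inv, Trv.range_conj]
      exact ⟨v, hv, rfl⟩
    rw [hr] at h2
    have h3 : ((φ A3 v : ↥V2) : ↥L) ∈ wOf K' := hWeq ▸ ⟨_, h2, rfl⟩
    rw [hWK, mem_subgroupOf, hφa, show (v : ↥L) = ⟨w, hwL⟩ from hve] at h3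
    exact h3
  · -- two different four-groups force a too large commutator
    have hcm := Trv.IsRot.commute hV2sq hP3 hrot hrot' hkP hk'P
    have hf1 := hrot.apply_eq_of_commute hV2sq hrot' hcm (Ne.symm hr)
    have hf2 := hrot'.apply_eq_of_commute hV2sq hrot hcm.symm hr
    set R' := (Trv.mv (φ (A3 * K3 * A3⁻¹))).range with hR'
    set R := (Trv.mv (φ K3)).range with hR
    have hkinv : ∀ v, φ K3 v = v → (φ K3)⁻¹ v = v := fun v hv => by
      conv_lhs => rw [← hv]
      exact MulAut.inv_apply_self ↥V2 _ _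
    have hXR : ∀ v ∈ R, ∀ v' ∈ R', φ X3 (v * v') * (v * v') = ((φ K3)⁻¹ v * v) * (φ (A3 * K3 * A3⁻¹) v' * v') := by
      intro v hv v' hv'
      rw [hxk, map_mul, MulAut.mul_apply, MulAut.mul_apply, hf2 v hv,
        hkinv _ (hf1 _ (Trv.apply_mem_range _ hv')), mul_mul_mul_comm]
    have hinj : Function.Injective (fun p : ↥R × ↥R' => Trv.mv (φ X3) ((p.1 : ↥V2) * p.2)) := by
      intro p p' hpp
      simp only at hpp
      have h0 : Trv.mv (φ X3) (((p.1 : ↥V2) * p'.1) * ((p.2 : ↥V2) * p'.2)) = 1 := by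
        rw [mul_mul_mul_comm, map_mul, hpp, hV2sq]
      set v := (p.1 : ↥V2) * p'.1 with hv
      set v' := (p.2 : ↥V2) * p'.2 with hv'
      have hvR : v ∈ R := mul_mem p.1.2 p'.1.2
      have hv'R : v' ∈ R' := mul_mem p.2.2 p'.2.2
      rw [Trv.mv_apply, hXR v hvR v' hv'R] at h0
      have hinvR : (φ K3)⁻¹ v ∈ R := by
        have : (φ K3)⁻¹ = φ K3 * φ K3 := inv_eq_of_mul_eq_one_right (by rw [← mul_assoc, ← pow_three', hK33])
        rw [this, MulAut.mul_apply]
        exact Trv.apply_mem_range _ (Trv.apply_mem_range _ hvR)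
      have e1 : φ (A3 * K3 * A3⁻¹) v' * v' = (φ K3)⁻¹ v * v := by
        rw [← Trv.mul_right_self hV2sq (φ (A3 * K3 * A3⁻¹) v' * v') ((φ K3)⁻¹ v * v),
          mul_comm (φ (A3 * K3 * A3⁻¹) v' * v'), h0, one_mul]
      have e2 : φ (A3 * K3 * A3⁻¹) v' * v' = 1 :=
        hrot.eq_one_of_fixed hV2sq (e1 ▸ mul_mem hinvR hvR)
          (by rw [map_mul, hf1 _ (Trv.apply_mem_range _ hv'R), hf1 _ hv'R])
      have e3 : v' = 1 := hrot'.eq_one_of_fixed hV2sq hv'R ((Trv.mv_eq_one_iff hV2sq _ _).1 e2)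
      rw [e2] at e1
      have e4 : v = 1 := by
        refine hrot.eq_one_of_fixed hV2sq hvR ?_
        have h5 := (mul_eq_one_iff_eq_inv.1 e1.symm).trans (inv_eq_of_mul_eq_one_right (hV2sq v))
        conv_lhs => rw [← h5]
        exact MulAut.apply_inv_self ↥V2 _ _
      refine Prod.ext (Subtype.ext ?_) (Subtype.ext ?_)
      · rw [← Trv.mul_right_self hV2sq (p.1 : ↥V2) p'.1, ← hv, e4, one_mul]
      · rw [← Trv.mul_right_self hV2sq (p.2 : ↥V2) p'.2, ← hv', e3, one_mul]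
    let g : ↥R × ↥R' → ↥(Trv.mv (act x)).range := fun p =>
      ⟨Trv.mv (act x) ⟨(((p.1 : ↥V2) * p.2 : ↥V2) : ↥L), ((p.1 : ↥V2) * p.2 : ↥V2).2.1⟩, ⟨_, rfl⟩⟩
    have hg : Function.Injective g := by
      intro p p' hpp
      apply hinj
      apply Subtype.ext
      have := congrArg (fun z : ↥(Trv.mv (act x)).range => ((z : ↥(zq ↥L)) : ↥L)) hpp
      simpa [g, Trv.mv_apply, act_apply, hφa, X3] using this
    have hbig := Nat.card_le_card_of_injective g hg
    rw [Nat.card_prod, hxcard, hd.rot.2, hcard4, hrot'.2] at hbig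
    omega

end CfsgLib.LocalEven.JComp
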