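import Cfsg.Agent.Lib.LocalEven.JWOrder

/-!
The structure of the `J(P)`-components of a `Good` group.
-/

set_option autoImplicit false

namespace CfsgLib.LocalEven.JComp

open Subgroup CfsgLib.LocalEven Cfsg
open scoped commutatorElement

variable {X : Type*} [Group X] [Finite X]

/-- A block whose transvection lies in a largest elementary abelian subgroup of `P`. -/
def IsJBlock (P : Subgroup X) (a d : X) : Prop :=
  IsBlock a d ∧ ∃ A ∈ maxElementaryAbelianSubgroups 2 X, A ≤ P ∧ a ∈ A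

theorem Good.zq_le_normalizer (hX : Good X) {a d : X} (h : IsBlock a d) :
    zq X ≤ normalizer (compOf d : Set X) := by
  intro v hv
  exact Good.normalizer_of_pCore d (mem_zq.1 hv).1

theorem Good.map_rng_eq (hX : Good X) {P : Sylow 2 X} {a d : X} (h : IsJBlock (P : Subgroup X) a d) :
    (rng d).map (zq X).subtype = wOf (compOf d) := by
  obtain ⟨hb, A, hA, -, ha⟩ := h
  refine Subgroup.eq_of_le_of_card_ge
    (hX.map_rng_le hb.compOf_le_rotGroup (hX.zq_le_normalizer hb) hb.mem_compOf hb.cube) ?_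
  rw [hX.card_wOf hb hA ha, Subgroup.card_map_of_injective (zq X).subtype_injective]
  exact hb.rot.2.ge

theorem Good.isJComponent_compOf (hX : Good X) {P : Sylow 2 X} {a d : X} (h : IsJBlock (P : Subgroup X) a d) :
    IsJComponent (P : Subgroup X) (compOf d) := by
  haveI : Fact (Nat.Prime 2) := ⟨Nat.prime_two⟩
  obtain ⟨hb, A, hA, hAP, ha⟩ := h
  refine ⟨?_, hX.commutator_compOf P hb (CfsgLib.Transfer.le_thompsonSubgroupOf hA hAP ha),
    hX.compOf_relIndex hb, ?_, hX.card_wOf hb hA ha, ?_⟩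
  · refine le_antisymm ((Subgroup.closure_le _).2 fun g hg => hg.1) ?_
    conv_lhs => rw [compOf]
    exact Subgroup.closure_mono fun g hg => ⟨Subgroup.subset_closure hg, hg.2⟩
  · exact fun S hS hJS => Baumann.thompson_eq_of_pGroup hS.2.1 hJS
  · intro w hw
    have hU : wOf (compOf d) ≤ zq X := by
      rw [← hX.map_rng_eq ⟨hb, A, hA, hAP, ha⟩]
      exact Subgroup.map_subtype_le _
    have := (mem_zq.1 (hU hw)).2.2
    rwa [pow_two] at this

theorem Good.exists_jBlock (hX : Good X) {P : Sylow 2 X} {K : Subgroup X}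
    (hK : IsJComponent (P : Subgroup X) K) :
    ∃ a d, IsJBlock (P : Subgroup X) a d ∧ K = compOf d := by
  obtain ⟨a, d, hb, he, A, hA, hAP, ha⟩ := hX.exists_comp_of_axioms P hK.1 hK.2.1 hK.2.2.1 hK.2.2.2.2.1
  exact ⟨a, d, ⟨hb, A, hA, hAP, ha⟩, he⟩

theorem dGroup_le_rotGroup {a d : X} (h : IsBlock a d) : dGroup d ≤ rotGroup X := by
  intro x hx
  obtain ⟨i, hi⟩ := mem_zpowers_iff.1 (mem_dGroup.1 hx)
  have h1 : (d ^ i)⁻¹ * x ∈ Cfsg.pCore 2 X := proj_eq_one_iff.1 (by
    rw [map_mul, map_inv, map_zpow, hi, inv_mul_cancel])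
  have := mul_mem (zpow_mem h.mem_rotGroup i) (pCore_le_rotGroup h1)
  rwa [mul_inv_cancel_left] at this

theorem Good.rotGroup_le_normalizer (hX : Good X) {a d : X} (h : IsBlock a d) :
    rotGroup X ≤ normalizer (compOf d : Set X) ∧ rotGroup X ≤ normalizer (dGroup d : Set X) := by
  have hc : ∀ x ∈ rotGroup X, proj x * proj d * (proj x)⁻¹ = proj d := fun x hx => by
    rw [hX.proj_commute_rotGroup hx (Or.inl h.mem_rotGroup), mul_inv_cancel_right]
  refine ⟨fun x hx => mem_normalizer_compOf (by rw [hc x hx]; exact mem_zpowers _), fun x hx => ?_⟩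
  refine CfsgLib.LocalEven.mem_normalizer_of_conj_le ?_
  rintro _ ⟨y, hy, rfl⟩
  obtain ⟨i, hi⟩ := mem_zpowers_iff.1 (mem_dGroup.1 hy)
  show proj (x * y * x⁻¹) ∈ zpowers (proj d)
  rw [map_mul, map_mul, map_inv, ← hi, ← conj_zpow, hc x hx]
  exact zpow_mem (mem_zpowers _) i

theorem Good.isSubnormal_compOf (hX : Good X) {a d : X} (h : IsBlock a d) : (compOf d).IsSubnormal := by
  refine Subgroup.IsSubnormal.step _ (dGroup d) (compOf_le_dGroup d) ?_
    (Subgroup.normal_subgroupOf_of_le_normalizer (dGroup_le_normalizer d))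
  exact Subgroup.IsSubnormal.step _ (rotGroup X) (dGroup_le_rotGroup h)
    (Subgroup.Normal.isSubnormal inferInstance)
    (Subgroup.normal_subgroupOf_of_le_normalizer (hX.rotGroup_le_normalizer h).2)

theorem Good.compOf_eq_of_rng (hX : Good X) {a d a' d' : X} (h : IsBlock a d) (h' : IsBlock a' d')
    (hr : rng d = rng d') : compOf d = compOf d' := by
  have e : zpowers (proj d) = zpowers (proj d') := le_antisymm
    (zpowers_le.2 (hX.proj_mem_zpowers h' h hr.symm)) (zpowers_le.2 (hX.proj_mem_zpowers h h' hr))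
  unfold compOf dGroup
  rw [e]

theorem Good.rng_eq_of_wOf (hX : Good X) {P : Sylow 2 X} {a d a' d' : X}
    (h : IsJBlock (P : Subgroup X) a d) (h' : IsJBlock (P : Subgroup X) a' d')
    (he : wOf (compOf d) = wOf (compOf d')) : rng d = rng d' := by
  rw [← hX.map_rng_eq h, ← hX.map_rng_eq h'] at he
  exact Subgroup.map_injective (zq X).subtype_injective he

/-- Distinct components centralise each other's four-groups and normalise each other. -/
theorem Good.components_commute (hX : Good X) {P : Sylow 2 X} {K K' : Subgroup X}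
    (hK : IsJComponent (P : Subgroup X) K) (hK' : IsJComponent (P : Subgroup X) K') (hne : K ≠ K') :
    wOf K ⊓ wOf K' = ⊥ ∧ K ≤ centralizer (wOf K' : Set X) ∧ K' ≤ normalizer (K : Set X) := by
  obtain ⟨a, d, h, rfl⟩ := hX.exists_jBlock hK
  obtain ⟨a', d', h', rfl⟩ := hX.exists_jBlock hK'
  have hr : rng d ≠ rng d' := fun e => hne (hX.compOf_eq_of_rng h.1 h'.1 e)
  have hfix := Trv.IsRot.apply_eq_of_commute zq_sq h.1.rot h'.1.rot (h.1.act_commute h'.1) hr
  refine ⟨?_, ?_, (compOf_le_dGroup d').trans ((dGroup_le_rotGroup h'.1).trans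
    (hX.rotGroup_le_normalizer h.1).1)⟩
  · rw [eq_bot_iff, ← hX.map_rng_eq h, ← hX.map_rng_eq h']
    rintro x ⟨⟨v, hv, rfl⟩, w, hw, hwv⟩
    rw [Subgroup.subtype_injective _ hwv] at hw
    rw [mem_bot, h.1.rot.eq_one_of_fixed zq_sq hv (hfix v hw)]
    rfl
  · intro k hk
    rw [← hX.map_rng_eq h', mem_centralizer_iff]
    rintro _ ⟨v, hv, rfl⟩
    obtain ⟨i, hi⟩ := mem_zpowers_iff.1 (mem_dGroup.1 (compOf_le_dGroup d hk))
    have hz : act ((d ^ i)⁻¹ * k) = 1 := act_eq_one_of_mem_pCore (proj_eq_one_iff.1 (by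
      rw [map_mul, map_inv, map_zpow, hi, inv_mul_cancel]))
    have hka : act k = act d ^ i := by
      rw [map_mul, map_inv, inv_mul_eq_one, map_zpow] at hz
      exact hz.symm
    have hst : act d ∈ MulAction.stabilizer (MulAut ↥(zq X)) v := hfix v hv
    have hkv : act k v = v := by rw [hka]; exact zpow_mem hst i
    have := congrArg Subtype.val hkv
    rw [act_apply] at this
    exact (mul_inv_eq_iff_eq_mul.1 this).symm

theorem Good.eq_of_wOf (hX : Good X) {P : Sylow 2 X} {K K' : Subgroup X}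
    (hK : IsJComponent (P : Subgroup X) K) (hK' : IsJComponent (P : Subgroup X) K') (he : wOf K = wOf K') :
    K = K' := by
  obtain ⟨a, d, h, rfl⟩ := hX.exists_jBlock hK
  obtain ⟨a', d', h', rfl⟩ := hX.exists_jBlock hK'
  exact hX.compOf_eq_of_rng h.1 h'.1 (hX.rng_eq_of_wOf h h' he)

theorem Good.sylow_le_normalizer (hX : Good X) {P : Sylow 2 X} {K : Subgroup X}
    (hK : IsJComponent (P : Subgroup X) K)
    (hZW : (P : Subgroup X) ⊓ centralizer ((P : Subgroup X) : Set X) ⊓ wOf K ≠ ⊥) :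
    (P : Subgroup X) ≤ normalizer (K : Set X) := by
  obtain ⟨a, d, h, rfl⟩ := hX.exists_jBlock hK
  obtain ⟨x, ⟨hxZ, hxW⟩, hx1⟩ := (Subgroup.bot_or_exists_ne_one _).resolve_left hZW
  rw [← hX.map_rng_eq h] at hxW
  obtain ⟨v, hv, rfl⟩ := hxW
  intro t ht
  have hb := h.1.conj t
  refine mem_normalizer_compOf ?_
  rw [← map_inv, ← map_mul, ← map_mul]
  refine hX.proj_mem_zpowers h.1 hb ?_
  by_contra hr
  apply hx1
  have hfix := Trv.IsRot.apply_eq_of_commute zq_sq h.1.rot hb.rot (h.1.act_commute hb) hr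
  have hvt : v ∈ rng (t * d * t⁻¹) := by
    show v ∈ (Trv.mv (act (t * d * t⁻¹))).range
    rw [map_mul, map_mul, map_inv, Trv.range_conj]
    refine ⟨v, hv, Subtype.ext ?_⟩
    show ((act t v : ↥(zq X)) : X) = v
    rw [act_apply]
    have hc : t * (v : X) = v * t := mem_centralizer_iff.1 hxZ.2 t ht
    rw [hc, mul_inv_cancel_right]
  rw [h.1.rot.eq_one_of_fixed zq_sq hv (hfix v hvt)]
  rfl

/-- If `J(P)` is not in `O₂(X)` there is a component. -/
theorem Good.exists_component (hX : Good X) (P : Sylow 2 X)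
    (hJ : ¬ thompsonSubgroupOf 2 (P : Subgroup X) ≤ Cfsg.pCore 2 X) :
    ∃ K, IsJComponent (P : Subgroup X) K := by
  obtain ⟨a, ht, A, hA, hAP, ha⟩ : ∃ a, Trv.IsTrv (act a) ∧
      ∃ A ∈ maxElementaryAbelianSubgroups 2 X, A ≤ (P : Subgroup X) ∧ a ∈ A := by
    by_contra hcon
    refine hJ ((hX.thompson_le P).trans ((Subgroup.closure_le _).2 ?_))
    rintro b (hb | hb)
    · exact absurd ⟨b, hb⟩ hcon
    · exact hb
  obtain ⟨d, hd⟩ := exists_block hX (by rw [← pow_two]; exact hA.1.2 a ha) ht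
  exact ⟨_, hX.isJComponent_compOf ⟨hd, A, hA, hAP, ha⟩⟩

/-- `X` is generated by `P`, the components and `N(J(P))`. -/
theorem Good.le_of_components (hX : Good X) (P : Sylow 2 X) {M : Subgroup X}
    (hN : normalizer (thompsonSubgroupOf 2 (P : Subgroup X) : Set X) ≤ M)
    (hK : ∀ K, IsJComponent (P : Subgroup X) K → K ≤ M) : M = ⊤ := by
  haveI : Fact (Nat.Prime 2) := ⟨Nat.prime_two⟩
  haveI := CfsgLib.Cores.pCore_characteristic (G := X) 2
  set J := thompsonSubgroupOf 2 (P : Subgroup X) with hJ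
  have hPN : (P : Subgroup X) ≤ normalizer (J : Set X) := by
    intro q hq
    refine CfsgLib.LocalEven.mem_normalizer_of_conj_le ?_
    rintro _ ⟨_, ⟨u, hu, rfl⟩, rfl⟩
    exact ⟨(⟨q, hq⟩ : ↥(P : Subgroup X)) * u * (⟨q, hq⟩ : ↥(P : Subgroup X))⁻¹,
      (CfsgLib.Transfer.thompsonSubgroup_normal_inst' 2).conj_mem u hu _, rfl⟩
  -- the conjugates of components lie in `M`
  set R : Subgroup X := Subgroup.closure ((Cfsg.pCore 2 X : Set X) ∪
    {d | ∃ a, IsBlock a d ∧ ∃ A ∈ maxElementaryAbelianSubgroups 2 X, a ∈ A}) with hR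
  have hmaxconj : ∀ (g : X) (A : Subgroup X), A ∈ maxElementaryAbelianSubgroups 2 X →
      A.map (MulAut.conj g).toMonoidHom ∈ maxElementaryAbelianSubgroups 2 X := fun g A hA =>
    CfsgLib.Transfer.maxEA_map (MulAut.conj g) hA
  haveI : R.Normal := ⟨fun x hx g => by
    have : R ≤ R.comap (MulAut.conj g).toMonoidHom := by
      conv_lhs => rw [hR]
      rw [Subgroup.closure_le]
      rintro y (hy | ⟨a, ha, A, hA, haA⟩)
      · exact Subgroup.subset_closure (Or.inl (Subgroup.Normal.conj_mem inferInstance y hy g))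
      · exact Subgroup.subset_closure (Or.inr ⟨_, ha.conj g, _, hmaxconj g A hA, ⟨a, haA, rfl⟩⟩)
    exact this hx⟩
  set T₀ : Set X := {b | ∃ A ∈ maxElementaryAbelianSubgroups 2 X, b ∈ A ∧ Trv.IsTrv (act b)} with hT₀
  set ρ := QuotientGroup.mk' R with hρ
  have hρp : ∀ u v : X, proj u = proj v → ρ u = ρ v := by
    intro u v huv
    rw [hρ, QuotientGroup.mk'_apply, QuotientGroup.mk'_apply, QuotientGroup.eq]
    refine Subgroup.subset_closure (Or.inl (proj_eq_one_iff.1 ?_))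
    rw [map_mul, map_inv, huv, inv_mul_cancel]
  have hT₀sq : ∀ b ∈ T₀, b * b = 1 := by
    rintro b ⟨A, hA, hb, -⟩
    rw [← pow_two]; exact hA.1.2 b hb
  have hcomm : ∀ u ∈ T₀, ∀ v ∈ T₀, ρ u * ρ v = ρ v * ρ u := by
    intro u hu v hv
    obtain ⟨A, hA, huA, hut⟩ := hu
    obtain ⟨B, hB, hvB, hvt⟩ := hv
    obtain ⟨du, hdu⟩ := exists_block hX (hT₀sq u ⟨A, hA, huA, hut⟩) hut
    obtain ⟨dv, hdv⟩ := exists_block hX (hT₀sq v ⟨B, hB, hvB, hvt⟩) hvt
    rw [← map_mul, ← map_mul]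
    by_cases hr : rng du = rng dv
    · obtain ⟨j, -, hj⟩ := hX.exists_shift hdu hdv hr
      have h2 : ρ (du ^ j * u * (du ^ j)⁻¹) = ρ v := hρp _ _ hj
      have h3 : ρ du = 1 := (QuotientGroup.eq_one_iff du).2
        (Subgroup.subset_closure (Or.inr ⟨u, hdu, A, hA, huA⟩))
      rw [map_mul, map_mul, map_inv, map_pow, h3, one_pow, inv_one, one_mul, mul_one] at h2
      rw [map_mul, map_mul, h2]
    · exact hρp _ _ (by rw [map_mul, map_mul, hX.proj_commute_trv_trv hdu hdv hr])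
  haveI hIMC : IsMulCommutative ↥(Subgroup.closure (ρ '' T₀)) := Subgroup.isMulCommutative_closure (by
    rintro _ ⟨u, hu, rfl⟩ _ ⟨v, hv, rfl⟩
    exact hcomm u hu v hv)
  have hE2 : IsPGroup 2 ↥(Subgroup.closure (ρ '' T₀)) := by
    rintro ⟨z, hz⟩
    refine ⟨1, Subtype.ext ?_⟩
    show z ^ 2 ^ 1 = 1
    rw [pow_one, pow_two]
    induction hz using Subgroup.closure_induction with
    | mem v hv =>
      obtain ⟨u, hu, rfl⟩ := hv
      rw [← map_mul, hT₀sq u hu, map_one]
    | one => exact one_mul _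
    | mul u v hu' hv' hu hv =>
      have hc : u * v = v * u :=
        congrArg Subtype.val (mul_comm' (⟨u, hu'⟩ : ↥(Subgroup.closure (ρ '' T₀))) ⟨v, hv'⟩)
      rw [mul_assoc, ← mul_assoc v, ← hc, mul_assoc u, hv, mul_one, hu]
    | inv u _ hu => rw [← mul_inv_rev, hu, inv_one]
  haveI hEn : (Subgroup.closure (ρ '' T₀)).Normal := ⟨fun z hz g => by
    obtain ⟨g, rfl⟩ := QuotientGroup.mk'_surjective R g
    have : Subgroup.closure (ρ '' T₀) ≤ (Subgroup.closure (ρ '' T₀)).comap (MulAut.conj (ρ g)).toMonoidHom := by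
      rw [Subgroup.closure_le]
      rintro _ ⟨u, ⟨A, hA, hu, hut⟩, rfl⟩
      refine Subgroup.subset_closure ⟨g * u * g⁻¹, ⟨_, hmaxconj g A hA, ⟨u, hu, rfl⟩, ?_⟩, ?_⟩
      · obtain ⟨d, hd⟩ := exists_block hX (hT₀sq u ⟨A, hA, hu, hut⟩) hut
        exact (hd.conj g).trv
      · show ρ (g * u * g⁻¹) = ρ g * ρ u * (ρ g)⁻¹
        rw [map_mul, map_mul, map_inv]
    exact this hz⟩
  -- conjugates of `J` lie in `R P`
  have hconjJ : ∀ x : X, (J.map (MulAut.conj x).toMonoidHom) ≤ R ⊔ (P : Subgroup X) := by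
    intro x
    set P' := P.mapSurjective (QuotientGroup.mk'_surjective R) with hP'
    have hle : Subgroup.closure (ρ '' T₀) ≤ (P : Subgroup X).map ρ := by
      have h1 := (CfsgLib.Cores.le_pCore hE2).trans (CfsgLib.Cores.pCore_le_sylow P')
      exact h1
    have h2 : J.map (MulAut.conj x).toMonoidHom ≤ Subgroup.closure (T₀ ∪ (R : Set X)) := by
      refine (Subgroup.map_mono (hX.thompson_le P)).trans ?_
      rw [MonoidHom.map_closure, Subgroup.closure_le]
      rintro _ ⟨b, (⟨hbt, A, hA, -, hb⟩ | hb), rfl⟩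
      · obtain ⟨d, hd⟩ := exists_block hX (by rw [← pow_two]; exact hA.1.2 b hb) hbt
        exact Subgroup.subset_closure (Or.inl ⟨_, hmaxconj x A hA, ⟨b, hb, rfl⟩, (hd.conj x).trv⟩)
      · exact Subgroup.subset_closure (Or.inr (Subgroup.subset_closure
          (Or.inl (Subgroup.Normal.conj_mem inferInstance b hb x))))
    refine h2.trans ((Subgroup.closure_le _).2 ?_)
    rintro b (hb | hb)
    · obtain ⟨p, hp, hpb⟩ := hle (Subgroup.subset_closure ⟨b, hb, rfl⟩)
      have h3 : b * p⁻¹ ∈ R := (QuotientGroup.eq_one_iff _).1 (by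
        show ρ (b * p⁻¹) = 1
        rw [map_mul, map_inv, hpb, mul_inv_cancel])
      have := Subgroup.mul_mem_sup (T := (P : Subgroup X)) h3 hp
      rwa [inv_mul_cancel_right] at this
    · exact Subgroup.mem_sup_left hb
  -- `X = R N(J)`
  have hfrat : ∀ x : X, ∃ r ∈ R, r⁻¹ * x ∈ normalizer (J : Set X) := by
    intro x
    set Y := R ⊔ (P : Subgroup X) with hY
    have hJ2 : IsPGroup 2 ↥(J.map (MulAut.conj x).toMonoidHom) :=
      (P.2.to_le (CfsgLib.Transfer.thompsonSubgroupOf_le 2 _)).map _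
    obtain ⟨S, hS⟩ := (hJ2.comap_subtype (K := Y)).exists_le_sylow
    obtain ⟨y, hy⟩ := MulAction.exists_smul_eq ↥Y (P.subtype le_sup_right : Sylow 2 ↥Y) S
    obtain ⟨r, hr, p, hp, hrp⟩ := (Subgroup.mem_sup_of_normal_left).1 y.2
    have hmem : ∀ j ∈ J, r⁻¹ * (x * j * x⁻¹) * r ∈ (P : Subgroup X) := by
      intro j hj
      have h1 : (⟨x * j * x⁻¹, hconjJ x ⟨j, hj, rfl⟩⟩ : ↥Y) ∈ (S : Subgroup ↥Y) := hS ⟨j, hj, rfl⟩
      rw [← hy, Sylow.coe_subgroup_smul, Subgroup.mem_pointwise_smul_iff_inv_smul_mem] at h1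
      rw [Sylow.coe_subtype, Subgroup.mem_subgroupOf] at h1
      simp only [MulAut.smul_def, map_inv, MulAut.inv_apply, MulAut.conj_symm_apply, Subgroup.coe_mul,
        InvMemClass.coe_inv] at h1
      rw [← hrp] at h1
      have h2 := mul_mem (mul_mem hp h1) (inv_mem hp)
      convert h2 using 1
      group
    refine ⟨r, hr, CfsgLib.LocalEven.mem_normalizer_of_conj_le ?_⟩
    have hle : J.map (MulAut.conj (r⁻¹ * x)).toMonoidHom ≤ (P : Subgroup X) := by
      rintro _ ⟨j, hj, rfl⟩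
      show r⁻¹ * x * j * (r⁻¹ * x)⁻¹ ∈ (P : Subgroup X)
      have := hmem j hj
      convert this using 1
      group
    have e : thompsonSubgroupOf 2 ((P : Subgroup X).map (MulAut.conj (r⁻¹ * x)).toMonoidHom) =
        J.map (MulAut.conj (r⁻¹ * x)).toMonoidHom :=
      (CfsgLib.Transfer.thompsonSubgroupOf_map _ ((MulAut.conj _).injective.injOn)).symm
    set P₂ := (r⁻¹ * x) • P with hP₂
    have hP₂e : (P₂ : Subgroup X) = (P : Subgroup X).map (MulAut.conj (r⁻¹ * x)).toMonoidHom := by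
      rw [hP₂, Sylow.coe_subgroup_smul, CfsgLib.Solvable.conj_smul_eq_map]
    have := Baumann.thompson_eq_of_le (T := P₂) (T' := P) (by rw [hP₂e, e]; exact hle)
    rw [hP₂e, e] at this
    exact this.ge
  -- the rotations lie in `M`
  have hRM : R ≤ M := by
    rw [hR, Subgroup.closure_le]
    rintro y (hy | ⟨a, ha, A, hA, haA⟩)
    · exact hN (hPN (CfsgLib.Cores.pCore_le_sylow P hy))
    · obtain ⟨Q, hQ⟩ := (CfsgLib.Transfer.maxEA_isPGroup hA).exists_le_sylow
      obtain ⟨x, hx⟩ := MulAction.exists_smul_eq X P Q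
      obtain ⟨r, hr, hn⟩ := hfrat x
      have hAJ : ∀ z ∈ A, r⁻¹ * z * r ∈ J := by
        intro z hz
        have h1 := CfsgLib.Transfer.le_thompsonSubgroupOf hA hQ hz
        rw [← hx, Sylow.coe_subgroup_smul, CfsgLib.Solvable.conj_smul_eq_map,
          ← CfsgLib.Transfer.thompsonSubgroupOf_map _ ((MulAut.conj x).injective.injOn)] at h1
        obtain ⟨j, hj, rfl⟩ := h1
        have h2 := conj_mem_of_mem_normalizer hn hj
        show r⁻¹ * (x * j * x⁻¹) * r ∈ J
        convert h2 using 1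
        group
      have hA' := hmaxconj r⁻¹ A hA
      have hA'P : A.map (MulAut.conj r⁻¹).toMonoidHom ≤ (P : Subgroup X) := by
        rintro _ ⟨z, hz, rfl⟩
        have := CfsgLib.Transfer.thompsonSubgroupOf_le 2 _ (hAJ z hz)
        show r⁻¹ * z * r⁻¹⁻¹ ∈ (P : Subgroup X)
        rwa [inv_inv]
      have hcomp := hK _ (hX.isJComponent_compOf ⟨ha.conj r⁻¹, _, hA', hA'P, ⟨a, haA, rfl⟩⟩)
      have hrot : r ∈ rotGroup X := by
        have : R ≤ rotGroup X := by
          rw [hR, Subgroup.closure_le]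
          rintro z (hz | ⟨b, hb, -⟩)
          · exact pCore_le_rotGroup hz
          · exact hb.mem_rotGroup
        exact this hr
      have hpe : proj (r⁻¹ * y * r⁻¹⁻¹) = proj y := by
        rw [inv_inv, map_mul, map_mul, map_inv, mul_assoc,
          ← hX.proj_commute_rotGroup hrot (Or.inl ha.mem_rotGroup), inv_mul_cancel_left]
      have he : compOf (r⁻¹ * y * r⁻¹⁻¹) = compOf y := by unfold compOf dGroup; rw [hpe]
      rw [he] at hcomp
      exact hcomp ha.mem_compOf
  rw [eq_top_iff]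
  intro x _
  obtain ⟨r, hr, hn⟩ := hfrat x
  have := mul_mem (hRM hr) (hN hn)
  rwa [mul_inv_cancel_left] at this

end CfsgLib.LocalEven.JComp
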