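import Cfsg.Agent.Lib.LocalEven.JStructure
import Cfsg.Agent.Lib.LocalEven.JCompModule

/-!
`J(T)`-components of `G` inside a 2-constrained subgroup `L`.
-/

set_option autoImplicit false

namespace CfsgLib.LocalEven.JComp

open Subgroup CfsgLib.LocalEven Cfsg
open scoped commutatorElement

section Map

variable {X Y : Type*} [Group X] [Group Y] {f : X →* Y}

theorem pCoreOf_map_inj (hf : Function.Injective f) (H : Subgroup X) :
    pCoreOf 2 (H.map f) = (pCoreOf 2 H).map f := by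
  set e := H.equivMapOfInjective f hf with he
  have h : (pCore 2 ↥H).map e.toMonoidHom = pCore 2 ↥(H.map f) := CfsgLib.Cores.map_pCore_equiv e
  rw [pCoreOf, ← h, Subgroup.map_map, pCoreOf, Subgroup.map_map]
  congr 1

theorem wOf_map (hf : Function.Injective f) (K : Subgroup X) : wOf (K.map f) = (wOf K).map f := by
  show ⁅omegaCenterOf (pCoreOf 2 (K.map f)), K.map f⁆ = (⁅omegaCenterOf (pCoreOf 2 K), K⁆).map f
  rw [Subgroup.map_commutator, pCoreOf_map_inj hf]
  congr 1
  exact (CfsgLib.Transfer.omegaCenterOf_map f hf.injOn).symm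

theorem thompson_map (hf : Function.Injective f) (T : Subgroup X) :
    thompsonSubgroupOf 2 (T.map f) = (thompsonSubgroupOf 2 T).map f :=
  (CfsgLib.Transfer.thompsonSubgroupOf_map f hf.injOn).symm

theorem isSylowTwoIn_map_iff [Finite X] (hf : Function.Injective f) (T L : Subgroup X) :
    IsSylowTwoIn (T.map f) (L.map f) ↔ IsSylowTwoIn T L := by
  unfold IsSylowTwoIn
  rw [Subgroup.map_le_map_iff_of_injective hf, Subgroup.relIndex_map_map_of_injective _ _ hf]
  constructor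
  · rintro ⟨h1, h2, h3⟩
    exact ⟨h1, h2.of_equiv (T.equivMapOfInjective f hf).symm, h3⟩
  · rintro ⟨h1, h2, h3⟩
    exact ⟨h1, h2.map f, h3⟩

theorem isJComponent_map_iff [Finite X] (hf : Function.Injective f) (T K : Subgroup X) :
    IsJComponent (T.map f) (K.map f) ↔ IsJComponent T K := by
  have hset : {g : Y | g ∈ K.map f ∧ Odd (orderOf g)} = f '' {g : X | g ∈ K ∧ Odd (orderOf g)} := by
    ext y
    constructor
    · rintro ⟨⟨x, hx, rfl⟩, ho⟩
      exact ⟨x, ⟨hx, by rwa [orderOf_injective f hf] at ho⟩, rfl⟩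
    · rintro ⟨x, ⟨hx, ho⟩, rfl⟩
      exact ⟨⟨x, hx, rfl⟩, by rwa [orderOf_injective f hf]⟩
  unfold IsJComponent
  rw [hset, ← MonoidHom.map_closure, thompson_map hf, ← Subgroup.map_commutator, pCoreOf_map_inj hf,
    Subgroup.relIndex_map_map_of_injective _ _ hf, wOf_map hf, ← Subgroup.map_sup,
    (Subgroup.map_injective hf).eq_iff, (Subgroup.map_injective hf).eq_iff,
    Subgroup.card_map_of_injective hf]
  refine and_congr_right fun _ => and_congr_right fun _ => and_congr_right fun _ => and_congr ?_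
    (and_congr_right fun _ => ?_)
  · constructor
    · intro h S hS hJ
      have := h (S.map f) ((isSylowTwoIn_map_iff hf _ _).2 hS) (Subgroup.map_mono hJ)
      rw [thompson_map hf] at this
      exact Subgroup.map_injective hf this
    · intro h S hS hJ
      have hSr : S = (S.comap f).map f := by
        rw [Subgroup.map_comap_eq, inf_eq_right.2 (hS.1.trans (Subgroup.map_le_range f _))]
      rw [hSr] at hS hJ ⊢
      rw [thompson_map hf, h _ ((isSylowTwoIn_map_iff hf _ _).1 hS)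
        ((Subgroup.map_le_map_iff_of_injective hf).1 hJ)]
  · constructor
    · intro h w hw
      exact hf (by rw [map_mul, map_one]; exact h (f w) ⟨w, hw, rfl⟩)
    · rintro h _ ⟨w, hw, rfl⟩
      rw [← map_mul, h w hw, map_one]

end Map

variable {G : Type*} [Group G] [Finite G]

/-- The standing hypotheses. -/
structure Amb (G : Type*) [Group G] : Prop where
  char : IsCharacteristicTwoType G
  solv : ∀ N : Subgroup G, IsTwoLocal N → Group.IsSolvable ↥N
  center : ∀ S : Sylow 2 G,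
    centralizer (omegaCenterOf (S : Subgroup G) : Set G) ≤ normalizer ((S : Subgroup G) : Set G)

/-- `C_G(O₂(L)) ≤ O₂(L) ≠ 1`. -/
def Constrained (L : Subgroup G) : Prop :=
  centralizer (pCoreOf 2 L : Set G) ≤ pCoreOf 2 L ∧ pCoreOf 2 L ≠ ⊥

theorem Constrained.of_jOvergroups {T L : Subgroup G} (h : L ∈ jOvergroups T) : Constrained L := by
  refine ⟨h.2.2, fun e => h.2.1 ?_⟩
  have h1 := h.2.2
  rw [e] at h1 ⊢
  intro x _
  exact h1 (mem_centralizer_iff.2 fun y hy => by rw [mem_bot.1 hy, one_mul, mul_one])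

theorem Amb.good (hG : Amb G) {L : Subgroup G} (hL : Constrained L) : Good ↥L := by
  haveI : Fact (Nat.Prime 2) := ⟨Nat.prime_two⟩
  constructor
  · have hle := le_normalizer_pCoreOf (X := G) 2 L
    haveI := hG.solv _ ⟨pCoreOf 2 L, isPGroup_pCoreOf 2 L, hL.2, rfl⟩
    exact Group.isSolvable_of_isSolvable_injective (Subgroup.inclusion_injective hle)
  · intro x hx P
    obtain ⟨S, hS⟩ := (P.2.map L.subtype).exists_le_sylow
    have hSP : (S : Subgroup G).subgroupOf L = (P : Subgroup ↥L) :=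
      P.3 (S.2.comap_subtype) fun y hy => hS ⟨y, hy, rfl⟩
    have hxN : (x : G) ∈ normalizer ((S : Subgroup G) : Set G) := by
      refine hG.center S (mem_centralizer_iff.2 fun z hz => ?_)
      obtain ⟨hzS, hzc, hz2⟩ := Oz.mem_iff.1 hz
      have hzQ : z ∈ pCoreOf 2 L := hL.1 (mem_centralizer_iff.2 fun q hq => by
        refine hzc q ?_
        obtain ⟨q', hq', rfl⟩ := hq
        exact hS ⟨q', CfsgLib.Cores.pCore_le_sylow P hq', rfl⟩)
      obtain ⟨z', hz', rfl⟩ := hzQ
      have hv : z' ∈ zq ↥L := mem_zq.2 ⟨hz', fun s hs => Subtype.ext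
        (hzc s (hS ⟨s, CfsgLib.Cores.pCore_le_sylow P hs, rfl⟩)), Subtype.ext (by
          rw [SubgroupClass.coe_pow]; exact hz2)⟩
      exact congrArg Subtype.val (mem_centralizer_iff.1 hx z' hv)
    rw [Subgroup.mem_normalizer_iff]
    intro y
    rw [← hSP]
    exact Subgroup.mem_normalizer_iff.1 hxN (y : G)

/-- The Sylow subgroup of `↥L` given by `T`. -/
noncomputable def sylowOf {T L : Subgroup G} (h : IsSylowTwoIn T L) : Sylow 2 ↥L :=
  haveI : Fact (Nat.Prime 2) := ⟨Nat.prime_two⟩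
  (h.2.1.comap_subtype (K := L)).toSylow (by
    have := h.2.2
    rw [Subgroup.relIndex] at this
    exact fun hd => (Nat.not_even_iff_odd.2 this) (even_iff_two_dvd.2 hd))

theorem coe_sylowOf {T L : Subgroup G} (h : IsSylowTwoIn T L) :
    ((sylowOf h : Sylow 2 ↥L) : Subgroup ↥L) = T.subgroupOf L := by
  rw [sylowOf]
  rfl

theorem pCoreOf_le_sylow {T L : Subgroup G} (h : IsSylowTwoIn T L) : pCoreOf 2 L ≤ T := by
  haveI : Fact (Nat.Prime 2) := ⟨Nat.prime_two⟩
  rintro _ ⟨q, hq, rfl⟩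
  have := CfsgLib.Cores.pCore_le_sylow (sylowOf h) hq
  rw [coe_sylowOf] at this
  exact this

theorem le_normalizer_thompson (T : Subgroup G) : T ≤ normalizer (thompsonSubgroupOf 2 T : Set G) := by
  intro t ht
  refine mem_normalizer_of_conj_le ?_
  rintro _ ⟨_, ⟨u, hu, rfl⟩, rfl⟩
  exact ⟨(⟨t, ht⟩ : ↥T) * u * (⟨t, ht⟩ : ↥T)⁻¹,
    (CfsgLib.Transfer.thompsonSubgroup_normal_inst' 2).conj_mem u hu _, rfl⟩

theorem isJComponent_subgroupOf {T L K : Subgroup G} (h : IsSylowTwoIn T L) (hKL : K ≤ L) :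
    IsJComponent ((sylowOf h : Sylow 2 ↥L) : Subgroup ↥L) (K.subgroupOf L) ↔ IsJComponent T K := by
  rw [coe_sylowOf, ← isJComponent_map_iff L.subtype_injective, map_subgroupOf_eq_of_le hKL,
    map_subgroupOf_eq_of_le h.1]

variable {T L : Subgroup G}

theorem Amb.component_subnormal (hG : Amb G) (hL : Constrained L) (h : IsSylowTwoIn T L) {K : Subgroup G}
    (hK : IsJComponent T K) (hKL : K ≤ L) : (K.subgroupOf L).IsSubnormal := by
  obtain ⟨a, d, hb, he⟩ := (hG.good hL).exists_jBlock ((isJComponent_subgroupOf h hKL).2 hK)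
  rw [he]
  exact (hG.good hL).isSubnormal_compOf hb.1

theorem Amb.pCoreOf_le_normalizer (_hG : Amb G) (h : IsSylowTwoIn T L) {K : Subgroup G}
    (hK : IsJComponent T K) (hKL : K ≤ L) : pCoreOf 2 L ≤ normalizer (K : Set G) :=
  le_normalizer_of_generated hK.1 hK.2.1 (thompson_isPGroup h.2.1)
    (sup_le (hKL.trans (le_normalizer_pCoreOf 2 L))
      (((CfsgLib.Transfer.thompsonSubgroupOf_le 2 T).trans h.1).trans (le_normalizer_pCoreOf 2 L)))
    ((pCoreOf_le_sylow h).trans (le_normalizer_thompson T))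

theorem Amb.components_commute (hG : Amb G) (hL : Constrained L) (h : IsSylowTwoIn T L) {K K' : Subgroup G}
    (hK : IsJComponent T K) (hK' : IsJComponent T K') (hKL : K ≤ L) (hK'L : K' ≤ L) (hne : K ≠ K') :
    wOf K ⊓ wOf K' = ⊥ ∧ K ≤ centralizer (wOf K' : Set G) ∧ K' ≤ normalizer (K : Set G) := by
  have hne' : K.subgroupOf L ≠ K'.subgroupOf L := fun e => hne (by
    rw [← map_subgroupOf_eq_of_le hKL, e, map_subgroupOf_eq_of_le hK'L])
  obtain ⟨h1, h2, h3⟩ := (hG.good hL).components_commute ((isJComponent_subgroupOf h hKL).2 hK)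
    ((isJComponent_subgroupOf h hK'L).2 hK') hne'
  have hw : ∀ K : Subgroup G, K ≤ L → (wOf (K.subgroupOf L)).map L.subtype = wOf K := fun K hK => by
    rw [← wOf_map L.subtype_injective, map_subgroupOf_eq_of_le hK]
  refine ⟨?_, ?_, ?_⟩
  · rw [← hw K hKL, ← hw K' hK'L, ← Subgroup.map_inf _ _ _ L.subtype_injective, h1, Subgroup.map_bot]
  · intro k hk
    rw [mem_centralizer_iff, ← hw K' hK'L]
    rintro _ ⟨w, hwm, rfl⟩
    exact congrArg Subtype.val (mem_centralizer_iff.1 (h2 (mem_subgroupOf.2 hk : (⟨k, hKL hk⟩ : ↥L) ∈ _)) w hwm)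
  · intro x hx
    refine mem_normalizer_of_conj_le ?_
    rintro _ ⟨k, hk, rfl⟩
    exact conj_mem_of_mem_normalizer (g := (⟨x, hK'L hx⟩ : ↥L)) (x := ⟨k, hKL hk⟩) (h3 hx) hk

theorem Amb.eq_of_wOf (hG : Amb G) (hL : Constrained L) (h : IsSylowTwoIn T L) {K K' : Subgroup G}
    (hK : IsJComponent T K) (hK' : IsJComponent T K') (hKL : K ≤ L) (hK'L : K' ≤ L)
    (he : wOf K = wOf K') : K = K' := by
  have hw : ∀ K : Subgroup G, K ≤ L → (wOf (K.subgroupOf L)).map L.subtype = wOf K := fun K hK => by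
    rw [← wOf_map L.subtype_injective, map_subgroupOf_eq_of_le hK]
  rw [← hw K hKL, ← hw K' hK'L] at he
  have := (hG.good hL).eq_of_wOf ((isJComponent_subgroupOf h hKL).2 hK)
    ((isJComponent_subgroupOf h hK'L).2 hK') (Subgroup.map_injective L.subtype_injective he)
  rw [← map_subgroupOf_eq_of_le hKL, this, map_subgroupOf_eq_of_le hK'L]

theorem Amb.exists_component (hG : Amb G) (hL : Constrained L) (h : IsSylowTwoIn T L)
    (hJ : ¬ thompsonSubgroupOf 2 T ≤ pCoreOf 2 L) : ∃ K, IsJComponent T K ∧ K ≤ L := by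
  have hJ' : ¬ thompsonSubgroupOf 2 ((sylowOf h : Sylow 2 ↥L) : Subgroup ↥L) ≤ pCore 2 ↥L := by
    intro hle
    apply hJ
    have := Subgroup.map_mono (f := L.subtype) hle
    rwa [← thompson_map L.subtype_injective, coe_sylowOf, map_subgroupOf_eq_of_le h.1] at this
  obtain ⟨K, hK⟩ := (hG.good hL).exists_component _ hJ'
  refine ⟨K.map L.subtype, ?_, map_subtype_le K⟩
  rw [← map_subgroupOf_eq_of_le h.1, isJComponent_map_iff L.subtype_injective, ← coe_sylowOf h]
  exact hK

theorem Amb.le_of_components (hG : Amb G) (hL : Constrained L) (h : IsSylowTwoIn T L) {M : Subgroup G}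
    (hN : L ⊓ normalizer (thompsonSubgroupOf 2 T : Set G) ≤ M)
    (hK : ∀ K, IsJComponent T K → K ≤ L → K ≤ M) : L ≤ M := by
  have := (hG.good hL).le_of_components (sylowOf h) (M := M.subgroupOf L) ?_ ?_
  · intro x hx
    exact (this.ge (mem_top (⟨x, hx⟩ : ↥L)) : (⟨x, hx⟩ : ↥L) ∈ M.subgroupOf L)
  · intro x hx
    refine mem_subgroupOf.2 (hN ⟨x.2, mem_normalizer_of_conj_le ?_⟩)
    have e : thompsonSubgroupOf 2 T =
        (thompsonSubgroupOf 2 ((sylowOf h : Sylow 2 ↥L) : Subgroup ↥L)).map L.subtype := by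
      rw [← thompson_map L.subtype_injective, coe_sylowOf, map_subgroupOf_eq_of_le h.1]
    rw [e]
    rintro _ ⟨_, ⟨y, hy, rfl⟩, rfl⟩
    exact ⟨x * y * x⁻¹, conj_mem_of_mem_normalizer hx hy, rfl⟩
  · intro K hK'
    have h1 : IsJComponent T (K.map L.subtype) := by
      rw [← map_subgroupOf_eq_of_le h.1, isJComponent_map_iff L.subtype_injective, ← coe_sylowOf h]
      exact hK'
    intro x hx
    exact hK _ h1 (map_subtype_le K) ⟨x, hx, rfl⟩

theorem Amb.sylow_le_normalizer (hG : Amb G) (hL : Constrained L) (h : IsSylowTwoIn T L) {K : Subgroup G}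
    (hK : IsJComponent T K) (hKL : K ≤ L)
    (hZW : T ⊓ centralizer (T : Set G) ⊓ wOf K ≠ ⊥) : T ≤ normalizer (K : Set G) := by
  obtain ⟨z, ⟨hzZ, hzW⟩, hz1⟩ := (Subgroup.bot_or_exists_ne_one _).resolve_left hZW
  have hw : (wOf (K.subgroupOf L)).map L.subtype = wOf K := by
    rw [← wOf_map L.subtype_injective, map_subgroupOf_eq_of_le hKL]
  rw [← hw] at hzW
  obtain ⟨z', hz', rfl⟩ := hzW
  have h1 := (hG.good hL).sylow_le_normalizer ((isJComponent_subgroupOf h hKL).2 hK) (by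
    intro e
    apply hz1
    have hm : z' ∈ ((sylowOf h : Sylow 2 ↥L) : Subgroup ↥L) ⊓
        centralizer (((sylowOf h : Sylow 2 ↥L) : Subgroup ↥L) : Set ↥L) ⊓ wOf (K.subgroupOf L) := by
      rw [coe_sylowOf]
      exact ⟨⟨hzZ.1, mem_centralizer_iff.2 fun t ht => Subtype.ext (mem_centralizer_iff.1 hzZ.2 t ht)⟩, hz'⟩
    rw [e, mem_bot] at hm
    rw [hm]; rfl)
  intro t ht
  refine mem_normalizer_of_conj_le ?_
  rintro _ ⟨k, hk, rfl⟩
  have ht' : (⟨t, h.1 ht⟩ : ↥L) ∈ ((sylowOf h : Sylow 2 ↥L) : Subgroup ↥L) := by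
    rw [coe_sylowOf]; exact ht
  exact conj_mem_of_mem_normalizer (g := (⟨t, h.1 ht⟩ : ↥L)) (x := ⟨k, hKL hk⟩) (h1 ht') hk

end CfsgLib.LocalEven.JComp
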