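import Cfsg.Agent.Lib.LocalEven.JStraddle

/-!
The unique maximal 2-local subgroup over `⟨K, J(T)⟩` for a component `K` outside `M`.
-/

set_option autoImplicit false

namespace CfsgLib.LocalEven.JComp

open Subgroup CfsgLib.LocalEven Cfsg
open scoped commutatorElement

variable {G : Type*} [Group G] [Finite G]

/-- The standing hypotheses around a maximal straddling 2-subgroup. -/
structure Straddle (M T : Subgroup G) : Prop where
  amb : Amb G
  sylow : ∃ S : Sylow 2 G, normalizer (thompsonSubgroupOf 2 (S : Subgroup G) : Set G) ≤ M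
  mem : T ∈ maxStraddlingTwoSubgroups M

variable {M T : Subgroup G}

theorem Straddle.isPGroup (h : Straddle M T) : IsPGroup 2 ↥T := h.mem.1.1

theorem Straddle.normalizer_le (h : Straddle M T) :
    normalizer (thompsonSubgroupOf 2 T : Set G) ≤ M := by
  obtain ⟨S, hS⟩ := h.sylow
  exact normalizer_thompson_le hS h.mem

/-- A 2-local subgroup outside `M` through `J(T)`. -/
theorem Straddle.local_sylow (h : Straddle M T) {N : Subgroup G} (hN : IsTwoLocal N) (hNM : ¬ N ≤ M)
    (hJ : thompsonSubgroupOf 2 T ≤ N) :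
    Constrained N ∧ ∃ T₀, IsSylowTwoIn T₀ N ∧ thompsonSubgroupOf 2 T₀ = thompsonSubgroupOf 2 T ∧
      N ∈ jOvergroups T₀ ∧ (T ≤ N → IsSylowTwoIn T N) := by
  obtain ⟨S, hS⟩ := h.sylow
  obtain ⟨T₀, hT₀, hJT₀⟩ := exists_sylowTwoIn hJ (thompson_isPGroup h.isPGroup)
  obtain ⟨h1, -, -, h4, h5⟩ := h.amb.straddle hS h.mem hN hNM hT₀ hJT₀
  exact ⟨constrained_of_twoLocal h.amb hN, T₀, hT₀, h1.symm, h4, h5⟩

theorem isJComponent_of_conj_thompson {K : Subgroup G} {g : G} (hK : IsJComponent T K)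
    (hg : g ∈ normalizer (thompsonSubgroupOf 2 T : Set G)) :
    IsJComponent T (K.map (MulAut.conj g).toMonoidHom) := by
  refine (isJComponent_congr ?_).1 (isJComponent_conj g hK)
  rw [thompson_conj, map_conj_of_mem_normalizer hg]

theorem not_normalizer_wOf_le {K : Subgroup G} (hK : IsJComponent T K) (hKM : ¬ K ≤ M) :
    ¬ normalizer (wOf K : Set G) ≤ M :=
  fun e => hKM ((le_sup_left.trans (le_normalizer_wOf hK)).trans e)

/-- In a 2-local outside `M` every component normalises the four-groups of all components. -/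
theorem Straddle.comp_le_normalizer (h : Straddle M T) {N K K' : Subgroup G} (hN : IsTwoLocal N)
    (hNM : ¬ N ≤ M) (hJ : thompsonSubgroupOf 2 T ≤ N) (hK : IsJComponent T K) (hKN : K ≤ N)
    (hK' : IsJComponent T K') (hK'N : K' ≤ N) : K' ≤ normalizer (wOf K : Set G) := by
  obtain ⟨hC, T₀, hT₀, hJ₀, -⟩ := h.local_sylow hN hNM hJ
  by_cases he : K' = K
  · subst he
    exact le_sup_left.trans (le_normalizer_wOf hK')
  · obtain ⟨-, h2, -⟩ := h.amb.components_commute hC hT₀ ((isJComponent_congr hJ₀).2 hK')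
      ((isJComponent_congr hJ₀).2 hK) hK'N hKN he
    refine h2.trans fun x hx => mem_normalizer_of_conj_le ?_
    rintro _ ⟨v, hv, rfl⟩
    show x * v * x⁻¹ ∈ wOf K
    rw [← mem_centralizer_iff.1 hx v hv, mul_inv_cancel_right]
    exact hv

/-- The join of the components in `N(W_K)`. -/
def classJoin (T K : Subgroup G) : Subgroup G :=
  sSup {K' | IsJComponent T K' ∧ K' ≤ normalizer (wOf K : Set G)}

theorem le_classJoin {K K' : Subgroup G} (hK' : IsJComponent T K')
    (hle : K' ≤ normalizer (wOf K : Set G)) : K' ≤ classJoin T K :=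
  le_sSup ⟨hK', hle⟩

/-- The components in `N(W_K)` form a class. -/
theorem Straddle.class_iff (h : Straddle M T) {K K' : Subgroup G} (hK : IsJComponent T K) (hKM : ¬ K ≤ M)
    (hK' : IsJComponent T K') (hK'N : K' ≤ normalizer (wOf K : Set G)) {X : Subgroup G}
    (hX : IsJComponent T X) :
    X ≤ normalizer (wOf K' : Set G) ↔ X ≤ normalizer (wOf K : Set G) := by
  have hN := normalizer_wOf_twoLocal hK
  have hNM := not_normalizer_wOf_le hK hKM
  have hJN : thompsonSubgroupOf 2 T ≤ normalizer (wOf K : Set G) :=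
    le_sup_right.trans (le_normalizer_wOf hK)
  have hKN : K ≤ normalizer (wOf K : Set G) := le_sup_left.trans (le_normalizer_wOf hK)
  have hKK' := h.comp_le_normalizer hN hNM hJN hK' hK'N hK hKN
  constructor
  · intro hle
    exact h.comp_le_normalizer (normalizer_wOf_twoLocal hK') (fun e => hKM (hKK'.trans e))
      (le_sup_right.trans (le_normalizer_wOf hK')) hK hKK' hX hle
  · intro hle
    exact h.comp_le_normalizer hN hNM hJN hK' hK'N hX hle

theorem Straddle.le_normalizer_classJoin (h : Straddle M T) {K : Subgroup G} (hK : IsJComponent T K)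
    (hKM : ¬ K ≤ M) {N : Subgroup G} (hN : IsTwoLocal N) (hle : K ⊔ thompsonSubgroupOf 2 T ≤ N) :
    N ≤ normalizer (classJoin T K : Set G) := by
  have hKN : K ≤ N := le_sup_left.trans hle
  have hJN : thompsonSubgroupOf 2 T ≤ N := le_sup_right.trans hle
  have hNM : ¬ N ≤ M := fun e => hKM (hKN.trans e)
  obtain ⟨hC, T₀, hT₀, hJ₀, -⟩ := h.local_sylow hN hNM hJN
  refine h.amb.le_of_components hC hT₀ ?_ fun X hX hXN => ?_
  · rintro n ⟨hn, hnJ⟩
    rw [hJ₀] at hnJ
    have hK1 : IsJComponent T (K.map (MulAut.conj n).toMonoidHom) := isJComponent_of_conj_thompson hK hnJ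
    have hK1N : K.map (MulAut.conj n).toMonoidHom ≤ normalizer (wOf K : Set G) :=
      h.comp_le_normalizer hN hNM hJN hK hKN hK1 (by
        rintro _ ⟨k, hk, rfl⟩
        exact mul_mem (mul_mem hn (hKN hk)) (inv_mem hn))
    refine mem_normalizer_of_conj_le ?_
    rw [classJoin, Subgroup.map_le_iff_le_comap]
    refine sSup_le ?_
    rintro X ⟨hX, hXK⟩
    rw [← Subgroup.map_le_iff_le_comap]
    refine le_classJoin (isJComponent_of_conj_thompson hX hnJ) ?_
    refine (h.class_iff hK hKM hK1 hK1N (isJComponent_of_conj_thompson hX hnJ)).1 ?_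
    rintro _ ⟨x, hx, rfl⟩
    rw [wOf_map (MulAut.conj n).injective]
    refine mem_normalizer_of_conj_le ?_
    rintro _ ⟨_, ⟨v, hv, rfl⟩, rfl⟩
    exact ⟨x * v * x⁻¹, conj_mem_of_mem_normalizer (hXK hx) hv, by
      simp only [MulEquiv.coe_toMonoidHom, MulAut.conj_apply]; group⟩
  · rw [isJComponent_congr hJ₀] at hX
    exact (le_classJoin hX (h.comp_le_normalizer hN hNM hJN hK hKN hX hXN)).trans Subgroup.le_normalizer

theorem exists_maximalTwoLocal {N : Subgroup G} (hN : IsTwoLocal N) :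
    ∃ L, IsMaximalTwoLocal L ∧ N ≤ L := by
  obtain ⟨L, hNL, hL, hmax⟩ := Finite.exists_le_maximal (p := fun X : Subgroup G => IsTwoLocal X) hN
  exact ⟨L, ⟨hL, fun X hX hLX => le_antisymm (hmax hX hLX) hLX⟩, hNL⟩

theorem normalizer_maximalTwoLocal (hG : Amb G) {L : Subgroup G} (hL : IsMaximalTwoLocal L) :
    normalizer (L : Set G) = L := by
  have hC := constrained_of_twoLocal hG hL.1
  have hle : normalizer (L : Set G) ≤ normalizer (pCoreOf 2 L : Set G) := fun x hx =>
    mem_normalizer_of_conj_le (le_of_eq ((pCoreOf_map 2 _ L).symm.trans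
      (congrArg (pCoreOf 2) (map_conj_of_mem_normalizer hx))))
  have he := hL.2 _ ⟨_, isPGroup_pCoreOf 2 L, hC.2, rfl⟩ (Subgroup.le_normalizer.trans hle)
  exact le_antisymm (hle.trans he.le) Subgroup.le_normalizer

/-- The unique maximal 2-local subgroup over `⟨K, J(T)⟩`. -/
theorem Straddle.exists_maxLocal (h : Straddle M T) {K : Subgroup G} (hK : IsJComponent T K)
    (hKM : ¬ K ≤ M) : ∃ L, IsMaximalTwoLocal L ∧ K ⊔ thompsonSubgroupOf 2 T ≤ L ∧
      ∀ N, IsTwoLocal N → K ⊔ thompsonSubgroupOf 2 T ≤ N → N ≤ L := by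
  set D := classJoin T K with hD
  have hKW : K ≤ normalizer (wOf K : Set G) := le_sup_left.trans (le_normalizer_wOf hK)
  have hWD : wOf K ≤ D :=
    ((wOf_le_pCoreOf hK).1.trans (pCoreOf_le 2 K)).trans (le_classJoin hK hKW)
  have hDN : D ≤ normalizer (wOf K : Set G) := sSup_le fun X hX => hX.2
  have hWR : wOf K ≤ pCoreOf 2 D := le_pCoreOf hWD (wOf_isPGroup hK) hDN
  have hR : pCoreOf 2 D ≠ ⊥ := fun e => component_ne_bot hK (le_bot_iff.1 (e ▸ hWR))
  have hR2 : IsTwoLocal (normalizer (pCoreOf 2 D : Set G)) := ⟨_, isPGroup_pCoreOf 2 D, hR, rfl⟩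
  have hnd : normalizer (D : Set G) ≤ normalizer (pCoreOf 2 D : Set G) := fun x hx =>
    mem_normalizer_of_conj_le (le_of_eq ((pCoreOf_map 2 _ D).symm.trans
      (congrArg (pCoreOf 2) (map_conj_of_mem_normalizer hx))))
  obtain ⟨L, hL, hle⟩ := exists_maximalTwoLocal hR2
  refine ⟨L, hL, ?_, fun N hN hKN => ((h.le_normalizer_classJoin hK hKM hN hKN).trans hnd).trans hle⟩
  exact ((le_normalizer_wOf hK).trans
    (h.le_normalizer_classJoin hK hKM (normalizer_wOf_twoLocal hK) (le_normalizer_wOf hK))).trans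
    (hnd.trans hle)

theorem Straddle.eq_maxLocal (h : Straddle M T) {K : Subgroup G} (hK : IsJComponent T K) (hKM : ¬ K ≤ M)
    {L L' : Subgroup G} (hL : IsMaximalTwoLocal L) (hKL : K ⊔ thompsonSubgroupOf 2 T ≤ L)
    (hL' : IsMaximalTwoLocal L') (hKL' : K ⊔ thompsonSubgroupOf 2 T ≤ L') : L' = L := by
  obtain ⟨L₀, hL₀, -, hu⟩ := h.exists_maxLocal hK hKM
  rw [← hL.2 L₀ hL₀.1 (hu L hL.1 hKL), ← hL'.2 L₀ hL₀.1 (hu L' hL'.1 hKL')]

theorem Straddle.le_maxLocal (h : Straddle M T) {K : Subgroup G} (hK : IsJComponent T K) (hKM : ¬ K ≤ M)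
    {L N : Subgroup G} (hL : IsMaximalTwoLocal L) (hKL : K ⊔ thompsonSubgroupOf 2 T ≤ L)
    (hN : IsTwoLocal N) (hKN : K ⊔ thompsonSubgroupOf 2 T ≤ N) : N ≤ L := by
  obtain ⟨L₀, hL₀, -, hu⟩ := h.exists_maxLocal hK hKM
  rw [← hL.2 L₀ hL₀.1 (hu L hL.1 hKL)]
  exact hu N hN hKN

theorem Straddle.sylow_maxLocal (h : Straddle M T) {K : Subgroup G} (hK : K ∈ jComponentsOutside M T)
    {L : Subgroup G} (hL : IsMaximalTwoLocal L) (hKL : K ⊔ thompsonSubgroupOf 2 T ≤ L) :
    IsSylowTwoIn T L := by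
  have hKT : K ⊔ T ≤ normalizer (pCoreOf 2 (K ⊔ T) : Set G) := le_normalizer_pCoreOf 2 _
  have hle : normalizer (pCoreOf 2 (K ⊔ T) : Set G) ≤ L :=
    h.le_maxLocal hK.1.1 hK.2.1 hL hKL ⟨_, isPGroup_pCoreOf 2 _, hK.2.2, rfl⟩
      ((sup_le_sup_left (CfsgLib.Transfer.thompsonSubgroupOf_le 2 T) K).trans hKT)
  obtain ⟨-, T₀, -, -, -, hT⟩ := h.local_sylow hL.1 (fun e => hK.2.1 ((le_sup_left.trans hKL).trans e))
    (le_sup_right.trans hKL)
  exact hT ((le_sup_right.trans hKT).trans hle)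

end CfsgLib.LocalEven.JComp
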