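import Mathlib
import Cfsg.Agent.Lib.LocalEven.LLemmaModels

/-!
From a rank one quotient `L / A` with the properties of `Good` to fixed point freeness on `A / (Y ∩ Z(L))`.
-/

set_option autoImplicit false

namespace CfsgLib.LocalEven.LLemma

open Subgroup

variable {L : Type*} [Group L] [Finite L] {Y A : Subgroup L} {Q : Type*} [Group Q]

theorem Hyp.map_mem_normalizer_iff (h : Hyp Y A) {f : L →* Q} (hf : Function.Surjective f)
    (hker : f.ker = A) (g : L) :
    f g ∈ Subgroup.normalizer ((Y.map f : Subgroup Q) : Set Q) ↔ g ∈ Subgroup.normalizer (Y : Set L) := by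
  refine ⟨fun hg => ?_, fun hg => Subgroup.le_normalizer_map f ⟨g, hg, rfl⟩⟩
  set X := (Subgroup.normalizer ((Y.map f : Subgroup Q) : Set Q)).comap f with hX
  have hYX : Y ≤ X := fun y hy => Subgroup.le_normalizer ⟨y, hy, rfl⟩
  have hne : X ≠ ⊤ := by
    intro e
    have hN : (Y.map f).Normal := Subgroup.normalizer_eq_top_iff.1 (eq_top_iff.2 fun q _ => by
      obtain ⟨l, rfl⟩ := hf q
      have : l ∈ X := e ▸ Subgroup.mem_top _
      exact this)
    haveI : ((Y.map f).comap f).Normal := hN.comap f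
    have hle : (Y.map f).comap f ≤ Subgroup.normalizer (Y : Set L) := by
      rw [Subgroup.comap_map_eq, hker]
      exact sup_le Subgroup.le_normalizer h.AY
    exact h.ne (eq_top_iff.2 (h.gen ▸
      (Subgroup.normalClosure_le_normal fun y hy => Subgroup.mem_map_of_mem f hy).trans hle))
  exact h.max X hYX hne hg

theorem Hyp.ti_of_good (h : Hyp Y A) {p : ℕ} {f : L →* Q} (hf : Function.Surjective f) (hker : f.ker = A)
    (hgood : Good p (Y.map f)) : TI Y A := by
  intro g hg y hy hgy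
  rw [← hker, MonoidHom.mem_ker]
  refine hgood.ti (f g) (fun e => hg ((h.map_mem_normalizer_iff hf hker g).1 e)) _ ⟨y, hy, rfl⟩ ?_
  rw [← map_inv, ← map_mul, ← map_mul]
  exact (h.map_mem_normalizer_iff hf hker _).2 hgy

theorem Hyp.isPair_of_pair (h : Hyp Y A) {f : L →* Q} (hf : Function.Surjective f) (hker : f.ker = A)
    {l : L} (hl : Pair (Y.map f) (f l)) : IsPair Y A l := by
  obtain ⟨g₁, g₂, _, _, ⟨y₁, hy₁, rfl⟩, ⟨y₂, hy₂, rfl⟩, h1, h2, hg, he⟩ := hl
  obtain ⟨g₁, rfl⟩ := hf g₁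
  obtain ⟨g₂, rfl⟩ := hf g₂
  refine ⟨g₁, g₂, y₁, y₂, hy₁, hy₂, fun e => h1 ?_, fun e => h2 ?_, fun e => hg ?_, ?_⟩
  · rw [← hker, MonoidHom.mem_ker] at e; exact e
  · rw [← hker, MonoidHom.mem_ker] at e; exact e
  · rw [← map_inv, ← map_mul]; exact (h.map_mem_normalizer_iff hf hker _).2 e
  · rw [← hker, MonoidHom.mem_ker, map_mul, map_inv, inv_mul_eq_one, he]
    simp

/-- Elements of prime order different from `p` modulo `A` fix nothing. -/
theorem Hyp.free (h : Hyp Y A) {p : ℕ} {f : L →* Q} (hf : Function.Surjective f) (hker : f.ker = A)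
    (hgood : Good p (Y.map f)) {a l : L} (hl : (orderOf (f l)).Prime) (hlp : orderOf (f l) ≠ p)
    (ha : a ∈ A) (hK : l ∈ K Y a) : a ∈ Y ⊓ Subgroup.center L := by
  have hTI := h.ti_of_good hf hker hgood
  rcases hgood.prod (f l) hl hlp with hh | ⟨z, ⟨y, hy, rfl⟩, hc, hh⟩
  · exact h.pair_free hTI (h.isPair_of_pair hf hker hh) ha hK
  · refine h.central_free hTI hy (fun x => ?_) (h.isPair_of_pair hf hker (by rwa [map_mul])) ha hK
    rw [← hker, MonoidHom.mem_ker]
    simp only [map_mul, map_inv]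
    rw [(hc (f x)).eq, mul_inv_cancel_right, mul_inv_cancel]

end CfsgLib.LocalEven.LLemma
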