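import Mathlib
import Cfsg.Agent.Lib.LocalEven.LLemmaBridge

/-!
In the rank one groups of the `L`-lemma the distinguished `p`-subgroup is the only nontrivial elementary
abelian normal `p`-subgroup of its normalizer.
-/

set_option autoImplicit false

namespace CfsgLib.LocalEven.LLemma

open Subgroup

/-- `Z` is the only nontrivial elementary abelian normal `p`-subgroup of its normalizer. -/
def UniqAbelianNormal {Q : Type*} [Group Q] (p : ℕ) (Z : Subgroup Q) : Prop :=
  ∀ W : Subgroup Q, W ≤ Subgroup.normalizer (Z : Set Q) →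
    (∀ g ∈ Subgroup.normalizer (Z : Set Q), ∀ w ∈ W, g * w * g⁻¹ ∈ W) →
    (∀ w ∈ W, w ^ p = 1) → W ≠ ⊥ → W = Z

theorem UniqAbelianNormal.of_conj {Q : Type*} [Group Q] {p : ℕ} {Z : Subgroup Q} (k : Q)
    (h : UniqAbelianNormal p (Z.map (MulAut.conj k).toMonoidHom)) : UniqAbelianNormal p Z := by
  intro W hW hinv hp hne
  set φ := MulAut.conj k with hφ
  have hnorm : ∀ g : Q, φ g ∈ Subgroup.normalizer ((Z.map φ.toMonoidHom : Subgroup Q) : Set Q) ↔
      g ∈ Subgroup.normalizer (Z : Set Q) := mem_normalizer_map_equiv φ Z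
  have := h (W.map φ.toMonoidHom) (fun x ⟨w, hw, e⟩ => e ▸ (hnorm w).2 (hW hw)) ?_ ?_
    (fun e => hne ((Subgroup.map_eq_bot_iff_of_injective W φ.injective).1 e))
  · exact Subgroup.map_injective φ.injective this
  · rintro g hg _ ⟨w, hw, rfl⟩
    obtain ⟨g, rfl⟩ := φ.surjective g
    exact ⟨g * w * g⁻¹, hinv g ((hnorm g).1 hg) w hw, by simp⟩
  · rintro _ ⟨w, hw, rfl⟩
    rw [← map_pow, hp w hw, map_one]

section SL2

variable {F : Type*} [Field F]

local notation "S₂" => Matrix.SpecialLinearGroup (Fin 2) F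

theorem uniqAbelianNormal_upperU [Finite F] {p : ℕ} [Fact p.Prime] [CharP F p] :
    UniqAbelianNormal p (upperU : Subgroup S₂) := by
  intro W hW hinv hp hne
  haveI := Fintype.ofFinite F
  -- elements of exponent `p` in the Borel subgroup are unitriangular
  have hWU : W ≤ upperU := by
    intro w hw
    have h10 : w.1 1 0 = 0 := mem_normalizer_upperU.1 (hW hw)
    have hpow : ∀ n : ℕ, (w ^ n).1 0 0 = w.1 0 0 ^ n ∧ (w ^ n).1 1 0 = 0 := by
      intro n
      induction n with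
      | zero => simp
      | succ n ih =>
        rw [pow_succ w, sl_mul, sl_mul, ih.1, ih.2, h10, mul_zero, add_zero, pow_succ]
        exact ⟨rfl, by simp⟩
    have h1 : w.1 0 0 ^ p = 1 := by
      rw [← (hpow p).1, hp w hw]
      simp
    refine ⟨?_, h10⟩
    have h2 : (w.1 0 0 - 1) ^ p = 0 := by
      rw [sub_pow_char, h1, one_pow, sub_self]
    exact sub_eq_zero.1 (eq_zero_of_pow_eq_zero h2)
  refine le_antisymm hWU ?_
  let S : AddSubgroup F :=
    { carrier := {t | uMat t ∈ W}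
      zero_mem' := by
        have : uMat (0 : F) = (1 : S₂) := by
          ext i j; fin_cases i <;> fin_cases j <;> simp [uMat]
        show uMat (0 : F) ∈ W
        rw [this]; exact one_mem W
      add_mem' := by
        intro a b ha hb
        have : uMat (a + b) = uMat a * uMat b := by
          ext i j
          fin_cases i <;> fin_cases j <;> simp [sl_mul, uMat00, uMat01, uMat10, uMat11, add_comm]
        show uMat (a + b) ∈ W
        rw [this]; exact mul_mem ha hb
      neg_mem' := by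
        intro a ha
        have : uMat (-a) = (uMat a)⁻¹ := by
          ext i j
          fin_cases i <;> fin_cases j <;>
            simp [sl_inv00, sl_inv01, sl_inv10, sl_inv11, uMat00, uMat01, uMat10, uMat11]
        show uMat (-a) ∈ W
        rw [this]; exact inv_mem ha }
  have hsq : ∀ a : F, ∀ t ∈ S, a * a * t ∈ S := by
    intro a t ht
    rcases eq_or_ne a 0 with rfl | ha
    · simpa using S.zero_mem
    let d : S₂ := ⟨!![a, 0; 0, a⁻¹], by simp [Matrix.det_fin_two, ha]⟩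
    have hd : d ∈ Subgroup.normalizer ((upperU : Subgroup S₂) : Set S₂) := mem_normalizer_upperU.2 rfl
    have d00 : d.1 0 0 = a := rfl
    have d01 : d.1 0 1 = 0 := rfl
    have d10 : d.1 1 0 = 0 := rfl
    have d11 : d.1 1 1 = a⁻¹ := rfl
    have : uMat (a * a * t) = d * uMat t * d⁻¹ := by
      ext i j
      fin_cases i <;> fin_cases j <;>
        simp [sl_mul, sl_inv00, sl_inv01, sl_inv10, sl_inv11, uMat00, uMat01, uMat10, uMat11, d00, d01,
          d10, d11, ha]
      ring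
    show uMat (a * a * t) ∈ W
    rw [this]
    exact hinv d hd _ ht
  have hall : ∀ x : F, ∀ t ∈ S, x * t ∈ S := by
    intro x t ht
    by_cases h2 : ringChar F = 2
    · obtain ⟨a, rfl⟩ := FiniteField.isSquare_of_char_two h2 x
      exact hsq a t ht
    · have h2' : (2 : F) ≠ 0 := Ring.two_ne_zero h2
      have : x * t = (x + 1) / 2 * ((x + 1) / 2) * t - (x - 1) / 2 * ((x - 1) / 2) * t := by
        field_simp
        ring
      rw [this]
      exact S.sub_mem (hsq _ t ht) (hsq _ t ht)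
  obtain ⟨w, hw, hw1⟩ : ∃ w ∈ W, w ≠ 1 := by
    rw [Subgroup.ne_bot_iff_exists_ne_one] at hne
    obtain ⟨⟨w, hw⟩, hw1⟩ := hne
    exact ⟨w, hw, fun e => hw1 (Subtype.ext e)⟩
  have ht0 : w.1 0 1 ≠ 0 := fun e => hw1 (by
    rw [eq_uMat (hWU hw), e]
    ext i j; fin_cases i <;> fin_cases j <;> simp [uMat])
  have htS : w.1 0 1 ∈ S := show uMat _ ∈ W from eq_uMat (hWU hw) ▸ hw
  intro u hu
  rw [eq_uMat hu]
  have := hall (u.1 0 1 / w.1 0 1) _ htS
  rwa [div_mul_cancel₀ _ ht0] at this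

theorem uniqAbelianNormal_sl2 [Finite F] {p : ℕ} [Fact p.Prime] (Z : Subgroup S₂) (hZ : IsPGroup p Z)
    (hcard : Nat.card Z = Nat.card F) : UniqAbelianNormal p Z := by
  obtain ⟨k, hk, hchar⟩ := exists_conj_upperU Z hZ hcard
  haveI := hchar
  refine UniqAbelianNormal.of_conj k ?_
  rw [hk]
  exact uniqAbelianNormal_upperU

end SL2

section Sz

open Cfsg.Lie CfsgLib.Suzuki CfsgLib.SuzukiLaws CfsgLib.Recognition

variable {F : Type*} [Field F] [Fintype F] [CharP F 2] {m : ℕ}
  (hF : Fintype.card F = 2 ^ (2 * m + 1))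

include hF in
theorem uniqAbelianNormal_sz (Z : Subgroup (Sz F (2 ^ (m + 1)))) (hZ : ∀ z ∈ Z, z * z = 1)
    (hcard : Nat.card Z = Fintype.card F)
    (hgen : Subgroup.normalClosure (Z : Set (Sz F (2 ^ (m + 1)))) = ⊤) : UniqAbelianNormal 2 Z := by
  rcases Nat.eq_zero_or_pos m with hm | hm
  · exact (sz_zero_false hF hm Z hZ hgen).elim
  obtain ⟨k, hk⟩ := exists_conj_centerU hF hm Z hZ hcard
  refine UniqAbelianNormal.of_conj k ?_
  intro W hW hinv hp hne
  rw [hk] at hW hinv ⊢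
  have hbor : ∀ g, g ∈ Subgroup.normalizer (centerU hF : Set (Sz F (2 ^ (m + 1)))) ↔ g ∈ SzBorel.borel hF := by
    refine fun g => ⟨fun hg => ?_, mem_normalizer_centerU hF⟩
    obtain ⟨c, hc⟩ := (Subgroup.mem_normalizer_iff''.1 hg (U hF 0 1)).1 ⟨1, rfl⟩
    refine SzBorel.center_fix hF one_ne_zero ?_
    rw [smul_smul, ← map_mul, show U hF 0 1 * g = g * (g⁻¹ * U hF 0 1 * g) by group, hc, map_mul,
      mul_smul, U_smul_inf]
  have hWZ : W ≤ centerU hF := by
    intro w hw
    obtain ⟨s, a, b, rfl⟩ := (stab_inf hF w).1 ((hbor w).1 (hW hw))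
    have h2 : T hF s * U hF a b * (T hF s * U hF a b) = 1 := by rw [← pow_two]; exact hp _ hw
    rw [mul_assoc, ← mul_assoc (U hF a b)] at h2
    have e : T hF s * U hF a b * T hF s⁻¹ = U hF ((s : F) ^ 2 ^ (m + 1) * a) ((s : F) ^ (2 ^ (m + 1) + 2) * b) := by
      rw [T_mul_U, mul_assoc, T_mul, mul_inv_cancel, T_one, mul_one]
    have e2 : T hF s * (U hF a b * T hF s * U hF a b) =
        U hF ((s : F) ^ 2 ^ (m + 1) * a) ((s : F) ^ (2 ^ (m + 1) + 2) * b) * (T hF (s * s) * U hF a b) := by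
      rw [← e, ← T_mul]
      simp only [mul_assoc]
      rw [← mul_assoc (T hF s⁻¹) (T hF s), T_mul, inv_mul_cancel, T_one, one_mul]
    rw [e2, mul_eq_one_iff_inv_eq, U_inv] at h2
    have h3 : T hF 1 * U hF ((s : F) ^ 2 ^ (m + 1) * a) ((s : F) ^ (2 ^ (m + 1) + 2) * b +
        (s : F) ^ 2 ^ (m + 1) * a * ((s : F) ^ 2 ^ (m + 1) * a) ^ 2 ^ (m + 1)) =
        T hF (s * s) * U hF a b := by rw [T_one, one_mul]; exact h2
    have hs : s = 1 := eq_one_of_sq (TU_injective hF h3).1.symm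
    subst hs
    rw [T_one, one_mul] at hw ⊢
    have hsq : U hF a b * U hF a b = 1 := by rw [← pow_two]; exact hp _ hw
    rw [SzBorel.sq_U, ← U_zero hF] at hsq
    rcases mul_eq_zero.1 (U_injective hF hsq).2 with h | h
    · exact ⟨b, by rw [h]⟩
    · exact ⟨b, by rw [(pow_eq_zero_iff (by positivity)).1 h]⟩
  refine le_antisymm hWZ ?_
  obtain ⟨w, hw, hw1⟩ : ∃ w ∈ W, w ≠ 1 := by
    rw [Subgroup.ne_bot_iff_exists_ne_one] at hne
    obtain ⟨⟨w, hw⟩, hw1⟩ := hne
    exact ⟨w, hw, fun e => hw1 (Subtype.ext e)⟩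
  obtain ⟨b, rfl⟩ := hWZ hw
  have hb : b ≠ 0 := fun e => hw1 (by rw [e, U_zero])
  rintro _ ⟨c, rfl⟩
  rcases eq_or_ne c 0 with rfl | hc
  · rw [U_zero]; exact one_mem W
  have hinj : Function.Injective (fun t : Fˣ => t ^ (2 ^ (m + 1) + 2)) := fun x y e => by
    refine div_eq_one.1 (Units.ext (eq_one_of_sigma_two hF ?_))
    rw [← Units.val_pow_eq_pow_val, div_pow]
    exact congrArg Units.val (div_eq_one.2 e)
  obtain ⟨t, ht⟩ := Finite.injective_iff_surjective.1 hinj (Units.mk0 (c / b) (div_ne_zero hc hb))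
  have ht' : (t : F) ^ (2 ^ (m + 1) + 2) = c / b := by
    rw [← Units.val_pow_eq_pow_val]; exact congrArg Units.val ht
  have hmem := hinv (T hF t) ((hbor _).2 (T_smul_inf hF t)) _ hw
  rwa [T_conj_U, mul_zero, ht', div_mul_cancel₀ _ hb] at hmem

end Sz

theorem uniqAbelianNormal_dihedral {r : ℕ} (hr : r.Prime) (hr2 : r ≠ 2) (Z : Subgroup (DihedralGroup r))
    (hZ : ∀ z ∈ Z, z * z = 1) (hne : Z ≠ ⊥) : UniqAbelianNormal 2 Z := by
  obtain ⟨a, hZeq, h2u⟩ := dihedral_shape hr hr2 Z hZ hne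
  intro W hW hinv hp hWne
  have hWZ : W ≤ Z := by
    intro w hw
    cases w with
    | r i =>
      have h := hp _ hw
      rw [pow_two, DihedralGroup.r_mul_r, DihedralGroup.one_def, DihedralGroup.r.injEq] at h
      rw [h2u i h, DihedralGroup.r_zero]
      exact one_mem Z
    | sr i =>
      have h1 := (hZeq _).1 ((Subgroup.mem_normalizer_iff.1 (hW hw) _).1 ((hZeq _).2 (Or.inr rfl)))
      rw [DihedralGroup.inv_sr, DihedralGroup.sr_mul_sr, DihedralGroup.r_mul_sr] at h1
      rcases h1 with h1 | h1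
      · simp [DihedralGroup.one_def, -DihedralGroup.r_zero] at h1
      · rw [DihedralGroup.sr.injEq] at h1
        rw [(sub_eq_zero.1 (h2u (i - a) (by linear_combination h1)))]
        exact (hZeq _).2 (Or.inr rfl)
  refine le_antisymm hWZ fun z hz => ?_
  obtain ⟨⟨w, hw⟩, hw1⟩ := Subgroup.ne_bot_iff_exists_ne_one.1 hWne
  have hwa := ((hZeq w).1 (hWZ hw)).resolve_left fun e => hw1 (Subtype.ext e)
  rcases (hZeq z).1 hz with rfl | rfl
  · exact one_mem W
  · exact hwa ▸ hw

end CfsgLib.LocalEven.LLemma
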