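import Cfsg.Prelude.Def_LocalStructure
import Cfsg.Agent.Lib.LocalEven.LLemmaUniq
import Cfsg.Agent.Lib.LocalEven.CoreOf
import Cfsg.Agent.Lib.LocalEven.PReduced
import Cfsg.Agent.Lib.PGroup.ElemAbelian

/-!
The hypotheses of the `L`-lemma from membership of `L` in the family attached to `Y_M`, and the models
of `L / O_p(L)`.
-/

set_option autoImplicit false

namespace CfsgLib.LocalEven.LLemma

universe u

theorem hyp_of_frakL {G : Type u} [Group G] [Finite G] {p : ℕ} [Fact p.Prime] {M L : Subgroup G}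
    (hL : Cfsg.IsInFrakL p M L) :
    Hyp ((Cfsg.largestPReducedOf p M).subgroupOf L) (Cfsg.pCore p ↥L) := by
  set Y₀ := Cfsg.largestPReducedOf p M with hY₀
  obtain ⟨hYL, hcl, hAN, hmin, hchar, ⟨hlt, hmax⟩, hq⟩ := hL
  set Y : Subgroup ↥L := Y₀.subgroupOf L with hY
  set A : Subgroup ↥L := Cfsg.pCore p ↥L with hA
  have hAof : (Cfsg.pCoreOf p L).subgroupOf L = A := CfsgLib.LocalEven.subgroupOf_pCoreOf p L
  have hel : Cfsg.IsElementaryAbelian p Y₀ :=
    CfsgLib.PGroup.elemAb_map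
      (CfsgLib.LocalEven.PRed.elemAb (CfsgLib.LocalEven.PRed.isPReducedNormal_largestPReduced (p := p) (L := ↥M))) M.subtype
  have hab : ∀ a ∈ Y₀, ∀ b ∈ Y₀, a * b = b * a := fun a ha b hb => CfsgLib.PGroup.elemAb_comm hel ha hb
  have hYA : (Y₀ ⊓ Cfsg.pCoreOf p L).subgroupOf L = Y ⊓ A := by
    rw [← hAof]; rfl
  refine ⟨fun a ha b hb => Subtype.ext (hab _ ha _ hb), inferInstance, ?_, ?_, hmin.1, ?_, ?_, hchar⟩
  · apply Subgroup.map_injective L.subtype_injective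
    rw [← hYA, ← hcl]
    rfl
  · intro a ha
    have ha' : (a : G) ∈ Subgroup.normalizer (Y₀ : Set G) := hAN ⟨a, ha, rfl⟩
    rw [Subgroup.mem_normalizer_iff]
    intro x
    exact Subgroup.mem_normalizer_iff.1 ha' x
  · intro X hYX hX x hx
    have h1 : Y₀ ≤ X.map L.subtype := fun y hy => ⟨⟨y, hYL hy⟩, hYX hy, rfl⟩
    have h2 : X.map L.subtype < L := lt_of_le_of_ne (Subgroup.map_subtype_le X) fun e => hX (by
      apply Subgroup.map_injective L.subtype_injective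
      rw [e, ← MonoidHom.range_eq_map, Subgroup.range_subtype])
    have h3 := (hmax _ h1 h2 ⟨x, hx, rfl⟩).2
    rw [Subgroup.mem_normalizer_iff]
    intro z
    exact Subgroup.mem_normalizer_iff.1 h3 z
  · intro e
    refine hlt.not_ge (le_inf le_rfl fun l hl => ?_)
    have hl' : (⟨l, hl⟩ : ↥L) ∈ Subgroup.normalizer (Y : Set ↥L) := e ▸ Subgroup.mem_top _
    rw [Subgroup.mem_normalizer_iff]
    intro z
    constructor
    · intro hz
      exact (Subgroup.mem_normalizer_iff.1 hl' ⟨z, hYL hz⟩).1 hz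
    · intro hz
      have := (Subgroup.mem_normalizer_iff''.1 hl' ⟨l * z * l⁻¹, hYL hz⟩).1 hz
      have h' := Subgroup.mem_subgroupOf.1 this
      simpa only [Subgroup.coe_mul, InvMemClass.coe_inv, show l⁻¹ * (l * z * l⁻¹) * l = z by group] using h'

theorem rankOne_of_frakL {G : Type u} [Group G] [Finite G] {p : ℕ} [Fact p.Prime] {M L : Subgroup G}
    (hL : Cfsg.IsInFrakL p M L) :
    ∃ (Q : Type) (_ : Group Q) (f : ↥L →* Q), Function.Surjective f ∧ f.ker = Cfsg.pCore p ↥L ∧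
      Good p (((Cfsg.largestPReducedOf p M).subgroupOf L).map f) ∧
      UniqAbelianNormal p (((Cfsg.largestPReducedOf p M).subgroupOf L).map f) ∧
      ((Cfsg.largestPReducedOf p M).subgroupOf L).map f ≠ ⊥ := by
  have hyp := hyp_of_frakL hL
  obtain ⟨hYL, -, -, -, -, -, hq⟩ := hL
  set Y₀ := Cfsg.largestPReducedOf p M with hY₀
  set Y : Subgroup ↥L := Y₀.subgroupOf L with hY
  set A : Subgroup ↥L := Cfsg.pCore p ↥L with hA
  haveI hAn : A.Normal := hyp.An
  set q := QuotientGroup.mk' A with hqm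
  have hel : Cfsg.IsElementaryAbelian p Y₀ :=
    CfsgLib.PGroup.elemAb_map
      (CfsgLib.LocalEven.PRed.elemAb (CfsgLib.LocalEven.PRed.isPReducedNormal_largestPReduced (p := p) (L := ↥M))) M.subtype
  have hpp : ∀ {Q : Type} [Group Q] (f : ↥L →* Q), ∀ z ∈ Y.map f, z ^ p = 1 := by
    rintro Q _ f _ ⟨y, hy, rfl⟩
    have : y ^ p = 1 := Subtype.ext (hel.2 _ hy)
    rw [← map_pow, this, map_one]
  have hsq : ∀ {Q : Type} [Group Q] (f : ↥L →* Q), p = 2 → ∀ z ∈ Y.map f, z * z = 1 := by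
    intro Q _ f h2 z hz
    rw [← pow_two, ← h2]
    exact hpp f z hz
  have hcard : ∀ {Q : Type} [Group Q] (f : ↥L →* Q), f.ker = A →
      Nat.card (Y.map f) = (Y₀ ⊓ Cfsg.pCoreOf p L).relIndex Y₀ := by
    intro Q _ f hf
    have hYA : (Y₀ ⊓ Cfsg.pCoreOf p L).subgroupOf L = Y ⊓ A := by
      rw [hA, ← CfsgLib.LocalEven.subgroupOf_pCoreOf p L]; rfl
    rw [← Subgroup.relIndex_subgroupOf hYL, hYA, Subgroup.inf_relIndex_left, ← hf, Subgroup.relIndex_ker]
  have hgen : ∀ {Q : Type} [Group Q] (f : ↥L →* Q), Function.Surjective f →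
      Subgroup.normalClosure ((Y.map f : Subgroup Q) : Set Q) = ⊤ := by
    intro Q _ f hf
    rw [Subgroup.coe_map, ← Subgroup.map_normalClosure _ f hf, hyp.gen, ← MonoidHom.range_eq_map,
      MonoidHom.range_eq_top.2 hf]
  have hne : ∀ {Q : Type} [Group Q] (f : ↥L →* Q), Function.Surjective f → f.ker = A → Y.map f ≠ ⊥ := by
    intro Q _ f _ hf hb
    have hYA : Y ≤ A := hf ▸ (Subgroup.map_eq_bot_iff _).1 hb
    refine hyp.ne (eq_top_iff.2 (hyp.gen ▸ (Subgroup.normalClosure_le_normal hYA).trans hyp.AY))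
  have hker : ∀ {Q : Type} [Group Q] (e : (↥L ⧸ A) ≃* Q), (e.toMonoidHom.comp q).ker = A := by
    intro Q _ e
    ext x
    simp [hqm]
  have hsurj : ∀ {Q : Type} [Group Q] (e : (↥L ⧸ A) ≃* Q), Function.Surjective (e.toMonoidHom.comp q) :=
    fun e => e.surjective.comp (QuotientGroup.mk'_surjective A)
  rcases hq with ⟨F, i1, i2, hF, ⟨e⟩⟩ | ⟨rfl, F, i1, i2, m, hFc, hF, ⟨e⟩⟩ | ⟨rfl, r, hr, hr2, ⟨e⟩⟩
  · have hp : IsPGroup p (Y.map (e.toMonoidHom.comp q)) :=
      fun z => ⟨1, Subtype.ext (by rw [pow_one, SubgroupClass.coe_pow]; exact hpp _ _ z.2)⟩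
    have hc : Nat.card (Y.map (e.toMonoidHom.comp q)) = Nat.card F := by
      rw [hcard _ (hker e), ← hF, Nat.card_eq_fintype_card]
    exact ⟨_, _, _, hsurj e, hker e, good_sl2 _ hp hc, uniqAbelianNormal_sl2 _ hp hc, hne _ (hsurj e) (hker e)⟩
  · haveI : CharP F 2 := (CharP.charP_iff_prime_eq_zero Nat.prime_two).2 (eq_zero_of_pow_eq_zero (n := 2 * m + 1) (by
      have h0 : ((2 ^ (2 * m + 1) : ℕ) : F) = 0 := hFc ▸ Nat.cast_card_eq_zero F
      exact_mod_cast h0))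
    have hc : Nat.card (Y.map (e.toMonoidHom.comp q)) = Fintype.card F := by rw [hcard _ (hker e), hF]
    exact ⟨_, _, _, hsurj e, hker e, good_sz hFc _ (hsq _ rfl) hc (hgen _ (hsurj e)),
      uniqAbelianNormal_sz hFc _ (hsq _ rfl) hc (hgen _ (hsurj e)), hne _ (hsurj e) (hker e)⟩
  · exact ⟨_, _, _, hsurj e, hker e, good_dihedral hr hr2 _ (hsq _ rfl) (hne _ (hsurj e) (hker e)),
      uniqAbelianNormal_dihedral hr hr2 _ (hsq _ rfl) (hne _ (hsurj e) (hker e)), hne _ (hsurj e) (hker e)⟩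

end CfsgLib.LocalEven.LLemma
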