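import Cfsg.Prelude.Def_LocalStructure
import Cfsg.Agent.Lib.LocalEven.CoreOf
import Cfsg.Agent.Lib.LocalEven.PClosed
import Cfsg.Agent.Lib.Transfer.Basic

/-!
Groups `A` minimal with `P ≤ A` and `Y ≰ O_p(A)` (the family `ℌ`), in abstract form.
-/

set_option autoImplicit false

namespace CfsgLib.LocalEven.MinP

open Subgroup Cfsg
open scoped commutatorElement

variable {A : Type*} [Group A] {G : Type*} [Group G] {p : ℕ}

/-- `Y ≤ P`, `P` centralizes `Y`, `Y ≰ O_p(A)`, and `Y ≤ O_p(X)` for the proper subgroups `X ≥ P`. -/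
structure IsMin (p : ℕ) (P Y : Subgroup A) : Prop where
  isP : IsPGroup p P
  le : Y ≤ P
  cent : P ≤ centralizer (Y : Set A)
  notLe : ¬ Y ≤ pCore p A
  min : ∀ X : Subgroup A, P ≤ X → X ≠ ⊤ → Y ≤ pCoreOf p X

theorem pCoreOf_map_injective (f : A →* G) (hf : Function.Injective f) (X : Subgroup A) :
    pCoreOf p (X.map f) = (pCoreOf p X).map f := by
  have h : (pCore p ↥X).map (X.equivMapOfInjective f hf).toMonoidHom = pCore p ↥(X.map f) :=
    CfsgLib.Cores.map_pCore_equiv _
  show (pCore p ↥(X.map f)).map (X.map f).subtype = ((pCore p ↥X).map X.subtype).map f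
  rw [← h, Subgroup.map_map, Subgroup.map_map]
  congr 1

theorem of_injective [Finite G] {M H : Subgroup G} (f : A →* G) (hf : Function.Injective f)
    (hr : f.range = H) (hH : IsInFrakH p M H) (hP : IsPGroup p (pCoreOf p M))
    (hle : largestPReducedOf p M ≤ pCoreOf p M)
    (hc : pCoreOf p M ≤ centralizer (largestPReducedOf p M : Set G)) :
    IsMin p ((pCoreOf p M).comap f) ((largestPReducedOf p M).comap f) := by
  have hPH : pCoreOf p M ≤ f.range := hr ▸ hH.2.1
  have key : ∀ X : Subgroup A, (largestPReducedOf p M).comap f ≤ pCoreOf p X ↔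
      largestPReducedOf p M ≤ pCoreOf p (X.map f) := fun X => by
    rw [pCoreOf_map_injective f hf, ← Subgroup.map_le_map_iff_of_injective hf,
      Subgroup.map_comap_eq_self (hle.trans hPH)]
  refine ⟨hP.comap_of_injective f hf, Subgroup.comap_mono hle, fun x hx => ?_, fun hY => hH.2.2.1 ?_,
    fun X hPX hX => (key X).2 (hH.2.2.2 _ ?_ ?_)⟩
  · refine Subgroup.mem_centralizer_iff.2 fun y hy => hf ?_
    simpa only [map_mul] using Subgroup.mem_centralizer_iff.1 (hc hx) (f y) hy
  · rw [← hr, MonoidHom.range_eq_map]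
    refine (key ⊤).1 fun y hy => ?_
    have h1 : (pCore p A).map (Subgroup.topEquiv : (⊤ : Subgroup A) ≃* A).symm.toMonoidHom = pCore p (⊤ : Subgroup A) :=
      CfsgLib.Cores.map_pCore_equiv _
    exact ⟨⟨y, Subgroup.mem_top y⟩, h1.le ⟨y, hY hy, rfl⟩, rfl⟩
  · rw [← Subgroup.map_comap_eq_self hPH]
    exact Subgroup.map_mono hPX
  · refine lt_of_le_of_ne (hr ▸ Subgroup.map_le_range f X) fun he => hX ?_
    rw [← hr, MonoidHom.range_eq_map] at he
    exact Subgroup.map_injective hf he

variable [Finite A] [hp : Fact p.Prime] {P Y : Subgroup A}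

omit hp in
theorem pCoreOf_le_of_normal (N : Subgroup A) [N.Normal] : pCoreOf p N ≤ pCore p A :=
  (CfsgLib.Cores.pCore_of_normal p N).trans_le inf_le_left

omit hp in
theorem pCoreOf_inf_le {N X : Subgroup A} [N.Normal] (hNX : N ≤ X) :
    pCoreOf p X ⊓ N ≤ pCore p A := by
  refine le_trans ?_ (pCoreOf_le_of_normal N)
  refine le_pCoreOf inf_le_right ((isPGroup_pCoreOf p X).to_le inf_le_left) fun n hn => ?_
  refine Subgroup.mem_normalizer_iff.2 fun v => and_congr
    (Subgroup.mem_normalizer_iff.1 (le_normalizer_pCoreOf p X (hNX hn)) v)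
    (Subgroup.mem_normalizer_iff.1 (Subgroup.le_normalizer hn) v)

omit hp in
theorem normalClosure_eq_top (h : IsMin p P Y) : normalClosure (P : Set A) = ⊤ := by
  by_contra hne
  exact h.notLe ((h.min _ Subgroup.le_normalClosure hne).trans (pCoreOf_le_of_normal _))

omit hp in
theorem normalClosure_sup_eq_top (h : IsMin p P Y) : normalClosure (Y : Set A) ⊔ P = ⊤ := by
  by_contra hne
  exact h.notLe ((le_inf (h.min _ le_sup_right hne) Subgroup.le_normalClosure).trans
    (pCoreOf_inf_le le_sup_left))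

theorem pResidual_sup_eq_top (h : IsMin p P Y) : pResidual p A ⊔ P = ⊤ := by
  have := CfsgLib.Transfer.pResidual_characteristic (G := A) (p := p)
  set π := QuotientGroup.mk' (pResidual p A) with hπ
  have hmap : P.map π = ⊤ := by
    by_contra hne
    obtain ⟨X, hX, hPX⟩ := (eq_top_or_exists_le_coatom (P.map π)).resolve_left hne
    have : X.Normal := (@Group.normalizerCondition_of_isNilpotent _ _
      (CfsgLib.Transfer.isPGroup_quotient_pResidual (G := A) (p := p)).isNilpotent).normal_of_coatom X hX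
    refine hX.1 ?_
    rw [← Subgroup.map_comap_eq_self_of_surjective (QuotientGroup.mk'_surjective _) X,
      show X.comap π = ⊤ from top_le_iff.1 ((normalClosure_eq_top h).ge.trans
        (Subgroup.normalClosure_le_normal fun x hx => hPX ⟨x, hx, rfl⟩)),
      Subgroup.map_top_of_surjective _ (QuotientGroup.mk'_surjective _)]
  have := congrArg (Subgroup.comap π) hmap
  rwa [Subgroup.comap_map_eq, QuotientGroup.ker_mk', Subgroup.comap_top, sup_comm] at this

theorem pResidual_le_normalClosure (h : IsMin p P Y) : pResidual p A ≤ normalClosure (Y : Set A) :=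
  CfsgLib.LocalEven.PClosed.pResidual_le_of_sup_eq_top h.isP (normalClosure_sup_eq_top h)

theorem pResidual_sup_eq_normalClosure (h : IsMin p P Y) :
    pResidual p A ⊔ Y = normalClosure (Y : Set A) := by
  have := CfsgLib.Transfer.pResidual_characteristic (G := A) (p := p)
  refine le_antisymm (sup_le (pResidual_le_normalClosure h) Subgroup.le_normalClosure) ?_
  have : (pResidual p A ⊔ Y).Normal := by
    rw [← Subgroup.normalizer_eq_top_iff, eq_top_iff, ← pResidual_sup_eq_top h]
    refine sup_le (le_sup_left.trans Subgroup.le_normalizer) ?_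
    intro x hx
    refine mem_normalizer_of_conj_le ?_
    rw [Subgroup.map_sup]
    refine sup_le_sup ?_ ?_
    · rintro _ ⟨r, hr, rfl⟩
      exact Subgroup.Normal.conj_mem inferInstance r hr x
    · rintro _ ⟨y, hy, rfl⟩
      show x * y * x⁻¹ ∈ Y
      rwa [← Subgroup.mem_centralizer_iff.1 (h.cent hx) y hy, mul_inv_cancel_right]
  exact Subgroup.normalClosure_le_normal fun y hy => Subgroup.mem_sup_right hy

theorem commutator_pResidual (h : IsMin p P Y) : ⁅pResidual p A, Y⁆ = pResidual p A := by
  have := CfsgLib.Transfer.pResidual_characteristic (G := A) (p := p)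
  set R := pResidual p A with hR
  set D := ⁅R, Y⁆ with hD
  have hRD : R ≤ normalizer (D : Set A) := Subgroup.normalizer_commutator_ge_left (H₁ := R) (H₂ := Y)
  have hYD : Y ≤ normalizer (D : Set A) := Subgroup.normalizer_commutator_ge_right (H₁ := R) (H₂ := Y)
  have hPD : P ≤ normalizer (D : Set A) := by
    intro x hx
    refine mem_normalizer_of_conj_le ?_
    rw [hD, Subgroup.map_commutator]
    refine Subgroup.commutator_mono ?_ ?_
    · rintro _ ⟨r, hr, rfl⟩
      exact Subgroup.Normal.conj_mem inferInstance r hr x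
    · rintro _ ⟨y, hy, rfl⟩
      show x * y * x⁻¹ ∈ Y
      rwa [← Subgroup.mem_centralizer_iff.1 (h.cent hx) y hy, mul_inv_cancel_right]
  have : D.Normal := by
    rw [← Subgroup.normalizer_eq_top_iff, eq_top_iff, ← pResidual_sup_eq_top h]
    exact sup_le hRD hPD
  have : (D ⊔ Y).Normal := by
    rw [← Subgroup.normalizer_eq_top_iff, eq_top_iff, ← pResidual_sup_eq_top h]
    refine sup_le ?_ fun x hx => ?_
    · intro r hr
      refine mem_normalizer_of_conj_le ?_
      rw [Subgroup.map_sup]
      refine sup_le ?_ ?_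
      · rintro _ ⟨d, hd, rfl⟩
        exact Subgroup.mem_sup_left (Subgroup.Normal.conj_mem inferInstance d hd r)
      · rintro _ ⟨y, hy, rfl⟩
        show r * y * r⁻¹ ∈ D ⊔ Y
        rw [show r * y * r⁻¹ = ⁅r, y⁆ * y by rw [commutatorElement_def]; group]
        exact Subgroup.mul_mem_sup (Subgroup.commutator_mem_commutator hr hy) hy
    · refine mem_normalizer_of_conj_le ?_
      rw [Subgroup.map_sup]
      refine sup_le_sup ?_ ?_
      · rintro _ ⟨d, hd, rfl⟩
        exact Subgroup.Normal.conj_mem inferInstance d hd x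
      · rintro _ ⟨y, hy, rfl⟩
        show x * y * x⁻¹ ∈ Y
        rwa [← Subgroup.mem_centralizer_iff.1 (h.cent hx) y hy, mul_inv_cancel_right]
  refine le_antisymm (Subgroup.commutator_le_left _ _) ?_
  refine CfsgLib.LocalEven.PClosed.pResidual_le_of_sup_eq_top (N := D) h.isP (top_le_iff.1 ?_)
  rw [← normalClosure_sup_eq_top h]
  exact sup_le ((Subgroup.normalClosure_le_normal fun y hy => Subgroup.mem_sup_right hy).trans
    (sup_le_sup le_rfl h.le)) le_sup_right

/-- A normal subgroup `N` with `N P` proper is `p`-closed. -/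
theorem isPClosed_of_sup_ne_top (h : IsMin p P Y) (N : Subgroup A) [N.Normal] (hN : N ⊔ P ≠ ⊤) :
    IsPClosed p ↥N := by
  obtain ⟨T, hT⟩ := h.isP.exists_le_sylow
  rw [CfsgLib.LocalEven.PClosed.iff_of_normal T N]
  set O := pCore p A with hO
  set π := QuotientGroup.mk' O with hπ
  have hcomm : ∀ n ∈ N, ∀ y ∈ Y, π n * π y = π y * π n := fun n hn y hy => by
    have hyX : y ∈ pCoreOf p (N ⊔ P) := h.min _ le_sup_right hN hy
    have : n * y * n⁻¹ * y⁻¹ ∈ O := pCoreOf_inf_le (le_sup_left : N ≤ N ⊔ P)
      (Subgroup.mem_inf.2 ⟨mul_mem (conj_mem_of_mem_normalizer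
        (le_normalizer_pCoreOf p (N ⊔ P) (Subgroup.mem_sup_left hn)) hyX) (inv_mem hyX), by
          rw [show n * y * n⁻¹ * y⁻¹ = n * (y * n⁻¹ * y⁻¹) by group]
          exact mul_mem hn (Subgroup.Normal.conj_mem inferInstance _ (inv_mem hn) y)⟩)
    have h1 : π (n * y * n⁻¹ * y⁻¹) = 1 := (QuotientGroup.eq_one_iff _).2 this
    rwa [map_mul, map_mul, map_mul, map_inv, map_inv, mul_inv_eq_one, mul_inv_eq_iff_eq_mul] at h1
  have : ((centralizer (N.map π : Set (A ⧸ O))).comap π).Normal := by
    have : (N.map π).Normal := Subgroup.Normal.map ‹N.Normal› π (QuotientGroup.mk'_surjective O)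
    infer_instance
  have hW : normalClosure (Y : Set A) ≤ (centralizer (N.map π : Set (A ⧸ O))).comap π :=
    Subgroup.normalClosure_le_normal fun y hy => Subgroup.mem_centralizer_iff.2 (by
      rintro _ ⟨n, hn, rfl⟩
      exact hcomm n hn y hy)
  set D := ((T : Subgroup A) ⊓ N) ⊔ O with hD
  have hOT : O ≤ (T : Subgroup A) := CfsgLib.Cores.pCore_le_sylow T
  have : D.Normal := by
    rw [← Subgroup.normalizer_eq_top_iff, eq_top_iff, ← normalClosure_sup_eq_top h]
    refine sup_le (fun w hw => ?_) (fun x hx => ?_)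
    · refine mem_normalizer_of_conj_le ?_
      rw [hD, Subgroup.map_sup]
      refine sup_le ?_ ?_
      · rintro _ ⟨d, hd, rfl⟩
        show w * d * w⁻¹ ∈ D
        have h1 : d⁻¹ * (w * d * w⁻¹) ∈ O := by
          rw [← QuotientGroup.eq_one_iff]
          show π _ = 1
          have h2 := Subgroup.mem_centralizer_iff.1 (hW hw) (π d) ⟨d, hd.2, rfl⟩
          simp only [map_mul, map_inv]
          rw [← h2, mul_inv_cancel_right, inv_mul_cancel]
        rw [show w * d * w⁻¹ = d * (d⁻¹ * (w * d * w⁻¹)) by group]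
        exact Subgroup.mul_mem_sup hd h1
      · rintro _ ⟨d, hd, rfl⟩
        exact Subgroup.mem_sup_right (Subgroup.Normal.conj_mem inferInstance d hd w)
    · refine mem_normalizer_of_conj_le ?_
      rw [hD, Subgroup.map_sup]
      refine sup_le_sup ?_ ?_
      · rintro _ ⟨d, hd, rfl⟩
        exact Subgroup.mem_inf.2 ⟨mul_mem (mul_mem (hT hx) hd.1) (inv_mem (hT hx)),
          Subgroup.Normal.conj_mem inferInstance d hd.2 x⟩
      · rintro _ ⟨d, hd, rfl⟩
        exact Subgroup.Normal.conj_mem inferInstance d hd x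
  exact le_sup_left.trans (CfsgLib.Cores.le_pCore (N := D) (T.2.to_le (sup_le inf_le_left hOT)))

end CfsgLib.LocalEven.MinP
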