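import Mathlib
import Cfsg.Prelude.Def_Transfer
import Cfsg.Prelude.Def_KGroupFacts

/-!
`Inn Q` has no complement in `Aut Q` for an extraspecial `2`-group with four suitable transvection
vectors.
-/

set_option autoImplicit false

namespace CfsgLib.LocalEven.Nonsplit

open Subgroup
open scoped commutatorElement

variable {Q : Type*} [Group Q]

/-- The standing hypotheses: `Q` modulo `⟨z⟩` is elementary abelian and `Z(Q) = ⟨z⟩`. -/
structure Data (z : Q) : Prop where
  z2 : z * z = 1
  z1 : z ≠ 1
  zc : ∀ x, Commute z x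
  comm : ∀ x y : Q, x * y = y * x ∨ x * y = y * x * z
  cen : ∀ x, x ∈ center Q ↔ x = 1 ∨ x = z
  sq : ∀ x : Q, x * x = 1 ∨ x * x = z

variable {z : Q}

theorem Data.flip (D : Data z) {x y : Q} (h : ¬ Commute x y) : x * y = y * x * z :=
  (D.comm x y).resolve_left h

theorem Data.commute_prod (D : Data z) {w x y : Q} (hx : ¬ Commute w x) (hy : ¬ Commute w y) :
    Commute w (x * y) := by
  show w * (x * y) = x * y * w
  calc w * (x * y) = (w * x) * y := by group
    _ = x * w * z * y := by rw [D.flip hx]
    _ = x * (w * y) * z := by rw [mul_assoc (x * w) z y, (D.zc y).eq]; group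
    _ = x * y * w * (z * z) := by rw [D.flip hy]; group
    _ = x * y * w := by rw [D.z2, mul_one]

theorem Data.not_commute_mul (D : Data z) {w x y : Q} (hx : Commute w x) :
    Commute w (x * y) ↔ Commute w y := by
  refine ⟨fun h => ?_, fun h => hx.mul_right h⟩
  have := hx.inv_right.mul_right h
  rwa [inv_mul_cancel_left] at this

theorem Data.mul_not_commute (D : Data z) {w x y : Q} (hy : Commute w y) :
    Commute w (x * y) ↔ Commute w x := by
  refine ⟨fun h => ?_, fun h => h.mul_right hy⟩
  have := h.mul_right hy.inv_right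
  rwa [mul_inv_cancel_right] at this

open scoped Classical in
/-- The transvection attached to `w`. -/
noncomputable def tf (w x : Q) : Q := if Commute w x then x else x * w

open scoped Classical in
theorem tf_mul (D : Data z) {w : Q} (hw : w * w = z) (x y : Q) : tf w (x * y) = tf w x * tf w y := by
  unfold tf
  by_cases hx : Commute w x <;> by_cases hy : Commute w y
  · rw [if_pos hx, if_pos hy, if_pos (hx.mul_right hy)]
  · rw [if_pos hx, if_neg hy, if_neg (mt (D.not_commute_mul hx).1 hy)]
    group
  · rw [if_neg hx, if_pos hy, if_neg (mt (D.mul_not_commute hy).1 hx), mul_assoc x y w, ← hy.eq]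
    group
  · rw [if_neg hx, if_neg hy, if_pos (D.commute_prod hx hy)]
    calc x * y = x * y * (z * z) := by rw [D.z2, mul_one]
      _ = x * y * (w * w) * z := by rw [hw]; group
      _ = x * y * w * (w * z) := by group
      _ = x * y * w * (z * w) := by rw [(D.zc w).eq]
      _ = x * (y * w * z) * w := by group
      _ = x * (w * y) * w := by rw [D.flip hy]
      _ = x * w * (y * w) := by group

open scoped Classical in
theorem tf_tf (D : Data z) {w : Q} (hw : w * w = z) (x : Q) :
    tf w (tf w x) = x * (if Commute w x then 1 else z) := by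
  unfold tf
  by_cases h : Commute w x
  · simp [h]
  · rw [if_neg h, if_neg h, if_neg (mt (D.mul_not_commute (Commute.refl w)).1 h), mul_assoc, hw]

theorem tf_tf_conj (D : Data z) {w : Q} (hw : w * w = z) (x : Q) : tf w (tf w x) = w * x * w⁻¹ := by
  rw [tf_tf D hw]
  by_cases h : Commute w x
  · rw [if_pos h, mul_one, h.eq, mul_inv_cancel_right]
  · rw [if_neg h, eq_mul_inv_iff_mul_eq, D.flip h, mul_assoc x z w, (D.zc w).eq, mul_assoc x w z]

/-- The transvection as an automorphism. -/
noncomputable def tau (D : Data z) {w : Q} (hw : w * w = z) : MulAut Q :=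
  MulEquiv.ofBijective (MonoidHom.mk' (tf w) (tf_mul D hw)) (by
    constructor
    · intro x y h
      have h' := congrArg (tf w) h
      simp only [MonoidHom.mk'_apply, tf_tf_conj D hw] at h'
      simpa using h'
    · intro x
      refine ⟨tf w (w⁻¹ * x * w), ?_⟩
      show tf w (tf w (w⁻¹ * x * w)) = x
      rw [tf_tf_conj D hw]; group)

@[simp] theorem tau_apply (D : Data z) {w : Q} (hw : w * w = z) (x : Q) : tau D hw x = tf w x := rfl

theorem tau_mul_self (D : Data z) {w : Q} (hw : w * w = z) : tau D hw * tau D hw = MulAut.conj w :=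
  MulEquiv.ext fun x => by simp [MulAut.mul_apply, tf_tf_conj D hw]

theorem tau_comm (D : Data z) {v w : Q} (hv : v * v = z) (hw : w * w = z) (h : Commute v w) :
    tau D hv * tau D hw = tau D hw * tau D hv := by
  classical
  refine MulEquiv.ext fun x => ?_
  simp only [MulAut.mul_apply, tau_apply]
  unfold tf
  by_cases hx : Commute w x <;> by_cases hy : Commute v x
  · simp [hx, hy]
  · simp [hx, hy, h.symm, hx.mul_right h.symm]
  · simp [hx, hy, h, hy.mul_right h]
  · have h1 : ¬ Commute v (x * w) := mt (D.mul_not_commute h).1 hy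
    have h2 : ¬ Commute w (x * v) := mt (D.mul_not_commute h.symm).1 hx
    rw [if_neg hx, if_neg hy, if_neg h1, if_neg h2, mul_assoc, mul_assoc, h.eq]

theorem conj_tau (D : Data z) {w : Q} (hw : w * w = z) (u : Q) :
    tau D hw * MulAut.conj u = MulAut.conj (tf w u) * tau D hw :=
  MulEquiv.ext fun x => by
    show tau D hw (u * x * u⁻¹) = tau D hw u * tau D hw x * (tau D hw u)⁻¹
    rw [map_mul, map_mul, map_inv]

theorem Data.mem_center_of_conj (D : Data z) {a : Q} (h : MulAut.conj a = 1) : a = 1 ∨ a = z :=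
  (D.cen a).1 (mem_center_iff.2 fun x => by
    have h1 := congrArg (fun φ : MulAut Q => φ x) h
    simp only [MulAut.conj_apply, MulAut.one_apply] at h1
    exact (mul_inv_eq_iff_eq_mul.1 h1).symm)

theorem Data.commute_of_eq (D : Data z) {a b : Q} (h : a = 1 ∨ a = z) : Commute b a := by
  rcases h with rfl | rfl
  · exact Commute.one_right b
  · exact (D.zc b).symm

theorem no_complement (D : Data z) {c a b : Q} (hc : c * c = z) (ha : a * a = 1) (hb : b * b = 1)
    (hca : Commute c a) (hcb : Commute c b) (hab : Commute a b) (ha1 : a ≠ 1) (haz : a ≠ z)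
    (hb1 : b ≠ 1) (hbz : b ≠ z) (hba : b ≠ a) (hbaz : b ≠ a * z) (L : Subgroup (MulAut Q)) :
    ¬ (Cfsg.Inn Q).IsComplement' L := by
  classical
  intro hL
  haveI : (Cfsg.Inn Q).Normal := Cfsg.innNormal Q
  have hdis : ∀ φ ∈ L, φ ∈ Cfsg.Inn Q → φ = 1 := fun φ h1 h2 =>
    mem_bot.1 (hL.disjoint.eq_bot ▸ (⟨h2, h1⟩ : φ ∈ Cfsg.Inn Q ⊓ L))
  have hlift : ∀ φ : MulAut Q, ∃ u : Q, MulAut.conj u * φ ∈ L := by
    intro φ
    obtain ⟨⟨⟨i, hi⟩, ⟨l, hl⟩⟩, h, -⟩ := hL.existsUnique φ
    obtain ⟨u, rfl⟩ := hi
    exact ⟨u⁻¹, by rw [← h]; simpa using hl⟩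
  have hu : ∀ {w : Q} (hw : w * w = z), ∃ u : Q, MulAut.conj u * tau D hw ∈ L ∧ ¬ Commute w u := by
    intro w hw
    obtain ⟨u, hu⟩ := hlift (tau D hw)
    refine ⟨u, hu, fun hwu => ?_⟩
    have e : MulAut.conj u * tau D hw * (MulAut.conj u * tau D hw) = MulAut.conj (u * tf w u * w) := by
      rw [map_mul, map_mul, ← tau_mul_self D hw]
      simp only [mul_assoc]
      rw [← mul_assoc (tau D hw) (MulAut.conj u), conj_tau, mul_assoc]
    have h1 := hdis _ (mul_mem hu hu) (e ▸ ⟨_, rfl⟩)
    rw [e] at h1
    have h2 := D.mem_center_of_conj h1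
    rw [show tf w u = u from if_pos hwu] at h2
    have h3 : w = 1 ∨ w = z := by
      rcases D.sq u with e | e <;> rw [e] at h2
      · simpa using h2
      · rcases h2 with h2 | h2
        · exact Or.inr (mul_left_cancel (h2.trans D.z2.symm))
        · exact Or.inl (mul_left_cancel (h2.trans (mul_one z).symm))
    rcases h3 with rfl | rfl
    · exact D.z1 (hw.symm.trans (one_mul 1))
    · exact D.z1 (hw.symm.trans D.z2)
  have hcross : ∀ {v w u u' : Q} (hv : v * v = z) (hw : w * w = z), Commute v w →
      v * w ≠ 1 → v * w ≠ z → MulAut.conj u * tau D hv ∈ L → MulAut.conj u' * tau D hw ∈ L →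
      Commute w u := by
    intro v w u u' hv hw hvw h1 h2 hu hu'
    by_contra hwu
    have e1 : MulAut.conj u * tau D hv * (MulAut.conj u' * tau D hw) =
        MulAut.conj (u * tf v u') * (tau D hv * tau D hw) := by
      rw [map_mul]; simp only [mul_assoc]
      rw [← mul_assoc (tau D hv) (MulAut.conj u'), conj_tau, mul_assoc]
    have e2 : MulAut.conj u' * tau D hw * (MulAut.conj u * tau D hv) =
        MulAut.conj (u' * tf w u) * (tau D hv * tau D hw) := by
      rw [map_mul, tau_comm D hv hw hvw]; simp only [mul_assoc]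
      rw [← mul_assoc (tau D hw) (MulAut.conj u), conj_tau, mul_assoc]
    have e3 : (MulAut.conj u * tau D hv * (MulAut.conj u' * tau D hw)) *
        (MulAut.conj u' * tau D hw * (MulAut.conj u * tau D hv))⁻¹ =
        MulAut.conj (u * tf v u' * (u' * tf w u)⁻¹) := by
      rw [e1, e2, mul_inv_rev, map_mul (MulAut.conj) (u * tf v u'), map_inv]
      group
    have h3 := hdis _ (mul_mem (mul_mem hu hu') (inv_mem (mul_mem hu' hu))) (e3 ▸ ⟨_, rfl⟩)
    rw [e3] at h3
    have h4 := D.mem_center_of_conj h3
    rw [show tf w u = u * w from if_neg hwu] at h4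
    -- work modulo `⟨z⟩`
    have hZ : ∀ s, s = 1 ∨ s = z → ∀ t, t = 1 ∨ t = z → s * t = 1 ∨ s * t = z := by
      rintro s (rfl | rfl) t (rfl | rfl)
      · left; simp
      · right; simp
      · right; simp
      · left; exact D.z2
    obtain ⟨s, hs, h5⟩ : ∃ s, (s = 1 ∨ s = z) ∧ u * tf v u' = s * (u' * (u * w)) :=
      ⟨_, h4, by group⟩
    obtain ⟨r, hr, h6⟩ : ∃ r, (r = 1 ∨ r = z) ∧ u' * u = r * (u * u') := by
      rcases D.comm u' u with e | e
      · exact ⟨1, Or.inl rfl, by rw [e, one_mul]⟩
      · exact ⟨z, Or.inr rfl, by rw [e, (D.zc _).eq]⟩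
    have h7 : u * tf v u' = s * r * (u * u' * w) := by
      rw [h5, show u' * (u * w) = (u' * u) * w by group, h6]; group
    have h8 : tf v u' = s * r * (u' * w) := by
      have hsr := D.commute_of_eq (b := u) (hZ s hs r hr)
      refine mul_left_cancel (a := u) (h7.trans ?_)
      rw [← mul_assoc u, hsr.eq]; group
    unfold tf at h8
    by_cases hvu : Commute v u'
    · rw [if_pos hvu] at h8
      have h9 : (s * r)⁻¹ = w := by
        have hsr := D.commute_of_eq (b := u') (hZ s hs r hr)
        refine mul_left_cancel (a := u') ?_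
        rw [← (hsr.inv_right).eq.symm]
        conv_lhs => rw [h8]
        group
      have h10 : w = 1 ∨ w = z := by
        rcases hZ s hs r hr with e | e
        · left; rw [← h9, e, inv_one]
        · right; rw [← h9, e]; exact (eq_inv_of_mul_eq_one_left D.z2).symm
      rcases h10 with rfl | rfl
      · exact D.z1 (hw.symm.trans (one_mul 1))
      · exact D.z1 (hw.symm.trans D.z2)
    · rw [if_neg hvu] at h8
      have hsr := D.commute_of_eq (b := u') (hZ s hs r hr)
      have h9 : v = s * r * w := by
        refine mul_left_cancel (a := u') (h8.trans ?_)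
        rw [← mul_assoc u', hsr.eq]; group
      rcases hZ s hs r hr with e | e <;> rw [e] at h9
      · rw [one_mul] at h9
        exact h2 (h9 ▸ hw)
      · exact h1 (by rw [h9, mul_assoc, hw, D.z2])
  have hca2 : c * a * (c * a) = z := by rw [hca.symm.mul_mul_mul_comm, hc, ha, mul_one]
  have hcb2 : c * b * (c * b) = z := by rw [hcb.symm.mul_mul_mul_comm, hc, hb, mul_one]
  have hcab2 : c * (a * b) * (c * (a * b)) = z := by
    rw [(hca.mul_right hcb).symm.mul_mul_mul_comm, hc, hab.symm.mul_mul_mul_comm, ha, hb, mul_one, mul_one]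
  obtain ⟨u, hu1, hu2⟩ := hu hcab2
  obtain ⟨u2, hu2', -⟩ := hu hc
  obtain ⟨u3, hu3', -⟩ := hu hca2
  obtain ⟨u4, hu4', -⟩ := hu hcb2
  have n1 : c * (a * b) * c ≠ 1 ∧ c * (a * b) * c ≠ z := by
    have e : c * (a * b) * c = z * (a * b) := by
      rw [mul_assoc, ← (hca.mul_right hcb).eq, ← mul_assoc, hc]
    rw [e]
    refine ⟨fun h => hbaz ?_, fun h => hba ?_⟩
    · calc b = (a * a) * b := by rw [ha, one_mul]
        _ = a * (z * z) * (a * b) := by rw [D.z2]; group
        _ = a * z * (z * (a * b)) := by group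
        _ = a * z := by rw [h, mul_one]
    · have h' : a * b = 1 := mul_left_cancel (h.trans (mul_one z).symm)
      calc b = (a * a) * b := by rw [ha, one_mul]
        _ = a := by rw [mul_assoc, h', mul_one]
  have n2 : c * (a * b) * (c * a) ≠ 1 ∧ c * (a * b) * (c * a) ≠ z := by
    have e : c * (a * b) * (c * a) = z * b := by
      calc c * (a * b) * (c * a) = c * ((a * b) * c) * a := by group
        _ = c * (c * (a * b)) * a := by rw [(hca.mul_right hcb).eq]
        _ = (c * c) * (a * (b * a)) := by group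
        _ = z * b := by rw [hc, ← hab.eq, ← mul_assoc a a b, ha, one_mul]
    rw [e]
    refine ⟨fun h => hbz ?_, fun h => hb1 (mul_left_cancel (h.trans (mul_one z).symm))⟩
    exact mul_left_cancel (h.trans D.z2.symm)
  have n3 : c * (a * b) * (c * b) ≠ 1 ∧ c * (a * b) * (c * b) ≠ z := by
    have e : c * (a * b) * (c * b) = z * a := by
      calc c * (a * b) * (c * b) = c * ((a * b) * c) * b := by group
        _ = c * (c * (a * b)) * b := by rw [(hca.mul_right hcb).eq]
        _ = (c * c) * (a * (b * b)) := by group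
        _ = z * a := by rw [hc, hb, mul_one]
    rw [e]
    refine ⟨fun h => haz ?_, fun h => ha1 (mul_left_cancel (h.trans (mul_one z).symm))⟩
    exact mul_left_cancel (h.trans D.z2.symm)
  have k1 := hcross hcab2 hc ((Commute.refl c).mul_left (hca.symm.mul_left hcb.symm)) n1.1 n1.2 hu1 hu2'
  have k2 := hcross hcab2 hca2
    (((Commute.refl c).mul_right hca).mul_left
      ((hca.symm.mul_right (Commute.refl a)).mul_left (hcb.symm.mul_right hab.symm))) n2.1 n2.2 hu1 hu3'
  have k3 := hcross hcab2 hcb2
    (((Commute.refl c).mul_right hcb).mul_left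
      ((hca.symm.mul_right hab).mul_left (hcb.symm.mul_right (Commute.refl b)))) n3.1 n3.2 hu1 hu4'
  have ka : Commute a u := by
    have := (k1.inv_left).mul_left k2
    rwa [inv_mul_cancel_left] at this
  have kb : Commute b u := by
    have := (k1.inv_left).mul_left k3
    rwa [inv_mul_cancel_left] at this
  exact hu2 (k1.mul_left (ka.mul_left kb))

end CfsgLib.LocalEven.Nonsplit
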