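import Mathlib

/-!
Recognition of `SL_2(3)` from generators `d, e, x` with `e = x d x⁻¹`.
-/

set_option autoImplicit false

namespace CfsgLib.LocalEven.SL23

open Matrix
open scoped MatrixGroups

variable {G : Type*} [Group G]

/-- The relations of `SL_2(3)`. -/
structure Rel (d e x : G) : Prop where
  d4 : d * d * d * d = 1
  e2 : e * e = d * d
  ed : e * d = d * d * d * e
  x3 : x * x * x = 1
  xd : x * d = e * x
  xe : x * e = d * e * x

/-- The twenty-four normal forms. -/
def nf (d e x : G) (i : Fin 4 × Fin 2 × Fin 3) : G := d ^ i.1.val * e ^ i.2.1.val * x ^ i.2.2.val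

theorem closure_subset [Finite G] {d e x : G} (h : Rel d e x) :
    (Subgroup.closure {d, e, x} : Set G) ⊆ Set.range (nf d e x) := by
  have hed : ∀ a : ℕ, e * d ^ a = d ^ (3 * a) * e := by
    intro a
    induction a with
    | zero => simp
    | succ a ih =>
      rw [pow_succ, ← mul_assoc, ih, mul_assoc, h.ed, Nat.mul_succ, pow_add]
      simp only [pow_succ, pow_zero, one_mul, mul_assoc]
  have hd4 : d ^ 4 = 1 := by simpa [pow_succ, mul_assoc] using h.d4
  have hx3 : x ^ 3 = 1 := by simpa [pow_succ, mul_assoc] using h.x3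
  have he2 : ∀ b : ℕ, ∃ a' b', b' < 2 ∧ e ^ b = d ^ a' * e ^ b' := by
    intro b
    induction b with
    | zero => exact ⟨0, 0, by omega, by simp⟩
    | succ b ih =>
      obtain ⟨a', b', hb', he⟩ := ih
      rcases (by omega : b' = 0 ∨ b' = 1) with rfl | rfl
      · exact ⟨a', 1, by omega, by rw [pow_succ, he]; simp⟩
      · exact ⟨a' + 2, 0, by omega, by rw [pow_succ, he, pow_add]; simp [pow_succ, mul_assoc, h.e2]⟩
  have norm : ∀ a b c : ℕ, d ^ a * e ^ b * x ^ c ∈ Set.range (nf d e x) := by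
    intro a b c
    obtain ⟨a', b', hb', he⟩ := he2 b
    refine ⟨(⟨(a + a') % 4, Nat.mod_lt _ (by omega)⟩, ⟨b', hb'⟩, ⟨c % 3, Nat.mod_lt _ (by omega)⟩), ?_⟩
    show d ^ ((a + a') % 4) * e ^ b' * x ^ (c % 3) = _
    rw [← pow_eq_pow_mod _ hd4, ← pow_eq_pow_mod _ hx3, he, pow_add]
    simp [mul_assoc]
  have step : ∀ g ∈ ({d, e, x} : Set G), ∀ i, g * nf d e x i ∈ Set.range (nf d e x) := by
    rintro g hg ⟨a, b, c⟩
    rcases hg with rfl | rfl | hg
    · convert norm (a.val + 1) b.val c.val using 1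
      simp [nf, pow_succ', mul_assoc]
    · convert norm (3 * a.val) (b.val + 1) c.val using 1
      simp only [nf]
      rw [← mul_assoc, ← mul_assoc, hed, pow_succ']
      simp [mul_assoc]
    · rw [Set.mem_singleton_iff] at hg
      subst hg
      have hxa : ∀ m : ℕ, g * d ^ m = e ^ m * g := fun m =>
        (SemiconjBy.pow_right (h.xd : SemiconjBy g d e) m).eq
      have hxb : ∀ m : ℕ, g * e ^ m = (d * e) ^ m * g := fun m =>
        (SemiconjBy.pow_right (h.xe : SemiconjBy g e (d * e)) m).eq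
      obtain ⟨a', b', hb', he⟩ := he2 a.val
      have hde : ∃ u v : ℕ, (d * e) ^ b.val = d ^ u * e ^ v := by
        rcases (by omega : b.val = 0 ∨ b.val = 1) with h1 | h1 <;> rw [h1]
        · exact ⟨0, 0, by simp⟩
        · exact ⟨1, 1, by simp⟩
      obtain ⟨u, v, huv⟩ := hde
      rcases (by omega : b' = 0 ∨ b' = 1) with rfl | rfl
      · convert norm (a' + u) v (c.val + 1) using 1
        simp only [nf]
        rw [← mul_assoc, ← mul_assoc, hxa, mul_assoc (e ^ a.val) g, hxb, huv, he, pow_succ', pow_add]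
        simp [mul_assoc]
      · convert norm (a' + 3 * u) (1 + v) (c.val + 1) using 1
        simp only [nf]
        rw [← mul_assoc, ← mul_assoc, hxa, mul_assoc (e ^ a.val) g, hxb, huv, he, pow_one, pow_succ', pow_add, pow_add,
          pow_one]
        simp only [mul_assoc]
        rw [← mul_assoc e (d ^ u), hed]
        simp [mul_assoc]
  intro y hy
  rw [SetLike.mem_coe, ← Subgroup.mem_toSubmonoid, Subgroup.closure_toSubmonoid_of_finite] at hy
  induction hy using Submonoid.closure_induction_left with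
  | one => exact ⟨(0, 0, 0), by simp [nf]⟩
  | mul_left g hg y _ ih => obtain ⟨i, rfl⟩ := ih; exact step g hg i

theorem card_closure_le [Finite G] {d e x : G} (h : Rel d e x) :
    Nat.card (Subgroup.closure {d, e, x}) ≤ 24 := by
  refine (Nat.card_mono (Set.finite_range _) (closure_subset h)).trans ?_
  refine (Finite.card_range_le (nf d e x)).trans ?_
  simp

/-- Generators of `SL_2(3)`. -/
def gd : SL(2, ZMod 3) := ⟨!![0, 1; 2, 0], by decide⟩

/-- A second generator of `SL_2(3)`. -/
def ge' : SL(2, ZMod 3) := ⟨!![1, 1; 1, 2], by decide⟩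

/-- A generator of order three of `SL_2(3)`. -/
def gx : SL(2, ZMod 3) := ⟨!![0, 1; 2, 2], by decide⟩

theorem rel_sl : Rel gd ge' gx := ⟨by decide, by decide, by decide, by decide, by decide, by decide⟩

theorem all_nf : ∀ s : SL(2, ZMod 3), ∃ i, nf gd ge' gx i = s := by decide

/-- A group of order at least `24` generated by such a triple is `SL_2(3)`. -/
theorem nonempty_mulEquiv [Finite G] {d e x : G} (h : Rel d e x) (U : Subgroup G)
    (hU : U = Subgroup.closure {d, e, x}) (hcard : 24 ≤ Nat.card U) :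
    Nonempty (U ≃* SL(2, ZMod 3)) := by
  set W := Subgroup.closure {((d, gd) : G × SL(2, ZMod 3)), (e, ge'), (x, gx)} with hW
  have hrel : Rel ((d, gd) : G × SL(2, ZMod 3)) (e, ge') (x, gx) :=
    ⟨Prod.ext h.d4 rel_sl.d4, Prod.ext h.e2 rel_sl.e2, Prod.ext h.ed rel_sl.ed, Prod.ext h.x3 rel_sl.x3,
      Prod.ext h.xd rel_sl.xd, Prod.ext h.xe rel_sl.xe⟩
  have hle : Nat.card W ≤ 24 := card_closure_le hrel
  have hfst : W.map (MonoidHom.fst G SL(2, ZMod 3)) = U := by
    rw [hW, MonoidHom.map_closure, hU]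
    congr 1
    simp [Set.image_insert_eq]
  have hsnd : W.map (MonoidHom.snd G SL(2, ZMod 3)) = ⊤ := by
    refine eq_top_iff.2 fun s _ => ?_
    obtain ⟨⟨a, b, c⟩, rfl⟩ := all_nf s
    refine ⟨nf (d, gd) (e, ge') (x, gx) (a, b, c), ?_, by simp [nf]⟩
    exact mul_mem (mul_mem (pow_mem (Subgroup.subset_closure (by simp)) _)
      (pow_mem (Subgroup.subset_closure (by simp)) _)) (pow_mem (Subgroup.subset_closure (by simp)) _)
  have h24 : Nat.card SL(2, ZMod 3) = 24 := by rw [Nat.card_eq_fintype_card]; decide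
  let f₁ : W →* U := ((MonoidHom.fst G SL(2, ZMod 3)).comp W.subtype).codRestrict U
    fun w => hfst ▸ ⟨w, w.2, rfl⟩
  let f₂ : W →* SL(2, ZMod 3) := (MonoidHom.snd G SL(2, ZMod 3)).comp W.subtype
  have hs1 : Function.Surjective f₁ := fun u => by
    obtain ⟨w, hw, hwu⟩ := (hfst.ge u.2)
    exact ⟨⟨w, hw⟩, Subtype.ext hwu⟩
  have hs2 : Function.Surjective f₂ := fun s => by
    obtain ⟨w, hw, hws⟩ := hsnd.ge (Subgroup.mem_top s)
    exact ⟨⟨w, hw⟩, hws⟩
  have hb1 : Function.Bijective f₁ := (Nat.bijective_iff_surjective_and_card f₁).2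
    ⟨hs1, le_antisymm (hle.trans hcard) (Nat.card_le_card_of_surjective f₁ hs1)⟩
  have hb2 : Function.Bijective f₂ := (Nat.bijective_iff_surjective_and_card f₂).2
    ⟨hs2, le_antisymm (by rw [h24]; exact hle) (Nat.card_le_card_of_surjective f₂ hs2)⟩
  exact ⟨(MulEquiv.ofBijective f₁ hb1).symm.trans (MulEquiv.ofBijective f₂ hb2)⟩

end CfsgLib.LocalEven.SL23
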