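import Mathlib
import Cfsg.Prelude.Def_Transfer
import Cfsg.Prelude.Def_SolvableStructure
import Cfsg.Agent.Lib.LocalEven.HSubgroups
import Cfsg.Agent.Lib.LocalEven.HSupersolvable
import Cfsg.Agent.Lib.Solvable.Supersolvable
import Cfsg.Agent.Lib.Solvable.MinimalNormal
import Cfsg.Agent.Lib.Transfer.Frobenius

/-!
Supersolvability from the orders of the two-generator subgroups `⟨x, x^g⟩`.
-/

set_option autoImplicit false

universe u

namespace CfsgLib.LocalEven.PairSupersolvable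

open Subgroup Cfsg
open scoped commutatorElement

/-- For distinct primes `p`, `q`, a `p`-element `x` and a `q`-element `g`, the order of `⟨x, x^g⟩` is
not divisible by `q ^ 2`. -/
def PairHyp (G : Type*) [Group G] : Prop :=
  ∀ (p q : ℕ), p.Prime → q.Prime → p ≠ q → ∀ (x g : G), (∃ a : ℕ, orderOf x = p ^ a) →
    (∃ b : ℕ, orderOf g = q ^ b) →
      ¬ q ^ 2 ∣ Nat.card ↥(zpowers x ⊔ zpowers (g * x * g⁻¹))

variable {G : Type u} [Group G] [Finite G]

theorem PairHyp.subgroup (h : PairHyp G) (K : Subgroup G) : PairHyp ↥K := by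
  intro p q hp hq hpq x g hx hg hd
  refine h p q hp hq hpq (x : G) (g : G) ?_ ?_ ?_
  · simpa [orderOf_coe] using hx
  · simpa [orderOf_coe] using hg
  · refine hd.trans (dvd_of_eq ?_)
    rw [← card_map_of_injective K.subtype_injective, Subgroup.map_sup, MonoidHom.map_zpowers,
      MonoidHom.map_zpowers]
    rfl

/-- A preimage of the same prime power order type. -/
theorem exists_lift {H : Type*} [Group H] (π : G →* H) {p a : ℕ} (hp : p.Prime) (g : G)
    (hg : orderOf (π g) ∣ p ^ a) : ∃ g' : G, (∃ b : ℕ, orderOf g' = p ^ b) ∧ π g' = π g := by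
  obtain ⟨k, m, hm, hgm⟩ := Nat.exists_eq_pow_mul_and_not_dvd (orderOf_pos g).ne' p hp.ne_one
  obtain ⟨j, -, hj⟩ := (Nat.dvd_prime_pow hp).1 hg
  obtain ⟨n, hn⟩ : ∃ n : ℕ, m * n ≡ 1 [MOD p ^ j] := by
    rcases Nat.eq_zero_or_pos j with rfl | hj0
    · exact ⟨0, Nat.modEq_one⟩
    · have hcop : Nat.Coprime m (p ^ j) := ((hp.coprime_iff_not_dvd.2 hm).symm).pow_right j
      refine ⟨m ^ ((p ^ j).totient - 1), ?_⟩
      rw [← pow_succ', Nat.sub_add_cancel (Nat.totient_pos.2 (pow_pos hp.pos j))]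
      exact Nat.ModEq.pow_totient hcop
  refine ⟨g ^ (m * n), ?_, ?_⟩
  · have h1 : (g ^ (m * n)) ^ p ^ k = 1 := by
      rw [← pow_mul, show m * n * p ^ k = orderOf g * n by rw [hgm]; ring, pow_mul, pow_orderOf_eq_one,
        one_pow]
    obtain ⟨b, -, hb⟩ := (Nat.dvd_prime_pow hp).1 (orderOf_dvd_of_pow_eq_one h1)
    exact ⟨b, hb⟩
  · rw [map_pow]
    conv_rhs => rw [← pow_one (π g)]
    rw [pow_eq_pow_iff_modEq, hj]
    exact hn

theorem PairHyp.quotient (h : PairHyp G) (N : Subgroup G) [N.Normal] : PairHyp (G ⧸ N) := by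
  intro p q hp hq hpq x g ⟨a, hx⟩ ⟨b, hg⟩ hd
  obtain ⟨x₀, rfl⟩ := QuotientGroup.mk'_surjective N x
  obtain ⟨g₀, rfl⟩ := QuotientGroup.mk'_surjective N g
  obtain ⟨x', hx', hxx⟩ := exists_lift (QuotientGroup.mk' N) hp x₀ hx.dvd
  obtain ⟨g', hg', hgg⟩ := exists_lift (QuotientGroup.mk' N) hq g₀ hg.dvd
  rw [← hxx, ← hgg] at hd
  refine h p q hp hq hpq x' g' hx' hg' (hd.trans ?_)
  have : (zpowers x' ⊔ zpowers (g' * x' * g'⁻¹)).map (QuotientGroup.mk' N) =
      zpowers (QuotientGroup.mk' N x') ⊔ zpowers (QuotientGroup.mk' N g' * QuotientGroup.mk' N x' * (QuotientGroup.mk' N g')⁻¹) := by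
    rw [Subgroup.map_sup, MonoidHom.map_zpowers, MonoidHom.map_zpowers, map_mul, map_mul, map_inv]
  rw [← this]
  exact Subgroup.card_map_dvd _ _

/-- The line of a commutator. -/
theorem line {r q : ℕ} (hr : r.Prime) (hq : q.Prime) (hqr : q ≠ r) (h : PairHyp G) {R : Subgroup G}
    (hR : IsPGroup r ↥R) {g : G} (hg : ∃ a : ℕ, orderOf g = q ^ a) (hgR : g ∈ normalizer (R : Set G))
    {v : G} (hv : v ∈ R) :
    g * (v * g * v⁻¹ * g⁻¹) * g⁻¹ ∈ zpowers (v * g * v⁻¹ * g⁻¹) ∧ (v * g * v⁻¹ * g⁻¹) ^ r = 1 := by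
  haveI : Fact r.Prime := ⟨hr⟩
  set u := v * g * v⁻¹ * g⁻¹ with hu
  have huR : u ∈ R := by
    have := mul_mem hv ((mem_normalizer_iff.1 hgR _).1 (inv_mem hv))
    rw [hu]; convert this using 1; group
  set H := zpowers g ⊔ zpowers (v * g * v⁻¹)
  obtain ⟨b, hb⟩ := IsPGroup.iff_orderOf.1 hR ⟨v, hv⟩
  rw [orderOf_mk] at hb
  have hnd := h q r hq hr hqr g v hg ⟨b, hb⟩
  have hgH : g ∈ H := mem_sup_left (mem_zpowers g)
  have huH : u ∈ H := mul_mem (mem_sup_right (mem_zpowers _)) (inv_mem hgH)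
  set W := H ⊓ R with hW
  have hWu : zpowers u ≤ W := le_inf (zpowers_le.2 huH) (zpowers_le.2 huR)
  obtain ⟨k, hk⟩ := IsPGroup.iff_card.1 (hR.to_le (inf_le_right : W ≤ R))
  have hk1 : k ≤ 1 := by
    by_contra hk2
    apply hnd
    exact ((pow_dvd_pow r (by omega : 2 ≤ k)).trans (dvd_of_eq hk.symm)).trans (card_dvd_of_le inf_le_left)
  have hor : orderOf u ∣ r := by
    have h1 := card_dvd_of_le hWu
    rw [Nat.card_zpowers, hk] at h1
    exact h1.trans (by simpa using pow_dvd_pow r hk1)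
  refine ⟨?_, orderOf_dvd_iff_pow_eq_one.1 hor⟩
  rcases (Nat.dvd_prime hr).1 hor with h1 | h1
  · rw [orderOf_eq_one_iff.1 h1]; simp
  · have hWle : W ≤ zpowers u := by
      refine (eq_of_le_of_card_ge hWu ?_).ge
      rw [hk, Nat.card_zpowers, h1]
      exact le_of_le_of_eq (Nat.pow_le_pow_right hr.pos hk1) (pow_one r)
    exact hWle (mem_inf.2 ⟨mul_mem (mul_mem hgH huH) (inv_mem hgH), (mem_normalizer_iff.1 hgR _).1 huR⟩)

theorem hasNormalPComplement_smallest {p : ℕ} [Fact p.Prime] (h : PairHyp G)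
    (hsm : ∀ q : ℕ, q.Prime → q ∣ Nat.card G → p ≤ q) : HasNormalPComplement p G := by
  have hp := (Fact.out : p.Prime)
  refine CfsgLib.Transfer.hasNormalPComplement_of_frobeniusCond fun R hR g hgR hgc => ?_
  -- reduce to prime power order
  have key : ∀ (q : ℕ) (g : G), q.Prime → q ≠ p → (∃ a : ℕ, orderOf g = q ^ a) →
      g ∈ normalizer (R : Set G) → g ∈ centralizer (R : Set G) := by
    intro q g hq hqp hg hgR
    refine mem_centralizer_iff.2 fun v hv => ?_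
    obtain ⟨h1, h2⟩ := line hp hq hqp h hR hg hgR hv
    set u := v * g * v⁻¹ * g⁻¹ with hu
    have huR : u ∈ R := by
      have := mul_mem hv ((mem_normalizer_iff.1 hgR _).1 (inv_mem hv))
      rw [hu]; convert this using 1; group
    have hgc : (orderOf g).Coprime p := by
      obtain ⟨a, ha⟩ := hg
      rw [ha]; exact Nat.Coprime.pow_left _ ((Nat.coprime_primes hq hp).2 hqp)
    haveI : IsCyclic ↥(zpowers u) := inferInstance
    have hgu : g ∈ normalizer ((zpowers u : Subgroup G) : Set G) :=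
      CfsgLib.LocalEven.mem_normalizer_of_conj_le (by
        rw [MonoidHom.map_zpowers, zpowers_le]; exact h1)
    have hcu := mem_centralizer_iff.1 (CfsgLib.LocalEven.HSub.mem_centralizer_of_cyclic hsm
      (hR.to_le (zpowers_le.2 huR)) hgu hgc) u (mem_zpowers u)
    have h3 : v * g * v⁻¹ = u * g := by rw [hu]; group
    have h4 : u ^ orderOf g = 1 := by
      have h5 : (u * g) ^ orderOf g = 1 := by rw [← h3, conj_pow, pow_orderOf_eq_one]; group
      rwa [Commute.mul_pow hcu, pow_orderOf_eq_one, mul_one] at h5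
    have h6 : u = 1 := orderOf_eq_one_iff.1 (Nat.eq_one_of_dvd_coprimes hgc
      (orderOf_dvd_of_pow_eq_one h4) (orderOf_dvd_of_pow_eq_one h2))
    have h7 : v * g * v⁻¹ = g := by rw [h3, h6, one_mul]
    exact mul_inv_eq_iff_eq_mul.1 h7
  set Z := centralizer (R : Set G)
  induction ho : orderOf g using Nat.recOnPosPrimePosCoprime generalizing g with
  | zero => exact absurd ho (orderOf_pos g).ne'
  | one => rw [orderOf_eq_one_iff.1 ho]; exact one_mem _
  | prime_pow q n hq hn =>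
    refine key q g hq ?_ ⟨n, ho⟩ hgR
    rintro rfl
    rw [ho] at hgc
    exact hq.ne_one (Nat.coprime_self _ |>.1 ((Nat.coprime_pow_left_iff hn _ _).1 hgc))
  | coprime a b ha hb hab iha ihb =>
    have hA : orderOf (g ^ b) = a := by
      rw [orderOf_pow' _ (by omega), ho, Nat.gcd_eq_right (dvd_mul_left b a), Nat.mul_div_cancel _ (by omega)]
    have hB : orderOf (g ^ a) = b := by
      rw [orderOf_pow' _ (by omega), ho, Nat.gcd_eq_right (dvd_mul_right a b), Nat.mul_div_cancel_left _ (by omega)]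
    have h1 := iha (g ^ b) (pow_mem hgR b) (Nat.Coprime.coprime_dvd_left (orderOf_pow_dvd b) hgc) hA
    have h2 := ihb (g ^ a) (pow_mem hgR a) (Nat.Coprime.coprime_dvd_left (orderOf_pow_dvd a) hgc) hB
    obtain ⟨s, t, hst⟩ : ∃ s t : ℤ, (b : ℤ) * s + (a : ℤ) * t = 1 := by
      refine ⟨Nat.gcdB a b, Nat.gcdA a b, ?_⟩
      have := Nat.gcd_eq_gcd_ab a b
      rw [hab.gcd_eq_one] at this
      push_cast at this
      linarith
    have : g = (g ^ b) ^ s * (g ^ a) ^ t := by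
      rw [← zpow_natCast g b, ← zpow_natCast g a, ← zpow_mul, ← zpow_mul, ← zpow_add, hst, zpow_one]
    rw [this]
    exact mul_mem (zpow_mem h1 _) (zpow_mem h2 _)

/-- A normal Sylow subgroup from normal complements for the smallest primes. -/
theorem exists_normal_sylow : ∀ (n : ℕ) (K : Subgroup G), Nat.card K = n → K ≠ ⊥ →
    (∀ L : Subgroup G, L ≤ K → L ≠ ⊥ → HasNormalPComplement (Nat.card L).minFac ↥L) →
    ∃ (r : ℕ) (R : Subgroup G), r.Prime ∧ R ≤ K ∧ IsPGroup r ↥R ∧ ¬ r ∣ R.relIndex K ∧ R ≠ ⊥ ∧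
      normalizer (K : Set G) ≤ normalizer (R : Set G) := by
  intro n
  induction n using Nat.strong_induction_on with
  | _ n ih =>
  intro K hn hK h
  set p := (Nat.card K).minFac with hpdef
  have hK1 : Nat.card K ≠ 1 := fun h1 => hK (Subgroup.card_eq_one.1 h1)
  have hp : p.Prime := Nat.minFac_prime hK1
  haveI : Fact p.Prime := ⟨hp⟩
  obtain ⟨P', N', hN', hc⟩ := h K le_rfl hK
  set K' := N'.map K.subtype with hK'
  have hK'le : K' ≤ K := map_subtype_le _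
  have hidx : N'.index = Nat.card (P' : Subgroup ↥K) := hc.symm.index_eq_card
  have hcardN : ¬ p ∣ Nat.card ↥N' := by rw [← hc.index_eq_card]; exact P'.not_dvd_index
  obtain ⟨a, ha⟩ := IsPGroup.iff_card.1 P'.2
  by_cases hbot : K' = ⊥
  · have hN0 : N' = ⊥ := (Subgroup.map_eq_bot_iff_of_injective N' K.subtype_injective).1 hbot
    refine ⟨p, K, hp, le_rfl, IsPGroup.of_card (n := a) ?_, ?_, hK, le_rfl⟩
    · rw [← ha, ← hidx, hN0, Subgroup.index_bot]
    · rw [Subgroup.relIndex_self]; exact hp.not_dvd_one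
  have ha0 : a ≠ 0 := by
    intro h0
    have h1 := N'.card_mul_index
    rw [hidx, ha, h0, pow_zero, mul_one] at h1
    exact hcardN (h1 ▸ Nat.minFac_dvd _)
  have hlt : Nat.card K' < n := by
    rw [← hn, hK', card_map_of_injective K.subtype_injective, ← N'.card_mul_index, hidx, ha]
    exact lt_mul_of_one_lt_right Nat.card_pos (Nat.one_lt_pow ha0 hp.one_lt)
  obtain ⟨r, R, hr, hR, hRr, hnd, hR1, hnorm⟩ :=
    ih _ hlt K' rfl hbot fun L hL => h L (hL.trans hK'le)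
  have hcardK' : ¬ p ∣ Nat.card K' := by rwa [hK', card_map_of_injective K.subtype_injective]
  have hKrel : K'.relIndex K = p ^ a := by
    rw [Subgroup.relIndex, hK', Subgroup.subgroupOf, comap_map_eq_self_of_injective K.subtype_injective,
      hidx, ha]
  have hrp : r ≠ p := by
    rintro rfl
    obtain ⟨i, hi⟩ := IsPGroup.iff_card.1 hRr
    have hi0 : i ≠ 0 := fun h0 => hR1 (Subgroup.card_eq_one.1 (by rw [hi, h0, pow_zero]))
    exact hcardK' ((dvd_pow_self p hi0).trans (hi ▸ Subgroup.card_dvd_of_le hR))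
  refine ⟨r, R, hr, hR.trans hK'le, hRr, ?_, hR1, ?_⟩
  · intro hd
    rw [← Subgroup.relIndex_mul_relIndex R K' K hR hK'le, hKrel] at hd
    rcases (Nat.Prime.dvd_mul hr).1 hd with h1 | h1
    · exact hnd h1
    · exact hrp ((Nat.prime_dvd_prime_iff_eq hr hp).1 (hr.dvd_of_dvd_pow h1))
  refine le_trans (fun g hg => CfsgLib.LocalEven.mem_normalizer_of_conj_le ?_) hnorm
  rintro _ ⟨_, ⟨x, hx, rfl⟩, rfl⟩
  haveI := hN'
  set y : ↥K := ⟨g * x * g⁻¹, (mem_normalizer_iff.1 hg x).1 x.2⟩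
  refine ⟨y, ?_, rfl⟩
  have hoy : orderOf (QuotientGroup.mk' N' y) ∣ Nat.card ↥N' := by
    refine (orderOf_map_dvd _ y).trans ?_
    rw [← orderOf_coe y, show orderOf (y : G) = orderOf (x : G) from
      orderOf_injective (MulAut.conj g).toMonoidHom (MulAut.conj g).injective x, orderOf_coe x,
      ← orderOf_mk x hx]
    exact orderOf_dvd_natCard _
  have hoy2 : orderOf (QuotientGroup.mk' N' y) ∣ p ^ a := by
    rw [← ha, ← hidx]; exact orderOf_dvd_natCard _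
  exact (QuotientGroup.eq_one_iff y).1 (orderOf_eq_one_iff.1 (Nat.eq_one_of_dvd_coprimes
    ((hp.coprime_iff_not_dvd.2 hcardN).symm.pow_right a) hoy hoy2))

section Linear

variable {V : Type*} [CommGroup V] [Finite V] {r : ℕ} [hr : Fact r.Prime]

/-- The prime power elements act with eigenvalue one and at most one further eigenvalue. -/
def TwoValued (X : Subgroup (MulAut V)) : Prop :=
  ∀ g ∈ X, ∀ q a : ℕ, q.Prime → orderOf g = q ^ a →
    ∀ v : V, g (g v * v⁻¹) ∈ zpowers (g v * v⁻¹)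

theorem eq_one_of_pow (hexp : ∀ v : V, v ^ r = 1) {v : V} {k : ℕ} (h : v ^ k = 1) (hk : ¬ r ∣ k) :
    v = 1 := by
  refine orderOf_eq_one_iff.1 (Nat.eq_one_of_dvd_coprimes (hr.out.coprime_iff_not_dvd.2 hk)
    (orderOf_dvd_of_pow_eq_one (hexp v)) (orderOf_dvd_of_pow_eq_one h))

/-- Every vector of `M` being an eigenvector, there is one eigenvalue. -/
theorem exists_common (hexp : ∀ v : V, v ^ r = 1) (f : V →* V) (M : Subgroup V)
    (h : ∀ w ∈ M, f w ∈ zpowers w) : ∃ a : ℕ, ∀ w ∈ M, f w = w ^ a := by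
  by_cases hM : M = ⊥
  · exact ⟨0, fun w hw => by rw [hM, mem_bot] at hw; simp [hw]⟩
  obtain ⟨w₀, hw₀, hw₀1⟩ := M.bot_or_exists_ne_one.resolve_left hM
  have hnat : ∀ w ∈ M, ∃ a : ℕ, f w = w ^ a := fun w hw => by
    obtain ⟨a, ha⟩ := (IsOfFinOrder.mem_powers_iff_mem_zpowers (isOfFinOrder_of_finite w)).2 (h w hw)
    exact ⟨a, ha.symm⟩
  obtain ⟨a, ha⟩ := hnat w₀ hw₀
  refine ⟨a, fun w hw => ?_⟩
  have hord : ∀ u : V, u ≠ 1 → orderOf u = r := fun u hu => orderOf_eq_prime (hexp u) hu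
  by_cases hwz : w ∈ zpowers w₀
  · obtain ⟨i, hi⟩ := hwz
    rw [← hi]
    show f (w₀ ^ i) = (w₀ ^ i) ^ a
    rw [map_zpow, ha, ← zpow_natCast, ← zpow_natCast, ← zpow_mul, ← zpow_mul, mul_comm]
  obtain ⟨b, hb⟩ := hnat w hw
  obtain ⟨c, hc⟩ := hnat (w * w₀) (mul_mem hw hw₀)
  rw [map_mul, ha, hb, mul_pow] at hc
  -- `w ^ (b - c) = w₀ ^ (c - a)`
  have h1 : w ^ ((b : ℤ) - c) = w₀ ^ ((c : ℤ) - a) := by
    rw [zpow_sub, zpow_sub, zpow_natCast, zpow_natCast, zpow_natCast, zpow_natCast,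
      mul_inv_eq_iff_eq_mul, mul_comm (w₀ ^ c) _, mul_assoc, mul_comm (w₀ ^ c), ← hc]
    rw [mul_comm (w ^ b), inv_mul_cancel_left]
  have h2 : (r : ℤ) ∣ (b : ℤ) - c := by
    by_contra hnd
    apply hwz
    have hcop : IsCoprime ((b : ℤ) - c) (r : ℤ) :=
      ((Nat.prime_iff_prime_int.1 hr.out).coprime_iff_not_dvd.2 hnd).symm
    obtain ⟨s, t, hst⟩ := hcop
    have hwr : w ^ (t * (r : ℤ)) = 1 := by
      rw [mul_comm, zpow_mul, zpow_natCast, hexp, one_zpow]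
    have : w = (w₀ ^ ((c : ℤ) - a)) ^ s := by
      rw [← h1, ← zpow_mul]
      conv_lhs => rw [← zpow_one w, ← hst, zpow_add, hwr, mul_one, mul_comm]
    rw [this]
    exact zpow_mem (zpow_mem (mem_zpowers _) _) _
  have h3 : (r : ℤ) ∣ (c : ℤ) - a := by
    rw [← hord w₀ hw₀1]
    refine orderOf_dvd_iff_zpow_eq_one.2 ?_
    rw [← h1]
    obtain ⟨t, ht⟩ := h2
    rw [ht, zpow_mul, zpow_natCast, hexp, one_zpow]
  rw [hb]
  rw [pow_eq_pow_iff_modEq, Nat.modEq_iff_dvd]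
  rcases eq_or_ne w 1 with hw1 | hw1
  · rw [hw1, orderOf_one]; simp
  · rw [hord w hw1, show (a : ℤ) - b = -(((b : ℤ) - c) + ((c : ℤ) - a)) by ring]
    exact dvd_neg.2 (dvd_add h2 h3)

theorem apply_pow_eq (g : MulAut V) {v : V} {a : ℕ} (h : g v = v ^ a) :
    ∀ i : ℕ, (g ^ i) v = v ^ a ^ i := by
  intro i
  induction i with
  | zero => simp
  | succ i ih => rw [pow_succ', MulAut.mul_apply, ih, map_pow, h, ← pow_mul, pow_succ']

/-- A group of automorphisms whose prime power elements are two-valued, irreducible, supersolvable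
and of order prime to `r` consists of power maps. -/
theorem isScalar_of_twoValued (hexp : ∀ v : V, v ^ r = 1) (X : Subgroup (MulAut V))
    (hXs : IsSupersolvable ↥X) (hcop : ∀ x ∈ X, (orderOf x).Coprime r) (hX : TwoValued X)
    (hirr : ∀ W : Subgroup V, (∀ x ∈ X, ∀ w ∈ W, x w ∈ W) → W = ⊥ ∨ W = ⊤) :
    ∀ x ∈ X, ∃ a : ℕ, ∀ v : V, x v = v ^ a := by
  let S : Subgroup ↥X :=
    { carrier := {x | ∃ a : ℕ, ∀ v : V, (x : MulAut V) v = v ^ a}
      one_mem' := ⟨1, by simp⟩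
      mul_mem' := fun {x y} ⟨a, ha⟩ ⟨b, hb⟩ => ⟨a * b, fun v => by
        rw [Subgroup.coe_mul, MulAut.mul_apply, hb, map_pow, ha, pow_mul]⟩
      inv_mem' := fun {x} ⟨a, ha⟩ => ⟨a ^ (orderOf (x : MulAut V) - 1), fun v => by
        rw [InvMemClass.coe_inv, ← apply_pow_eq _ (ha v)]
        congr 1
        refine (inv_eq_of_mul_eq_one_right ?_)
        rw [← pow_succ', Nat.sub_add_cancel (orderOf_pos _), pow_orderOf_eq_one]⟩ }
  suffices hS : S = ⊤ from fun x hx => (hS.ge (mem_top (⟨x, hx⟩ : ↥X)) : (⟨x, hx⟩ : ↥X) ∈ S)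
  haveI hSn : S.Normal := ⟨fun x ⟨a, ha⟩ y => ⟨a, fun v => by
    rw [Subgroup.coe_mul, Subgroup.coe_mul, InvMemClass.coe_inv, MulAut.mul_apply, MulAut.mul_apply, ha,
      map_pow, MulAut.apply_inv_self]⟩⟩
  by_contra hS
  haveI : Nontrivial (↥X ⧸ S) := QuotientGroup.nontrivial_iff.2 hS
  obtain ⟨Z, hZn, hZ⟩ := CfsgLib.Solvable.exists_prime_order_normal
    (CfsgLib.Solvable.isSupersolvable_quotient hXs S)
  set q := Nat.card Z with hq
  haveI : Fact q.Prime := ⟨hZ⟩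
  obtain ⟨z, hz⟩ := exists_prime_orderOf_dvd_card' (G := Z) q dvd_rfl
  set π := QuotientGroup.mk' S
  obtain ⟨g₀, hg₀⟩ := QuotientGroup.mk'_surjective S (z : ↥X ⧸ S)
  obtain ⟨g, ⟨k, hk⟩, hgz⟩ := exists_lift π hZ g₀ (a := 1)
    (by rw [pow_one, hg₀, orderOf_coe, hz])
  rw [hg₀] at hgz
  have hgS : g ∉ S := fun h => hZ.one_lt.ne' (by
    rw [← hz, ← orderOf_coe, ← hgz, show π g = 1 from (QuotientGroup.eq_one_iff g).2 h, orderOf_one])
  have hk' : orderOf (g : MulAut V) = q ^ k := by rw [orderOf_coe, hk]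
  have hZg : ∀ w ∈ Z, ∃ i : ℕ, π g ^ i = w := by
    intro w hw
    have h1 : zpowers (π g) = Z := eq_of_le_of_card_ge (zpowers_le.2 (hgz ▸ z.2))
      (by rw [Nat.card_zpowers, hgz, orderOf_coe, hz])
    exact (IsOfFinOrder.mem_powers_iff_mem_zpowers (isOfFinOrder_of_finite _)).2 (h1 ▸ hw)
  have hconj : ∀ x : ↥X, ∃ (i : ℕ) (s : ↥X), s ∈ S ∧ x * g * x⁻¹ = g ^ i * s := by
    intro x
    obtain ⟨i, hi⟩ := hZg _ (hZn.conj_mem (π g) (hgz ▸ z.2) (π x))
    refine ⟨i, (g ^ i)⁻¹ * (x * g * x⁻¹), ?_, by group⟩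
    rw [← QuotientGroup.eq_one_iff]
    show π _ = 1
    rw [map_mul, map_inv, map_pow, hi, map_mul, map_mul, map_inv, inv_mul_cancel]
  -- the decomposition of `g`
  set G₀ : MulAut V := (g : MulAut V) with hG₀
  let f : V →* V :=
    { toFun := fun v => G₀ v * v⁻¹
      map_one' := by simp
      map_mul' := fun u v => by rw [map_mul, mul_inv]; exact mul_mul_mul_comm _ _ _ _ }
  have heig : ∀ w ∈ f.range, G₀ w ∈ zpowers w := by
    rintro _ ⟨v, rfl⟩
    exact hX _ g.2 q k hZ hk' v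
  obtain ⟨a, ha⟩ := exists_common hexp G₀.toMonoidHom f.range heig
  have hcg := hcop _ g.2
  have hCD : ∀ w ∈ f.ker, w ∈ f.range → w = 1 := by
    intro w hw hwD
    by_contra hw1
    have hfix : G₀ w = w := mul_inv_eq_one.1 hw
    have ha1 : a ≡ 1 [MOD r] := by
      rw [← orderOf_eq_prime (hexp w) hw1, ← pow_eq_pow_iff_modEq, pow_one]
      exact (ha w hwD).symm.trans hfix
    refine hgS ⟨1, fun v => ?_⟩
    rw [pow_one]
    set d := f v
    have hdfix : G₀ d = d := by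
      refine (ha d ⟨v, rfl⟩).trans ?_
      conv_rhs => rw [← pow_one d]
      rw [pow_eq_pow_iff_modEq]
      exact Nat.ModEq.of_dvd (orderOf_dvd_of_pow_eq_one (hexp d)) ha1
    have hiter : ∀ i : ℕ, (G₀ ^ i) v = d ^ i * v := by
      intro i
      induction i with
      | zero => simp
      | succ i ih =>
        rw [pow_succ', MulAut.mul_apply, ih, map_mul, map_pow, hdfix, pow_succ, mul_assoc]
        congr 1
        show G₀ v = G₀ v * v⁻¹ * v
        rw [inv_mul_cancel_right]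
    have hd1 : d ^ orderOf G₀ = 1 := by
      have h1 := hiter (orderOf G₀)
      rw [pow_orderOf_eq_one, MulAut.one_apply] at h1
      exact mul_eq_right.1 h1.symm
    exact mul_inv_eq_one.1 (eq_one_of_pow hexp hd1 ((hr.out.coprime_iff_not_dvd.1 hcg.symm)))
  have hcompl : f.ker ⊔ f.range = ⊤ := by
    refine eq_top_of_le_card _ ?_
    rw [← f.ker.card_mul_index, Subgroup.index_ker]
    have hd : f.ker ⊓ f.range = ⊥ := le_bot_iff.1 fun w hw => mem_bot.2 (hCD w hw.1 hw.2)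
    have hinj : Function.Injective (fun x : ↥f.ker × ↥f.range =>
        (⟨(x.1 : V) * x.2, mul_mem (mem_sup_left x.1.2) (mem_sup_right x.2.2)⟩ : ↥(f.ker ⊔ f.range))) :=
      fun x y hxy => Subgroup.mul_injective_of_disjoint (disjoint_iff.2 hd) (congrArg Subtype.val hxy)
    have := Nat.card_le_card_of_injective _ hinj
    rwa [Nat.card_prod] at this
  have huniq : ∀ c₁ ∈ f.ker, ∀ c₂ ∈ f.ker, ∀ d₁ ∈ f.range, ∀ d₂ ∈ f.range,
      c₁ * d₁ = c₂ * d₂ → c₁ = c₂ ∧ d₁ = d₂ := by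
    intro c₁ hc₁ c₂ hc₂ d₁ hd₁ d₂ hd₂ h
    have he : c₂⁻¹ * c₁ = d₂ * d₁⁻¹ := by
      rw [inv_mul_eq_iff_eq_mul, ← mul_assoc, eq_mul_inv_iff_mul_eq]; exact h
    have h1 := hCD _ (mul_mem (inv_mem hc₂) hc₁) (he ▸ mul_mem hd₂ (inv_mem hd₁))
    refine ⟨(inv_mul_eq_one.1 h1).symm, ?_⟩
    rw [h1] at he
    exact (mul_inv_eq_one.1 he.symm).symm
  set C := f.ker
  set D := f.range
  have hsplit : ∀ v : V, ∃ c ∈ C, ∃ d ∈ D, c * d = v := fun v => mem_sup.1 (hcompl.ge (mem_top v))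
  have hfixC : ∀ c ∈ C, G₀ c = c := fun c hc => mul_inv_eq_one.1 hc
  have hgD : ∀ d ∈ D, G₀ d = d ^ a := ha
  have hgv : ∀ c ∈ C, ∀ d ∈ D, ∀ i : ℕ, (G₀ ^ i) (c * d) = c * d ^ a ^ i := by
    intro c hc d hd i
    rw [map_mul, apply_pow_eq G₀ (a := 1) (by rw [pow_one]; exact hfixC c hc), one_pow, pow_one,
      apply_pow_eq G₀ (hgD d hd)]
  have hC0 : C ≠ ⊥ := fun h0 => hgS ⟨a, fun v => by
    obtain ⟨c, hc, d, hd, rfl⟩ := hsplit v
    rw [h0, mem_bot] at hc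
    subst hc
    rw [one_mul]; exact hgD d hd⟩
  have hCt : C ≠ ⊤ := fun h0 => hgS ⟨1, fun v => by rw [pow_one]; exact hfixC v (h0.ge (mem_top v))⟩
  -- some element moves `C`
  let Y : Subgroup ↥X :=
    { carrier := {x | ∀ c, c ∈ C ↔ (x : MulAut V) c ∈ C}
      one_mem' := fun c => by simp
      mul_mem' := fun {x y} hx hy c => by rw [Subgroup.coe_mul, MulAut.mul_apply]; exact (hy c).trans (hx _)
      inv_mem' := fun {x} hx c => by
        rw [InvMemClass.coe_inv, hx ((x : MulAut V)⁻¹ c), MulAut.apply_inv_self] }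
  have hY : Y ≠ ⊤ := fun h0 => by
    rcases hirr C (fun x hx c hc => ((h0.ge (mem_top (⟨x, hx⟩ : ↥X)) : (⟨x, hx⟩ : ↥X) ∈ Y) c).1 hc) with h | h
    · exact hC0 h
    · exact hCt h
  obtain ⟨x, p', b', hp', hxo, hxY⟩ : ∃ (x : ↥X) (p b : ℕ), p.Prime ∧ orderOf x = p ^ b ∧ x ∉ Y := by
    by_contra hcon
    push Not at hcon
    apply hY
    refine eq_top_of_le_card _ (Nat.le_of_dvd Nat.card_pos ?_)
    refine (Nat.dvd_iff_prime_pow_dvd_dvd _ _).2 fun p n hp hd => ?_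
    haveI : Fact p.Prime := ⟨hp⟩
    obtain ⟨P⟩ : Nonempty (Sylow p ↥X) := inferInstance
    have hPY : (P : Subgroup ↥X) ≤ Y := fun y hy => by
      obtain ⟨b, hb⟩ := IsPGroup.iff_orderOf.1 P.2 ⟨y, hy⟩
      exact hcon y p b hp (by rwa [orderOf_mk] at hb)
    exact (P.pow_dvd_card_of_pow_dvd_card hd).trans (card_dvd_of_le hPY)
  obtain ⟨i, s, ⟨σ, hσ⟩, hxs⟩ := hconj x
  set x₀ : MulAut V := (x : MulAut V) with hx₀
  have heq : ∀ v : V, x₀ (G₀ (x₀⁻¹ v)) = (G₀ ^ i) (v ^ σ) := by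
    intro v
    have h1 := congrArg (fun y : ↥X => (y : MulAut V) v) hxs
    simpa [hσ v] using h1
  have hmem : ∀ c ∈ C, (G₀ ^ i) (x₀ c ^ σ) = x₀ c := by
    intro c hc
    rw [← heq, MulAut.inv_apply_self, hfixC c hc]
  have hσ1 : ¬ σ ≡ 1 [MOD r] := by
    intro hσ1
    apply hxY
    have hσid : ∀ v : V, v ^ σ = v := fun v => by
      conv_rhs => rw [← pow_one v]
      rw [pow_eq_pow_iff_modEq]
      exact Nat.ModEq.of_dvd (orderOf_dvd_of_pow_eq_one (hexp v)) hσ1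
    have hle : C ≤ C.map x₀.toMonoidHom := by
      intro c hc
      refine ⟨x₀⁻¹ c, ?_, MulAut.apply_inv_self _ _ _⟩
      show f (x₀⁻¹ c) = 1
      show G₀ (x₀⁻¹ c) * (x₀⁻¹ c)⁻¹ = 1
      rw [mul_inv_eq_one]
      apply x₀.injective
      rw [heq, hσid, MulAut.apply_inv_self, apply_pow_eq G₀ (a := 1) (by rw [pow_one]; exact hfixC c hc)]
      simp
    have he := eq_of_le_of_card_ge hle (card_map_of_injective x₀.injective).le
    intro c
    refine ⟨fun hc => he.ge ⟨c, hc, rfl⟩, fun hc => ?_⟩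
    obtain ⟨c', hc', hcc⟩ := he.le hc
    exact x₀.injective hcc ▸ hc'
  -- `x` maps `C` onto `D`
  have hxCD : ∀ c ∈ C, x₀ c ∈ D := by
    intro c hc
    obtain ⟨c', hc', d, hd, hcd⟩ := hsplit (x₀ c)
    have h1 := hmem c hc
    rw [← hcd, mul_pow, hgv _ (pow_mem hc' σ) _ (pow_mem hd σ)] at h1
    have h2 := huniq _ (pow_mem hc' σ) _ hc' _ (pow_mem (pow_mem hd σ) _) _ hd h1
    have hc1 : c' = 1 := by
      by_contra hc1
      apply hσ1
      rw [← orderOf_eq_prime (hexp c') hc1, ← pow_eq_pow_iff_modEq, pow_one]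
      exact h2.1
    rw [← hcd, hc1, one_mul]
    exact hd
  have hscalD : ∀ d ∈ D, (d ^ σ) ^ a ^ i = d := by
    obtain ⟨c₀, hc₀, hc₀1⟩ := C.bot_or_exists_ne_one.resolve_left hC0
    have hd₀ := hxCD c₀ hc₀
    have h1 := hmem c₀ hc₀
    rw [← one_mul (x₀ c₀ ^ σ), hgv 1 (one_mem _) _ (pow_mem hd₀ σ), one_mul, ← pow_mul] at h1
    intro d hd
    rw [← pow_mul]
    conv_rhs => rw [← pow_one d]
    rw [pow_eq_pow_iff_modEq]
    refine Nat.ModEq.of_dvd (orderOf_dvd_of_pow_eq_one (hexp d)) ?_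
    rw [← orderOf_eq_prime (hexp (x₀ c₀)) (fun e => hc₀1 (x₀.injective (e.trans (map_one x₀).symm))),
      ← pow_eq_pow_iff_modEq, pow_one]
    exact h1
  have hxDC : ∀ d ∈ D, x₀⁻¹ d ∈ C := by
    intro d hd
    show G₀ (x₀⁻¹ d) * (x₀⁻¹ d)⁻¹ = 1
    rw [mul_inv_eq_one]
    apply x₀.injective
    rw [heq, MulAut.apply_inv_self, ← one_mul (d ^ σ), hgv 1 (one_mem _) _ (pow_mem hd σ), one_mul]
    exact hscalD d hd
  have hcardCD : C.map x₀.toMonoidHom = D := le_antisymm (by rintro _ ⟨c, hc, rfl⟩; exact hxCD c hc)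
    fun d hd => ⟨x₀⁻¹ d, hxDC d hd, MulAut.apply_inv_self _ _ _⟩
  -- `x` exchanges the two eigenspaces
  have hxD : ∀ d ∈ D, x₀ d ∈ C := by
    obtain ⟨j, t, ⟨τ, hτ⟩, hjt⟩ := hconj (x * x)
    have heq2 : ∀ v : V, x₀ (x₀ (G₀ (x₀⁻¹ (x₀⁻¹ v)))) = (G₀ ^ j) (v ^ τ) := by
      intro v
      have h1 := congrArg (fun y : ↥X => (y : MulAut V) v) hjt
      simpa [hτ v, mul_inv_rev, MulAut.mul_apply] using h1
    have hτ1 : τ ≡ 1 [MOD r] := by
      by_contra hτ1
      apply hC0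
      refine eq_bot_iff.2 fun c hc => mem_bot.2 ?_
      set w := x₀ (x₀ c) with hw
      have h1 : (G₀ ^ j) (w ^ τ) = w := by
        rw [← heq2, hw, MulAut.inv_apply_self, MulAut.inv_apply_self, hfixC c hc]
      obtain ⟨c', hc', d', hd', hcd⟩ := hsplit w
      rw [← hcd, mul_pow, hgv _ (pow_mem hc' τ) _ (pow_mem hd' τ)] at h1
      have h2 := (huniq _ (pow_mem hc' τ) _ hc' _ (pow_mem (pow_mem hd' τ) _) _ hd' h1).1
      have hc1 : c' = 1 := by
        by_contra hc1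
        apply hτ1
        rw [← orderOf_eq_prime (hexp c') hc1, ← pow_eq_pow_iff_modEq, pow_one]
        exact h2
      have h3 : x₀ c ∈ C := by
        have := hxDC w (by rw [← hcd, hc1, one_mul]; exact hd')
        rwa [hw, MulAut.inv_apply_self] at this
      exact x₀.injective ((hCD _ h3 (hxCD c hc)).trans (map_one x₀).symm)
    have h4 : C.map x₀⁻¹.toMonoidHom ≤ D := by
      rintro _ ⟨c, hc, rfl⟩
      have h5 : x₀⁻¹ (x₀⁻¹ c) ∈ C := by
        show G₀ (x₀⁻¹ (x₀⁻¹ c)) * (x₀⁻¹ (x₀⁻¹ c))⁻¹ = 1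
        rw [mul_inv_eq_one]
        apply x₀.injective
        apply x₀.injective
        have hτid : c ^ τ = c := by
          conv_rhs => rw [← pow_one c]
          rw [pow_eq_pow_iff_modEq]
          exact Nat.ModEq.of_dvd (orderOf_dvd_of_pow_eq_one (hexp c)) hτ1
        rw [heq2, hτid, apply_pow_eq G₀ (a := 1) (by rw [pow_one]; exact hfixC c hc)]
        simp
      have h6 := hxCD _ h5
      rwa [MulAut.apply_inv_self] at h6
    have h7 : C.map x₀⁻¹.toMonoidHom = D := by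
      refine eq_of_le_of_card_ge h4 ?_
      rw [← hcardCD, card_map_of_injective x₀.injective, card_map_of_injective x₀⁻¹.injective]
    intro d hd
    obtain ⟨c, hc, rfl⟩ := h7.ge hd
    show x₀ (x₀⁻¹ c) ∈ C
    rwa [MulAut.apply_inv_self]
  -- `x` is an involution
  have hz : ∀ {v : V}, v ≠ 1 → ∀ {m : ℤ}, v ^ m = 1 → (m : ZMod r) = 0 := by
    intro v hv m hm
    rw [ZMod.intCast_zmod_eq_zero_iff_dvd, ← orderOf_eq_prime (hexp v) hv]
    exact orderOf_dvd_iff_zpow_eq_one.2 hm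
  have hxc : ∀ c ∈ C, x₀ (x₀ c) = c := by
    intro c hc
    obtain ⟨n, hn⟩ := hX x₀ x.2 p' b' hp' (by rw [hx₀, orderOf_coe, hxo]) c
    have hn' : (x₀ c * c⁻¹) ^ n = x₀ (x₀ c * c⁻¹) := hn
    rw [mul_zpow, map_mul, map_inv, mul_comm ((x₀ c) ^ n)] at hn'
    obtain ⟨h1, h2⟩ := huniq _ (zpow_mem (inv_mem hc) n) _ (hxD _ (hxCD c hc)) _
      (zpow_mem (hxCD c hc) n) _ (inv_mem (hxCD c hc)) hn'
    have h3 : x₀ (c ^ (n + 1)) = 1 := by rw [map_zpow, zpow_add_one, h2, inv_mul_cancel]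
    have h4 : c ^ (n + 1) = 1 := x₀.injective (h3.trans (map_one x₀).symm)
    rw [← h1, inv_zpow]
    rw [zpow_add_one, mul_eq_one_iff_eq_inv] at h4
    rw [h4, inv_inv]
  have hx2 : ∀ v : V, x₀ (x₀ v) = v := by
    intro v
    obtain ⟨c, hc, d, hd, rfl⟩ := hsplit v
    obtain ⟨c', hc', rfl⟩ := hcardCD.ge hd
    rw [map_mul, map_mul, hxc c hc]
    show c * x₀ (x₀ (x₀ c')) = c * x₀ c'
    rw [hxc c' hc']
  have hxinv : ∀ v : V, x₀⁻¹ v = x₀ v := fun v =>
    x₀.injective (by rw [MulAut.apply_inv_self, hx2])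
  -- `g` inverts `D`
  obtain ⟨c₀, hc₀, hc₀1⟩ := C.bot_or_exists_ne_one.resolve_left hC0
  have hd₀ := hxCD c₀ hc₀
  have hd₀1 : x₀ c₀ ≠ 1 := fun e => hc₀1 (x₀.injective (e.trans (map_one x₀).symm))
  set a' := a ^ (orderOf G₀ - 1) with ha'
  have hGinv : ∀ d ∈ D, G₀⁻¹ d = d ^ a' := fun d hd => by
    rw [ha', ← apply_pow_eq G₀ (hgD d hd)]
    congr 1
    refine inv_eq_of_mul_eq_one_right ?_
    rw [← pow_succ', Nat.sub_add_cancel (orderOf_pos _), pow_orderOf_eq_one]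
  have hGinvC : ∀ c ∈ C, G₀⁻¹ c = c := fun c hc =>
    G₀.injective (by rw [MulAut.apply_inv_self, hfixC c hc])
  have haa : ((a : ℤ) : ZMod r) * ((a' : ℤ) : ZMod r) = 1 := by
    have h1 : (x₀ c₀) ^ ((a : ℤ) * (a' : ℤ) - 1) = 1 := by
      rw [zpow_sub, zpow_one, ← Nat.cast_mul, zpow_natCast, pow_mul, ← hgD _ hd₀,
        ← hGinv _ (hgD _ hd₀ ▸ pow_mem hd₀ a), MulAut.inv_apply_self, mul_inv_cancel]
    have := hz hd₀1 h1
    push_cast at this ⊢
    linear_combination this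
  have ha1 : ((a : ℤ) : ZMod r) ≠ 1 := by
    intro h1
    apply hd₀1
    refine hCD _ ?_ hd₀
    show G₀ (x₀ c₀) * (x₀ c₀)⁻¹ = 1
    rw [mul_inv_eq_one, hgD _ hd₀]
    conv_rhs => rw [← pow_one (x₀ c₀)]
    rw [pow_eq_pow_iff_modEq, orderOf_eq_prime (hexp _) hd₀1, ← ZMod.natCast_eq_natCast_iff]
    simpa using h1
  have hinv : ((a : ℤ) : ZMod r) = -1 := by
    -- the element `g · x g⁻¹ x⁻¹`
    set H : MulAut V := G₀ * (x₀ * G₀⁻¹ * x₀⁻¹) with hH
    have hcommg : Commute G₀ (x₀ * G₀⁻¹ * x₀⁻¹) := by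
      have h1 : Commute G₀ (x₀ * G₀ * x₀⁻¹) := by
        refine MulEquiv.ext fun v => ?_
        show G₀ (x₀ (G₀ (x₀⁻¹ v))) = x₀ (G₀ (x₀⁻¹ (G₀ v)))
        rw [heq, heq, map_pow, map_pow, map_pow, ← MulAut.mul_apply, ← pow_succ', pow_succ, MulAut.mul_apply]
      have h2 := h1.inv_right
      rwa [show (x₀ * G₀ * x₀⁻¹)⁻¹ = x₀ * G₀⁻¹ * x₀⁻¹ by group] at h2
    have hHo : H ^ q ^ k = 1 := by
      rw [hH, hcommg.mul_pow, conj_pow, inv_pow, ← hk', pow_orderOf_eq_one]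
      group
    obtain ⟨e, -, he⟩ := (Nat.dvd_prime_pow hZ).1 (orderOf_dvd_of_pow_eq_one hHo)
    have hHC : ∀ c ∈ C, H c = c ^ a' := fun c hc => by
      show G₀ (x₀ (G₀⁻¹ (x₀⁻¹ c))) = _
      rw [hxinv, hGinv _ (hxCD c hc), map_pow, hx2, map_pow, hfixC c hc]
    have hHD : ∀ d ∈ D, H d = d ^ a := fun d hd => by
      show G₀ (x₀ (G₀⁻¹ (x₀⁻¹ d))) = _
      rw [hxinv, hGinvC _ (hxD d hd), hx2, hgD d hd]
    obtain ⟨n, hn⟩ := hX H (mul_mem g.2 (mul_mem (mul_mem x.2 (inv_mem g.2)) (inv_mem x.2))) q e hZ he (c₀ * x₀ c₀)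
    set u := c₀ ^ ((a' : ℤ) - 1) with hu
    set w := x₀ c₀ ^ ((a : ℤ) - 1) with hw'
    have hval : H (c₀ * x₀ c₀) * (c₀ * x₀ c₀)⁻¹ = u * w := by
      rw [map_mul, hHC c₀ hc₀, hHD _ hd₀, mul_inv, hu, hw', zpow_sub, zpow_sub, zpow_natCast,
        zpow_natCast, zpow_one, zpow_one]
      exact mul_mul_mul_comm _ _ _ _
    have hn' : (u * w) ^ n = H (u * w) := by rw [← hval]; exact hn
    rw [map_mul, hHC u (zpow_mem hc₀ _), hHD w (zpow_mem hd₀ _), mul_zpow] at hn'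
    obtain ⟨h1, h2⟩ := huniq _ (zpow_mem (zpow_mem hc₀ _) n) _ (pow_mem (zpow_mem hc₀ _) a') _
      (zpow_mem (zpow_mem hd₀ _) n) _ (pow_mem (zpow_mem hd₀ _) a) hn'
    rw [← zpow_natCast (c₀ ^ _) a', ← zpow_mul, ← zpow_mul, ← mul_inv_eq_one, ← zpow_neg,
      ← zpow_add] at h1
    rw [← zpow_natCast (x₀ c₀ ^ _) a, ← zpow_mul, ← zpow_mul, ← mul_inv_eq_one, ← zpow_neg,
      ← zpow_add] at h2
    have e1 := hz hc₀1 h1
    have e2 := hz hd₀1 h2
    push_cast at e1 e2 haa ha1 ⊢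
    have e3 : ((a' : ZMod r) - 1) * ((n : ZMod r) - a') = 0 := by linear_combination e1
    have e4 : ((a : ZMod r) - 1) * ((n : ZMod r) - a) = 0 := by linear_combination e2
    have ha'1 : (a' : ZMod r) - 1 ≠ 0 := fun h0 => ha1 (by linear_combination haa - (a : ZMod r) * h0)
    have e5 := (mul_eq_zero.1 e3).resolve_left ha'1
    have e6 := (mul_eq_zero.1 e4).resolve_left (sub_ne_zero.2 ha1)
    have e7 : ((a : ZMod r) - 1) * ((a : ZMod r) + 1) = 0 := by
      linear_combination haa + (a : ZMod r) * (e5 - e6)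
    exact eq_neg_of_add_eq_zero_left ((mul_eq_zero.1 e7).resolve_left (sub_ne_zero.2 ha1))
  have hgD' : ∀ d ∈ D, G₀ d = d⁻¹ := fun d hd => by
    rw [hgD d hd]
    refine eq_inv_of_mul_eq_one_left ?_
    rw [← pow_succ, ← orderOf_dvd_iff_pow_eq_one]
    refine (orderOf_dvd_of_pow_eq_one (hexp d)).trans ?_
    rw [← ZMod.natCast_eq_zero_iff]
    push_cast at hinv ⊢
    rw [hinv, neg_add_cancel]
  -- `g x` has order four
  set y : MulAut V := G₀ * x₀ with hy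
  have hyC : ∀ c ∈ C, y c = (x₀ c)⁻¹ := fun c hc => by rw [hy, MulAut.mul_apply, hgD' _ (hxCD c hc)]
  have hyD : ∀ d ∈ D, y d = x₀ d := fun d hd => by rw [hy, MulAut.mul_apply, hfixC _ (hxD d hd)]
  have hy2 : ∀ v : V, y (y v) = v⁻¹ := by
    intro v
    obtain ⟨c, hc, d, hd, rfl⟩ := hsplit v
    rw [map_mul, map_mul, hyC c hc, hyD _ (inv_mem (hxCD c hc)), map_inv, hx2, hyD d hd, hyC _ (hxD d hd),
      hx2, mul_inv]
  have hy4 : y ^ 2 ^ 2 = 1 := by
    refine MulEquiv.ext fun v => ?_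
    show y (y (y (y v))) = v
    rw [hy2, hy2, inv_inv]
  obtain ⟨e, -, he⟩ := (Nat.dvd_prime_pow Nat.prime_two).1 (orderOf_dvd_of_pow_eq_one hy4)
  obtain ⟨n, hn⟩ := hX y (mul_mem g.2 x.2) 2 e Nat.prime_two he c₀
  have hn' : (y c₀ * c₀⁻¹) ^ n = y (y c₀ * c₀⁻¹) := hn
  rw [map_mul, map_inv, hy2, hyC c₀ hc₀, inv_inv, mul_zpow, mul_comm ((x₀ c₀)⁻¹ ^ n)] at hn'
  obtain ⟨h1, h2⟩ := huniq _ (zpow_mem (inv_mem hc₀) n) _ (inv_mem hc₀) _
    (zpow_mem (inv_mem hd₀) n) _ hd₀ hn'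
  have e1 : c₀ ^ (n - 1) = 1 := by
    rw [inv_zpow, inv_inj] at h1
    rw [zpow_sub, h1, zpow_one, mul_inv_cancel]
  have e2 : (x₀ c₀) ^ (n + 1) = 1 := by
    rw [inv_zpow, inv_eq_iff_eq_inv] at h2
    rw [zpow_add_one, h2, inv_mul_cancel]
  have f1 := hz hc₀1 e1
  have f2 := hz hd₀1 e2
  push_cast at f1 f2 hinv ha1
  apply ha1
  rw [hinv]
  linear_combination f1 - f2

end Linear


private theorem supersolvable_aux : ∀ (n : ℕ) (G : Type u) [Group G] [Finite G], Nat.card G = n →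
    PairHyp G → IsSupersolvable G := by
  intro n
  induction n using Nat.strong_induction_on with
  | _ n ih =>
  intro G _ _ hn h
  rcases subsingleton_or_nontrivial G with hs | hs
  · exact CfsgLib.Solvable.isSupersolvable_of_subsingleton
  obtain ⟨r, R, hr, -, hRr, hnd, hR1, hnorm⟩ := exists_normal_sylow _ (⊤ : Subgroup G) rfl top_ne_bot
    fun L _ hL => by
      haveI : Fact (Nat.card L).minFac.Prime :=
        ⟨Nat.minFac_prime fun h1 => hL (Subgroup.card_eq_one.1 h1)⟩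
      exact hasNormalPComplement_smallest (h.subgroup L) fun q hq hd => Nat.minFac_le_of_dvd hq.two_le hd
  haveI : Fact r.Prime := ⟨hr⟩
  haveI : R.Normal := normalizer_eq_top_iff.1 (top_le_iff.1 ((normalizer_eq_top (⊤ : Subgroup G)).ge.trans hnorm))
  rw [Subgroup.relIndex_top_right] at hnd
  obtain ⟨N, hNn, hN, hNR, hmin⟩ := CfsgLib.Solvable.exists_minimal_normal_le R hR1
  have hGN : IsSupersolvable (G ⧸ N) :=
    ih _ (hn ▸ CfsgLib.Solvable.card_quotient_lt N hN) _ rfl (h.quotient N)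
  haveI : Nontrivial ↥N := (Subgroup.nontrivial_iff_ne_bot N).2 hN
  have hNp : IsPGroup r ↥N := hRr.to_le hNR
  haveI := hNp.isNilpotent
  have hs' : Group.IsSolvable ↥N := inferInstance
  have hcommN := CfsgLib.Solvable.commute_of_minimal_normal N hN hmin hs'
  have hexp : ∀ v : ↥N, v ^ r = 1 := by
    obtain ⟨s, hs, hsN⟩ := CfsgLib.Solvable.exists_prime_pow_eq_one_of_minimal_normal N hN hmin hs'
    obtain ⟨v, hv⟩ := exists_ne (1 : ↥N)
    obtain ⟨k, hk⟩ := IsPGroup.iff_orderOf.1 hNp v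
    have h1 : r ^ k ∣ s := hk ▸ orderOf_dvd_of_pow_eq_one (Subtype.ext (hsN v v.2))
    have hk0 : k ≠ 0 := fun h0 => hv (orderOf_eq_one_iff.1 (by rw [hk, h0, pow_zero]))
    have h2 : r = s := (Nat.prime_dvd_prime_iff_eq hr hs).1 ((dvd_pow_self r hk0).trans h1)
    exact fun v => Subtype.ext (h2 ▸ hsN v v.2)
  letI : CommGroup ↥N :=
    { (inferInstance : Group ↥N) with mul_comm := fun a b => Subtype.ext (hcommN a a.2 b b.2) }
  let φ : G →* MulAut ↥N := MulAut.conjNormal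
  have hφN : ∀ g ∈ N, φ g = 1 := fun g hg => MulEquiv.ext fun v => Subtype.ext (by
    show g * (v : G) * g⁻¹ = v
    rw [hcommN g hg v v.2, mul_inv_cancel_right])
  -- the Sylow subgroup centralises `N`
  have hφR : ∀ g ∈ R, φ g = 1 := by
    have hA : IsPGroup r ↥(R.map φ) := hRr.map φ
    obtain ⟨v, hv, hfix⟩ := CfsgLib.LocalEven.HSub.exists_fixed_ne_one hNp _ hA
    let F : Subgroup ↥N :=
      { carrier := {w | ∀ s ∈ R.map φ, s w = w}
        one_mem' := fun s _ => map_one s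
        mul_mem' := fun ha hb s hs => by rw [map_mul, ha s hs, hb s hs]
        inv_mem' := fun ha s hs => by rw [map_inv, ha s hs] }
    have hFn : (F.map N.subtype).Normal := ⟨by
      rintro _ ⟨w, hw, rfl⟩ g
      refine ⟨φ g w, ?_, rfl⟩
      rintro _ ⟨c, hc, rfl⟩
      have h1 := hw _ ⟨g⁻¹ * c * g, by
        have := (inferInstance : R.Normal).conj_mem c hc g⁻¹
        rwa [inv_inv] at this, rfl⟩
      rw [map_mul, map_mul, map_inv, MulAut.mul_apply, MulAut.mul_apply] at h1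
      exact (MulEquiv.symm_apply_eq (φ g)).1 h1⟩
    rcases hmin _ hFn (map_subtype_le F) with h0 | h0
    · exact absurd ((Subgroup.map_eq_bot_iff_of_injective F N.subtype_injective).1 h0 ▸
        (show v ∈ F from hfix)) (fun h1 => hv (mem_bot.1 h1))
    · intro g hg
      refine MulEquiv.ext fun w => ?_
      obtain ⟨w', hw', hwe⟩ := h0.ge w.2
      exact (show w' = w from Subtype.ext hwe) ▸ hw' _ ⟨g, hg, rfl⟩
  set X := φ.range with hX
  have hXs : IsSupersolvable ↥X :=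
    CfsgLib.Solvable.isSupersolvable_of_surjective (QuotientGroup.lift N φ.rangeRestrict
      fun g hg => Subtype.ext (hφN g hg))
      (fun y => by
        obtain ⟨g, rfl⟩ := φ.rangeRestrict_surjective y
        exact ⟨QuotientGroup.mk g, rfl⟩) hGN
  have hcop : ∀ x ∈ X, (orderOf x).Coprime r := by
    rintro _ ⟨g, rfl⟩
    refine Nat.Coprime.coprime_dvd_left (orderOf_dvd_of_pow_eq_one ?_)
      ((hr.coprime_iff_not_dvd.2 hnd).symm)
    rw [← map_pow]
    exact hφR _ (R.pow_index_mem g)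
  have htwo : TwoValued X := by
    rintro _ ⟨g₀, rfl⟩ q a hq ha v
    by_cases hqr : q = r
    · have h1 : φ g₀ = 1 := by
        refine orderOf_eq_one_iff.1 (Nat.eq_one_of_dvd_coprimes ((hcop _ ⟨g₀, rfl⟩)) dvd_rfl ?_ |>.trans rfl)
        rw [ha, hqr]
        rcases Nat.eq_zero_or_pos a with h0 | h0
        · rw [h0, pow_zero]; exact one_dvd _
        · exfalso
          have h2 := hcop _ ⟨g₀, rfl⟩
          rw [ha, hqr, Nat.coprime_pow_left_iff h0] at h2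
          exact hr.ne_one ((Nat.coprime_self _).1 h2)
      rw [h1]; simp
    obtain ⟨g, hg, hgg⟩ := exists_lift φ hq g₀ ha.dvd
    rw [← hgg]
    obtain ⟨h1, -⟩ := line hr hq hqr h hNp hg (by rw [normalizer_eq_top]; exact mem_top g) (v := (v : G)⁻¹) (inv_mem v.2)
    set u := (v : G)⁻¹ * g * (v : G)⁻¹⁻¹ * g⁻¹ with hu
    have hw : ((φ g v * v⁻¹ : ↥N) : G) = u := by
      rw [hu, Subgroup.coe_mul, InvMemClass.coe_inv, inv_inv]
      show g * (v : G) * g⁻¹ * (v : G)⁻¹ = _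
      have hm : g * (v : G) * g⁻¹ ∈ N := hNn.conj_mem _ v.2 g
      rw [hcommN _ hm _ (inv_mem v.2)]
      group
    obtain ⟨n, hn⟩ := h1
    refine ⟨n, Subtype.ext ?_⟩
    show ((φ g v * v⁻¹ : ↥N) : G) ^ n = g * ((φ g v * v⁻¹ : ↥N) : G) * g⁻¹
    rw [hw]
    exact hn
  have hirr : ∀ W : Subgroup ↥N, (∀ x ∈ X, ∀ w ∈ W, x w ∈ W) → W = ⊥ ∨ W = ⊤ := by
    intro W hW
    have hWn : (W.map N.subtype).Normal := ⟨by
      rintro _ ⟨w, hw, rfl⟩ g
      exact ⟨φ g w, hW _ ⟨g, rfl⟩ w hw, rfl⟩⟩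
    rcases hmin _ hWn (map_subtype_le W) with h0 | h0
    · exact Or.inl ((Subgroup.map_eq_bot_iff_of_injective W N.subtype_injective).1 h0)
    · refine Or.inr (eq_top_iff.2 fun w _ => ?_)
      obtain ⟨w', hw', hwe⟩ := h0.ge w.2
      exact (show w' = w from Subtype.ext hwe) ▸ hw'
  have hsc := isScalar_of_twoValued hexp X hXs hcop htwo hirr
  obtain ⟨v, hv⟩ := exists_ne (1 : ↥N)
  have hzn : (zpowers (v : G)).Normal := ⟨by
    rintro _ ⟨i, rfl⟩ g
    obtain ⟨a, ha⟩ := hsc _ ⟨g, rfl⟩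
    have h1 : g * (v : G) * g⁻¹ = (v : G) ^ a := congrArg Subtype.val (ha v)
    show g * (v : G) ^ i * g⁻¹ ∈ _
    rw [← conj_zpow, h1]
    exact zpow_mem (pow_mem (mem_zpowers _) a) i⟩
  rcases hmin _ hzn (zpowers_le.2 v.2) with h0 | h0
  · exact absurd (Subtype.ext (zpowers_eq_bot.1 h0)) hv
  · haveI : IsCyclic ↥N := h0 ▸ inferInstance
    exact CfsgLib.Solvable.isSupersolvable_extension N hGN

/-- Supersolvability from the orders of the subgroups `⟨x, x^g⟩`. -/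
theorem isSupersolvable_of_pairHyp (h : PairHyp G) : IsSupersolvable G :=
  supersolvable_aux _ G rfl h

end CfsgLib.LocalEven.PairSupersolvable
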