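import Mathlib
import Cfsg.Prelude.Def_Transfer
import Cfsg.Agent.Lib.Transfer.Critical
import Cfsg.Agent.Lib.PGroup.Basic

/-!
The extraspecial group of plus type as signed translations of functions over the field with three
elements, and its extension by isometries.
-/

set_option autoImplicit false

namespace CfsgLib.LocalEven.PlusModel

open scoped commutatorElement

/-- The half space. -/
abbrev Hv (n : ℕ) := Fin n → ZMod 2

/-- The space of functions. -/
abbrev Fn (n : ℕ) := Hv n → ZMod 3

variable {n : ℕ}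

/-- The pairing. -/
def dot (a c : Hv n) : ZMod 2 := ∑ i, c i * a i

/-- The sign character. -/
def sgn (s : ZMod 2) : ZMod 3 := if s = 0 then 1 else -1

theorem zmod_two_cases : ∀ c : ZMod 2, c = 0 ∨ c = 1 := by decide

theorem sgn_add (s t : ZMod 2) : sgn (s + t) = sgn s * sgn t := by revert s t; decide

theorem sgn_ne_zero (s : ZMod 2) : sgn s ≠ 0 := by revert s; decide

theorem sgn_injective : Function.Injective sgn := by decide

theorem sgn_mul_self (s : ZMod 2) : sgn s * sgn s = 1 := by revert s; decide

theorem dot_add_left (a b c : Hv n) : dot (a + b) c = dot a c + dot b c := by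
  simp [dot, mul_add, Finset.sum_add_distrib]

theorem dot_add_right (a c d : Hv n) : dot a (c + d) = dot a c + dot a d := by
  simp [dot, add_mul, Finset.sum_add_distrib]

theorem dot_zero_left (c : Hv n) : dot 0 c = 0 := by simp [dot]

theorem dot_zero_right (a : Hv n) : dot a 0 = 0 := by simp [dot]

theorem dot_single (i : Fin n) (c : Hv n) : dot (Pi.single i 1) c = c i := by
  rw [dot, Finset.sum_eq_single i]
  · simp
  · intro b _ hb; simp [hb]
  · simp

theorem hv_add_self (x : Hv n) : x + x = 0 := funext fun _ => CharTwo.add_self_eq_zero _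

/-- The coordinate space. -/
abbrev Uv (n : ℕ) := Hv n × Hv n

/-- The bilinear form describing multiplication. -/
def bb (u v : Uv n) : ZMod 2 := dot u.1 v.2

/-- A signed translation. -/
def op (s : ZMod 2) (u : Uv n) : Fn n ≃ₗ[ZMod 3] Fn n where
  toFun f x := sgn (s + dot x u.2) * f (x + u.1)
  map_add' f g := funext fun x => by simp [mul_add]
  map_smul' r f := funext fun x => by simp [mul_left_comm]
  invFun f x := sgn (s + dot (x + u.1) u.2) * f (x + u.1)
  left_inv f := funext fun x => by
    simp [add_assoc, hv_add_self, ← mul_assoc, sgn_mul_self]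
  right_inv f := funext fun x => by
    simp [add_assoc, hv_add_self, ← mul_assoc, sgn_mul_self]

theorem op_apply (s : ZMod 2) (u : Uv n) (f : Fn n) (x : Hv n) :
    op s u f x = sgn (s + dot x u.2) * f (x + u.1) := rfl

theorem op_mul (s t : ZMod 2) (u v : Uv n) : op s u * op t v = op (s + t + bb u v) (u + v) := by
  apply LinearEquiv.ext
  intro f
  funext x
  rw [LinearEquiv.mul_apply, op_apply, op_apply, op_apply, ← mul_assoc, ← sgn_add, Prod.fst_add,
    Prod.snd_add, ← add_assoc x]
  congr 2
  simp [bb, dot_add_left, dot_add_right]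
  abel

theorem op_zero : op (0 : ZMod 2) (0 : Uv n) = 1 := by
  apply LinearEquiv.ext
  intro f
  funext x
  simp [op_apply, dot_zero_right, sgn]

theorem op_inv (s : ZMod 2) (u : Uv n) : (op s u)⁻¹ = op (s + bb u u) u := by
  refine inv_eq_of_mul_eq_one_right ?_
  rw [op_mul, ← op_zero]
  congr 1
  · rw [show s + (s + bb u u) + bb u u = (s + s) + (bb u u + bb u u) by abel,
      CharTwo.add_self_eq_zero, CharTwo.add_self_eq_zero, add_zero]
  · exact Prod.ext (hv_add_self _) (hv_add_self _)

theorem op_injective {s t : ZMod 2} {u v : Uv n} (h : op s u = op t v) : s = t ∧ u = v := by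
  classical
  have key : ∀ x : Hv n, ∀ a : Hv n, sgn (s + dot x u.2) * (Pi.single a 1 : Fn n) (x + u.1) =
      sgn (t + dot x v.2) * (Pi.single a 1 : Fn n) (x + v.1) := fun x a =>
    congrFun (LinearEquiv.congr_fun h (Pi.single a 1)) x
  have h0 := key 0 u.1
  simp only [zero_add, dot_zero_left, add_zero, Pi.single_eq_same, mul_one] at h0
  have h1 : v.1 = u.1 := by
    by_contra hne
    rw [Pi.single_eq_of_ne hne, mul_zero] at h0
    exact sgn_ne_zero _ h0
  rw [h1, Pi.single_eq_same, mul_one] at h0
  have hs := sgn_injective h0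
  refine ⟨hs, Prod.ext h1.symm (funext fun i => ?_)⟩
  have h2 := key (Pi.single i 1) (Pi.single i 1 + u.1)
  rw [h1, Pi.single_eq_same, mul_one, mul_one, dot_single, dot_single, hs] at h2
  exact add_left_cancel (sgn_injective h2)

variable (n)

/-- The extraspecial group. -/
def QGroup : Subgroup (Fn n ≃ₗ[ZMod 3] Fn n) where
  carrier := {L | ∃ s u, L = op s u}
  one_mem' := ⟨0, 0, op_zero.symm⟩
  mul_mem' := by
    rintro _ _ ⟨s, u, rfl⟩ ⟨t, v, rfl⟩
    exact ⟨_, _, op_mul s t u v⟩
  inv_mem' := by
    rintro _ ⟨s, u, rfl⟩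
    exact ⟨_, _, op_inv s u⟩

variable {n}

theorem finite_aut : Finite (Fn n ≃ₗ[ZMod 3] Fn n) :=
  Finite.of_injective (fun L => (L : Fn n → Fn n)) DFunLike.coe_injective

theorem card_QGroup : Nat.card ↥(QGroup n) = 2 ^ (2 * n + 1) := by
  have e : ZMod 2 × Uv n ≃ ↥(QGroup n) :=
    Equiv.ofBijective (fun m => ⟨op m.1 m.2, m.1, m.2, rfl⟩) ⟨fun a b h => by
      obtain ⟨h1, h2⟩ := op_injective (congrArg Subtype.val h)
      exact Prod.ext h1 h2, fun ⟨L, s, u, h⟩ => ⟨(s, u), Subtype.ext h.symm⟩⟩
  rw [← Nat.card_congr e]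
  simp only [Nat.card_prod, Nat.card_fun, Nat.card_zmod, Nat.card_eq_fintype_card (α := Fin n), Fintype.card_fin]
  ring

theorem central_iff (x : ↥(QGroup n)) :
    x ∈ Subgroup.center ↥(QGroup n) ↔ ∃ s, (x : Fn n ≃ₗ[ZMod 3] Fn n) = op s 0 := by
  constructor
  · intro hx
    obtain ⟨x, s, u, rfl⟩ := x
    refine ⟨s, ?_⟩
    have hc : ∀ v : Uv n, bb u v = bb v u := by
      intro v
      have h := congrArg Subtype.val (Subgroup.mem_center_iff.1 hx ⟨op 0 v, 0, v, rfl⟩)
      simp only [Subgroup.coe_mul, op_mul] at h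
      obtain ⟨h1, -⟩ := op_injective h
      simpa [add_comm] using h1.symm
    have hu : u = 0 := by
      refine Prod.ext (funext fun i => ?_) (funext fun i => ?_)
      · have := hc (0, Pi.single i 1)
        simp only [bb, dot_zero_left] at this
        have e : dot u.1 (Pi.single i 1) = u.1 i := by
          rw [dot, Finset.sum_eq_single i]
          · simp
          · intro b _ hb; simp [hb]
          · simp
        rw [e] at this
        simpa using this
      · have := hc (Pi.single i 1, 0)
        simp only [bb, dot_zero_right, dot_single] at this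
        simpa using this.symm
    show op s u = op s 0
    rw [hu]
  · rintro ⟨s, hs⟩
    refine Subgroup.mem_center_iff.2 fun y => Subtype.ext ?_
    obtain ⟨t, v, hv⟩ := y.2
    simp only [Subgroup.coe_mul, hs, hv, op_mul]
    congr 1
    · simp [bb, dot_zero_left, dot_zero_right, add_comm]
    · simp

theorem isExtraspecial (hn : 1 ≤ n) : Cfsg.IsExtraspecial 2 ↥(QGroup n) := by
  classical
  haveI : Finite (Fn n ≃ₗ[ZMod 3] Fn n) := finite_aut
  haveI := Fact.mk Nat.prime_two
  have hP : IsPGroup 2 ↥(QGroup n) := IsPGroup.of_card card_QGroup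
  set Z := Subgroup.center ↥(QGroup n) with hZ
  have hcard : Nat.card ↥Z = 2 := by
    have e : ZMod 2 ≃ ↥Z := Equiv.ofBijective
      (fun s => ⟨⟨op s 0, s, 0, rfl⟩, (central_iff _).2 ⟨s, rfl⟩⟩)
      ⟨fun a b h => (op_injective (Subtype.ext_iff.1 (Subtype.ext_iff.1 h))).1,
        fun ⟨y, hy⟩ => by
          obtain ⟨s, hs⟩ := (central_iff y).1 hy
          exact ⟨s, Subtype.ext (Subtype.ext hs.symm)⟩⟩
    rw [← Nat.card_congr e, Nat.card_zmod]
  have hcomm : ∀ a b : ↥(QGroup n), ⁅a, b⁆ ∈ Z := by
    intro a b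
    obtain ⟨a, s, u, rfl⟩ := a
    obtain ⟨b, t, v, rfl⟩ := b
    refine (central_iff _).2 ?_
    simp only [commutatorElement_def, Subgroup.coe_mul, InvMemClass.coe_inv, op_inv, op_mul]
    refine ⟨_, congrArg (op _) ?_⟩
    refine Prod.ext ?_ ?_ <;> funext i <;> simp [add_comm, add_left_comm, CharTwo.add_self_eq_zero]
  have hsq : ∀ a : ↥(QGroup n), a ^ 2 ∈ Z := by
    intro a
    obtain ⟨a, s, u, rfl⟩ := a
    refine (central_iff _).2 ?_
    simp only [sq, Subgroup.coe_mul, op_mul]
    refine ⟨_, congrArg (op _) ?_⟩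
    exact Prod.ext (hv_add_self _) (hv_add_self _)
  have h1 : commutator ↥(QGroup n) ≤ Z := Subgroup.commutator_le.2 fun a _ b _ => hcomm a b
  have h2 : commutator ↥(QGroup n) = Z := by
    refine le_antisymm h1 fun z hz => ?_
    obtain ⟨s, hs⟩ := (central_iff z).1 hz
    rcases zmod_two_cases s with h | h
    · have : z = 1 := Subtype.ext (by rw [hs, h, op_zero]; rfl)
      rw [this]; exact one_mem _
    · set e : Hv n := Pi.single ⟨0, hn⟩ 1 with he
      set A : ↥(QGroup n) := ⟨op 0 (e, 0), 0, _, rfl⟩
      set B : ↥(QGroup n) := ⟨op 0 (0, e), 0, _, rfl⟩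
      have : z = ⁅A, B⁆ := by
        refine Subtype.ext ?_
        simp only [hs, h, commutatorElement_def, Subgroup.coe_mul, InvMemClass.coe_inv, op_inv, op_mul, A, B]
        congr 1
        · simp only [bb, Prod.fst_add, Prod.snd_add, add_zero, zero_add, dot_zero_left, dot_zero_right]
          rw [he, hv_add_self, dot_zero_left, add_zero, dot_single, Pi.single_eq_same]
        · refine Prod.ext ?_ ?_ <;> simp [hv_add_self]
      rw [this]
      exact Subgroup.commutator_mem_commutator (Subgroup.mem_top _) (Subgroup.mem_top _)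
  refine ⟨⟨hP, le_antisymm (CfsgLib.Transfer.frattini_le_of_commutator_pow Z hcomm hsq) ?_, h2⟩, hcard⟩
  exact h2.symm.le.trans (CfsgLib.PGroup.commutator_le_frattini hP)

section Lift

variable (ψ : Uv n ≃ₗ[ZMod 2] Uv n)

theorem exists_correction (hψ : ∀ u, bb (ψ u) (ψ u) = bb u u) :
    ∃ f : Uv n → ZMod 2, ∀ u v, f (u + v) = f u + f v + (bb (ψ u) (ψ v) + bb u v) := by
  classical
  let B : LinearMap.BilinForm (ZMod 2) (Uv n) := LinearMap.mk₂ (ZMod 2) (fun u v => bb (ψ u) (ψ v) + bb u v)
    (fun a b c => by simp [bb, dot_add_left]; abel)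
    (fun r a c => by
      rcases zmod_two_cases r with h | h <;> simp [h, bb, dot_zero_left])
    (fun a b c => by simp [bb, dot_add_right]; abel)
    (fun r a c => by
      rcases zmod_two_cases r with h | h <;> simp [h, bb, dot_zero_right])
  have hBB : ∀ u v, B u v = bb (ψ u) (ψ v) + bb u v := fun u v => rfl
  have hdiag : ∀ u, B u u = 0 := fun u => by rw [hBB, hψ]; exact CharTwo.add_self_eq_zero _
  have hsym : ∀ u v, B u v = B v u := fun u v => by
    have := hdiag (u + v)
    simp only [map_add, LinearMap.add_apply, hdiag, zero_add, add_zero] at this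
    exact (CharTwo.add_eq_zero.1 this).symm
  let bs := Module.finBasis (ZMod 2) (Uv n)
  let C : Uv n → Uv n → ZMod 2 := fun u v =>
    ∑ i, ∑ j, if i < j then bs.repr u i * bs.repr v j * B (bs i) (bs j) else 0
  refine ⟨fun u => C u u, fun u v => ?_⟩
  have hC : C u v + C v u = B u v := by
    conv_rhs => rw [← LinearMap.sum_repr_mul_repr_mul bs bs (B := B) u v]
    rw [Finsupp.sum_fintype _ _ (by simp)]
    simp only [C]
    rw [Finset.sum_comm (f := fun i j => if i < j then bs.repr v i * bs.repr u j * B (bs i) (bs j) else 0),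
      ← Finset.sum_add_distrib]
    refine Finset.sum_congr rfl fun i _ => ?_
    rw [Finsupp.sum_fintype _ _ (by simp), ← Finset.sum_add_distrib]
    refine Finset.sum_congr rfl fun j _ => ?_
    rcases lt_trichotomy i j with h | h | h
    · rw [if_pos h, if_neg (not_lt.2 h.le), add_zero, smul_eq_mul, smul_eq_mul, mul_assoc]
    · subst h
      simp [hdiag]
    · rw [if_neg (not_lt.2 h.le), if_pos h, zero_add, smul_eq_mul, smul_eq_mul, hsym (bs j) (bs i)]
      ring
  show C (u + v) (u + v) = C u u + C v v + (bb (ψ u) (ψ v) + bb u v)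
  rw [← hBB, ← hC]
  simp only [C, map_add, Finsupp.coe_add, Pi.add_apply, ← Finset.sum_add_distrib]
  refine Finset.sum_congr rfl fun i _ => Finset.sum_congr rfl fun j _ => ?_
  split
  · ring
  · simp

/-- An intertwiner for an isometry. -/
theorem exists_lift (hψ : ∀ u, bb (ψ u) (ψ u) = bb u u) :
    ∃ L : Fn n ≃ₗ[ZMod 3] Fn n, ∀ s u, ∃ t, L * op s u = op t (ψ u) * L := by
  classical
  obtain ⟨f, hf⟩ := exists_correction ψ hψ
  let G' : ZMod 2 → Uv n → (Fn n ≃ₗ[ZMod 3] Fn n) := fun s u => op (s + f u) (ψ u)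
  have hG : ∀ s t u v, G' s u * G' t v = G' (s + t + bb u v) (u + v) := by
    intro s t u v
    show op _ _ * op _ _ = op _ _
    rw [op_mul, map_add, hf]
    congr 1
    rw [show s + t + bb u v + (f u + f v + (bb (ψ u) (ψ v) + bb u v)) =
      s + f u + (t + f v) + bb (ψ u) (ψ v) + (bb u v + bb u v) by abel, CharTwo.add_self_eq_zero, add_zero]
  have hf0 : f 0 = 0 := by
    have := hf 0 0
    simp only [add_zero, map_zero, bb, Prod.fst_zero, dot_zero_left] at this
    exact left_eq_add.1 this
  have hGs : ∀ s (w : Fn n), G' s 0 w = sgn s • w := by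
    intro s w; funext x
    simp [G', op_apply, hf0, dot_zero_right, smul_eq_mul]
  -- a common fixed vector of the diagonal part
  let D : Hv n → (Fn n ≃ₗ[ZMod 3] Fn n) := fun c => G' 0 (0, c)
  let T : Hv n → (Fn n ≃ₗ[ZMod 3] Fn n) := fun a => G' 0 (a, 0)
  have hD : ∀ c d w, D c (D d w) = D (c + d) w := by
    intro c d w
    rw [← LinearEquiv.mul_apply]
    simp [D, hG, bb, dot_zero_left]
  have hDT : ∀ c a w, D c (T a w) = sgn (dot a c) • T a (D c w) := by
    intro c a w
    rw [← hGs (dot a c), ← LinearEquiv.mul_apply, ← LinearEquiv.mul_apply, ← LinearEquiv.mul_apply]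
    simp only [D, T, hG, bb, dot_zero_left, dot_zero_right, Prod.mk_add_mk, add_zero, zero_add, Prod.fst_zero]
    congr 2
    rw [CharTwo.add_self_eq_zero]
  have horth : ∀ a : Hv n, ∑ c, sgn (dot a c) = if a = 0 then (2 : ZMod 3) ^ n else 0 := by
    intro a
    split
    · next h =>
      subst h
      simp [dot_zero_left, sgn]
    · next h =>
      obtain ⟨i, hi⟩ := Function.ne_iff.1 h
      have hi1 : a i = 1 := (zmod_two_cases (a i)).resolve_left hi
      have hone : dot a (Pi.single i 1) = 1 := by
        rw [dot, Finset.sum_eq_single i]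
        · simp [hi1]
        · intro b _ hb; simp [hb]
        · simp
      have h2 : ∑ c, sgn (dot a c) = ∑ c, sgn (dot a (c + Pi.single i 1)) :=
        (Fintype.sum_equiv (Equiv.addRight (Pi.single i 1 : Hv n))
          (fun c => sgn (dot a (c + Pi.single i 1))) (fun c => sgn (dot a c)) fun c => rfl).symm
      have h3 : ∑ c, sgn (dot a c) = -∑ c, sgn (dot a c) := by
        conv_lhs => rw [h2]
        rw [← Finset.sum_neg_distrib]
        refine Finset.sum_congr rfl fun c _ => ?_
        rw [dot_add_right, hone, sgn_add]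
        show _ * (-1) = _
        ring
      revert h3
      generalize ∑ c, sgn (dot a c) = z
      revert z
      decide
  have h2n : ((2 : ZMod 3) ^ n) ≠ 0 := pow_ne_zero n (by decide)
  obtain ⟨w, hw0, hw⟩ : ∃ w : Fn n, w ≠ 0 ∧ ∀ c, D c w = w := by
    let π : Hv n → Fn n → Fn n := fun h v => ∑ c, sgn (dot h c) • D c v
    let v₀ : Fn n := Pi.single 0 1
    obtain ⟨h, hh⟩ : ∃ h, π h v₀ ≠ 0 := by
      by_contra hc
      push Not at hc
      have h1 : ∑ h, π h v₀ = (2 : ZMod 3) ^ n • v₀ := by
        simp only [π]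
        rw [Finset.sum_comm]
        simp only [← Finset.sum_smul]
        have e : ∀ c : Hv n, ∑ h : Hv n, sgn (dot h c) = ∑ h : Hv n, sgn (dot c h) := fun c =>
          Finset.sum_congr rfl fun h _ => by congr 1; exact Finset.sum_congr rfl fun i _ => mul_comm _ _
        simp only [e, horth, ite_smul, zero_smul, Finset.sum_ite_eq', Finset.mem_univ, if_true]
        congr 1
        simp [D, G', hf0, ← Prod.zero_eq_mk, op_zero]
      rw [Finset.sum_eq_zero fun h _ => hc h] at h1
      rcases smul_eq_zero.1 h1.symm with h2 | h2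
      · exact h2n h2
      · have := congrFun h2 0
        simp [v₀] at this
    have heig : ∀ d, D d (π h v₀) = sgn (dot h d) • π h v₀ := by
      intro d
      simp only [π, map_sum, map_smul, hD, Finset.smul_sum, smul_smul]
      refine Fintype.sum_equiv (Equiv.addLeft d) _ _ fun c => ?_
      simp only [Equiv.coe_addLeft, dot_add_right, sgn_add, ← mul_assoc, sgn_mul_self, one_mul]
    refine ⟨T h (π h v₀), fun h0 => hh ((T h).map_eq_zero_iff.1 h0), fun c => ?_⟩
    rw [hDT, heig, map_smul, smul_smul, sgn_mul_self, one_smul]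
  let L : Fn n →ₗ[ZMod 3] Fn n :=
    { toFun := fun g => ∑ a, g a • T a w
      map_add' := fun g g' => by simp [add_smul, Finset.sum_add_distrib]
      map_smul' := fun r g => by simp [Finset.smul_sum, smul_smul] }
  have hL : ∀ s u g, L (op s u g) = G' s u (L g) := by
    intro s u g
    show ∑ x, op s u g x • T x w = G' s u (∑ a, g a • T a w)
    rw [map_sum]
    refine Fintype.sum_equiv (Equiv.addRight u.1) _ _ fun x => ?_
    simp only [Equiv.coe_addRight, map_smul, op_apply]
    have key : G' s u (T (x + u.1) w) = sgn (s + dot x u.2) • T x w := by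
      conv_rhs => rw [← hw u.2]
      rw [← hGs, ← LinearEquiv.mul_apply, ← LinearEquiv.mul_apply, ← LinearEquiv.mul_apply]
      simp only [T, D, hG, bb, Prod.fst_zero, Prod.fst_add, zero_add, dot_zero_left, dot_zero_right, add_zero]
      congr 2
      · rw [add_assoc s, CharTwo.add_self_eq_zero, add_zero]
      · refine Prod.ext ?_ ?_
        · simp [add_left_comm, hv_add_self]
        · simp
    rw [key, smul_smul, mul_comm]
  have hLinj : Function.Injective L := by
    rw [injective_iff_map_eq_zero]
    intro g hg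
    funext a
    have h1 : ∀ c, ∑ x, (g x * sgn (dot x c)) • T x w = 0 := fun c => by
      have e : ∑ x, (g x * sgn (dot x c)) • T x w = D c (L g) := by
        show _ = D c (∑ x, g x • T x w)
        rw [map_sum]
        refine Finset.sum_congr rfl fun x _ => ?_
        rw [map_smul, hDT, hw, smul_smul]
      rw [e, hg, map_zero]
    have h2 : ∑ c, sgn (dot a c) • ∑ x, (g x * sgn (dot x c)) • T x w = 0 :=
      Finset.sum_eq_zero fun c _ => by rw [h1, smul_zero]
    simp only [Finset.smul_sum, smul_smul] at h2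
    rw [Finset.sum_comm] at h2
    simp only [← Finset.sum_smul] at h2
    have e : ∀ x, ∑ c, sgn (dot a c) * (g x * sgn (dot x c)) = if x = a then g x * 2 ^ n else 0 := by
      intro x
      have : ∀ c, sgn (dot a c) * (g x * sgn (dot x c)) = g x * sgn (dot (x + a) c) := fun c => by
        rw [dot_add_left, sgn_add]; ring
      simp only [this, ← Finset.mul_sum, horth]
      split <;> split
      · rfl
      · next h h' => exact absurd (by rw [add_eq_zero_iff_eq_neg] at h; rw [h]; funext i; exact CharTwo.neg_eq _) h'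
      · next h h' => exact absurd (h' ▸ hv_add_self _) h
      · simp
    simp only [e, ite_smul, zero_smul, Finset.sum_ite_eq', Finset.mem_univ, if_true] at h2
    rcases smul_eq_zero.1 h2 with h3 | h3
    · exact (mul_eq_zero.1 h3).resolve_right h2n
    · exact absurd ((T a).map_eq_zero_iff.1 h3) hw0
  refine ⟨LinearEquiv.ofBijective L ⟨hLinj, (LinearMap.injective_iff_surjective).1 hLinj⟩, fun s u => ⟨s + f u, ?_⟩⟩
  apply LinearEquiv.ext
  intro g
  exact hL s u g

end Lift

theorem commutant (L : Fn n ≃ₗ[ZMod 3] Fn n) (h : ∀ s u, L * op s u = op s u * L) :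
    L ∈ QGroup n := by
  classical
  have hc : ∀ (u : Uv n) g, L (op 0 u g) = op 0 u (L g) := fun u g => LinearEquiv.congr_fun (h 0 u) g
  have hzero : ∀ x, x ≠ 0 → L (Pi.single 0 1) x = 0 := by
    intro x hx
    obtain ⟨i, hi⟩ := Function.ne_iff.1 hx
    have hi1 : x i = 1 := (zmod_two_cases (x i)).resolve_left hi
    have hfix : op 0 ((0 : Hv n), Pi.single i 1) (Pi.single 0 1) = (Pi.single 0 1 : Fn n) := by
      funext y
      by_cases hy : y = 0
      · subst hy; simp [op_apply, dot_zero_left, sgn]
      · simp [op_apply, hy]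
    have h1 := congrFun (hc ((0 : Hv n), Pi.single i 1) (Pi.single 0 1)) x
    rw [hfix, op_apply] at h1
    have e : dot x (Pi.single i 1) = 1 := by
      rw [dot, Finset.sum_eq_single i]
      · simp [hi1]
      · intro b _ hb; simp [hb]
      · simp
    simp only [zero_add, add_zero, e] at h1
    revert h1
    generalize L (Pi.single 0 1) x = z
    revert z
    decide
  set c := L (Pi.single 0 1) 0 with hcdef
  have hL0 : L (Pi.single 0 1) = Pi.single 0 c := by
    funext x
    by_cases hx : x = 0
    · subst hx; simp [hcdef]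
    · simp [hx, hzero x hx]
  have hc0 : c ≠ 0 := fun hc0 => by
    rw [hc0, Pi.single_zero] at hL0
    have := congrFun (L.map_eq_zero_iff.1 hL0) 0
    simp at this
  have hL : ∀ a, L (Pi.single a 1) = c • (Pi.single a 1 : Fn n) := by
    intro a
    have e : ∀ d : ZMod 3, op 0 (a, (0 : Hv n)) (Pi.single 0 d) = (Pi.single a d : Fn n) := by
      intro d
      funext x
      simp only [op_apply, dot_zero_right, add_zero, sgn, if_true, one_mul, Pi.single_apply]
      by_cases hx : x = a
      · simp [hx, hv_add_self]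
      · rw [if_neg hx, if_neg]
        intro h'
        apply hx
        rw [add_eq_zero_iff_eq_neg] at h'
        rw [h']; funext i; exact CharTwo.neg_eq _
    rw [← e 1, hc, hL0, e c, e 1]
    ext x
    simp [Pi.single_apply]
  refine ⟨if c = 1 then 0 else 1, 0, LinearEquiv.toLinearMap_injective (LinearMap.pi_ext fun a r => ?_)⟩
  show L (Pi.single a r) = op _ 0 (Pi.single a r)
  have hr : (Pi.single a r : Fn n) = r • (Pi.single a 1 : Fn n) := by ext x; simp [Pi.single_apply]
  rw [hr, map_smul, map_smul, hL]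
  congr 1
  funext x
  simp only [op_apply, Prod.snd_zero, Prod.fst_zero, dot_zero_right, add_zero, Pi.smul_apply, smul_eq_mul]
  congr 1
  revert hc0
  generalize c = z
  revert z
  decide

theorem mem_QGroup_of_trivial (L : Fn n ≃ₗ[ZMod 3] Fn n) (h : ∀ s u, ∃ t, L * op s u = op t u * L) :
    L ∈ QGroup n := by
  classical
  choose t ht using h
  have hconj : ∀ s u, L * op s u * L⁻¹ = op (t s u) u := fun s u => by rw [ht, mul_inv_cancel_right]
  have hadd : ∀ s s' u v, t (s + s' + bb u v) (u + v) = t s u + t s' v + bb u v := by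
    intro s s' u v
    have h1 := hconj (s + s' + bb u v) (u + v)
    have h2 : L * (op s u * op s' v) * L⁻¹ = (L * op s u * L⁻¹) * (L * op s' v * L⁻¹) := by group
    rw [hconj, hconj, op_mul, op_mul, h1] at h2
    exact (op_injective h2).1
  have hts : ∀ s, t s 0 = s := by
    intro s
    have hz : op s (0 : Uv n) * L = L * op s 0 := by
      apply LinearEquiv.ext
      intro g
      have e : ∀ g : Fn n, op s (0 : Uv n) g = sgn s • g := fun g => by
        funext x; simp [op_apply, dot_zero_right]
      rw [LinearEquiv.mul_apply, LinearEquiv.mul_apply, e, e, map_smul]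
    have := hconj s 0
    rw [← hz, mul_inv_cancel_right] at this
    exact ((op_injective this).1).symm
  let ε : Uv n → ZMod 2 := fun u => t 0 u
  have hε : ∀ s u, t s u = s + ε u := by
    intro s u
    have := hadd s 0 0 u
    simpa [bb, dot_zero_left, hts] using this
  have hεadd : ∀ u v, ε (u + v) = ε u + ε v := by
    intro u v
    have := hadd 0 0 u v
    rw [hε, hε 0 u, hε 0 v] at this
    simp only [zero_add, add_zero] at this
    rw [add_comm (ε u + ε v) (bb u v)] at this
    exact add_left_cancel this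
  let εl : Uv n →ₗ[ZMod 2] ZMod 2 := AddMonoidHom.toZModLinearMap 2 (AddMonoidHom.mk' ε hεadd)
  let a' : Hv n := fun i => ε (0, Pi.single i 1)
  let c' : Hv n := fun i => ε (Pi.single i 1, 0)
  have hεeq : ∀ u : Uv n, ε u = dot a' u.2 + dot u.1 c' := by
    have h1 : ∀ v : Hv n, ∀ (g : Hv n →ₗ[ZMod 2] Uv n), εl (g v) = ∑ i, v i * εl (g (Pi.single i 1)) := by
      intro v g
      conv_lhs => rw [show v = ∑ i, v i • (Pi.single i (1 : ZMod 2) : Hv n) from (pi_eq_sum_univ' v)]
      rw [map_sum, map_sum]
      exact Finset.sum_congr rfl fun i _ => by rw [map_smul, map_smul, smul_eq_mul]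
    intro u
    have h2 : ε u = εl (LinearMap.inl (ZMod 2) (Hv n) (Hv n) u.1) + εl (LinearMap.inr (ZMod 2) (Hv n) (Hv n) u.2) := by
      rw [← map_add]
      show _ = ε _
      simp
    rw [h2, h1, h1, add_comm]
    congr 1
    simp only [dot]
    exact Finset.sum_congr rfl fun i _ => mul_comm _ _
  -- conjugation by `op 0 (a', c')` has the same effect
  set g := op 0 (a', c') with hg
  have hgc : ∀ s u, g * op s u = op (t s u) u * g := by
    intro s u
    rw [hg, op_mul, op_mul, hε, hεeq]
    congr 1
    · simp only [bb]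
      rw [show s + (dot a' u.2 + dot u.1 c') + 0 + dot u.1 c' = s + dot a' u.2 + (dot u.1 c' + dot u.1 c') by abel,
        CharTwo.add_self_eq_zero, add_zero, zero_add]
    · rw [add_comm]
  have hcm : g⁻¹ * L ∈ QGroup n := by
    refine commutant _ fun s u => ?_
    calc g⁻¹ * L * op s u = g⁻¹ * (op (t s u) u * L) := by rw [mul_assoc, ht]
      _ = g⁻¹ * (op (t s u) u * g) * (g⁻¹ * L) := by group
      _ = op s u * (g⁻¹ * L) := by rw [← hgc]; group
  have := (QGroup n).mul_mem (show g ∈ QGroup n from ⟨_, _, rfl⟩) hcm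
  rwa [mul_inv_cancel_left] at this

/-- Hyperbolic coordinates for a form of plus type. -/
theorem exists_coordinates {U : Type*} [AddCommGroup U] [Module (ZMod 2) U] [Module.Finite (ZMod 2) U]
    (hn : Module.finrank (ZMod 2) U = 2 * n) (q : QuadraticForm (ZMod 2) U)
    (hnd : (QuadraticMap.polarBilin q).Nondegenerate)
    (W : Submodule (ZMod 2) U) (hW : Module.finrank (ZMod 2) ↥W = n) (hWq : ∀ w ∈ W, q w = 0) :
    ∃ φ : Uv n ≃ₗ[ZMod 2] U, ∀ u, q (φ u) = bb u u := by
  classical
  let bW := Module.finBasisOfFinrankEq (ZMod 2) ↥W hW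
  set P := QuadraticMap.polarBilin q with hP
  have hpol : ∀ x y, P x y = q (x + y) - q x - q y := fun x y => rfl
  have hadd : ∀ x y, q (x + y) = q x + q y + P x y := fun x y => by rw [hpol]; ring
  have hPW : ∀ x ∈ W, ∀ y ∈ W, P x y = 0 := fun x hx y hy => by
    rw [hpol, hWq _ (add_mem hx hy), hWq _ hx, hWq _ hy]; ring
  have hsym : ∀ x y, P x y = P y x := fun x y => by rw [hpol, hpol, add_comm x y]; ring
  have hinj : Function.Injective P := (injective_iff_map_eq_zero P).2 fun x hx => hnd.1 x fun y => by rw [hx]; rfl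
  have hsurj : Function.Surjective P :=
    (LinearMap.injective_iff_surjective_of_finrank_eq_finrank (Subspace.dual_finrank_eq).symm).1 hinj
  have hv : ∀ i, ∃ v : U, ∀ j, P v (bW j : U) = if i = j then 1 else 0 := by
    intro i
    obtain ⟨g, hg⟩ := (bW.coord i).exists_extend
    obtain ⟨v, hv⟩ := hsurj g
    refine ⟨v, fun j => ?_⟩
    rw [hv, show g (bW j : U) = bW.coord i (bW j) from LinearMap.congr_fun hg (bW j)]
    simp only [Module.Basis.coord_apply, Module.Basis.repr_self, Finsupp.single_apply, eq_comm]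
  choose v hv using hv
  let cor : Fin n → Fin n → ZMod 2 := fun i k => if k = i then q (v i) else if k < i then P (v i) (v k) else 0
  let v' : Fin n → U := fun i => v i + ((∑ k, cor i k • bW k : ↥W) : U)
  have hPvw : ∀ i (c : Fin n → ZMod 2), P (v i) ((∑ k, c k • bW k : ↥W) : U) = c i := by
    intro i c
    simp [map_sum, map_smul, hv, smul_eq_mul, Finset.sum_ite_eq]
  have hPwv : ∀ i (c : Fin n → ZMod 2), P ((∑ k, c k • bW k : ↥W) : U) (v i) = c i := fun i c =>
    (hsym _ _).trans (hPvw i c)
  have hq' : ∀ i, q (v' i) = 0 := by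
    intro i
    show q (_ + _) = 0
    rw [hadd, hWq _ (SetLike.coe_mem _), hPvw, add_zero]
    simp [cor, CharTwo.add_self_eq_zero]
  have hP' : ∀ i k, P (v' i) (v' k) = 0 := by
    intro i k
    by_cases hik : i = k
    · subst hik
      rw [hpol, show v' i + v' i = (0 : U) by rw [← two_smul (ZMod 2), show (2 : ZMod 2) = 0 from rfl, zero_smul],
        map_zero, hq']
      ring
    show P (_ + _) (_ + _) = 0
    rw [map_add, map_add, LinearMap.add_apply, LinearMap.add_apply, hPW _ (SetLike.coe_mem _) _ (SetLike.coe_mem _),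
      add_zero, hPvw, hPwv]
    simp only [cor, if_neg hik, if_neg (Ne.symm hik)]
    rcases lt_or_gt_of_ne hik with h | h
    · rw [if_pos h, if_neg (not_lt.2 h.le), add_zero, hsym (v k)]
      exact CharTwo.add_self_eq_zero _
    · rw [if_neg (not_lt.2 h.le), if_pos h, add_zero]
      exact CharTwo.add_self_eq_zero _
  have hPv' : ∀ i j, P (v' i) (bW j : U) = if i = j then 1 else 0 := by
    intro i j
    show P (_ + _) _ = _
    rw [map_add, LinearMap.add_apply, hv, hPW _ (SetLike.coe_mem _) _ (SetLike.coe_mem _), add_zero]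
  let φ₀ : Uv n →ₗ[ZMod 2] U :=
    (Fintype.linearCombination (ZMod 2) (fun i => (bW i : U))).coprod (Fintype.linearCombination (ZMod 2) v')
  have hsum0 : ∀ (s : Finset (Fin n)) (c : Fin n → ZMod 2), q (∑ i ∈ s, c i • v' i) = 0 := by
    intro s c
    induction s using Finset.induction_on with
    | empty => simp
    | insert a s ha ih =>
      rw [Finset.sum_insert ha, hadd, ih, QuadraticMap.map_smul, hq', smul_zero, zero_add, zero_add, map_sum]
      exact Finset.sum_eq_zero fun k _ => by simp [map_smul, hP']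
  have hq0 : ∀ u, q (φ₀ u) = bb u u := by
    intro u
    simp only [φ₀, LinearMap.coprod_apply, Fintype.linearCombination_apply]
    have hm : (∑ i, u.1 i • (bW i : U)) ∈ W :=
      W.sum_mem fun i _ => W.smul_mem _ (SetLike.coe_mem _)
    rw [hadd, hWq _ hm, hsum0, zero_add, zero_add, bb, dot, map_sum]
    refine Finset.sum_congr rfl fun i _ => ?_
    rw [map_smul, hsym, map_sum, smul_eq_mul]
    congr 1
    simp [map_smul, hPv', smul_eq_mul, Finset.sum_ite_eq]
  have hinj0 : Function.Injective φ₀ := by
    rw [injective_iff_map_eq_zero]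
    intro u hu
    have h2 : ∀ j, u.2 j = 0 := by
      intro j
      have h1 := congrArg (fun x => P x (bW j : U)) hu
      simp only [φ₀, LinearMap.coprod_apply, Fintype.linearCombination_apply, map_add, map_sum, map_smul,
        LinearMap.add_apply, LinearMap.coe_sum, Finset.sum_apply, LinearMap.smul_apply, smul_eq_mul,
        hPv', map_zero, LinearMap.zero_apply, hPW _ (SetLike.coe_mem _) _ (SetLike.coe_mem _), mul_zero,
        Finset.sum_const_zero, zero_add, mul_ite, mul_one, Finset.sum_ite_eq', Finset.mem_univ, if_true] at h1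
      exact h1
    have h20 : u.2 = 0 := funext h2
    have h1 : ∑ i, u.1 i • bW i = 0 := by
      apply Subtype.ext
      simpa [φ₀, h20, Fintype.linearCombination_apply] using hu
    exact Prod.ext (funext fun i => (Fintype.linearIndependent_iff.1 bW.linearIndependent u.1 h1 i)) h20
  have hfin : Module.finrank (ZMod 2) (Uv n) = Module.finrank (ZMod 2) U := by
    rw [hn, Module.finrank_prod, Module.finrank_fintype_fun_eq_card, Fintype.card_fin, two_mul]
  exact ⟨LinearEquiv.ofBijective φ₀
    ⟨hinj0, (LinearMap.injective_iff_surjective_of_finrank_eq_finrank hfin).1 hinj0⟩, hq0⟩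

end CfsgLib.LocalEven.PlusModel
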