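import Cfsg.Agent.Lib.LocalEven.QuadSection
import Cfsg.Agent.Lib.LocalEven.RankOne.Model
import Cfsg.Agent.Lib.Chev.Twist.G2Cent

/-!
No quadratic action on irreducible modules for `PSL₂(q)`, `q` odd, and the small Ree groups.
-/

set_option autoImplicit false

namespace CfsgLib.LocalEven.QuadNone

open Subgroup Cfsg
open CfsgLib.LocalEven.FaithfulBound (sl_ext sl_mul_apply det_eq_one upper lower upper00 upper01 upper10 upper11
  lower00 lower01 lower10 lower11)
open scoped commutatorElement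

/-- The 2-subgroups contain no quaternion pair. -/
def NoQuatPair (Q : Type*) [Group Q] : Prop :=
  ∀ (P : Subgroup Q), IsPGroup 2 P → ∀ x ∈ P, ∀ y ∈ P, x ^ 2 ≠ 1 → y ^ 2 ≠ 1 → x * y = y * x

theorem NoQuatPair.of_equiv {Q R : Type*} [Group Q] [Group R] (e : Q ≃* R) (h : NoQuatPair R) : NoQuatPair Q :=
  fun P hP x hx y hy hx2 hy2 => e.injective (by
    rw [map_mul, map_mul]
    exact h (P.map e.toMonoidHom) (hP.map _) _ ⟨x, hx, rfl⟩ _ ⟨y, hy, rfl⟩
      (fun hc => hx2 (e.injective (by rw [map_pow, map_one]; exact hc)))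
      (fun hc => hy2 (e.injective (by rw [map_pow, map_one]; exact hc))))

section PSL

variable {F : Type*} [Field F]

local notation "S₂" => Matrix.SpecialLinearGroup (Fin 2) F

theorem center_entries {x : S₂} (hx : x ∈ Subgroup.center S₂) :
    x.1 0 1 = 0 ∧ x.1 1 0 = 0 ∧ x.1 0 0 = x.1 1 1 := by
  have h1 := congrArg Subtype.val (Subgroup.mem_center_iff.1 hx (upper 1))
  have h2 := congrArg Subtype.val (Subgroup.mem_center_iff.1 hx (lower 1))
  have a00 := congrFun (congrFun h1 0) 0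
  have a01 := congrFun (congrFun h1 0) 1
  have b00 := congrFun (congrFun h2 0) 0
  simp [Matrix.mul_apply, Fin.sum_univ_two, upper00, upper01, upper10, upper11, lower00, lower01,
    lower10, lower11] at a00 a01 b00
  exact ⟨b00, a00, by linear_combination -a01⟩

/-- Elements commuting modulo the centre with a noncentral `Z` either commute with it or square into the centre. -/
theorem commute_or_sq {X Z : S₂} (hZ : Z ∉ Subgroup.center S₂)
    (h : (X * Z)⁻¹ * (Z * X) ∈ Subgroup.center S₂) : X * Z = Z * X ∨ X * X ∈ Subgroup.center S₂ := by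
  set c := (X * Z)⁻¹ * (Z * X) with hc
  obtain ⟨c01, c10, c11⟩ := center_entries h
  have hcd := det_eq_one c
  rw [c01, c10, ← c11] at hcd
  have hsq : c.1 0 0 * c.1 0 0 = 1 := by linear_combination hcd
  have e : Z * X = X * Z * c := by rw [hc, mul_inv_cancel_left]
  by_cases h1 : c.1 0 0 = 1
  · refine Or.inl ?_
    rw [e]
    refine sl_ext ?_ ?_ ?_ ?_ <;> simp [sl_mul_apply, c01, c10, ← c11, h1]
  · right
    have hm1 : c.1 0 0 = -1 := (mul_self_eq_one_iff.1 hsq).resolve_left h1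
    have h2 : (2 : F) ≠ 0 := fun h => h1 (by rw [hm1]; linear_combination -h)
    -- `Z X = - X Z` forces trace zero
    have e00 := congrArg (fun y : S₂ => y.1 0 0) e
    have e01 := congrArg (fun y : S₂ => y.1 0 1) e
    have e10 := congrArg (fun y : S₂ => y.1 1 0) e
    have e11 := congrArg (fun y : S₂ => y.1 1 1) e
    simp [sl_mul_apply, c01, c10, ← c11, hm1] at e00 e01 e10 e11
    have hdz := det_eq_one Z
    have ht : X.1 0 0 + X.1 1 1 = 0 := by
      refine (mul_eq_zero.1 (?_ : (2 : F) * (X.1 0 0 + X.1 1 1) = 0)).resolve_left h2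
      linear_combination (Z.1 1 1) * e00 - (Z.1 1 0) * e01 - (Z.1 0 1) * e10 + (Z.1 0 0) * e11
        - 2 * (X.1 0 0 + X.1 1 1) * hdz
    rw [Subgroup.mem_center_iff]
    intro y
    have hd' : X.1 1 1 = -X.1 0 0 := by linear_combination ht
    refine sl_ext ?_ ?_ ?_ ?_ <;> simp [sl_mul_apply, hd'] <;> ring

theorem par {a b e z1 z2 d : F} (h1 : a * z2 = z1 * b) (h2 : e * z1 = d * a) (h3 : b * d = e * z2)
    (hne : z1 ≠ 0 ∨ z2 ≠ 0 ∨ d ≠ 0) : ∃ s, a = s * z1 ∧ b = s * z2 ∧ e = s * d := by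
  rcases hne with h | h | h
  · refine ⟨a / z1, ?_, ?_, ?_⟩ <;> field_simp
    · linear_combination -h1
    · linear_combination h2
  · refine ⟨b / z2, ?_, ?_, ?_⟩ <;> field_simp
    · linear_combination h1
    · linear_combination -h3
  · refine ⟨e / d, ?_, ?_, ?_⟩ <;> field_simp
    · linear_combination -h2
    · linear_combination h3

/-- The centraliser of a noncentral element is abelian. -/
theorem commute_of_commute {X Y Z : S₂} (hZ : Z ∉ Subgroup.center S₂) (hX : X * Z = Z * X) (hY : Y * Z = Z * Y) :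
    X * Y = Y * X := by
  have hne : Z.1 0 1 ≠ 0 ∨ Z.1 1 0 ≠ 0 ∨ Z.1 0 0 - Z.1 1 1 ≠ 0 := by
    by_contra hc
    push Not at hc
    obtain ⟨z01, z10, z11⟩ := hc
    refine hZ (Subgroup.mem_center_iff.2 fun y => ?_)
    have hz : Z.1 0 0 = Z.1 1 1 := by linear_combination z11
    refine sl_ext ?_ ?_ ?_ ?_ <;> simp [sl_mul_apply, z01, z10, hz, mul_comm]
  have key : ∀ W : S₂, W * Z = Z * W →
      ∃ s, W.1 0 1 = s * Z.1 0 1 ∧ W.1 1 0 = s * Z.1 1 0 ∧ W.1 0 0 - W.1 1 1 = s * (Z.1 0 0 - Z.1 1 1) := by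
    intro W hW
    have w00 := congrArg (fun y : S₂ => y.1 0 0) hW
    have w01 := congrArg (fun y : S₂ => y.1 0 1) hW
    have w10 := congrArg (fun y : S₂ => y.1 1 0) hW
    simp [sl_mul_apply] at w00 w01 w10
    exact par (by linear_combination w00) (by linear_combination w01) (by linear_combination w10) hne
  obtain ⟨s, x01, x10, xd⟩ := key X hX
  obtain ⟨t, y01, y10, yd⟩ := key Y hY
  have xd' : X.1 0 0 = X.1 1 1 + s * (Z.1 0 0 - Z.1 1 1) := by linear_combination xd
  have yd' : Y.1 0 0 = Y.1 1 1 + t * (Z.1 0 0 - Z.1 1 1) := by linear_combination yd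
  refine sl_ext ?_ ?_ ?_ ?_ <;> simp only [sl_mul_apply, x01, x10, xd', y01, y10, yd'] <;> ring

/-- `PSL₂(q)` has no quaternion pair. -/
theorem noQuatPair_psl [Finite F] : NoQuatPair (Matrix.ProjectiveSpecialLinearGroup (Fin 2) F) := by
  intro P hP x hx y hy hx2 hy2
  haveI : Fact (Nat.Prime 2) := ⟨Nat.prime_two⟩
  set π : S₂ →* Matrix.ProjectiveSpecialLinearGroup (Fin 2) F := QuotientGroup.mk' _
  have hπ : Function.Surjective π := QuotientGroup.mk'_surjective _
  have hker : ∀ {w}, π w = 1 ↔ w ∈ Subgroup.center S₂ := QuotientGroup.eq_one_iff _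
  obtain ⟨z, hzP, hz1, hzc⟩ : ∃ z ∈ P, z ≠ 1 ∧ ∀ w ∈ P, w * z = z * w := by
    have hne : (⊤ : Subgroup P) ≠ ⊥ := fun he => hx2 (by
      have h1 : (⟨x, hx⟩ : P) ∈ (⊥ : Subgroup P) := he ▸ Subgroup.mem_top _
      rw [Subgroup.mem_bot] at h1
      rw [show x = 1 from congrArg Subtype.val h1, one_pow])
    obtain ⟨z, hz, hzo⟩ := CfsgLib.PGroup.exists_orderOf_eq hP (CfsgLib.PGroup.inf_center_ne_bot hP ⊤ hne)
    refine ⟨z, z.2, fun e => ?_, fun w hw => congrArg Subtype.val (Subgroup.mem_center_iff.1 hz.2 ⟨w, hw⟩)⟩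
    rw [show z = 1 from Subtype.ext e, orderOf_one] at hzo
    exact absurd hzo (by norm_num)
  obtain ⟨X, rfl⟩ := hπ x
  obtain ⟨Y, rfl⟩ := hπ y
  obtain ⟨Z, rfl⟩ := hπ z
  have hZ : Z ∉ Subgroup.center S₂ := fun h => hz1 (hker.2 h)
  have key : ∀ W : S₂, π W ∈ P → (π W) ^ 2 ≠ 1 → W * Z = Z * W := fun W hW hW2 =>
    (commute_or_sq hZ (hker.1 (by
      rw [map_mul, map_inv, map_mul, map_mul, inv_mul_eq_one]; exact hzc _ hW))).resolve_right
      fun h => hW2 (by rw [← map_pow, pow_two]; exact hker.2 h)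
  rw [← map_mul, ← map_mul, commute_of_commute hZ (key X hx hx2) (key Y hy hy2)]

end PSL

/-- The small Ree groups have no quaternion pair. -/
theorem noQuatPair_ree {K : Type*} [Field K] [Fintype K] {m : ℕ} (hK : Fintype.card K = 3 ^ (2 * m + 1)) :
    NoQuatPair ↥(Cfsg.Lie.twistedG2 K (3 ^ m)) := by
  intro P hP x hx y hy hx2 hy2
  haveI : Fact (Nat.Prime 2) := ⟨Nat.prime_two⟩
  obtain ⟨C⟩ := CfsgLib.Chev.TwG2.nonempty_ctx hK
  obtain ⟨S, hS⟩ := hP.exists_le_sylow
  exact absurd (by rw [pow_two]; exact (C.sylow_two S).2 x (hS hx)) hx2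

/-- A normal `p`-subgroup of the acting quotient fixes a nontrivial vector. -/
theorem exists_fixed {p : ℕ} [hp : Fact p.Prime] {H V : Type*} [Group H] [Finite H] [Group V] [Finite V]
    (ψ : H →* MulAut V) (C : Subgroup H) [C.Normal] (N : Subgroup (H ⧸ C)) (hN : IsPGroup p N)
    (hC : ∀ g, g ∈ C → ψ g = 1) (hV : ∀ v : V, v ^ p = 1) (hne : ¬ ∀ v : V, v = 1) :
    ∃ v : V, v ≠ 1 ∧ ∀ k ∈ N.comap (QuotientGroup.mk' C), ψ k v = v := by
  set π := QuotientGroup.mk' C
  have hπ : Function.Surjective π := QuotientGroup.mk'_surjective _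
  obtain ⟨S⟩ : Nonempty (Sylow p (N.comap π)) := inferInstance
  set T := (S : Subgroup (N.comap π)).map (N.comap π).subtype
  let f : ↥(N.comap π) →* N := (π.comp (N.comap π).subtype).codRestrict N fun x => x.2
  have hf : Function.Surjective f := fun y => by
    obtain ⟨x, hx⟩ := hπ y
    exact ⟨⟨x, show π x ∈ N from hx ▸ y.2⟩, Subtype.ext hx⟩
  have htop : (S : Subgroup (N.comap π)).map f = ⊤ := by
    have h1 := (S.mapSurjective hf).is_maximal' (Q := ⊤) (hN.of_equiv Subgroup.topEquiv.symm) le_top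
    exact h1.symm
  let act : MulAction T V :=
    { smul := fun g v => ψ g v
      one_smul := fun v => by show ψ ((1 : T) : H) v = v; rw [OneMemClass.coe_one, map_one, MulAut.one_apply]
      mul_smul := fun g h v => by
        show ψ ((g * h : T) : H) v = ψ g (ψ h v)
        rw [Subgroup.coe_mul, map_mul, MulAut.mul_apply] }
  letI := act
  have hVp : IsPGroup p V := fun v => ⟨1, by rw [pow_one]; exact hV v⟩
  have hdvd : p ∣ Nat.card V := by
    obtain ⟨v, hv⟩ := not_forall.1 hne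
    exact (orderOf_eq_prime (hV v) hv) ▸ orderOf_dvd_natCard v
  obtain ⟨v, hv, hv1⟩ := (S.2.map _ : IsPGroup p T).exists_fixed_point_of_prime_dvd_card_of_fixed_point V hdvd
    (a := 1) fun g => map_one (ψ _)
  refine ⟨v, hv1.symm, fun k hk => ?_⟩
  obtain ⟨t, ht, e⟩ := htop.ge (Subgroup.mem_top (f ⟨k, hk⟩))
  have e' : π (t : H) = π k := congrArg Subtype.val e
  have hc : ψ ((t : H)⁻¹ * k) = 1 := hC _ (QuotientGroup.eq.1 e')
  have h1 : ψ (t : H) v = v := hv ⟨(t : H), t, ht, rfl⟩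
  calc ψ k v = ψ ((t : H) * ((t : H)⁻¹ * k)) v := by rw [mul_inv_cancel_left]
    _ = v := by rw [map_mul, MulAut.mul_apply, hc, MulAut.one_apply, h1]

/-- No quadratic action. -/
theorem no_quadratic {G : Type*} [Group G] [Finite G] {p : ℕ} [hp : Fact p.Prime] (hp2 : p ≠ 2)
    (V H : Subgroup G) (hV : Cfsg.IsElementaryAbelian p V) (hHV : H ≤ Subgroup.normalizer (V : Set G))
    (hirr : ∀ U : Subgroup G, U ≤ V → H ≤ Subgroup.normalizer (U : Set G) → U = ⊥ ∨ U = V)
    [hn : ((Subgroup.centralizer (V : Set G)).subgroupOf H).Normal]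
    (hQ : NoQuatPair (↥H ⧸ (Subgroup.centralizer (V : Set G)).subgroupOf H))
    (A : Subgroup G) (hA : A ≤ H) (hquad : ⁅⁅V, A⁆, A⁆ = ⊥) : ⁅V, A⁆ = ⊥ := by
  classical
  by_contra hne
  obtain ⟨a, ha, haC⟩ : ∃ a ∈ A, a ∉ Subgroup.centralizer (V : Set G) := by
    by_contra hc
    push Not at hc
    exact hne (commutator_eq_bot_iff_le_centralizer.2 (le_centralizer_iff.1 hc))
  set C := (Subgroup.centralizer (V : Set G)).subgroupOf H with hC
  have hcomm : ∀ v ∈ V, ∀ w ∈ V, v * w = w * v := fun v hv w hw =>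
    congrArg Subtype.val (hV.1.1.comm (⟨v, hv⟩ : V) ⟨w, hw⟩)
  letI : CommGroup V :=
    { (inferInstance : Group V) with mul_comm := fun x y => Subtype.ext (hcomm x x.2 y y.2) }
  have : Module (ZMod p) (Additive V) := AddCommGroup.zmodModule fun x => by
    apply Additive.toMul.injective
    rw [toMul_nsmul, toMul_zero]
    exact Subtype.ext (hV.2 _ (Additive.toMul x).2)
  let ψ : ↥H →* MulAut V := V.normalizerMonoidHom.comp (inclusion hHV)
  have ψapp : ∀ (g : H) (v : V), ((ψ g v : V) : G) = g * v * (g : G)⁻¹ := fun g v => rfl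
  clear_value ψ
  have hψ : ∀ g : H, ψ g = 1 ↔ g ∈ C := fun g => by
    rw [hC, mem_subgroupOf]
    constructor
    · intro h
      refine mem_centralizer_iff.2 fun v hv => ?_
      have h1 := congrArg Subtype.val (DFunLike.congr_fun h ⟨v, hv⟩)
      rw [ψapp] at h1
      exact (mul_inv_eq_iff_eq_mul.1 h1).symm
    · intro h
      refine MulEquiv.ext fun v => Subtype.ext ?_
      rw [ψapp, ← mem_centralizer_iff.1 h v v.2, mul_inv_cancel_right]
      rfl
  have hq : ∀ g : H, ∀ v, ψ (g * ⟨a, hA ha⟩ * g⁻¹) (ψ (g * ⟨a, hA ha⟩ * g⁻¹) v) * v =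
      ψ (g * ⟨a, hA ha⟩ * g⁻¹) v * ψ (g * ⟨a, hA ha⟩ * g⁻¹) v := by
    intro g v
    set c := g * ⟨a, hA ha⟩ * g⁻¹ with hcdef
    have hc : CfsgLib.PStab.IsQuad V (c : G) :=
      CfsgLib.PStab.isQuad_conj (hHV g.2) (CfsgLib.PStab.isQuad_of_commutator_eq_bot hquad ha)
    clear_value c
    have hfix : ψ c (v * (ψ c v)⁻¹) = v * (ψ c v)⁻¹ := by
      apply Subtype.ext
      rw [ψapp, Subgroup.coe_mul, Subgroup.coe_inv, ψapp]
      have := hc v v.2
      rw [commutatorElement_eq_one_iff_mul_comm] at this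
      have e : ⁅(v : G), (c : G)⁆ = (v : G) * ((c : G) * v * (c : G)⁻¹)⁻¹ := by
        rw [commutatorElement_def]; group
      rw [e] at this
      rw [← this]; group
    rw [map_mul, map_inv, mul_inv_eq_iff_eq_mul, mul_right_comm, eq_mul_inv_iff_mul_eq] at hfix
    rw [hfix]
    exact mul_comm _ _
  set π := QuotientGroup.mk' C with hπdef
  have hπ : Function.Surjective π := QuotientGroup.mk'_surjective _
  have hker : ∀ g : H, π g = 1 ↔ g ∈ C := fun g => QuotientGroup.eq_one_iff g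
  -- the image of `a` has order `p`
  have hap : (⟨a, hA ha⟩ : H) ^ p ∈ C := by
    refine (hψ _).1 (MulEquiv.ext fun v => ?_)
    set b : V := ψ ⟨a, hA ha⟩ v * v⁻¹ with hb
    have h1 : ψ ⟨a, hA ha⟩ b = b := by
      have h2 := hq 1 v
      rw [one_mul, inv_one, mul_one] at h2
      rw [hb, map_mul, map_inv, mul_inv_eq_iff_eq_mul, mul_right_comm, eq_mul_inv_iff_mul_eq]
      exact h2
    have hit : ∀ i : ℕ, (ψ ⟨a, hA ha⟩ ^ i) v = b ^ i * v := by
      intro i
      induction i with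
      | zero => simp
      | succ i ih =>
        rw [pow_succ', MulAut.mul_apply, ih, map_mul, map_pow, h1, pow_succ, mul_assoc]
        congr 1
        rw [hb, inv_mul_cancel_right]
    rw [map_pow, hit, show b ^ p = 1 from Subtype.ext (by rw [Subgroup.coe_pow]; exact hV.2 _ b.2), one_mul]
    rfl
  have hXp : IsPGroup p (zpowers (π ⟨a, hA ha⟩)) := by
    have h1 : π ⟨a, hA ha⟩ ^ p = 1 := by rw [← map_pow]; exact (hker _).2 hap
    obtain ⟨k, -, hk⟩ := (Nat.dvd_prime_pow hp.out).1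
      (show orderOf (π ⟨a, hA ha⟩) ∣ p ^ 1 by rw [pow_one]; exact orderOf_dvd_of_pow_eq_one h1)
    exact IsPGroup.of_card (n := k) (by rw [Nat.card_zpowers, hk])
  -- no normal `p`-subgroup
  by_cases hbs : ∀ g, IsPGroup p ↥(zpowers (π ⟨a, hA ha⟩) ⊔
      (zpowers (π ⟨a, hA ha⟩)).map (MulAut.conj g).toMonoidHom)
  · obtain ⟨N, hNn, hNp, hle⟩ := CfsgLib.Invol.baer_suzuki _ hXp hbs
    set N' := N.comap π with hN'
    haveI : N'.Normal := hNn.comap π
    let U : Subgroup G :=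
      { carrier := {v | v ∈ V ∧ ∀ g ∈ N', (g : G) * v = v * g}
        one_mem' := ⟨one_mem _, fun g _ => by simp⟩
        mul_mem' := fun {x y} hx hy => ⟨mul_mem hx.1 hy.1, fun g hg => by
          rw [← mul_assoc, hx.2 g hg, mul_assoc, hy.2 g hg, mul_assoc]⟩
        inv_mem' := fun {x} hx => ⟨inv_mem hx.1, fun g hg =>
          ((show Commute (g : G) x from hx.2 g hg).inv_right).eq⟩ }
    have hUn : H ≤ normalizer (U : Set G) := fun g hg =>
      CfsgLib.Solvable.mem_normalizer_of_conj_mem fun v hv =>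
        ⟨(mem_normalizer_iff.1 (hHV hg) v).1 hv.1, fun k hk => by
          have h1 := hv.2 _ (show (⟨g, hg⟩ : H)⁻¹ * k * ⟨g, hg⟩ ∈ N' by
            simpa using (inferInstance : N'.Normal).conj_mem k hk (⟨g, hg⟩ : H)⁻¹)
          push_cast at h1
          calc (k : G) * (g * v * g⁻¹) = g * ((g⁻¹ * k * g) * v) * g⁻¹ := by group
            _ = g * (v * (g⁻¹ * k * g)) * g⁻¹ := by rw [h1]
            _ = g * v * g⁻¹ * k := by group⟩
    rcases hirr U (fun v hv => hv.1) hUn with hU | hU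
    · obtain ⟨v, hv, hvfix⟩ := exists_fixed (p := p) ψ C N hNp (fun g => (hψ g).2)
        (hV := fun v => Subtype.ext (by simpa using hV.2 v v.2)) fun he => haC (mem_centralizer_iff.2 fun v hv => by
          rw [show v = 1 from congrArg Subtype.val (he ⟨v, hv⟩), one_mul, mul_one])
      refine hv (Subtype.ext ?_)
      have hvU : (v : G) ∈ U := ⟨v.2, fun k hk => by
        have h2 := congrArg Subtype.val (hvfix k hk)
        rw [ψapp] at h2
        exact mul_inv_eq_iff_eq_mul.1 h2⟩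
      rw [hU, mem_bot] at hvU
      exact hvU
    · refine haC (mem_centralizer_iff.2 fun v hv => ?_)
      have hvU : v ∈ U := hU.ge hv
      exact (hvU.2 ⟨a, hA ha⟩ (hle (mem_zpowers _))).symm
  push Not at hbs
  obtain ⟨g, hg⟩ := hbs
  obtain ⟨g, rfl⟩ := hπ g
  rw [MonoidHom.map_zpowers, zpowers_eq_closure, zpowers_eq_closure, ← Subgroup.closure_union] at hg
  simp only [IsPGroup, not_forall, not_exists] at hg
  obtain ⟨⟨w, hw⟩, hwne⟩ := hg
  have himg : ({π ⟨a, hA ha⟩} ∪ {(MulAut.conj (π g)).toMonoidHom (π ⟨a, hA ha⟩)} : Set (↥H ⧸ C)) =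
      π '' {⟨a, hA ha⟩, g * ⟨a, hA ha⟩ * g⁻¹} := by
    simp [Set.image_pair, Set.union_singleton, Set.pair_comm]
  obtain ⟨h, hh, rfl⟩ : ∃ h ∈ Subgroup.closure ({⟨a, hA ha⟩, g * ⟨a, hA ha⟩ * g⁻¹} : Set H), π h = w := by
    rw [himg, ← MonoidHom.map_closure] at hw
    exact hw
  have hA1 : ∀ v, ψ ⟨a, hA ha⟩ (ψ ⟨a, hA ha⟩ v) * v = ψ ⟨a, hA ha⟩ v * ψ ⟨a, hA ha⟩ v := by
    intro v
    have h1 := hq 1 v
    rw [one_mul, inv_one, mul_one] at h1
    exact h1
  have hk' : ∀ k : ℕ, ψ (h ^ p ^ k) ≠ 1 := fun k hk => hwne k (Subtype.ext (by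
    rw [SubmonoidClass.coe_pow, OneMemClass.coe_one, ← map_pow]
    exact (hker _).2 ((hψ _).1 hk)))
  obtain ⟨P, x, y, hP, hx, hy, hx2, hy2, hxy⟩ :=
    CfsgLib.LocalEven.QuadSection.exists_pair_two (p := p) hp2 ψ hA1 (hq g) hh hk'
  have := hQ (P.map π) (hP.map π) (π x) ⟨x, hx, rfl⟩ (π y) ⟨y, hy, rfl⟩
    (fun e => hx2 ((hψ _).2 ((hker _).1 (by rwa [map_pow]))))
    (fun e => hy2 ((hψ _).2 ((hker _).1 (by rwa [map_pow]))))
  refine hxy ?_
  rw [← mul_inv_eq_one, ← map_inv, ← map_mul, hψ, ← hker, map_mul, map_inv, map_mul, map_mul, this, mul_inv_cancel]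

end CfsgLib.LocalEven.QuadNone
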