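import Cfsg.Agent.Lib.PStab.QdSection
import Cfsg.Agent.Lib.Invol.BaerSuzuki

/-!
A quadratic pair produces a quaternion section (odd characteristic).
-/

set_option autoImplicit false

namespace CfsgLib.LocalEven.QuadSection

open Matrix
open scoped MatrixGroups
open CfsgLib.PStab

variable {p : ℕ} [hp : Fact p.Prime]

/-- Two elements of order four generating a quaternion subgroup of `SL₂(p)`. -/
theorem exists_quaternion_sl2 (hp2 : p ≠ 2) : ∃ (R : Subgroup SL(2, ZMod p)) (i j : SL(2, ZMod p)),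
    IsPGroup 2 R ∧ i ∈ R ∧ j ∈ R ∧ i ^ 2 ≠ 1 ∧ j ^ 2 ≠ 1 ∧ i * j ≠ j * i := by
  haveI : Fact (Nat.Prime 2) := ⟨Nat.prime_two⟩
  obtain ⟨a, b, hab⟩ := ZMod.sq_add_sq p (-1 : ZMod p)
  have h2 : (2 : ZMod p) ≠ 0 := fun h => hp2 ((Nat.prime_dvd_prime_iff_eq hp.out Nat.prime_two).1
    ((ZMod.natCast_eq_zero_iff 2 p).1 (by exact_mod_cast h)))
  let i : SL(2, ZMod p) := ⟨!![0, -1; 1, 0], by simp [Matrix.det_fin_two]⟩
  let j : SL(2, ZMod p) := ⟨!![a, b; b, -a], by simp [Matrix.det_fin_two]; linear_combination -hab⟩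
  have hi : (i : Matrix (Fin 2) (Fin 2) (ZMod p)) = !![0, -1; 1, 0] := rfl
  have hj : (j : Matrix (Fin 2) (Fin 2) (ZMod p)) = !![a, b; b, -a] := rfl
  have hi2 : ((i ^ 2 : SL(2, ZMod p)) : Matrix (Fin 2) (Fin 2) (ZMod p)) = -1 := by
    rw [Matrix.SpecialLinearGroup.coe_pow, hi, pow_two]
    ext r s; fin_cases r <;> fin_cases s <;> simp [Matrix.one_fin_two]
  have hj2 : ((j ^ 2 : SL(2, ZMod p)) : Matrix (Fin 2) (Fin 2) (ZMod p)) = -1 := by
    rw [Matrix.SpecialLinearGroup.coe_pow, hj, pow_two]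
    ext r s; fin_cases r <;> fin_cases s <;> simp [Matrix.one_fin_two] <;>
      first | linear_combination hab | ring
  have hne : ∀ x : SL(2, ZMod p), (x : Matrix (Fin 2) (Fin 2) (ZMod p)) = -1 → x ≠ 1 := fun x hx e => by
    rw [e, Matrix.SpecialLinearGroup.coe_one] at hx
    have h00 := congrFun (congrFun hx 0) 0
    simp at h00
    exact h2 (by linear_combination h00)
  have h4 : ∀ x : SL(2, ZMod p), ((x ^ 2 : SL(2, ZMod p)) : Matrix (Fin 2) (Fin 2) (ZMod p)) = -1 →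
      IsPGroup 2 (Subgroup.zpowers x) := fun x hx => by
    have h1 : x ^ (2 ^ 2) = 1 := Subtype.ext (by
      rw [show (2 : ℕ) ^ 2 = 2 * 2 by norm_num, pow_mul, Matrix.SpecialLinearGroup.coe_pow, hx, neg_one_sq]; rfl)
    obtain ⟨k, -, hk⟩ := (Nat.dvd_prime_pow Nat.prime_two).1 (orderOf_dvd_of_pow_eq_one h1)
    exact IsPGroup.of_card (n := k) (by rw [Nat.card_zpowers, hk])
  have hnor : Subgroup.zpowers j ≤ Subgroup.normalizer (Subgroup.zpowers i : Set SL(2, ZMod p)) := by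
    rw [Subgroup.zpowers_le]
    refine Subgroup.mem_normalizer_iff_map_conj_eq.2
      (Subgroup.eq_of_le_of_card_ge ?_ (Subgroup.card_map_of_injective (MulAut.conj j).injective).ge)
    rw [MonoidHom.map_zpowers, Subgroup.zpowers_le]
    refine ⟨-1, ?_⟩
    show i ^ (-1 : ℤ) = j * i * j⁻¹
    rw [_root_.zpow_neg_one, eq_mul_inv_iff_mul_eq]
    refine Subtype.ext ?_
    simp only [Matrix.SpecialLinearGroup.coe_mul, Matrix.SpecialLinearGroup.coe_inv, hi, hj,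
      Matrix.adjugate_fin_two]
    ext r s; fin_cases r <;> fin_cases s <;> simp
  refine ⟨Subgroup.zpowers i ⊔ Subgroup.zpowers j, i, j, (h4 i hi2).to_sup_of_normal_left' (h4 j hj2) hnor,
    Subgroup.mem_sup_left (Subgroup.mem_zpowers i), Subgroup.mem_sup_right (Subgroup.mem_zpowers j),
    hne _ hi2, hne _ hj2, fun e => ?_⟩
  have h1 := congrArg Subtype.val e
  simp only [Matrix.SpecialLinearGroup.coe_mul, hi, hj] at h1
  have h00 := congrFun (congrFun h1 0) 0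
  have h01 := congrFun (congrFun h1 0) 1
  simp at h00 h01
  have hb : b = 0 := by
    rcases mul_eq_zero.1 (show (2 : ZMod p) * b = 0 by linear_combination -h00) with h | h
    · exact absurd h h2
    · exact h
  have ha : a = 0 := by
    rcases mul_eq_zero.1 (show (2 : ZMod p) * a = 0 by linear_combination h01) with h | h
    · exact absurd h h2
    · exact h
  rw [ha, hb] at hab
  simp at hab

variable {V : Type*} [CommGroup V] [Finite V] {H : Type*} [Group H] [Finite H]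

/-- A pair of quadratic operators whose closure is not a `p`-group gives two elements of a 2-subgroup acting
like generators of a quaternion group. -/
theorem exists_pair_two (hp2 : p ≠ 2) [Module (ZMod p) (Additive V)] (ψ : H →* MulAut V) {A B : H}
    (hA : ∀ v, ψ A (ψ A v) * v = ψ A v * ψ A v) (hB : ∀ v, ψ B (ψ B v) * v = ψ B v * ψ B v)
    {h : H} (hmem : h ∈ Subgroup.closure ({A, B} : Set H)) (hh : ∀ k : ℕ, ψ (h ^ p ^ k) ≠ 1) :
    ∃ (P : Subgroup H) (x y : H), IsPGroup 2 P ∧ x ∈ P ∧ y ∈ P ∧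
      ψ (x ^ 2) ≠ 1 ∧ ψ (y ^ 2) ≠ 1 ∧ ψ (x * y) ≠ ψ (y * x) := by
  classical
  haveI : Fact (Nat.Prime 2) := ⟨Nat.prime_two⟩
  set X := Subgroup.closure ({A, B} : Set H) with hX
  have hgen : Subgroup.closure ({⟨A, Subgroup.subset_closure (Or.inl rfl)⟩,
      ⟨B, Subgroup.subset_closure (Or.inr rfl)⟩} : Set X) = ⊤ := by
    apply Subgroup.map_injective X.subtype_injective
    rw [MonoidHom.map_closure, ← MonoidHom.range_eq_map, Subgroup.range_subtype]
    simp [Set.image_insert_eq, hX]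
  obtain ⟨a, b, ι, j, -, -, hι, hj, ha, hb⟩ :=
    exists_natural_pair_aux hp2 (ψ.comp X.subtype) hgen hA hB (h := ⟨h, hmem⟩) hh
  let G₁ : Subgroup H :=
    { carrier := {g | ∃ m : SL(2, ZMod p), ∀ x,
        ψ g (ι (Multiplicative.ofAdd x)) = ι (Multiplicative.ofAdd (m.1 *ᵥ x))}
      one_mem' := ⟨1, fun x => by simp⟩
      mul_mem' := fun {g g'} ⟨m, hm⟩ ⟨m', hm'⟩ => ⟨m * m', fun x => by
        rw [map_mul, MulAut.mul_apply, hm', hm, Matrix.SpecialLinearGroup.coe_mul, ← Matrix.mulVec_mulVec]⟩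
      inv_mem' := fun {g} ⟨m, hm⟩ => ⟨m⁻¹, fun x => by
        have := hm ((m⁻¹).1 *ᵥ x)
        rw [Matrix.mulVec_mulVec, ← Matrix.SpecialLinearGroup.coe_mul, mul_inv_cancel,
          Matrix.SpecialLinearGroup.coe_one, Matrix.one_mulVec] at this
        rw [← this, ← MulAut.mul_apply, ← map_mul, inv_mul_cancel, map_one, MulAut.one_apply]⟩ }
  have huniq : ∀ (g : H) (m m' : SL(2, ZMod p)),
      (∀ x, ψ g (ι (Multiplicative.ofAdd x)) = ι (Multiplicative.ofAdd (m.1 *ᵥ x))) →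
      (∀ x, ψ g (ι (Multiplicative.ofAdd x)) = ι (Multiplicative.ofAdd (m'.1 *ᵥ x))) → m = m' := by
    intro g m m' h h'
    apply Subtype.ext
    apply Matrix.toLin'.injective
    exact LinearMap.ext fun x => Multiplicative.ofAdd.injective (hι ((h x).symm.trans (h' x)))
  have hmem' : ∀ g : G₁, ∃ m : SL(2, ZMod p), ∀ x,
      ψ g (ι (Multiplicative.ofAdd x)) = ι (Multiplicative.ofAdd (m.1 *ᵥ x)) := fun g => g.2
  choose ρf hρf using hmem'
  let ρ : G₁ →* SL(2, ZMod p) :=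
    { toFun := ρf
      map_one' := huniq 1 _ 1 (hρf 1) fun x => by simp
      map_mul' := fun g g' => huniq _ _ _ (hρf (g * g')) fun x => by
        rw [Subgroup.coe_mul, map_mul, MulAut.mul_apply, hρf, hρf, Matrix.SpecialLinearGroup.coe_mul,
          ← Matrix.mulVec_mulVec] }
  have hA' : (a : H) ∈ G₁ ∧ ∀ (hm : (a : H) ∈ G₁), (ρ ⟨a, hm⟩ : Matrix (Fin 2) (Fin 2) (ZMod p)) = !![1, j; 0, 1] := by
    have hd : (!![1, j; 0, 1] : Matrix (Fin 2) (Fin 2) (ZMod p)).det = 1 := by simp [Matrix.det_fin_two]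
    have h1 : ∀ x, ψ (a : H) (ι (Multiplicative.ofAdd x)) =
        ι (Multiplicative.ofAdd ((⟨_, hd⟩ : SL(2, ZMod p)).1 *ᵥ x)) := ha
    exact ⟨⟨_, h1⟩, fun hm => congrArg Subtype.val (huniq _ _ _ (hρf ⟨_, hm⟩) h1)⟩
  have hB' : (b : H) ∈ G₁ ∧ ∀ (hm : (b : H) ∈ G₁), (ρ ⟨b, hm⟩ : Matrix (Fin 2) (Fin 2) (ZMod p)) = !![1, 0; 1, 1] := by
    have hd : (!![1, 0; 1, 1] : Matrix (Fin 2) (Fin 2) (ZMod p)).det = 1 := by simp [Matrix.det_fin_two]
    have h1 : ∀ x, ψ (b : H) (ι (Multiplicative.ofAdd x)) =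
        ι (Multiplicative.ofAdd ((⟨_, hd⟩ : SL(2, ZMod p)).1 *ᵥ x)) := hb
    exact ⟨⟨_, h1⟩, fun hm => congrArg Subtype.val (huniq _ _ _ (hρf ⟨_, hm⟩) h1)⟩
  have hsurj : Function.Surjective ρ := by
    have : NeZero p := ⟨hp.out.ne_zero⟩
    rw [← MonoidHom.range_eq_top, eq_top_iff]
    refine (CfsgLib.Classical.SL_le_of_transvections ρ.range fun i k hik c => ?_).ge
    have pu : ∀ (c : ZMod p) (n : ℕ), (!![1, c; 0, 1] : Matrix (Fin 2) (Fin 2) (ZMod p)) ^ n =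
        !![1, (n : ZMod p) * c; 0, 1] := fun c n => by
      induction n with
      | zero => simp [Matrix.one_fin_two]
      | succ n ih => rw [pow_succ, ih]; simp; ring
    have pl : ∀ (c : ZMod p) (n : ℕ), (!![1, 0; c, 1] : Matrix (Fin 2) (Fin 2) (ZMod p)) ^ n =
        !![1, 0; (n : ZMod p) * c, 1] := fun c n => by
      induction n with
      | zero => simp [Matrix.one_fin_two]
      | succ n ih => rw [pow_succ, ih]; simp; ring
    fin_cases i <;> fin_cases k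
    · exact absurd rfl hik
    · refine ⟨⟨a, hA'.1⟩ ^ (c * j⁻¹).val, Subtype.ext ?_⟩
      rw [map_pow, Matrix.SpecialLinearGroup.coe_pow, hA'.2, pu, ZMod.natCast_rightInverse,
        inv_mul_cancel_right₀ hj]
      ext r s
      fin_cases r <;> fin_cases s <;> simp [Matrix.SpecialLinearGroup.transvection, Matrix.transvection]
    · refine ⟨⟨b, hB'.1⟩ ^ c.val, Subtype.ext ?_⟩
      rw [map_pow, Matrix.SpecialLinearGroup.coe_pow, hB'.2, pl, ZMod.natCast_rightInverse, mul_one]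
      ext r s
      fin_cases r <;> fin_cases s <;> simp [Matrix.SpecialLinearGroup.transvection, Matrix.transvection]
    · exact absurd rfl hik
  obtain ⟨R, i₀, j₀, hR, hi, hj', hi2, hj2, hij⟩ := exists_quaternion_sl2 (p := p) hp2
  obtain ⟨S', hS'⟩ := hR.exists_le_sylow
  obtain ⟨T⟩ : Nonempty (Sylow 2 G₁) := inferInstance
  obtain ⟨s, hs⟩ := MulAction.exists_smul_eq SL(2, ZMod p) (T.mapSurjective hsurj) S'
  have hlift : ∀ u ∈ R, ∃ t ∈ (T : Subgroup G₁), ρ t = s⁻¹ * u * s := fun u hu => by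
    have h1 : u ∈ (S' : Subgroup SL(2, ZMod p)) := hS' hu
    rw [← hs] at h1
    obtain ⟨v, ⟨t, ht, rfl⟩, e⟩ := h1
    refine ⟨t, ht, ?_⟩
    rw [← e]
    show ρ t = s⁻¹ * (s * ρ t * s⁻¹) * s
    group
  obtain ⟨x, hx, ex⟩ := hlift i₀ hi
  obtain ⟨y, hy, ey⟩ := hlift j₀ hj'
  have hone : ∀ g : G₁, ψ (g : H) = 1 → ρ g = 1 := fun g hg =>
    huniq _ _ 1 (hρf g) fun v => by rw [hg]; simp
  refine ⟨(T : Subgroup G₁).map G₁.subtype, x, y, T.2.map _, ⟨x, hx, rfl⟩, ⟨y, hy, rfl⟩, fun e => hi2 ?_,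
    fun e => hj2 ?_, fun e => hij ?_⟩
  · have h1 := hone (x ^ 2) (by rw [Subgroup.coe_pow]; exact e)
    rw [map_pow, ex, show (s⁻¹ * i₀ * s) ^ 2 = s⁻¹ * i₀ ^ 2 * s by rw [pow_two, pow_two]; group] at h1
    exact conj_eq_one_iff.1 (show s⁻¹ * i₀ ^ 2 * s⁻¹⁻¹ = 1 by rwa [inv_inv])
  · have h1 := hone (y ^ 2) (by rw [Subgroup.coe_pow]; exact e)
    rw [map_pow, ey, show (s⁻¹ * j₀ * s) ^ 2 = s⁻¹ * j₀ ^ 2 * s by rw [pow_two, pow_two]; group] at h1
    exact conj_eq_one_iff.1 (show s⁻¹ * j₀ ^ 2 * s⁻¹⁻¹ = 1 by rwa [inv_inv])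
  · have h1 := hone ((x * y) * (y * x)⁻¹) (by
      rw [Subgroup.coe_mul, Subgroup.coe_inv, Subgroup.coe_mul, Subgroup.coe_mul, map_mul, map_inv, e, mul_inv_cancel])
    rw [map_mul, map_inv, mul_inv_eq_one, map_mul, map_mul, ex, ey] at h1
    have h2 : s⁻¹ * (i₀ * j₀) * s = s⁻¹ * (j₀ * i₀) * s := by
      calc s⁻¹ * (i₀ * j₀) * s = (s⁻¹ * i₀ * s) * (s⁻¹ * j₀ * s) := by group
        _ = (s⁻¹ * j₀ * s) * (s⁻¹ * i₀ * s) := h1
        _ = _ := by group
    exact mul_left_cancel (mul_right_cancel h2)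

end CfsgLib.LocalEven.QuadSection
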