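import Cfsg.Agent.Lib.PStab.Replacement
import Cfsg.Agent.Lib.PGroup.ElemAbelian

/-!
Glauberman's replacement does not lower the rank (`p` odd).
-/

set_option autoImplicit false

namespace CfsgLib.LocalEven

open Subgroup CfsgLib.PStab
open scoped commutatorElement

variable {G : Type*} [Group G] {A B : Subgroup G} {b : G}

theorem x_pow_eq_one_of_odd (h : ReplaceData A B b) {a : G} (ha : a ∈ A) {e : ℕ} (he : Odd e)
    (hae : a ^ e = 1) : ReplaceData.x b a ^ e = 1 := by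
  set k := ⁅(b⁻¹ * a * b)⁻¹, a⁆ with hk
  obtain ⟨hk1, hk2⟩ := h.comm_mem' (inv_mem ha) ha
  rw [show b⁻¹ * a⁻¹ * b = (b⁻¹ * a * b)⁻¹ by group, ← hk] at hk1 hk2
  have hkc : ∀ m : ℕ, ⁅(b⁻¹ * (a ^ m) * b)⁻¹, a⁆ = k ^ m := by
    intro m
    induction m with
    | zero => simp
    | succ m ih =>
      obtain ⟨-, h1⟩ := h.central ⟨pow_mem hk1 m, by rw [← conj_pow]; exact pow_mem hk2 m⟩ (inv_mem ha)
      rw [show b⁻¹ * a⁻¹ * b = (b⁻¹ * a * b)⁻¹ by group] at h1
      calc ⁅(b⁻¹ * (a ^ (m + 1)) * b)⁻¹, a⁆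
          = ((b⁻¹ * a * b)⁻¹ * ⁅(b⁻¹ * a ^ m * b)⁻¹, a⁆) * (a * (b⁻¹ * a * b) * a⁻¹) := by
            simp only [commutatorElement_def, pow_succ]; group
        _ = (k ^ m * (b⁻¹ * a * b)⁻¹) * (a * (b⁻¹ * a * b) * a⁻¹) := by rw [ih, h1]
        _ = k ^ (m + 1) := by rw [pow_succ, hk]; simp only [commutatorElement_def]; group
  have hpow : ∀ m : ℕ, ReplaceData.x b a ^ m = ReplaceData.x b (a ^ m) * k ^ m.choose 2 := by
    intro m
    induction m with
    | zero => simp [ReplaceData.x]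
    | succ m ih =>
      have hxk : k ^ m.choose 2 * ReplaceData.x b a = ReplaceData.x b a * k ^ m.choose 2 := by
        obtain ⟨e1, -⟩ := h.central ⟨pow_mem hk1 (m.choose 2), by rw [← conj_pow]; exact pow_mem hk2 _⟩ (inv_mem ha)
        obtain ⟨-, e2⟩ := h.central ⟨pow_mem hk1 (m.choose 2), by rw [← conj_pow]; exact pow_mem hk2 _⟩ ha
        calc k ^ m.choose 2 * ReplaceData.x b a = (k ^ m.choose 2 * a⁻¹) * (b⁻¹ * a * b) := by simp only [ReplaceData.x]; group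
          _ = a⁻¹ * (k ^ m.choose 2 * (b⁻¹ * a * b)) := by rw [e1]; group
          _ = _ := by rw [e2]; simp only [ReplaceData.x]; group
      rw [pow_succ, ih, mul_assoc, hxk, ← mul_assoc, h.x_mul (pow_mem ha m) ha, hkc m, ← pow_succ,
        mul_assoc, ← pow_add, Nat.choose_succ_succ', Nat.choose_one_right]
  have hke : k ^ e = 1 := by
    rw [← hkc e, hae]; simp
  rw [hpow e, hae]
  obtain ⟨n, hn⟩ := he
  have h2 : e.choose 2 = e * n := by
    rw [Nat.choose_two_right, hn, show 2 * n + 1 - 1 = n * 2 by omega, ← mul_assoc,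
      Nat.mul_div_cancel _ (by norm_num)]
  rw [h2, pow_mul, hke, one_pow]; simp [ReplaceData.x]

theorem card_omegaOne_le_replaced [Finite G] {p : ℕ} (hp : Odd p) (h : ReplaceData A B b) :
    Nat.card ↥(Cfsg.omegaOne p A) ≤ Nat.card ↥(Cfsg.omegaOne p (replaced A b)) := by
  classical
  have hcA : ∀ a ∈ A, ∀ c ∈ A, a * c = c * a := fun a ha c hc => h.commA ha hc
  haveI hcR := h.isMulCommutative_replaced
  have hcR' : ∀ a ∈ replaced A b, ∀ c ∈ replaced A b, a * c = c * a := fun a ha c hc =>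
    congrArg Subtype.val (hcR.is_comm.comm ⟨a, ha⟩ ⟨c, hc⟩)
  set E := Cfsg.omegaOne p A with hE
  set E' := Cfsg.omegaOne p (replaced A b) with hE'
  have hmE : ∀ a, a ∈ E ↔ a ∈ A ∧ a ^ p = 1 := fun a => CfsgLib.PGroup.mem_omegaOne_iff_of_comm hcA
  have hmE' : ∀ a, a ∈ E' ↔ a ∈ replaced A b ∧ a ^ p = 1 := fun a =>
    CfsgLib.PGroup.mem_omegaOne_iff_of_comm hcR'
  set Z : Subgroup G := A ⊓ A.map (MulAut.conj b⁻¹).toMonoidHom with hZ
  have hn : (Z.subgroupOf E').Normal := ⟨fun z hz g => by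
    have e : g * z * g⁻¹ = z := by
      rw [show g * z = z * g from Subtype.ext (hcR' _ ((hmE' _).1 g.2).1 _ ((hmE' _).1 z.2).1),
        mul_inv_cancel_right]
    rwa [e]⟩
  have hx : ∀ a : ↥E, ReplaceData.x b (a : G) ∈ E' := fun a =>
    (hmE' _).2 ⟨h.x_mem_replaced ((hmE _).1 a.2).1,
      x_pow_eq_one_of_odd h ((hmE _).1 a.2).1 hp ((hmE _).1 a.2).2⟩
  let F : ↥E →* ↥E' ⧸ Z.subgroupOf E' :=
    MonoidHom.mk' (fun a => QuotientGroup.mk ⟨ReplaceData.x b (a : G), hx a⟩) fun a c => by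
      rw [← QuotientGroup.mk_mul, QuotientGroup.eq, Subgroup.mem_subgroupOf]
      refine ReplaceData.mem_Z_iff.2 ?_
      have ha := ((hmE _).1 a.2).1
      have hc := ((hmE _).1 c.2).1
      have hk := h.comm_mem' (inv_mem ha) hc
      rw [show b⁻¹ * (a : G)⁻¹ * b = (b⁻¹ * a * b)⁻¹ by group] at hk
      simp only [Subgroup.coe_mul, Subgroup.coe_inv]
      rw [h.x_mul ha hc, inv_mul_cancel_left]
      exact hk
  have hker : Nat.card F.ker ≤ Nat.card ↥(Z.subgroupOf E') := by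
    have hmem : ∀ a : ↥F.ker, b⁻¹ * ((a : ↥E) : G) * b ∈ Z ∧ b⁻¹ * ((a : ↥E) : G) * b ∈ E' := by
      intro a
      obtain ⟨ha, hap⟩ := (hmE _).1 (a : ↥E).2
      have h1 := (QuotientGroup.eq_one_iff _).1 (a.2 : F (a : ↥E) = 1)
      rw [Subgroup.mem_subgroupOf] at h1
      replace h1 := ReplaceData.mem_Z_iff.1 h1
      have h2 : b⁻¹ * ((a : ↥E) : G) * b ∈ Z := by
        refine ReplaceData.mem_Z_iff.2 ⟨?_, ?_⟩
        · simpa [ReplaceData.x] using mul_mem ha h1.1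
        · convert ha using 1; group
      refine ⟨h2, (hmE' _).2 ⟨Subgroup.mem_sup_left h2, ?_⟩⟩
      calc (b⁻¹ * ((a : ↥E) : G) * b) ^ p = (b⁻¹ * ((a : ↥E) : G) * (b⁻¹)⁻¹) ^ p := by rw [inv_inv]
        _ = 1 := by rw [conj_pow, hap, mul_one, mul_inv_cancel]
    refine Nat.card_le_card_of_injective (fun a => ⟨⟨_, (hmem a).2⟩, (hmem a).1⟩) fun a a' e => ?_
    have := congrArg (fun z : ↥(Z.subgroupOf E') => ((z : ↥E') : G)) e
    simp only at this
    exact Subtype.ext (Subtype.ext (mul_left_cancel (mul_right_cancel this)))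
  rw [← Subgroup.card_mul_index F.ker, ← Subgroup.card_mul_index (Z.subgroupOf E'), Subgroup.index_ker,
    Subgroup.index_eq_card (Z.subgroupOf E')]
  exact Nat.mul_le_mul hker (Subgroup.card_le_card_group _)

end CfsgLib.LocalEven
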