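import Cfsg.Agent.Lib.PGroup.ElemAbelian
import Cfsg.Agent.Lib.LocalEven.Basic
import Mathlib

/-!
An element of order `p ^ n + 1` acting faithfully on an elementary abelian `p`-group moves at least
`p ^ (2 n)` cosets of its fixed points.
-/

set_option autoImplicit false

namespace CfsgLib.LocalEven.SingerBound

open Subgroup Cfsg

variable {p : ℕ}

theorem gap {n : ℕ} {g a : ℕ} (hg : g ∣ n ∧ Odd (n / g)) (ha : a ∣ n ∧ Odd (n / a)) (h : g < a) :
    g + 2 ≤ a := by
  by_contra hc
  have he : a = g + 1 := by omega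
  obtain ⟨k, hk⟩ := hg.1
  obtain ⟨l, hl⟩ := ha.1
  have hk' : n / g = k ∨ g = 0 := by
    rcases Nat.eq_zero_or_pos g with h0 | h0
    · exact Or.inr h0
    · exact Or.inl (by rw [hk, Nat.mul_div_cancel_left _ h0])
  rcases hk' with hk' | h0
  · have hl' : n / a = l := by rw [hl, Nat.mul_div_cancel_left _ (by omega)]
    rw [hk'] at hg
    rw [hl'] at ha
    obtain ⟨⟨u, rfl⟩, v, rfl⟩ := hg.2, ha.2
    rcases Nat.even_or_odd g with ⟨w, rfl⟩ | ⟨w, rfl⟩
    · have h1 : Odd (a * (2 * v + 1)) := Nat.odd_mul.2 ⟨⟨w, by omega⟩, v, rfl⟩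
      rw [← hl, hk] at h1
      exact Nat.not_even_iff_odd.2 h1 ⟨w * (2 * u + 1), by ring⟩
    · have h1 : Odd ((2 * w + 1) * (2 * u + 1)) := Nat.odd_mul.2 ⟨⟨w, rfl⟩, u, rfl⟩
      rw [← hk, hl] at h1
      exact Nat.not_even_iff_odd.2 h1 ⟨(w + 1) * (2 * v + 1), by rw [he]; ring⟩
  · subst h0
    simp at hk
    subst hk
    simp at hg

/-- The product of `p ^ g + 1` over a gapped set stays below `2 p ^ Σ g`. -/
theorem prod_lt [hp : Fact p.Prime] (S : Finset ℕ) (hpos : ∀ g ∈ S, 0 < g)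
    (hgap : ∀ g ∈ S, ∀ a ∈ S, g < a → g + 2 ≤ a) :
    ∀ M : ℕ, 2 ≤ M → (∀ g ∈ S, g + 2 ≤ M) →
      p ^ M * ∏ g ∈ S, (p ^ g + 1) + 4 * p ^ (∑ g ∈ S, g) ≤ 2 * p ^ M * p ^ (∑ g ∈ S, g) := by
  have h2 : 2 ≤ p := hp.out.two_le
  induction S using Finset.induction_on_max with
  | empty =>
    intro M hM _
    simp only [Finset.prod_empty, Finset.sum_empty, pow_zero, mul_one]
    have : 4 ≤ p ^ M := (Nat.pow_le_pow_right (by norm_num : 1 ≤ 2) hM).trans (Nat.pow_le_pow_left h2 M)
    omega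
  | insert a s has ih =>
    intro M hM hMS
    have hna : a ∉ s := fun h => lt_irrefl a (has a h)
    rw [Finset.prod_insert hna, Finset.sum_insert hna, pow_add]
    have haM := hMS a (Finset.mem_insert_self a s)
    have ha0 := hpos a (Finset.mem_insert_self a s)
    obtain ⟨j, hj⟩ := Nat.exists_eq_add_of_le haM
    have hM' : p ^ M = p ^ a * p ^ 2 * p ^ j := by rw [← pow_add, ← pow_add, hj]
    have h4 : 4 ≤ p ^ 2 := by rw [sq]; exact Nat.mul_le_mul h2 h2
    have hj1 : 1 ≤ p ^ j := Nat.one_le_pow _ _ (by omega)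
    have ha1 : 2 ≤ p ^ a := (Nat.le_self_pow (by omega) p).trans' h2
    rcases Finset.eq_empty_or_nonempty s with rfl | ⟨g, hg⟩
    · simp only [Finset.prod_empty, Finset.sum_empty, pow_zero, mul_one]
      rw [hM']
      have key : p ^ 2 * p ^ j * (p ^ a + 1) + 4 ≤ 2 * (p ^ a * p ^ 2 * p ^ j) := by
        nlinarith [Nat.mul_le_mul (Nat.mul_le_mul h4 hj1) ha1]
      nlinarith [Nat.mul_le_mul_left (p ^ a) key]
    · have ha2 : 2 ≤ a := by
        have := hgap g (Finset.mem_insert_of_mem hg) a (Finset.mem_insert_self a s) (has g hg)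
        omega
      have hIH := ih (fun x hx => hpos x (Finset.mem_insert_of_mem hx))
        (fun x hx y hy => hgap x (Finset.mem_insert_of_mem hx) y (Finset.mem_insert_of_mem hy)) a ha2
        (fun x hx => hgap x (Finset.mem_insert_of_mem hx) a (Finset.mem_insert_self a s) (has x hx))
      rw [hM']
      set P := ∏ x ∈ s, (p ^ x + 1) with hP
      set B := p ^ ∑ x ∈ s, x with hB
      set A := p ^ a with hA
      set J := p ^ 2 * p ^ j with hJ
      have hJ4 : 4 ≤ J := (Nat.mul_le_mul h4 hj1)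
      have key : J * ((A + 1) * P) + 4 * B ≤ 2 * A * J * B := by
        have h5 : A * ((A + 1) * P) + 4 * (A + 1) * B ≤ 2 * A * (A + 1) * B := by nlinarith [Nat.mul_le_mul_left (A + 1) hIH]
        have h6 : A * ((A + 1) * P) + (2 * A + 4) * B ≤ 2 * A * A * B := by nlinarith
        have h7 : A * (J * ((A + 1) * P) + 4 * B) ≤ A * (2 * A * J * B) := by
          nlinarith [Nat.mul_le_mul_left J h6, Nat.mul_le_mul_right B (Nat.mul_le_mul hJ4 (le_refl A))]
        exact Nat.le_of_mul_le_mul_left h7 (by omega)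
      rw [hJ] at key
      nlinarith [Nat.mul_le_mul_left A key]

/-- `gcd (p ^ d - 1) (p ^ n + 1)`. -/
theorem gcd_cases [hp : Fact p.Prime] (n d : ℕ) (hn : 0 < n) {m : ℕ} (h1 : m ∣ p ^ d - 1) (h2 : m ∣ p ^ n + 1) :
    m ∣ 2 ∨ ∃ g, 0 < g ∧ g ∣ n ∧ Odd (n / g) ∧ 2 * g ∣ d ∧ m ∣ p ^ g + 1 := by
  have hp1 : 1 ≤ p := hp.out.one_le
  have hsq : p ^ (2 * n) - 1 = (p ^ n + 1) * (p ^ n - 1) := by
    rw [← Nat.sq_sub_sq, one_pow, ← pow_mul, mul_comm n 2]
  have h3 : m ∣ p ^ (2 * n) - 1 := hsq ▸ h2.mul_right _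
  have h4 : m ∣ p ^ Nat.gcd d (2 * n) - 1 := Nat.pow_sub_one_gcd_pow_sub_one p d (2 * n) ▸ Nat.dvd_gcd h1 h3
  set g := Nat.gcd d n with hg
  have hgn : g ∣ n := Nat.gcd_dvd_right d n
  have hg0 : 0 < g := Nat.gcd_pos_of_pos_right d hn
  have hsmall : ∀ e, e ∣ n → m ∣ p ^ e - 1 → m ∣ 2 := by
    intro e he hme
    have h5 : m ∣ p ^ n - 1 := hme.trans (Nat.pow_sub_one_dvd_pow_sub_one p he)
    have h6 := Nat.dvd_sub h2 h5
    have h7 : 1 ≤ p ^ n := Nat.one_le_pow _ _ hp1
    rwa [show p ^ n + 1 - (p ^ n - 1) = 2 by omega] at h6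
  have hd2 : Nat.gcd d (2 * n) ∣ 2 * g := by
    rw [hg, ← Nat.gcd_mul_left]
    exact Nat.gcd_dvd_gcd_mul_left_left _ _ _
  have hgd : g ∣ Nat.gcd d (2 * n) := Nat.gcd_dvd_gcd_mul_left_right _ _ _
  obtain ⟨t, ht⟩ := hgd
  have ht2 : t ∣ 2 := Nat.dvd_of_mul_dvd_mul_left hg0 (by rw [← ht, mul_comm g 2]; exact hd2)
  rcases (Nat.dvd_prime Nat.prime_two).1 ht2 with rfl | rfl
  · rw [mul_one] at ht
    exact Or.inl (hsmall g hgn (ht ▸ h4))
  · have hdd : 2 * g ∣ d := by
      rw [mul_comm, ← ht]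
      exact Nat.gcd_dvd_left _ _
    by_cases hod : Odd (n / g)
    · refine Or.inr ⟨g, hg0, hgn, hod, hdd, ?_⟩
      obtain ⟨i, hi⟩ := hod
      have hn' : n = g * (2 * i + 1) := by rw [← hi, Nat.mul_div_cancel' hgn]
      have hk : ∀ i, ∃ k, Odd k ∧ p ^ (g * (2 * i + 1)) + 1 = (p ^ g + 1) * k := by
        intro i
        induction i with
        | zero => exact ⟨1, odd_one, by simp⟩
        | succ i ih =>
          obtain ⟨k, hk1, hk2⟩ := ih
          have hk0 : 0 < k := hk1.pos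
          have hpg : 1 ≤ p ^ g := Nat.one_le_pow _ _ hp1
          have hle : p ^ g - 1 ≤ p ^ (2 * g) * k := by
            have : p ^ g ≤ p ^ (2 * g) := Nat.pow_le_pow_right hp1 (by omega)
            have := Nat.le_mul_of_pos_right (p ^ (2 * g)) hk0
            omega
          refine ⟨p ^ (2 * g) * k - (p ^ g - 1), ?_, ?_⟩
          · rw [Nat.odd_sub hle, Nat.odd_mul]
            rcases hp.out.eq_two_or_odd' with rfl | ho
            · have h5 : Even (2 ^ (2 * g)) := Nat.even_pow.2 ⟨even_two, by omega⟩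
              have h6 : ¬ Even (2 ^ g - 1) := by
                rw [Nat.even_sub hpg]
                simp [Nat.even_pow, hg0.ne']
              simp [Nat.not_odd_iff_even.2 h5, h6]
            · have h5 : Even (p ^ g - 1) := Nat.Odd.sub_odd (ho.pow) odd_one
              simp [ho.pow, hk1, h5]
          · have h5 : p ^ (g * (2 * (i + 1) + 1)) = p ^ (2 * g) * p ^ (g * (2 * i + 1)) := by
              rw [← pow_add]; ring_nf
            have h6 : p ^ (2 * g) = p ^ g * p ^ g := by rw [← pow_add]; ring_nf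
            have h7 : (p ^ g + 1) * (p ^ (2 * g) * k) = p ^ (2 * g) * (p ^ (g * (2 * i + 1)) + 1) := by
              rw [hk2]; ring
            have h8 : (p ^ g + 1) * (p ^ g - 1) + 1 = p ^ (2 * g) := by
              rw [← Nat.sq_sub_sq, one_pow, ← pow_mul, mul_comm g 2, Nat.sub_add_cancel (Nat.one_le_pow _ _ hp1)]
            rw [Nat.mul_sub, h5, h7, Nat.mul_add (p ^ (2 * g)) _ 1, mul_one]
            generalize (p ^ g + 1) * (p ^ g - 1) = A at h8 ⊢
            generalize p ^ (2 * g) * p ^ (g * (2 * i + 1)) = B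
            omega
      obtain ⟨k, hk1, hk2⟩ := hk i
      rw [← hn'] at hk2
      rw [hk2] at h2
      have h5 : m ∣ (p ^ g + 1) * (p ^ g - 1) := by
        have e : p ^ (2 * g) - 1 = (p ^ g + 1) * (p ^ g - 1) := by
          rw [← Nat.sq_sub_sq, one_pow, ← pow_mul, mul_comm g 2]
        rw [← e, mul_comm 2 g, ← ht]
        exact h4
      have h6 := Nat.dvd_gcd h5 h2
      rw [Nat.gcd_mul_left] at h6
      have h7 : Nat.gcd (p ^ g - 1) k = 1 := by
        set c := Nat.gcd (p ^ g - 1) k with hc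
        have hc1 : c ∣ p ^ n - 1 := (Nat.gcd_dvd_left _ _).trans (Nat.pow_sub_one_dvd_pow_sub_one p hgn)
        have hc2 : c ∣ p ^ n + 1 := hk2 ▸ (Nat.gcd_dvd_right _ _).mul_left _
        have hc3 := Nat.dvd_sub hc2 hc1
        have h8 : 1 ≤ p ^ n := Nat.one_le_pow _ _ hp1
        rw [show p ^ n + 1 - (p ^ n - 1) = 2 by omega] at hc3
        rcases (Nat.dvd_prime Nat.prime_two).1 hc3 with h9 | h9
        · exact h9
        · exfalso
          have : (2 : ℕ) ∣ k := h9 ▸ Nat.gcd_dvd_right _ _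
          exact Nat.not_even_iff_odd.2 hk1 (even_iff_two_dvd.2 this)
      rwa [h7, mul_one] at h6
    · obtain ⟨u, hu⟩ := Nat.not_odd_iff_even.1 hod
      have h2g : 2 * g ∣ n := ⟨u, by rw [← Nat.mul_div_cancel' hgn, hu]; ring⟩
      exact Or.inl (hsmall (2 * g) h2g (by rw [mul_comm 2 g, ← ht]; exact h4))

variable {G : Type*} [Group G] [Finite G]

/-- An invariant subgroup between `U` and `W` (`U` maximal such): the induced order divides `|W : U| - 1`. -/
theorem factor_order {U W : Subgroup G} {x : G} (hUW : U ≤ W) (hWU : W ≤ normalizer (U : Set G))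
    (hxU : x ∈ normalizer (U : Set G)) (hxW : x ∈ normalizer (W : Set G))
    (hirr : ∀ X : Subgroup G, U ≤ X → X ≤ W → x ∈ normalizer (X : Set G) → X = U ∨ X = W) :
    ∃ m, 0 < m ∧ m ∣ orderOf x ∧ m ∣ U.relIndex W - 1 ∧ ∀ w ∈ W, x ^ m * w * (x ^ m)⁻¹ * w⁻¹ ∈ U := by
  classical
  haveI : (U.subgroupOf W).Normal := Subgroup.normal_subgroupOf_of_le_normalizer hWU
  set Z := zpowers x with hZ
  have hZW : Z ≤ normalizer (W : Set G) := Subgroup.zpowers_le.2 hxW
  have hZU : Z ≤ normalizer (U : Set G) := Subgroup.zpowers_le.2 hxU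
  let ψ : ↥Z →* MulAut ↥W := W.normalizerMonoidHom.comp (Subgroup.inclusion hZW)
  have hψ : ∀ z : ↥Z, (U.subgroupOf W).map (ψ z).toMonoidHom = U.subgroupOf W := by
    intro z
    refine Subgroup.eq_of_le_of_card_ge ?_ ?_
    · rintro _ ⟨w, hw, rfl⟩
      exact CfsgLib.LocalEven.conj_mem_of_mem_normalizer (hZU z.2) hw
    · exact (Subgroup.card_map_of_injective (K := U.subgroupOf W) (f := (ψ z).toMonoidHom) (ψ z).injective).ge
  let Φ : ↥Z →* MulAut (↥W ⧸ U.subgroupOf W) :=
    MonoidHom.mk' (fun z => QuotientGroup.congr _ _ (ψ z) (hψ z)) fun a b => by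
      apply MulEquiv.ext
      intro q
      induction q using QuotientGroup.induction_on with
      | H w =>
        show (QuotientGroup.mk (ψ (a * b) w) : ↥W ⧸ U.subgroupOf W) = QuotientGroup.mk (ψ a (ψ b w))
        rw [map_mul]
        rfl
  set m := Nat.card ↥Φ.range with hm
  have hΦ : ∀ (z : ↥Z) (w : ↥W), Φ z (QuotientGroup.mk w) = QuotientGroup.mk (ψ z w) := fun z w => rfl
  refine ⟨m, Nat.card_pos, ?_, ?_, fun w hw => ?_⟩
  · rw [← Nat.card_zpowers, hm]
    exact Subgroup.card_range_dvd Φ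
  · haveI : Fintype ↥Φ.range := Fintype.ofFinite _
    haveI : Fintype (↥W ⧸ U.subgroupOf W) := Fintype.ofFinite _
    haveI : ∀ r : ↥Φ.range, Fintype ↥(MulAction.fixedBy (↥W ⧸ U.subgroupOf W) r) := fun r => Fintype.ofFinite _
    haveI : Fintype (MulAction.orbitRel.Quotient ↥Φ.range (↥W ⧸ U.subgroupOf W)) := Fintype.ofFinite _
    have hsum := MulAction.sum_card_fixedBy_eq_card_orbits_mul_card_group ↥Φ.range (↥W ⧸ U.subgroupOf W)
    rw [hm, ← Fintype.card_eq_nat_card (α := ↥Φ.range)]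
    have hfix : ∀ r : ↥Φ.range, r ≠ 1 →
        Fintype.card ↥(MulAction.fixedBy (↥W ⧸ U.subgroupOf W) r) = 1 := by
      intro r hr
      obtain ⟨_, z, rfl⟩ := r
      let X' : Subgroup (↥W ⧸ U.subgroupOf W) :=
        { carrier := {q | Φ z q = q}
          one_mem' := map_one _
          mul_mem' := fun {a b} ha hb => by
            show Φ z (a * b) = a * b
            rw [map_mul, ha, hb]
          inv_mem' := fun {a} ha => by
            show Φ z a⁻¹ = a⁻¹
            rw [map_inv, ha] }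
      set X := (X'.comap (QuotientGroup.mk' (U.subgroupOf W))).map W.subtype with hX
      have hUX : U ≤ X := fun u hu => ⟨⟨u, hUW hu⟩, by
        show Φ z (QuotientGroup.mk (⟨u, hUW hu⟩ : ↥W)) = QuotientGroup.mk (⟨u, hUW hu⟩ : ↥W)
        rw [(QuotientGroup.eq_one_iff _).2 (show (⟨u, hUW hu⟩ : ↥W) ∈ U.subgroupOf W from hu), map_one], rfl⟩
      have hxX : x ∈ normalizer (X : Set G) := by
        refine CfsgLib.LocalEven.mem_normalizer_of_conj_le ?_
        rintro _ ⟨_, ⟨w, hw, rfl⟩, rfl⟩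
        refine ⟨ψ ⟨x, mem_zpowers x⟩ w, ?_, rfl⟩
        show Φ z (QuotientGroup.mk (ψ ⟨x, mem_zpowers x⟩ w)) = QuotientGroup.mk (ψ ⟨x, mem_zpowers x⟩ w)
        rw [← hΦ, ← MulAut.mul_apply, ← map_mul, show z * ⟨x, mem_zpowers x⟩ = ⟨x, mem_zpowers x⟩ * z from
          Subtype.ext (by obtain ⟨k, hk⟩ := z.2; change x ^ k = (z : G) at hk
                          show (z : G) * x = x * z
                          rw [← hk]; exact (Commute.zpow_self x k).eq), map_mul, MulAut.mul_apply,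
          show Φ z (QuotientGroup.mk w) = QuotientGroup.mk w from hw]
      rcases hirr X hUX (Subgroup.map_subtype_le _) hxX with h | h
      · refine Fintype.card_eq_one_iff.2 ⟨⟨1, map_one (Φ z)⟩, fun q => Subtype.ext ?_⟩
        obtain ⟨q, hq⟩ := q
        obtain ⟨w, rfl⟩ := QuotientGroup.mk_surjective q
        exact (QuotientGroup.eq_one_iff w).2 (h.le ⟨w, hq, rfl⟩)
      · exfalso
        refine hr (Subtype.ext (MulEquiv.ext fun q => ?_))
        obtain ⟨w, rfl⟩ := QuotientGroup.mk_surjective q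
        obtain ⟨w', hw', hww⟩ := h.ge w.2
        rw [← W.subtype_injective hww]
        exact hw'
    rw [← Finset.add_sum_erase Finset.univ _ (Finset.mem_univ (1 : ↥Φ.range)),
      Finset.sum_congr rfl (fun r hr => hfix r (Finset.ne_of_mem_erase hr)), Finset.sum_const, smul_eq_mul, mul_one,
      Finset.card_erase_of_mem (Finset.mem_univ _), Finset.card_univ] at hsum
    have h1 : Fintype.card ↥(MulAction.fixedBy (↥W ⧸ U.subgroupOf W) (1 : ↥Φ.range)) = U.relIndex W := by
      rw [Fintype.card_eq_nat_card]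
      exact Nat.card_congr (Equiv.subtypeUnivEquiv fun q : ↥W ⧸ U.subgroupOf W => (one_smul ↥Φ.range q :))
    rw [h1] at hsum
    set Om := Fintype.card (MulAction.orbitRel.Quotient ↥Φ.range (↥W ⧸ U.subgroupOf W)) with hOm
    have hD : 1 ≤ U.relIndex W := Nat.pos_of_ne_zero Subgroup.index_ne_zero_of_finite
    have hmpos : 1 ≤ Fintype.card ↥Φ.range := Fintype.card_pos
    refine ⟨Om - 1, ?_⟩
    rw [Nat.mul_sub, mul_one, mul_comm]
    omega
  · have h1 : Φ ⟨x ^ m, pow_mem (mem_zpowers x) m⟩ = 1 := by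
      have := pow_card_eq_one' (x := (⟨Φ ⟨x, mem_zpowers x⟩, ⟨_, rfl⟩⟩ : ↥Φ.range))
      rw [← hm] at this
      have h2 := congrArg Subtype.val this
      rw [SubgroupClass.coe_pow, ← map_pow] at h2
      exact h2
    have h2 := congrArg (fun e : MulAut (↥W ⧸ U.subgroupOf W) => e (QuotientGroup.mk ⟨w, hw⟩)) h1
    simp only [MulAut.one_apply] at h2
    rw [hΦ, eq_comm, QuotientGroup.eq, Subgroup.mem_subgroupOf] at h2
    have h3 : w⁻¹ * (x ^ m * w * (x ^ m)⁻¹) ∈ U := h2
    have := CfsgLib.LocalEven.conj_mem_of_mem_normalizer (hWU hw) h3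
    simpa [mul_assoc] using this

/-- The degree bound for an element of order `p ^ n + 1`. -/
theorem bound [hp : Fact p.Prime] {V : Subgroup G} (hV : IsElementaryAbelian p V) {x : G}
    (hxV : x ∈ normalizer (V : Set G)) (hf : ∀ y ∈ zpowers x, y ∈ centralizer (V : Set G) → y = 1)
    {n : ℕ} (hn : 0 < n) (hx : orderOf x = p ^ n + 1) :
    p ^ (2 * n) ≤ (V ⊓ centralizer ({x} : Set G)).relIndex V := by
  classical
  set K := V ⊓ centralizer ({x} : Set G) with hK
  have hp1 : 1 < p := hp.out.one_lt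
  have key : ∀ c : ℕ, ∀ W : Subgroup G, Nat.card ↥W = c → K ≤ W → W ≤ V → x ∈ normalizer (W : Set G) →
      ∃ (S : Finset ℕ) (e : ℕ), (∀ g ∈ S, 0 < g ∧ g ∣ n ∧ Odd (n / g)) ∧ p ^ (2 * ∑ g ∈ S, g) ≤ K.relIndex W ∧
        x ^ (Nat.lcm 2 (S.lcm fun g => p ^ g + 1) * p ^ e) ∈ centralizer (W : Set G) := by
    intro c
    induction c using Nat.strong_induction_on with
    | _ c ih =>
      intro W hc hKW hWV hxW
      rcases eq_or_lt_of_le hKW with he | hlt
      · refine ⟨∅, 0, by simp, by simp [he, Subgroup.relIndex_self], ?_⟩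
        refine pow_mem (Subgroup.mem_centralizer_iff.2 fun w hw => ?_) _
        rw [← he] at hw
        exact (Subgroup.mem_centralizer_iff.1 hw.2 x rfl).symm
      · have hxK : x ∈ normalizer (K : Set G) := Subgroup.mem_normalizer_iff.2 fun v => by
          constructor
          · intro hv
            rw [Subgroup.mem_centralizer_iff.1 hv.2 x rfl, mul_inv_cancel_right]
            exact hv
          · intro hv
            have h5 := Subgroup.mem_centralizer_iff.1 hv.2 x rfl
            have h6 : x * v * x⁻¹ = v := by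
              have h7 : x * (x * v * x⁻¹) = x * v := by rw [h5, inv_mul_cancel_right]
              exact mul_left_cancel h7
            rwa [h6] at hv
        obtain ⟨U, -, hU⟩ := Finite.exists_le_maximal
          (p := fun U : Subgroup G => K ≤ U ∧ U < W ∧ x ∈ normalizer (U : Set G)) ⟨le_refl K, hlt, hxK⟩
        have hcomm : ∀ a ∈ W, ∀ b ∈ W, a * b = b * a := fun a ha b hb =>
          CfsgLib.PGroup.elemAb_comm hV (hWV ha) (hWV hb)
        have hWU : W ≤ normalizer (U : Set G) := fun w hw => Subgroup.centralizer_le_normalizer _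
          (Subgroup.mem_centralizer_iff.2 fun u hu => hcomm u (hU.1.2.1.le hu) w hw)
        obtain ⟨m, hm0, hmx, hmd, hmU⟩ := factor_order hU.1.2.1.le hWU hU.1.2.2 hxW fun X hUX hXW hxX => by
          rcases eq_or_lt_of_le hXW with h | h
          · exact Or.inr h
          · exact Or.inl (le_antisymm (hU.2 ⟨hU.1.1.trans hUX, h, hxX⟩ hUX) hUX)
        obtain ⟨d, hd⟩ : ∃ d, U.relIndex W = p ^ d := by
          have hWp : IsPGroup p ↥W := (CfsgLib.PGroup.elemAb_isPGroup hV).to_le hWV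
          obtain ⟨j, hj⟩ := IsPGroup.iff_card.1 hWp
          obtain ⟨i, -, hi⟩ := (Nat.dvd_prime_pow hp.out).1 (hj ▸ Subgroup.relIndex_dvd_card U W)
          exact ⟨i, hi⟩
        have hd1 : 1 ≤ d := by
          rcases d with _ | d
          · exact absurd (Subgroup.relIndex_eq_one.1 (by simpa using hd)) hU.1.2.1.not_ge
          · omega
        obtain ⟨S, e, hS, hidx, hcent⟩ := ih _ (hc ▸ (Nat.lt_of_le_of_ne (Nat.le_of_dvd Nat.card_pos (Subgroup.card_dvd_of_le hU.1.2.1.le))
          fun h => hU.1.2.1.ne (Subgroup.eq_of_le_of_card_ge hU.1.2.1.le h.ge))) U rfl hU.1.1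
          (hU.1.2.1.le.trans hWV) hU.1.2.2
        have hrel : K.relIndex W = K.relIndex U * p ^ d := by
          rw [← hd, Subgroup.relIndex_mul_relIndex K U W hU.1.1 hU.1.2.1.le]
        -- lift from `U` to `W`
        have lift : ∀ L : ℕ, m ∣ L → Nat.lcm 2 (S.lcm fun g => p ^ g + 1) * p ^ e ∣ L →
            x ^ (L * p) ∈ centralizer (W : Set G) := by
          intro L hmL hLL
          refine Subgroup.mem_centralizer_iff.2 fun w hw => ?_
          have hyU : ∀ u ∈ U, u * x ^ L = x ^ L * u := by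
            obtain ⟨t, ht⟩ := hLL
            have := pow_mem hcent t
            rw [← pow_mul, ← ht] at this
            exact fun u hu => Subgroup.mem_centralizer_iff.1 this u hu
          obtain ⟨c, hc⟩ : ∃ c, c * w = x ^ L * w * (x ^ L)⁻¹ := ⟨x ^ L * w * (x ^ L)⁻¹ * w⁻¹, by group⟩
          have hcU : c ∈ U := by
            obtain ⟨t, rfl⟩ := hmL
            have hall : ∀ t : ℕ, ∀ w ∈ W, (x ^ m) ^ t * w * ((x ^ m) ^ t)⁻¹ * w⁻¹ ∈ U := by
              intro t
              induction t with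
              | zero => intro w _; simp
              | succ t iht =>
                intro w hw
                have h1 := hmU w hw
                have hxmU : x ^ m ∈ normalizer (U : Set G) := pow_mem hU.1.2.2 m
                have h2 := CfsgLib.LocalEven.conj_mem_of_mem_normalizer hxmU (iht w hw)
                rw [pow_succ', show x ^ m * (x ^ m) ^ t * w * (x ^ m * (x ^ m) ^ t)⁻¹ * w⁻¹ =
                  (x ^ m * ((x ^ m) ^ t * w * ((x ^ m) ^ t)⁻¹ * w⁻¹) * (x ^ m)⁻¹) * (x ^ m * w * (x ^ m)⁻¹ * w⁻¹) by group]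
                exact mul_mem h2 h1
            have := hall t w hw
            rw [← pow_mul] at this
            rwa [← hc, mul_inv_cancel_right] at this
          have hpow : ∀ j : ℕ, (x ^ L) ^ j * w * ((x ^ L) ^ j)⁻¹ = c ^ j * w := by
            intro j
            induction j with
            | zero => simp
            | succ j ihj =>
              have hcj : x ^ L * c ^ j * (x ^ L)⁻¹ = c ^ j := by
                rw [← hyU _ (pow_mem hcU j), mul_inv_cancel_right]
              calc (x ^ L) ^ (j + 1) * w * ((x ^ L) ^ (j + 1))⁻¹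
                  = x ^ L * ((x ^ L) ^ j * w * ((x ^ L) ^ j)⁻¹) * (x ^ L)⁻¹ := by rw [pow_succ']; group
                _ = (x ^ L * c ^ j * (x ^ L)⁻¹) * (x ^ L * w * (x ^ L)⁻¹) := by rw [ihj]; group
                _ = c ^ (j + 1) * w := by rw [hcj, ← hc, pow_succ]; group
          have h3 := hpow p
          rw [hV.2 c (hWV (hU.1.2.1.le hcU)), one_mul, ← pow_mul, mul_inv_eq_iff_eq_mul] at h3
          exact h3.symm
        rcases gcd_cases (p := p) n d hn (hd ▸ hmd) (hx ▸ hmx) with h | ⟨g, hg0, hgn, hgo, hgd, hmg⟩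
        · refine ⟨S, e + 1, hS, hidx.trans (hrel ▸ Nat.le_mul_of_pos_right _ (pow_pos hp.out.pos d)), ?_⟩
          rw [pow_succ, ← mul_assoc]
          exact lift _ ((h.trans (Nat.dvd_lcm_left 2 _)).mul_right _) dvd_rfl
        · refine ⟨insert g S, e + 1, ?_, ?_, ?_⟩
          · intro y hy
            rcases Finset.mem_insert.1 hy with rfl | hy
            · exact ⟨hg0, hgn, hgo⟩
            · exact hS y hy
          · have hsum : ∑ y ∈ insert g S, y ≤ (∑ y ∈ S, y) + g := by
              by_cases hgS : g ∈ S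
              · rw [Finset.insert_eq_of_mem hgS]; omega
              · rw [Finset.sum_insert hgS]; omega
            calc p ^ (2 * ∑ y ∈ insert g S, y) ≤ p ^ (2 * (∑ y ∈ S, y) + d) :=
                  Nat.pow_le_pow_right hp.out.pos (by have := Nat.le_of_dvd (by omega) hgd; omega)
              _ ≤ K.relIndex W := by rw [pow_add, hrel]; exact Nat.mul_le_mul_right _ hidx
          · rw [pow_succ, ← mul_assoc]
            refine lift _ ((hmg.trans ?_).mul_right _) (Nat.mul_dvd_mul_right ?_ _)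
            · exact (Finset.dvd_lcm (f := fun y => p ^ y + 1) (Finset.mem_insert_self g S)).trans (Nat.dvd_lcm_right _ _)
            · exact Nat.lcm_dvd (Nat.dvd_lcm_left _ _) ((Finset.lcm_mono (Finset.subset_insert g S)).trans (Nat.dvd_lcm_right _ _))
  have hKV : K ≤ V := inf_le_left
  obtain ⟨S, e, hS, hidx, hcent⟩ := key _ V rfl hKV le_rfl hxV
  have h1 := orderOf_dvd_of_pow_eq_one (hf _ (pow_mem (mem_zpowers x) _) hcent)
  rw [hx] at h1
  have hcop : (p ^ n + 1).Coprime (p ^ e) := by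
    refine Nat.Coprime.pow_right e ((hp.out.coprime_iff_not_dvd.2 fun h => ?_).symm)
    have h2 : p ∣ p ^ n := dvd_pow_self p hn.ne'
    have := Nat.dvd_sub h h2
    simp at this
    omega
  have h2 := hcop.dvd_of_dvd_mul_right h1
  have hpn : p ≤ p ^ n := Nat.le_self_pow hn.ne' p
  rcases Finset.eq_empty_or_nonempty S with rfl | ⟨g₀, hg₀⟩
  · simp at h2
    have := Nat.le_of_dvd (by norm_num) h2
    omega
  have h3 : p ^ n + 1 ∣ ∏ g ∈ S, (p ^ g + 1) := by
    have hS' : S.lcm (fun g => p ^ g + 1) ∣ ∏ g ∈ S, (p ^ g + 1) :=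
      Finset.lcm_dvd fun g hg => Finset.dvd_prod_of_mem (fun y => p ^ y + 1) hg
    rcases hp.out.eq_two_or_odd' with h2' | ho
    · have hodd : (p ^ n + 1).Coprime 2 := by
        rw [Nat.coprime_two_right]
        exact Even.add_one (Nat.even_pow.2 ⟨even_iff_two_dvd.2 (h2' ▸ dvd_rfl), hn.ne'⟩)
      exact (hodd.dvd_of_dvd_mul_left (h2.trans (Nat.lcm_dvd_mul _ _))).trans hS'
    · exact h2.trans (Nat.lcm_dvd
        ((even_iff_two_dvd.1 (ho.pow.add_one)).trans (Finset.dvd_prod_of_mem (fun y => p ^ y + 1) hg₀)) hS')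
  have hpos : ∀ g ∈ S, 0 < g := fun g hg => (hS g hg).1
  have hlt := prod_lt (p := p) S hpos (fun g hg a ha h => gap (hS g hg).2 (hS a ha).2 h)
    (S.sup id + 2) (by omega) (fun g hg => Nat.add_le_add_right (Finset.le_sup (f := id) hg) 2)
  have hP : ∏ g ∈ S, (p ^ g + 1) < 2 * p ^ (∑ g ∈ S, g) := by
    refine Nat.lt_of_mul_lt_mul_left (a := p ^ (S.sup id + 2)) ?_
    have : 0 < p ^ (∑ g ∈ S, g) := pow_pos hp.out.pos _
    nlinarith
  have h4 := Nat.le_of_dvd (Finset.prod_pos fun g _ => Nat.succ_pos _) h3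
  refine le_trans (Nat.pow_le_pow_right hp.out.pos ?_) hidx
  by_contra hc
  have h5 : ∑ g ∈ S, g + 1 ≤ n := by omega
  have h6 : p ^ (∑ g ∈ S, g) * p ≤ p ^ n := by rw [← pow_succ]; exact Nat.pow_le_pow_right hp.out.pos h5
  have h7 : 2 * p ^ (∑ g ∈ S, g) ≤ p ^ (∑ g ∈ S, g) * p := by
    rw [mul_comm]; exact Nat.mul_le_mul_left _ hp.out.two_le
  linarith

end CfsgLib.LocalEven.SingerBound
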