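import Cfsg.Agent.Lib.PStab.GL2

/-!
Finite subgroups of `GL(2, K)` of order prime to the characteristic: the lines with a large
projective stabiliser are few (the counting behind the classification of such groups).
-/

set_option autoImplicit false

namespace CfsgLib.LocalEven

open MulAction Matrix
open scoped LinearAlgebra.Projectivization

/-- A finite group acting with every nonidentity element fixing exactly two points and every point
having nontrivial stabiliser: points with stabiliser of order at least `6`, or divisible by `4`. -/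
theorem card_special_points {Γ Ω : Type*} [Group Γ] [Finite Γ] [MulAction Γ Ω] [Finite Ω]
    (hfix : ∀ γ : Γ, γ ≠ 1 → Nat.card (fixedBy Ω γ) = 2)
    (hstab : ∀ ω : Ω, stabilizer Γ ω ≠ ⊥) :
    Nat.card {ω : Ω // 6 ≤ Nat.card (stabilizer Γ ω)} ≤ 2 ∧
      Nat.card {ω : Ω // 4 ∣ Nat.card (stabilizer Γ ω)} ≤ 6 := by
  classical
  letI := Fintype.ofFinite Γ
  letI := Fintype.ofFinite Ω
  letI : Fintype (orbitRel.Quotient Γ Ω) := Fintype.ofFinite _
  set h := Fintype.card Γ with hh
  -- orbit sizes and stabiliser orders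
  let o : orbitRel.Quotient Γ Ω → ℕ := fun q => Nat.card (orbitRel.Quotient.orbit q)
  let m : orbitRel.Quotient Γ Ω → ℕ := fun q => Nat.card (stabilizer Γ q.out)
  have hom : ∀ q, o q * m q = h := by
    intro q
    have h1 := Subgroup.card_mul_index (stabilizer Γ q.out)
    rw [index_stabilizer, ← Nat.card_coe_set_eq] at h1
    rw [hh, ← Nat.card_eq_fintype_card, ← h1, mul_comm]
    show m q * o q = m q * Nat.card ↥(MulAction.orbit Γ q.out)
    congr 2
    exact congrArg Nat.card (congrArg Subtype (orbitRel.Quotient.orbit_eq_orbit_out q Quotient.out_eq'))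
  have hm2 : ∀ q, 2 ≤ m q := fun q => (Subgroup.one_lt_card_iff_ne_bot _).2 (hstab _)
  have ho1 : ∀ q, 1 ≤ o q := fun q => by
    rcases Nat.eq_zero_or_pos (o q) with e | e
    · have := hom q; rw [e, zero_mul] at this
      exact absurd this.symm Fintype.card_ne_zero
    · exact e
  have hsum : ∑ q, o q = Fintype.card Ω := by
    rw [Fintype.card_congr (selfEquivSigmaOrbits' Γ Ω), Fintype.card_sigma]
    exact Finset.sum_congr rfl fun q _ => Nat.card_eq_fintype_card
  have hmeq : ∀ ω : Ω, Nat.card (stabilizer Γ ω) = m (Quotient.mk'' ω) := by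
    intro ω
    have hr : orbitRel Γ Ω ω (Quotient.mk'' ω : orbitRel.Quotient Γ Ω).out :=
      Quotient.exact' (Quotient.out_eq' _).symm
    exact Nat.card_congr (stabilizerEquivStabilizerOfOrbitRel hr).toEquiv
  have hcnt : ∀ P : ℕ → Prop, [DecidablePred P] → Nat.card {ω : Ω // P (Nat.card (stabilizer Γ ω))} =
      ∑ q ∈ Finset.univ.filter (fun q => P (m q)), o q := by
    intro P _
    have e : {ω : Ω // P (Nat.card (stabilizer Γ ω))} ≃
        Σ q : {q : orbitRel.Quotient Γ Ω // P (m q)}, orbitRel.Quotient.orbit q.1 :=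
      { toFun := fun ω => ⟨⟨Quotient.mk'' ω.1, by rw [← hmeq]; exact ω.2⟩, ⟨ω.1, by
          rw [orbitRel.Quotient.mem_orbit]⟩⟩
        invFun := fun x => ⟨x.2.1, by
          have hx := orbitRel.Quotient.mem_orbit.1 x.2.2
          rw [hmeq, hx]
          exact x.1.2⟩
        left_inv := fun ω => rfl
        right_inv := by
          rintro ⟨⟨q, hq⟩, ⟨ω, hω⟩⟩
          obtain rfl := orbitRel.Quotient.mem_orbit.1 hω
          rfl }
    rw [Nat.card_congr e, Nat.card_sigma]
    exact (Finset.sum_subtype (Finset.univ.filter (fun q => P (m q))) (by simp) o).symm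
  -- Burnside
  have hburn : Fintype.card Ω + 2 * (h - 1) = Fintype.card (orbitRel.Quotient Γ Ω) * h := by
    have hb := sum_card_fixedBy_eq_card_orbits_mul_card_group Γ Ω
    rw [← hb, ← Finset.add_sum_erase Finset.univ _ (Finset.mem_univ (1 : Γ))]
    congr 1
    · exact (Fintype.card_congr ((Equiv.setCongr (fixedBy_one_eq_univ Ω Γ)).trans (Equiv.Set.univ Ω))).symm
    · rw [Finset.sum_congr rfl (fun γ hγ =>
        (Nat.card_eq_fintype_card).symm.trans (hfix γ (Finset.ne_of_mem_erase hγ))),
        Finset.sum_const, Finset.card_erase_of_mem (Finset.mem_univ _), Finset.card_univ, smul_eq_mul,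
        mul_comm]
  set r := Fintype.card (orbitRel.Quotient Γ Ω) with hr
  have hh1 : 1 ≤ h := Fintype.card_pos
  have hhalf : 2 * Fintype.card Ω ≤ r * h := by
    rw [← hsum, Finset.mul_sum]
    refine le_of_le_of_eq (Finset.sum_le_sum (g := fun _ => h) fun q _ => ?_) (by simp [hr])
    calc 2 * o q = o q * 2 := mul_comm _ _
      _ ≤ o q * m q := Nat.mul_le_mul le_rfl (hm2 q)
      _ = h := hom q
  have hr3 : r ≤ 3 ∨ h = 1 := by
    by_contra hc
    push Not at hc
    have : 4 * h ≤ r * h := Nat.mul_le_mul hc.1 le_rfl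
    omega
  rw [hcnt (fun k => 6 ≤ k), hcnt (fun k => 4 ∣ k)]
  rcases hr3 with hr3 | hh0
  swap
  · refine ⟨?_, ?_⟩ <;>
      (rw [Finset.sum_eq_zero]; · omega
       intro q _
       have := hom q; have := hm2 q; have := ho1 q
       nlinarith)
  rcases Nat.lt_or_ge r 3 with hr2 | hr2
  · -- at most two orbits: at most two points
    have : Fintype.card Ω ≤ 2 := by
      interval_cases r <;> omega
    have hle : ∀ s : Finset (orbitRel.Quotient Γ Ω), ∑ q ∈ s, o q ≤ 2 := fun s =>
      le_trans (Finset.sum_le_univ_sum_of_nonneg (fun _ => Nat.zero_le _)) (hsum.le.trans this)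
    exact ⟨hle _, (hle _).trans (by omega)⟩
  have hr' : r = 3 := le_antisymm hr3 hr2
  obtain ⟨a, b, c, hab, hac, hbc, huniv⟩ : ∃ a b c, a ≠ b ∧ a ≠ c ∧ b ≠ c ∧
      (Finset.univ : Finset (orbitRel.Quotient Γ Ω)) = {a, b, c} :=
    Finset.card_eq_three.1 (by rw [Finset.card_univ, ← hr]; exact hr')
  have htot : o a + o b + o c = h + 2 := by
    have hs := hsum
    rw [huniv, Finset.sum_insert (by simp [hab, hac]), Finset.sum_pair hbc] at hs
    rw [hr'] at hburn
    omega
  -- a special orbit forces the shape of the other two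
  have key : ∀ x y z : orbitRel.Quotient Γ Ω, o x + o y + o z = h + 2 →
      (6 ≤ m x → o x = 2 ∧ m y = 2 ∧ m z = 2) ∧
      (4 ∣ m x → ¬ 4 ∣ m y ∧ ¬ 4 ∣ m z ∧ o x ≤ 6) := by
    intro x y z hxyz
    have hx := hom x; have hy := hom y; have hz := hom z
    have hyh : ∀ w, o w * 2 ≤ h := fun w => (Nat.mul_le_mul le_rfl (hm2 w)).trans_eq (hom w)
    have h2or : ∀ w, m w = 2 ∨ o w * 3 ≤ h := fun w => by
      rcases Nat.lt_or_ge (m w) 3 with hw | hw
      · left; have := hm2 w; omega
      · right; exact (Nat.mul_le_mul le_rfl hw).trans_eq (hom w)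
    have h3or : ∀ w, m w = 2 ∨ m w = 3 ∨ o w * 4 ≤ h := fun w => by
      rcases Nat.lt_or_ge (m w) 4 with hw | hw
      · have := hm2 w; omega
      · right; right; exact (Nat.mul_le_mul le_rfl hw).trans_eq (hom w)
    refine ⟨fun h6 => ?_, fun h4 => ?_⟩
    · have hx6 : o x * 6 ≤ h := (Nat.mul_le_mul le_rfl h6).trans_eq hx
      have hy' := hyh y; have hz' := hyh z
      rcases h2or y with e | e <;> rcases h2or z with e' | e'
      · rw [e] at hy; rw [e'] at hz
        exact ⟨by omega, e, e'⟩
      all_goals omega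
    · have hm4 : 4 ≤ m x := Nat.le_of_dvd (by have := hm2 x; omega) h4
      have hx4 : o x * 4 ≤ h := (Nat.mul_le_mul le_rfl hm4).trans_eq hx
      have hy' := hyh y; have hz' := hyh z
      have hne : ∀ w, m w = 2 ∨ m w = 3 → ¬ 4 ∣ m w := fun w hw => by omega
      rcases h3or y with e | e | e <;> rcases h3or z with e' | e' | e'
      · refine ⟨hne y (Or.inl e), hne z (Or.inl e'), ?_⟩
        rw [e] at hy; rw [e'] at hz; omega
      · refine ⟨hne y (Or.inl e), hne z (Or.inr e'), ?_⟩
        rw [e] at hy; rw [e'] at hz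
        -- `6 * o x = h + 12`
        have h6x : 6 * o x = h + 12 := by omega
        have hlt : m x < 6 := by
          by_contra hge
          push Not at hge
          have := Nat.mul_le_mul (le_refl (o x)) hge
          omega
        have hm : m x = 4 := by omega
        rw [hm] at hx; omega
      · rw [e] at hy; omega
      · refine ⟨hne y (Or.inr e), hne z (Or.inl e'), ?_⟩
        rw [e] at hy; rw [e'] at hz
        have h6x : 6 * o x = h + 12 := by omega
        have hlt : m x < 6 := by
          by_contra hge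
          push Not at hge
          have := Nat.mul_le_mul (le_refl (o x)) hge
          omega
        have hm : m x = 4 := by omega
        rw [hm] at hx; omega
      all_goals
        (try rw [e] at hy)
        (try rw [e'] at hz)
        omega
  have hperm : ∀ x, ∃ y z, o x + o y + o z = h + 2 ∧
      (Finset.univ : Finset (orbitRel.Quotient Γ Ω)) = {x, y, z} ∧ x ≠ y ∧ x ≠ z ∧ y ≠ z := by
    intro x
    have hx : x ∈ ({a, b, c} : Finset (orbitRel.Quotient Γ Ω)) := huniv ▸ Finset.mem_univ x
    simp only [Finset.mem_insert, Finset.mem_singleton] at hx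
    rcases hx with rfl | rfl | rfl
    · exact ⟨b, c, htot, huniv, hab, hac, hbc⟩
    · exact ⟨a, c, by omega, by rw [huniv]; ext; simp; tauto, hab.symm, hbc, hac⟩
    · exact ⟨a, b, by omega, by rw [huniv]; ext; simp; tauto, hac.symm, hbc.symm, hab⟩
  constructor
  · by_cases hex : ∃ x, 6 ≤ m x
    · obtain ⟨x, hx⟩ := hex
      obtain ⟨y, z, hxyz, hu, -, -, -⟩ := hperm x
      obtain ⟨hox, hy, hz⟩ := (key x y z hxyz).1 hx
      have hsub : Finset.univ.filter (fun q => 6 ≤ m q) ⊆ {x} := by
        intro q hq
        rw [Finset.mem_filter] at hq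
        have : q ∈ ({x, y, z} : Finset (orbitRel.Quotient Γ Ω)) := hu ▸ hq.1
        simp only [Finset.mem_insert, Finset.mem_singleton] at this ⊢
        rcases this with e | e | e
        · exact e
        · subst e; omega
        · subst e; omega
      exact (Finset.sum_le_sum_of_subset hsub).trans (by simp [hox])
    · push Not at hex
      rw [Finset.sum_eq_zero fun q hq => absurd (Finset.mem_filter.1 hq).2 (not_le.2 (hex q))]
      omega
  · by_cases hex : ∃ x, 4 ∣ m x
    · obtain ⟨x, hx⟩ := hex
      obtain ⟨y, z, hxyz, hu, -, -, -⟩ := hperm x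
      obtain ⟨hy, hz, hox⟩ := (key x y z hxyz).2 hx
      have hsub : Finset.univ.filter (fun q => 4 ∣ m q) ⊆ {x} := by
        intro q hq
        rw [Finset.mem_filter] at hq
        have : q ∈ ({x, y, z} : Finset (orbitRel.Quotient Γ Ω)) := hu ▸ hq.1
        simp only [Finset.mem_insert, Finset.mem_singleton] at this ⊢
        rcases this with e | e | e
        · exact e
        · subst e; exact absurd hq.2 hy
        · subst e; exact absurd hq.2 hz
      exact (Finset.sum_le_sum_of_subset hsub).trans (by simpa using hox)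
    · push Not at hex
      rw [Finset.sum_eq_zero fun q hq => absurd (Finset.mem_filter.1 hq).2 (hex q)]
      omega

end CfsgLib.LocalEven
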