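import Mathlib
import Cfsg.Prelude.Def_Local
import Cfsg.Prelude.Def_Transfer
import Cfsg.Prelude.Def_SylowChains
import Cfsg.Agent.Lib.Techniques.Functor.SectionFusion
import Cfsg.Agent.Lib.Transfer.Basic
import Cfsg.Agent.Lib.Transfer.Frobenius
import Cfsg.Agent.Lib.Cores.Basic
import Cfsg.Agent.Lib.Cores.PConstrained
import Cfsg.Agent.Lib.LocalEven.SylowChains
import Cfsg.Agent.Lib.LocalEven.CoprimeGeneration

/-!
A strong form of the Alperin–Goldschmidt fusion theorem.
-/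

set_option autoImplicit false

namespace CfsgLib.LocalEven.StrongAlperin

open Subgroup Cfsg
open CfsgLib.Fusion (conjSub conjSub_conjSub conjSub_one conjSub_mono card_conjSub
  conjSub_eq_iff_mem_normalizer conj_mem_conjSub)
open CfsgLib.Techniques.Functor
open scoped commutatorElement

/-- In a group with a strongly embedded subgroup the normal subgroups of order divisible by `p`
have a smallest member. -/
theorem exists_smallest_normal {Q : Type*} [Group Q] [Finite Q] {p : ℕ} [hp : Fact p.Prime] {H : Subgroup Q}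
    (hH : IsClassicalSPE p H) :
    ∃ K : Subgroup Q, K.Normal ∧ p ∣ Nat.card K ∧
      ∀ Y : Subgroup Q, Y.Normal → p ∣ Nat.card Y → K ≤ Y := by
  obtain ⟨S, hS, -⟩ := hH.exists_sylow_le
  have hpQ : p ∣ Nat.card (⊤ : Subgroup Q) := hH.2.1.trans (card_dvd_of_le le_top)
  -- two normal subgroups of order divisible by `p` meet in one of the same kind
  have key : ∀ Y₁ Y₂ : Subgroup Q, Y₁.Normal → Y₂.Normal → p ∣ Nat.card Y₁ → p ∣ Nat.card Y₂ →
      p ∣ Nat.card ↥(Y₁ ⊓ Y₂) := by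
    intro Y₁ Y₂ hn₁ hn₂ hd₁ hd₂
    by_contra hZ
    set Z := Y₁ ⊓ Y₂ with hZdef
    haveI hZn : Z.Normal := Subgroup.normal_inf_normal Y₁ Y₂
    have hcop : (Nat.card ↥Z).Coprime p := (hp.out.coprime_iff_not_dvd.2 hZ).symm
    have hfind : ∀ (Y : Subgroup Q), Y.Normal → p ∣ Nat.card Y →
        ∃ e : Q, e ∈ Y ∧ e ∈ (S : Subgroup Q) ∧ orderOf e = p ∧
          ∃ T : Sylow p ↥Y, (T : Subgroup ↥Y).map Y.subtype = (S : Subgroup Q) ⊓ Y := by
      intro Y hY hd
      haveI := hY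
      obtain ⟨T, hT⟩ := CfsgLib.Transfer.exists_sylow_map_eq_inf Y S
      obtain ⟨e, he⟩ := exists_prime_orderOf_dvd_card' (G := ↥(T : Subgroup ↥Y)) p (T.dvd_card_of_dvd_card hd)
      have hm : ((e : ↥Y) : Q) ∈ (S : Subgroup Q) ⊓ Y := hT.le ⟨e, e.2, rfl⟩
      exact ⟨((e : ↥Y) : Q), (e : ↥Y).2, (mem_inf.1 hm).1, by rw [orderOf_coe, orderOf_coe, he], T, hT⟩
    obtain ⟨e₁, he₁Y, he₁S, he₁o, T₁, hT₁⟩ := hfind Y₁ hn₁ hd₁
    obtain ⟨e₂, he₂Y, he₂S, he₂o, T₂, hT₂⟩ := hfind Y₂ hn₂ hd₂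
    have hcomm : Commute e₁ e₂ := by
      have hm : ⁅e₁, e₂⁆ ∈ Z ⊓ (S : Subgroup Q) := mem_inf.2 ⟨mem_inf.2
        ⟨by rw [commutatorElement_def, mul_assoc, mul_assoc, ← mul_assoc e₂]
            exact mul_mem he₁Y (hn₁.conj_mem _ (inv_mem he₁Y) e₂),
         by rw [commutatorElement_def]
            exact mul_mem (hn₂.conj_mem _ he₂Y e₁) (inv_mem he₂Y)⟩,
        mul_mem (mul_mem (mul_mem he₁S he₂S) (inv_mem he₁S)) (inv_mem he₂S)⟩
      have : Z ⊓ (S : Subgroup Q) = ⊥ := by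
        refine Subgroup.card_eq_one.1 (Nat.eq_one_of_dvd_coprimes hcop ?_ ?_ |>.trans rfl)
        · exact card_dvd_of_le inf_le_left
        · rcases (S.2.to_le (inf_le_right : Z ⊓ (S : Subgroup Q) ≤ _)).card_eq_or_dvd with h | h
          · rw [h]; exact one_dvd _
          · exact absurd (h.trans (card_dvd_of_le inf_le_left)) hZ
      rw [this, mem_bot] at hm
      exact commutatorElement_eq_one_iff_mul_comm.1 hm
    have hne1 : ∀ e : Q, orderOf e = p → e ≠ 1 := fun e he h => hp.out.one_lt.ne' (by rw [← he, h, orderOf_one])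
    have hpow : ∀ i : ℕ, (e₂ * e₁ ^ i) ^ p = 1 := fun i => by
      rw [((hcomm.symm.pow_right i)).mul_pow, ← pow_mul, mul_comm i, pow_mul, ← he₁o, pow_orderOf_eq_one,
        one_pow, he₁o, ← he₂o, pow_orderOf_eq_one, one_mul]
    have hne : ∀ i : ℕ, e₂ * e₁ ^ i ≠ 1 := by
      intro i h
      have hm : e₂ ∈ Z ⊓ (S : Subgroup Q) := mem_inf.2 ⟨mem_inf.2 ⟨by
        rw [eq_inv_of_mul_eq_one_left h]; exact inv_mem (pow_mem he₁Y i), he₂Y⟩, he₂S⟩
      refine hZ (dvd_trans (dvd_of_eq ?_) (card_dvd_of_le (zpowers_le.2 (mem_inf.1 hm).1)))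
      rw [Nat.card_zpowers, he₂o]
    have hcl : ∀ e ∈ (S : Subgroup Q), e ^ p = 1 → e ≠ 1 → centralizer ({e} : Set Q) ≤ H := fun e heS hep he1 =>
      hH.centralizer_le ⟨1, by rw [pow_one]; exact orderOf_eq_prime hep he1⟩ he1 (hS heS)
    have hnZ : ∀ e : Q, e ∈ normalizer (Z : Set Q) := fun e => by rw [normalizer_eq_top]; exact mem_top e
    have hZH : Z ≤ H := CfsgLib.LocalEven.le_of_line_centralizers
      (orderOf_dvd_iff_pow_eq_one.1 he₁o.dvd) (orderOf_dvd_iff_pow_eq_one.1 he₂o.dvd) hcomm hcop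
      (hnZ e₁) (hnZ e₂)
      (inf_le_right.trans (hcl e₁ he₁S (orderOf_dvd_iff_pow_eq_one.1 he₁o.dvd) (hne1 e₁ he₁o)))
      (fun i => inf_le_right.trans (hcl _ (mul_mem he₂S (pow_mem he₁S i)) (hpow i) (hne i)))
    -- so `Y₁ ≤ H`
    set S₂ := (S : Subgroup Q) ⊓ Y₂
    have hS₂ne : S₂ ≠ ⊥ := fun h0 => hne1 e₂ he₂o (mem_bot.1 (h0 ▸ mem_inf.2 ⟨he₂S, he₂Y⟩))
    have hY₁H : Y₁ ≤ H := by
      intro k hk
      -- `k` moves `S₂` inside `Z S₂`
      have hle : S₂.map (MulAut.conj k).toMonoidHom ≤ H := by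
        rintro _ ⟨e, he, rfl⟩
        show k * e * k⁻¹ ∈ H
        rw [show k * e * k⁻¹ = (k * e * k⁻¹ * e⁻¹) * e by group]
        refine mul_mem (hZH (mem_inf.2 ⟨?_, ?_⟩)) (hS (mem_inf.1 he).1)
        · rw [show k * e * k⁻¹ * e⁻¹ = k * (e * k⁻¹ * e⁻¹) by group]
          exact mul_mem hk (hn₁.conj_mem _ (inv_mem hk) e)
        · exact mul_mem (hn₂.conj_mem _ (mem_inf.1 he).2 k) (inv_mem (mem_inf.1 he).2)
      exact hH.mem (S.2.to_le inf_le_left) hS₂ne (inf_le_left.trans hS) hle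
    haveI := hn₁
    have hS₁ne : (S : Subgroup Q) ⊓ Y₁ ≠ ⊥ := fun h0 => hne1 e₁ he₁o (mem_bot.1 (h0 ▸ mem_inf.2 ⟨he₁S, he₁Y⟩))
    have hnorm := hH.normalizer_le (S.2.to_le inf_le_left) hS₁ne (inf_le_left.trans hS)
    refine hH.1 (eq_top_iff.2 ((Sylow.normalizer_sup_eq_top T₁).ge.trans (sup_le ?_ hY₁H)))
    rw [hT₁]
    exact hnorm
  -- the minimal one
  obtain ⟨K, ⟨hKn, hKd⟩, hKmin⟩ := (Set.toFinite {Y : Subgroup Q | Y.Normal ∧ p ∣ Nat.card Y}).exists_minimal
    ⟨⊤, inferInstance, hpQ⟩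
  refine ⟨K, hKn, hKd, fun Y hY hd => ?_⟩
  haveI := hKn
  haveI := hY
  exact (hKmin ⟨Subgroup.normal_inf_normal K Y, key K Y hKn hY hKd hd⟩ inf_le_left).trans inf_le_right

theorem map_pPrimePCore_mulEquiv {A B : Type*} [Group A] [Group B] {p : ℕ} (e : A ≃* B) :
    (pPrimePCore p A).map e.toMonoidHom = pPrimePCore p B := by
  set f := QuotientGroup.congr (pPrimeCore p A) (pPrimeCore p B) e (CfsgLib.Cores.map_pPrimeCore_equiv e) with hf
  ext b
  obtain ⟨a, rfl⟩ := e.surjective b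
  have h := CfsgLib.Cores.map_pCore_equiv (p := p) f
  constructor
  · rintro ⟨a', ha', he⟩
    rw [← he]
    show QuotientGroup.mk (e a') ∈ pCore p (B ⧸ pPrimeCore p B)
    rw [← h]
    exact ⟨_, ha', rfl⟩
  · intro ha
    refine ⟨a, ?_, rfl⟩
    change QuotientGroup.mk (e a) ∈ pCore p (B ⧸ pPrimeCore p B) at ha
    rw [← h] at ha
    obtain ⟨q, hq, hqe⟩ := ha
    have : q = QuotientGroup.mk a := f.injective hqe
    show QuotientGroup.mk a ∈ pCore p (A ⧸ pPrimeCore p A)
    exact this ▸ hq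

theorem centralizer_subgroupOf_normalizer_normal {G : Type*} [Group G] (X : Subgroup G) :
    ((centralizer (X : Set G)).subgroupOf (normalizer (X : Set G))).Normal := by
  refine ⟨fun c hc n => mem_subgroupOf.2 (mem_centralizer_iff.2 fun a ha => ?_)⟩
  have h1 := mem_centralizer_iff.1 (mem_subgroupOf.1 hc) _ ((mem_normalizer_iff.1 (inv_mem n.2) a).1 ha)
  show a * ((n : G) * c * (n : G)⁻¹) = (n : G) * c * (n : G)⁻¹ * a
  calc a * ((n : G) * c * (n : G)⁻¹) = (n : G) * (((n : G)⁻¹ * a * (n : G)⁻¹⁻¹) * c) * (n : G)⁻¹ := by group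
    _ = (n : G) * ((c : G) * ((n : G)⁻¹ * a * (n : G)⁻¹⁻¹)) * (n : G)⁻¹ := by rw [h1]
    _ = _ := by group

theorem isSylowChainConnected_of_mulEquiv {A B : Type*} [Group A] [Group B] [Finite A] [Finite B] {p : ℕ}
    [Fact p.Prime] (e : A ≃* B) (h : IsSylowChainConnected p A) : IsSylowChainConnected p B := by
  rw [isSylowChainConnected_iff] at h ⊢
  intro S T
  set S' := S.comapOfInjective e.toMonoidHom e.injective (fun x _ => e.surjective x)
  set T' := T.comapOfInjective e.toMonoidHom e.injective (fun x _ => e.surjective x)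
  have hback : ∀ U : Sylow p B,
      (U.comapOfInjective e.toMonoidHom e.injective (fun x _ => e.surjective x)).mapSurjective (f := e.toMonoidHom) e.surjective = U :=
    fun U => Sylow.ext (map_comap_eq_self_of_surjective e.surjective _)
  rw [← hback S, ← hback T]
  suffices key : ∀ U, SylowReach S' U → SylowReach (S'.mapSurjective (f := e.toMonoidHom) e.surjective)
      (U.mapSurjective (f := e.toMonoidHom) e.surjective) from key _ (h S' T')
  intro U hU
  induction hU with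
  | refl => exact Relation.ReflTransGen.refl
  | @tail U V _ hl ih =>
    refine ih.tail ⟨fun he => hl.1 (Sylow.ext (map_injective e.injective (congrArg Sylow.toSubgroup he))), fun he => hl.2 ?_⟩
    refine (map_eq_bot_iff_of_injective _ (f := e.toMonoidHom) e.injective).1 ?_
    rw [map_inf _ _ _ e.injective]
    exact he

variable {G : Type*} [Group G] [Finite G] {p : ℕ} [Fact p.Prime] (P : Sylow p G)

/-- The conditions on a pair of subgroups in a conjugation chain. -/
def Step (H X : Subgroup G) (x : G) : Prop :=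
  H ≤ (P : Subgroup G) ∧
    ¬ p ∣ ((P : Subgroup G) ⊓ Subgroup.normalizer (H : Set G)).relIndex (Subgroup.normalizer (H : Set G)) ∧
    (P : Subgroup G) ⊓ Subgroup.centralizer (H : Set G) ≤ H ∧
    (Cfsg.pPrimePCore p ↥(Subgroup.normalizer (H : Set G))).map (Subgroup.normalizer (H : Set G)).subtype =
      H ⊔ Subgroup.centralizer (H : Set G) ∧
    ¬ Cfsg.IsSylowChainConnected p
        (↥(Subgroup.normalizer (H : Set G)) ⧸ H.subgroupOf (Subgroup.normalizer (H : Set G))) ∧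
    (H ≤ X ∧ X ≤ Subgroup.normalizer (H : Set G) ∧
      (X.subgroupOf (Subgroup.normalizer (H : Set G))).Normal ∧ p ∣ H.relIndex X ∧
      ∀ Y : Subgroup G, H ≤ Y → Y ≤ Subgroup.normalizer (H : Set G) →
        (Y.subgroupOf (Subgroup.normalizer (H : Set G))).Normal → p ∣ H.relIndex Y → X ≤ Y) ∧
    x ∈ (Cfsg.pResidual p ↥X).map X.subtype

theorem Step.mem_normalizer {H X : Subgroup G} {x : G} (h : Step P H X x) :
    x ∈ normalizer (H : Set G) :=
  h.2.2.2.2.2.1.2.1 (map_subtype_le _ h.2.2.2.2.2.2)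

/-- A chain of such conjugations applicable to `B`. -/
inductive Ch : Subgroup G → G → Prop
  | nil (B : Subgroup G) : Ch B 1
  | cons {B H X : Subgroup G} {x g : G} : Step P H X x → B ≤ H → Ch (conjSub x⁻¹ B) g → Ch B (x * g)

theorem Ch.le_of_le {B B' : Subgroup G} {g : G} (h : Ch P B g) : B' ≤ B → Ch P B' g := by
  induction h generalizing B' with
  | nil => exact fun _ => Ch.nil _
  | cons hs hle _ ih => exact fun hB => Ch.cons hs (hB.trans hle) (ih (conjSub_mono _ hB))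

theorem Ch.append {B : Subgroup G} {a b : G} (ha : Ch P B a) : Ch P (conjSub a⁻¹ B) b → Ch P B (a * b) := by
  induction ha with
  | nil B => intro h; rw [inv_one, conjSub_one] at h; rwa [one_mul]
  | @cons B H X x g hs hle _ ih =>
    intro h
    rw [mul_inv_rev, ← conjSub_conjSub] at h
    rw [mul_assoc]
    exact Ch.cons hs hle (ih h)

theorem conjSub_centralizer_fix {B : Subgroup G} {c : G} (hc : c ∈ centralizer (B : Set G)) : conjSub c B = B :=
  conjSub_eq_iff_mem_normalizer.2 (CfsgLib.LocalEven.mem_normalizer_of_conj_le (by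
    rintro _ ⟨b, hb, rfl⟩
    show c * b * c⁻¹ ∈ B
    rw [← mem_centralizer_iff.1 hc b hb, mul_inv_cancel_right]
    exact hb))

theorem Step.conj {H X : Subgroup G} {x : G} (h : Step P H X x) {y : G}
    (hy : y ∈ normalizer ((P : Subgroup G) : Set G)) : Step P (conjSub y H) (conjSub y X) (y * x * y⁻¹) := by
  obtain ⟨h1, h2, h3, h4, h5, ⟨h6, h7, h8, h9, h10⟩, h11⟩ := h
  have hP : conjSub y (P : Subgroup G) = P := conjSub_eq_iff_mem_normalizer.2 hy
  set e := MulAut.conj y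
  have hN : normalizer ((conjSub y H : Subgroup G) : Set G) = (normalizer (H : Set G) : Subgroup G).map e.toMonoidHom := by
    rw [← conjSub_normalizer]; rfl
  have hC : centralizer ((conjSub y H : Subgroup G) : Set G) = (centralizer (H : Set G) : Subgroup G).map e.toMonoidHom := by
    refine le_antisymm (fun c hc => ⟨e.symm c, mem_centralizer_iff.2 (fun a ha => e.injective (by
      rw [map_mul, map_mul, e.apply_symm_apply]
      exact mem_centralizer_iff.1 hc _ ⟨a, ha, rfl⟩)), e.apply_symm_apply c⟩) ?_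
    · rintro _ ⟨c, hc, rfl⟩
      rw [mem_centralizer_iff]
      rintro _ ⟨a, ha, rfl⟩
      show e a * e c = e c * e a
      rw [← map_mul, ← map_mul, mem_centralizer_iff.1 hc a ha]
  set N := (normalizer (H : Set G) : Subgroup G) with hNdef
  let eN : ↥N ≃* ↥(normalizer ((conjSub y H : Subgroup G) : Set G)) :=
    (N.equivMapOfInjective e.toMonoidHom e.injective).trans (MulEquiv.subgroupCongr hN.symm)
  have heN : ∀ n : ↥N, ((eN n : ↥(normalizer ((conjSub y H : Subgroup G) : Set G))) : G) = e n := fun n => rfl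
  refine ⟨hP ▸ conjSub_mono y h1, ?_, ?_, ?_, ?_, ⟨conjSub_mono y h6, ?_, ?_, ?_, ?_⟩, ?_⟩
  · rw [hN]
    conv => enter [1, 2, 1]; rw [← hP]
    rw [conjSub, ← map_inf _ _ _ e.injective, relIndex_map_map_of_injective _ _ e.injective]
    exact h2
  · rw [hC]
    conv_lhs => rw [← hP]
    rw [conjSub, ← map_inf _ _ _ e.injective]
    exact map_mono h3
  · have hcore : (pPrimePCore p ↥N).map eN.toMonoidHom = pPrimePCore p ↥(normalizer ((conjSub y H : Subgroup G) : Set G)) :=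
      map_pPrimePCore_mulEquiv eN
    rw [hC]
    show _ = H.map e.toMonoidHom ⊔ _
    rw [← hcore, Subgroup.map_map, ← Subgroup.map_sup, ← h4, Subgroup.map_map]
    rfl
  · intro hcon
    apply h5
    have he : (H.subgroupOf N).map eN.toMonoidHom =
        (conjSub y H).subgroupOf (normalizer ((conjSub y H : Subgroup G) : Set G)) := by
      ext n
      constructor
      · rintro ⟨m, hm, rfl⟩
        exact ⟨(m : G), hm, (heN m).symm⟩
      · rintro ⟨h, hh, hhn⟩
        refine ⟨⟨h, le_normalizer hh⟩, hh, Subtype.ext ?_⟩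
        rw [show ((eN.toMonoidHom ⟨h, le_normalizer hh⟩) : G) = e h from heN _]
        exact hhn
    exact isSylowChainConnected_of_mulEquiv (QuotientGroup.congr _ _ eN he).symm hcon
  · rw [hN]; exact map_mono h7
  · have he : (X.subgroupOf N).map eN.toMonoidHom =
        (conjSub y X).subgroupOf (normalizer ((conjSub y H : Subgroup G) : Set G)) := by
      ext n
      constructor
      · rintro ⟨m, hm, rfl⟩
        exact ⟨(m : G), hm, (heN m).symm⟩
      · rintro ⟨h, hh, hhn⟩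
        refine ⟨⟨h, h7 hh⟩, hh, Subtype.ext ?_⟩
        rw [show ((eN.toMonoidHom ⟨h, h7 hh⟩) : G) = e h from heN _]
        exact hhn
    rw [← he]
    exact h8.map _ eN.surjective
  · rwa [conjSub, conjSub, relIndex_map_map_of_injective _ _ e.injective]
  · intro Y hY1 hY2 hY3 hY4
    have hYe : Y = (conjSub y (conjSub y⁻¹ Y)) := by rw [conjSub_conjSub, mul_inv_cancel, conjSub_one]
    rw [hYe] at hY1 hY2 hY3 hY4 ⊢
    set Y' := conjSub y⁻¹ Y
    rw [hN] at hY2
    have hY1' : H ≤ Y' := (map_le_map_iff_of_injective e.injective).1 hY1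
    have hY2' : Y' ≤ N := (map_le_map_iff_of_injective e.injective).1 hY2
    refine conjSub_mono y (h10 Y' hY1' hY2' ?_ ?_)
    · have : Y'.subgroupOf N = ((conjSub y Y').subgroupOf (normalizer ((conjSub y H : Subgroup G) : Set G))).comap eN.toMonoidHom := by
        ext n
        constructor
        · intro hn; exact ⟨(n : G), hn, (heN n).symm⟩
        · rintro ⟨m, hm, hmn⟩
          have : m = (n : G) := e.injective (hmn.trans (heN n))
          show (n : G) ∈ Y'
          rwa [this] at hm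
      rw [this]
      exact hY3.comap _
    · rwa [conjSub, conjSub, relIndex_map_map_of_injective _ _ e.injective] at hY4
  · obtain ⟨m, hm, rfl⟩ := h11
    let eX : ↥X ≃* ↥(conjSub y X) := X.equivMapOfInjective e.toMonoidHom e.injective
    have h12 : eX m ∈ pResidual p ↥(conjSub y X) := by
      have hle : pResidual p ↥X ≤ (pResidual p ↥(conjSub y X)).comap eX.toMonoidHom := by
        rw [pResidual, closure_le]
        intro z hz
        refine subset_closure ?_
        show (orderOf (eX.toMonoidHom z)).Coprime p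
        rw [orderOf_injective eX.toMonoidHom eX.injective z]
        exact hz
      exact hle hm
    exact ⟨eX m, h12, rfl⟩

theorem Ch.conj {B : Subgroup G} {g : G} (h : Ch P B g) {y : G}
    (hy : y ∈ normalizer ((P : Subgroup G) : Set G)) : Ch P (conjSub y B) (y * g * y⁻¹) := by
  induction h with
  | nil B => rw [mul_one, mul_inv_cancel]; exact Ch.nil _
  | @cons B H X x g hs hle _ ih =>
    rw [show y * (x * g) * y⁻¹ = (y * x * y⁻¹) * (y * g * y⁻¹) by group]
    refine Ch.cons (hs.conj P hy) (conjSub_mono y hle) ?_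
    rw [conjSub_conjSub] at ih ⊢
    rwa [show (y * x * y⁻¹)⁻¹ * y = y * x⁻¹ by group]

/-- `g` decomposes on `B`. -/
def Rel (B : Subgroup G) (g : G) : Prop :=
  ∃ c x y : G, c ∈ centralizer (B : Set G) ∧ y ∈ normalizer ((P : Subgroup G) : Set G) ∧ Ch P B x ∧ g = c * x * y

theorem Rel.le_of_le {B B' : Subgroup G} {g : G} (h : Rel P B g) (hB : B' ≤ B) : Rel P B' g := by
  obtain ⟨c, x, y, hc, hy, hx, rfl⟩ := h
  exact ⟨c, x, y, centralizer_le hB hc, hy, hx.le_of_le P hB, rfl⟩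

theorem Rel.append {B : Subgroup G} {g h : G} (hg : Rel P B g) (hh : Rel P (conjSub g⁻¹ B) h) :
    Rel P B (g * h) := by
  obtain ⟨c, x, y, hc, hy, hx, rfl⟩ := hg
  obtain ⟨c', x', y', hc', hy', hx', rfl⟩ := hh
  have hB' : conjSub (c * x * y)⁻¹ B = conjSub (x * y)⁻¹ B := by
    rw [show (c * x * y)⁻¹ = (x * y)⁻¹ * c⁻¹ by group, ← conjSub_conjSub,
      conjSub_centralizer_fix (inv_mem hc)]
  rw [hB'] at hc' hx'
  refine ⟨c * ((x * y) * c' * (x * y)⁻¹), x * (y * x' * y⁻¹), y * y', mul_mem hc ?_, mul_mem hy hy', ?_, by group⟩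
  · rw [mem_centralizer_iff]
    intro b hb
    have h1 := mem_centralizer_iff.1 hc' _ (conj_mem_conjSub (g := (x * y)⁻¹) hb)
    calc b * (x * y * c' * (x * y)⁻¹) = (x * y) * (((x * y)⁻¹ * b * (x * y)⁻¹⁻¹) * c') * (x * y)⁻¹ := by group
      _ = (x * y) * (c' * ((x * y)⁻¹ * b * (x * y)⁻¹⁻¹)) * (x * y)⁻¹ := by rw [h1]
      _ = x * y * c' * (x * y)⁻¹ * b := by group
  · refine hx.append P ?_
    have := hx'.conj P hy
    rwa [conjSub_conjSub, show y * (x * y)⁻¹ = x⁻¹ by group] at this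

omit [Fact p.Prime] in
theorem exists_pow_coprime' (hp : p.Prime) {Q : Type*} [Group Q] [Finite Q] (x : Q) :
    ∃ k : ℕ, (orderOf (x ^ p ^ k)).Coprime p := by
  obtain ⟨k, m, hm, hxm⟩ := Nat.exists_eq_pow_mul_and_not_dvd (orderOf_pos x).ne' p hp.ne_one
  refine ⟨k, ?_⟩
  rw [orderOf_pow' _ (pow_ne_zero _ hp.ne_zero), hxm, Nat.gcd_eq_right (dvd_mul_right _ _),
    Nat.mul_div_cancel_left _ (pow_pos hp.pos k)]
  exact (hp.coprime_iff_not_dvd.2 hm).symm

/-- A subgroup containing a normal subgroup with `p`-quotient and a Sylow subgroup is everything. -/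
theorem le_of_sylow_of_pow_mem {K M : Subgroup G} (R : Sylow p ↥K) (hR : (R : Subgroup ↥K) ≤ M.subgroupOf K)
    (C : Subgroup ↥K) [C.Normal] (hC : C ≤ M.subgroupOf K) (hpow : ∀ k : ↥K, ∃ n : ℕ, k ^ p ^ n ∈ C) : K ≤ M := by
  have h3 : IsPGroup p (↥K ⧸ C) := by
    intro q
    induction q using QuotientGroup.induction_on with
    | H x =>
      obtain ⟨n, hn⟩ := hpow x
      exact ⟨n, by rw [← QuotientGroup.mk_pow, QuotientGroup.eq_one_iff]; exact hn⟩
  obtain ⟨j, hj⟩ := IsPGroup.iff_card.1 h3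
  have h4 : (M.subgroupOf K).index = 1 := by
    refine CfsgLib.Transfer.eq_one_of_coprime_of_pow (p := p) (k := j) ?_ (hj ▸ index_dvd_of_le hC)
    exact Nat.Coprime.coprime_dvd_left (index_dvd_of_le hR)
      (CfsgLib.Transfer.coprime_of_not_dvd R.not_dvd_index)
  exact fun k hk => (index_eq_one.1 h4).ge (mem_top (⟨k, hk⟩ : K))

theorem step_local (X : Subgroup G) (hXP : X ≤ (P : Subgroup G)) (hfull : Full p (P : Subgroup G) X)
    (hind : ∀ R : Subgroup G, X < R → R ≤ (P : Subgroup G) → ∀ x : G,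
      conjSub x⁻¹ R ≤ (P : Subgroup G) → Rel P R x) :
    ∀ x ∈ normalizer (X : Set G), Rel P X x := by
  have hp := (Fact.out : p.Prime)
  set N : Subgroup G := normalizer (X : Set G) with hN
  by_cases hXeq : X = (P : Subgroup G)
  · subst hXeq
    exact fun x hx => ⟨1, 1, x, one_mem _, hx, Ch.nil _, by group⟩
  set T : Subgroup G := (P : Subgroup G) ⊓ N with hT
  have hXT : X < T := lt_norm P.2 (lt_of_le_of_ne hXP hXeq)
  have hTP : T ≤ (P : Subgroup G) := inf_le_left
  have hTN : T ≤ N := inf_le_right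
  have hTp : IsPGroup p ↥(T.subgroupOf N) := (P.2.to_le hTP).comap_subtype
  set T₀ : Sylow p ↥N := hTp.toSylow hfull with hT₀
  have hT₀c : (T₀ : Subgroup ↥N) = T.subgroupOf N := rfl
  -- the subgroup of good elements
  let L : Submonoid ↥N :=
    { carrier := {x | Rel P X (x : G)}
      one_mem' := ⟨1, 1, 1, one_mem _, one_mem _, Ch.nil _, by simp⟩
      mul_mem' := fun {a b} ha hb => by
        refine ha.append P ?_
        rwa [conjSub_eq_iff_mem_normalizer.2 (inv_mem a.2)] }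
  let Lg : Subgroup ↥N :=
    { toSubmonoid := L
      inv_mem' := fun {a} ha => by
        rw [inv_eq_of_mul_eq_one_left (show a ^ (orderOf a - 1) * a = 1 by
          rw [← pow_succ, Nat.sub_add_cancel (orderOf_pos a), pow_orderOf_eq_one])]
        exact L.pow_mem ha _ }
  suffices hL : Lg = ⊤ from fun x hx => (hL.ge (mem_top (⟨x, hx⟩ : ↥N)) : (⟨x, hx⟩ : ↥N) ∈ Lg)
  by_contra hL
  have hbig : ∀ n : ↥N, ∀ R : Subgroup G, X < R → R ≤ (P : Subgroup G) →
      conjSub (n : G)⁻¹ R ≤ (P : Subgroup G) → n ∈ Lg :=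
    fun n R h1 h2 h3 => (hind R h1 h2 _ h3).le_of_le P h1.le
  have hTL : (T₀ : Subgroup ↥N) ≤ Lg := fun t ht => hbig t T hXT hTP (by
    rintro _ ⟨s, hs, rfl⟩
    exact mul_mem (mul_mem (inv_mem (mem_inf.1 ht).1) (hTP hs)) (inv_mem (inv_mem (mem_inf.1 ht).1)))
  have hCX : centralizer (X : Set G) ≤ N := centralizer_le_normalizer _
  have hCL : (centralizer (X : Set G)).subgroupOf N ≤ Lg := fun n hn =>
    ⟨(n : G), 1, 1, hn, one_mem _, Ch.nil _, by group⟩
  have hXL : X.subgroupOf N ≤ Lg := fun n hn => hTL (mem_inf.2 ⟨hXP hn, n.2⟩)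
  haveI hXn : (X.subgroupOf N).Normal := Subgroup.normal_in_normalizer
  -- Frattini argument
  have hfrat : ∀ K : Subgroup ↥N, K.Normal → X.subgroupOf N ≤ K → K ≤ Lg →
      ∀ t : G, t ∈ T → (∀ h : t ∈ N, (⟨t, h⟩ : ↥N) ∈ K) → t ∈ X := by
    intro K hK hXK hKL t htT htK
    by_contra htX
    apply hL
    haveI := hK
    obtain ⟨R₀, hR₀⟩ := CfsgLib.Transfer.exists_sylow_map_eq_inf K T₀
    set R := ((T₀ : Subgroup ↥N) ⊓ K).map N.subtype
    have hRT : R ≤ T := by rintro _ ⟨r, hr, rfl⟩; exact (mem_inf.1 hr).1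
    have hXR : X < R := by
      refine lt_of_le_of_ne (fun z hz => ⟨⟨z, le_normalizer hz⟩, mem_inf.2 ⟨?_, hXK hz⟩, rfl⟩) ?_
      · exact mem_inf.2 ⟨hXP hz, le_normalizer hz⟩
      · intro he
        exact htX (he.ge ⟨⟨t, hTN htT⟩, mem_inf.2 ⟨htT, htK _⟩, rfl⟩)
    refine eq_top_iff.2 ((Sylow.normalizer_sup_eq_top R₀).ge.trans (sup_le (fun n hn => ?_) hKL))
    rw [hR₀] at hn
    refine hbig n R hXR (hRT.trans hTP) ?_
    rintro _ ⟨_, ⟨r, hr, rfl⟩, rfl⟩
    have h1 := (mem_normalizer_iff.1 (inv_mem hn) r).1 hr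
    exact (mem_inf.1 (mem_inf.1 h1).1).1
  -- centric
  have hcen : (P : Subgroup G) ⊓ centralizer (X : Set G) ≤ X := by
    intro t ht
    obtain ⟨htP, htC⟩ := mem_inf.1 ht
    have hCn : ((centralizer (X : Set G)).subgroupOf N).Normal :=
      centralizer_subgroupOf_normalizer_normal X
    haveI := hCn
    refine hfrat (X.subgroupOf N ⊔ (centralizer (X : Set G)).subgroupOf N) (Subgroup.sup_normal _ _)
      le_sup_left (sup_le hXL hCL) t (mem_inf.2 ⟨htP, hCX htC⟩) fun h => mem_sup_right htC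
  -- the upper core
  set W := pPrimePCore p ↥N with hW
  set O := pPrimeCore p ↥N with hO
  haveI hWn : W.Normal := CfsgLib.Cores.pPrimePCore_normal
  haveI hOn : O.Normal := inferInstance
  have hOcop := CfsgLib.Cores.coprime_card_pPrimeCore (G := ↥N) p
  have hXp : IsPGroup p ↥(X.subgroupOf N) := (P.2.to_le hXP).comap_subtype
  have hOC : O ≤ (centralizer (X : Set G)).subgroupOf N := by
    intro o ho
    refine mem_subgroupOf.2 (mem_centralizer_iff.2 fun z hz => ?_)
    set z' : ↥N := ⟨z, le_normalizer hz⟩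
    have hm : ⁅o, z'⁆ ∈ O ⊓ X.subgroupOf N := mem_inf.2
      ⟨by rw [commutatorElement_def, mul_assoc, mul_assoc, ← mul_assoc z']
          exact mul_mem ho (hOn.conj_mem _ (inv_mem ho) z'),
       by rw [commutatorElement_def]
          exact mul_mem (hXn.conj_mem z' hz o) (inv_mem (show z' ∈ X.subgroupOf N from hz))⟩
    have hbot : O ⊓ X.subgroupOf N = ⊥ := by
      obtain ⟨i, hi⟩ := IsPGroup.iff_card.1 hXp
      exact Subgroup.card_eq_one.1 (Nat.eq_one_of_dvd_coprimes (hOcop.pow_right i)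
        (card_dvd_of_le inf_le_left) (hi ▸ card_dvd_of_le inf_le_right))
    rw [hbot, mem_bot] at hm
    exact (congrArg Subtype.val (commutatorElement_eq_one_iff_mul_comm.1 hm)).symm
  have hWpow : ∀ w ∈ W, ∃ n : ℕ, w ^ p ^ n ∈ O := by
    intro w hw
    obtain ⟨n, hn⟩ := CfsgLib.Cores.isPGroup_pCore p ⟨QuotientGroup.mk' O w, hw⟩
    refine ⟨n, ?_⟩
    rw [← QuotientGroup.eq_one_iff (N := O)]
    show QuotientGroup.mk' O (w ^ p ^ n) = 1
    rw [map_pow]
    exact congrArg Subtype.val hn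
  obtain ⟨RW, hRW⟩ := CfsgLib.Transfer.exists_sylow_map_eq_inf W T₀
  have hRWle : ∀ w ∈ RW, ((w : ↥W) : ↥N) ∈ (T₀ : Subgroup ↥N) ⊓ W := fun w hw => hRW.le ⟨w, hw, rfl⟩
  have hXW : X.subgroupOf N ≤ W := by
    intro z hz
    show QuotientGroup.mk' O z ∈ pCore p (↥N ⧸ O)
    haveI : ((X.subgroupOf N).map (QuotientGroup.mk' O)).Normal :=
      hXn.map _ (QuotientGroup.mk'_surjective O)
    exact CfsgLib.Cores.le_pCore (hXp.map _) (mem_map_of_mem _ hz)
  have hWL : W ≤ Lg := le_of_sylow_of_pow_mem (M := Lg) RW (fun w hw => hTL (mem_inf.1 (hRWle w hw)).1)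
    (O.subgroupOf W) (fun w hw => hCL (hOC hw)) (fun w => hWpow w w.2)
  have hWmap : W.map N.subtype = X ⊔ centralizer (X : Set G) := by
    apply le_antisymm
    · rw [← map_subgroupOf_eq_of_le (sup_le le_normalizer hCX : X ⊔ centralizer (X : Set G) ≤ N)]
      refine map_mono ?_
      refine le_of_sylow_of_pow_mem (M := (X ⊔ centralizer (X : Set G)).subgroupOf N) RW ?_ (O.subgroupOf W)
        (fun w hw => mem_subgroupOf.2 (mem_sup_right (hOC hw))) (fun w => hWpow w w.2)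
      intro w hw
      exact mem_sup_left (hfrat W hWn hXW hWL _ (mem_inf.1 (hRWle w hw)).1 fun _ => (w : ↥W).2)
    · have hXWm : X ≤ W.map N.subtype := fun z hz => ⟨⟨z, le_normalizer hz⟩, hXW hz, rfl⟩
      refine sup_le hXWm ?_
      set C₀ := (centralizer (X : Set G)).subgroupOf N with hC₀
      haveI : C₀.Normal := centralizer_subgroupOf_normalizer_normal X
      have hkey : ∀ c : ↥C₀, c ∈ ((T₀ : Subgroup ↥N)).subgroupOf C₀ → ((c : ↥N) : G) ∈ X := fun c hc =>
        hcen (mem_inf.2 ⟨(mem_inf.1 hc).1, c.2⟩)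
      have hcompl : HasNormalPComplement p ↥C₀ := by
        refine CfsgLib.Transfer.hasNormalPComplement_of_frobeniusCond fun Q hQ g _ _ => ?_
        obtain ⟨S₀, hS₀⟩ := CfsgLib.Transfer.exists_sylow_map_eq_inf C₀ T₀
        obtain ⟨T', hT'⟩ := hQ.exists_le_sylow
        obtain ⟨k, rfl⟩ := MulAction.exists_smul_eq ↥C₀ S₀ T'
        refine mem_centralizer_iff.2 fun q hq => ?_
        have h1 := hT' hq
        rw [Sylow.coe_subgroup_smul, mem_pointwise_smul_iff_inv_smul_mem, ← map_inv, MulAut.smul_def] at h1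
        have h2 : ((((MulAut.conj k⁻¹ q : ↥C₀)) : ↥N) : G) ∈ X :=
          hkey _ (mem_subgroupOf.2 (mem_inf.1 (hS₀.le ⟨_, h1, rfl⟩)).1)
        have h3 : ((q : ↥N) : G) ∈ X := by
          have h4 : ((k : ↥N) : G) * ((((MulAut.conj k⁻¹ q : ↥C₀)) : ↥N) : G) * (((k : ↥N) : G))⁻¹ ∈ X :=
            (mem_normalizer_iff.1 (k : ↥N).2 _).1 h2
          convert h4 using 1
          simp [mul_assoc]
        exact Subtype.ext (Subtype.ext (mem_centralizer_iff.1 g.2 _ h3))
      obtain ⟨S', M, hMn, hMc⟩ := hcompl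
      haveI := hMn
      have hMO : M.map C₀.subtype ≤ O := by
        refine (map_mono (CfsgLib.Cores.le_pPrimeCore_of_not_dvd (p := p) (N := M) ?_)).trans
          (CfsgLib.Cores.map_subtype_pPrimeCore_le_of_normal p C₀)
        rw [← hMc.index_eq_card]; exact S'.not_dvd_index
      intro c hc
      refine ⟨⟨c, hCX hc⟩, ?_, rfl⟩
      set c' : ↥C₀ := ⟨⟨c, hCX hc⟩, hc⟩
      have : c' ∈ M ⊔ (S' : Subgroup ↥C₀) := hMc.sup_eq_top ▸ mem_top _
      obtain ⟨m, hm, s, hs, hms⟩ := mem_sup_of_normal_left.1 this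
      rw [show (⟨c, hCX hc⟩ : ↥N) = (m : ↥N) * (s : ↥N) from (congrArg Subtype.val hms).symm]
      refine mul_mem (CfsgLib.Cores.pPrimeCore_le_pPrimePCore (hMO (mem_map_of_mem _ hm))) ?_
      obtain ⟨S₀, hS₀⟩ := CfsgLib.Transfer.exists_sylow_map_eq_inf C₀ T₀
      obtain ⟨k, rfl⟩ := MulAction.exists_smul_eq ↥C₀ S₀ S'
      rw [Sylow.coe_subgroup_smul] at hs
      obtain ⟨z, hz, rfl⟩ := hs
      exact hWn.conj_mem _ (hXW (hkey z (mem_subgroupOf.2 (mem_inf.1 (hS₀.le ⟨z, hz, rfl⟩)).1))) (k : ↥N)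
  -- the quotient
  set π := QuotientGroup.mk' (X.subgroupOf N) with hπ
  have hπs : Function.Surjective π := QuotientGroup.mk'_surjective _
  set Tb : Sylow p (↥N ⧸ X.subgroupOf N) := T₀.mapSurjective hπs with hTb
  have hTbc : (Tb : Subgroup (↥N ⧸ X.subgroupOf N)) = (T₀ : Subgroup ↥N).map π := rfl
  have hlift : ∀ a : ↥N, π a ∈ (Tb : Subgroup (↥N ⧸ X.subgroupOf N)) → a ∈ (T₀ : Subgroup ↥N) := by
    intro a ha
    rw [hTbc] at ha
    obtain ⟨b, hb, hba⟩ := ha
    have h1 : b⁻¹ * a ∈ X.subgroupOf N := QuotientGroup.eq.1 hba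
    have h2 : b⁻¹ * a ∈ (T₀ : Subgroup ↥N) := mem_inf.2 ⟨hXP h1, (b⁻¹ * a).2⟩
    have := mul_mem hb h2
    rwa [mul_inv_cancel_left] at this
  have hnotconn : ¬ IsSylowChainConnected p (↥N ⧸ X.subgroupOf N) := by
    intro hcon
    rw [isSylowChainConnected_iff] at hcon
    apply hL
    refine eq_top_iff.2 fun n _ => ?_
    suffices key : ∀ U, SylowReach Tb U → ∀ m : ↥N, π m • Tb = U → m ∈ Lg from key _ (hcon _ _) n rfl
    intro U hU
    induction hU with
    | refl =>
      intro m hm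
      refine hbig m T hXT hTP ?_
      rintro _ ⟨t, ht, rfl⟩
      have h1 : π m⁻¹ • Tb = Tb := by rw [map_inv, inv_smul_eq_iff, hm]
      have h2 : π (m⁻¹ * ⟨t, hTN ht⟩ * m) ∈ (Tb : Subgroup (↥N ⧸ X.subgroupOf N)) := by
        rw [← h1, Sylow.coe_subgroup_smul, hTbc]
        exact ⟨π ⟨t, hTN ht⟩, mem_map_of_mem π (mem_inf.2 ⟨hTP ht, hTN ht⟩), by simp⟩
      have h3 := (mem_inf.1 (hlift _ h2)).1
      simpa using h3
    | @tail V U _ hl ih =>
      intro m hm
      obtain ⟨n₁, hn₁⟩ := MulAction.exists_smul_eq (↥N ⧸ X.subgroupOf N) Tb V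
      obtain ⟨n₁, rfl⟩ := hπs n₁
      have h1 := ih n₁ hn₁
      suffices h2 : n₁⁻¹ * m ∈ Lg by
        have := mul_mem h1 h2
        rwa [mul_inv_cancel_left] at this
      obtain ⟨d, hd, hd1⟩ := ((V : Subgroup (↥N ⧸ X.subgroupOf N)) ⊓ (U : Subgroup (↥N ⧸ X.subgroupOf N))).bot_or_exists_ne_one.resolve_left hl.2
      obtain ⟨d, rfl⟩ := hπs d
      obtain ⟨hdV, hdU⟩ := mem_inf.1 hd
      rw [← hn₁, Sylow.coe_subgroup_smul, mem_pointwise_smul_iff_inv_smul_mem, ← map_inv,
        MulAut.smul_def, MulAut.conj_apply, ← map_inv, ← map_inv, ← map_mul, ← map_mul] at hdV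
      rw [← hm, Sylow.coe_subgroup_smul, mem_pointwise_smul_iff_inv_smul_mem, ← map_inv,
        MulAut.smul_def, MulAut.conj_apply, ← map_inv, ← map_inv, ← map_mul, ← map_mul] at hdU
      set t := n₁⁻¹ * d * n₁⁻¹⁻¹ with ht
      set t' := m⁻¹ * d * m⁻¹⁻¹ with ht'
      set u := n₁⁻¹ * m with hu
      set R : Subgroup G := T ⊓ conjSub (u : G) T with hR
      have htT : (t : G) ∈ T := mem_inf.2 ⟨(mem_inf.1 (hlift _ hdV)).1, t.2⟩
      have htR : (t : G) ∈ R := by
        refine mem_inf.2 ⟨htT, ⟨(t' : G), mem_inf.2 ⟨(mem_inf.1 (hlift _ hdU)).1, t'.2⟩, ?_⟩⟩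
        show (u : G) * (t' : G) * (u : G)⁻¹ = _
        simp [hu, ht, ht', mul_assoc]
      have hXR : X < R := by
        refine lt_of_le_of_ne (le_inf hXT.le ?_) fun he => hd1 ?_
        · rw [← conjSub_eq_iff_mem_normalizer.2 u.2]
          exact conjSub_mono _ hXT.le
        · have h5 : t ∈ X.subgroupOf N := he.ge htR
          have h6 := hXn.conj_mem _ h5 n₁
          rw [ht, show n₁ * (n₁⁻¹ * d * n₁⁻¹⁻¹) * n₁⁻¹ = d by group] at h6
          exact (QuotientGroup.eq_one_iff d).2 h6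
      refine hbig u R hXR (inf_le_left.trans hTP) ?_
      refine (conjSub_mono _ inf_le_right).trans ?_
      rw [conjSub_conjSub, inv_mul_cancel, conjSub_one]
      exact hTP
  obtain ⟨H₀, hH₀⟩ := exists_classicalSPE_of_not_connected hnotconn
  obtain ⟨K, hKn, hKd, hKmin⟩ := exists_smallest_normal hH₀
  set Xi : Subgroup G := (K.comap π).map N.subtype with hXi
  have hXle : X.subgroupOf N ≤ K.comap π := fun z hz => by
    rw [mem_comap, show π z = 1 from (QuotientGroup.eq_one_iff z).2 hz]; exact one_mem K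
  have hrel : ∀ Y : Subgroup ↥N, X.relIndex (Y.map N.subtype) = Nat.card ↥(Y.map π) := by
    intro Y
    have h1 : Nat.card ↥(Y.map π) = π.ker.relIndex Y := by
      rw [← MonoidHom.comap_bot, relIndex_comap, relIndex_bot_left]
    rw [h1, hπ, QuotientGroup.ker_mk', ← relIndex_comap]
    rfl
  have hXXi : X ≤ Xi := fun z hz => ⟨⟨z, le_normalizer hz⟩, hXle hz, rfl⟩
  have hXiN : Xi ≤ N := map_subtype_le _
  have hXisub : Xi.subgroupOf N = K.comap π := comap_map_eq_self_of_injective N.subtype_injective _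
  have hXin : (Xi.subgroupOf N).Normal := hXisub ▸ hKn.comap π
  have hXid : p ∣ X.relIndex Xi := by
    rw [hXi, hrel, map_comap_eq_self_of_surjective hπs]; exact hKd
  have hXimin : ∀ Y : Subgroup G, X ≤ Y → Y ≤ N → (Y.subgroupOf N).Normal → p ∣ X.relIndex Y → Xi ≤ Y := by
    intro Y hXY hYN hYn hYd
    rw [← map_subgroupOf_eq_of_le hYN, hrel] at hYd
    have h1 := hKmin _ (hYn.map π hπs) hYd
    rw [hXi, ← map_subgroupOf_eq_of_le hYN]
    refine map_mono (fun z hz => ?_)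
    obtain ⟨w, hw, hwz⟩ := h1 hz
    have h2 : w⁻¹ * z ∈ X.subgroupOf N := QuotientGroup.eq.1 hwz
    have := mul_mem hw (show w⁻¹ * z ∈ Y.subgroupOf N from hXY h2)
    rwa [mul_inv_cancel_left] at this
  have hstep : ∀ x : G, x ∈ (pResidual p ↥Xi).map Xi.subtype → Step P X Xi x := fun x hx =>
    ⟨hXP, hfull, hcen, hWmap, hnotconn, ⟨hXXi, hXiN, hXin, hXid, hXimin⟩, hx⟩
  set Kc := K.comap π with hKc
  haveI : Kc.Normal := hKn.comap π
  obtain ⟨RX, hRX⟩ := CfsgLib.Transfer.exists_sylow_map_eq_inf Kc T₀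
  have hKcL : Kc ≤ Lg := by
    have hres : ∀ k : ↥Kc, (orderOf k).Coprime p → (k : ↥N) ∈ Lg := by
      intro k hk
      set k' : ↥Xi := ⟨((k : ↥N) : G), ⟨(k : ↥N), k.2, rfl⟩⟩
      have hk' : k' ∈ pResidual p ↥Xi := by
        refine subset_closure ?_
        show (orderOf k').Coprime p
        rwa [show orderOf k' = orderOf k by rw [← orderOf_coe k', ← orderOf_coe k, ← orderOf_coe (k : ↥N)]]
      refine ⟨1, ((k : ↥N) : G), 1, one_mem _, one_mem _, ?_, by group⟩
      have hc := Ch.cons (hstep _ ⟨k', hk', rfl⟩) le_rfl (Ch.nil (conjSub ((k : ↥N) : G)⁻¹ X))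
      rwa [mul_one] at hc
    set C' : Subgroup ↥Kc := pResidual p ↥Kc
    haveI : C'.Normal := ⟨fun c hc k => by
      have hle : C' ≤ C'.comap (MulAut.conj k).toMonoidHom := by
        conv_lhs => rw [show C' = closure {g : ↥Kc | Nat.Coprime (orderOf g) p} from rfl]
        rw [closure_le]
        intro g hg
        refine subset_closure ?_
        show (orderOf ((MulAut.conj k).toMonoidHom g)).Coprime p
        rw [orderOf_injective (MulAut.conj k).toMonoidHom (MulAut.conj k).injective g]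
        exact hg
      exact hle hc⟩
    refine le_of_sylow_of_pow_mem (M := Lg) RX (fun w hw => hTL (mem_inf.1 (hRX.le ⟨w, hw, rfl⟩)).1)
      C' (fun k hk => ?_) fun k => ?_
    · have hle : C' ≤ Lg.subgroupOf Kc := by
        rw [show C' = closure {g : ↥Kc | Nat.Coprime (orderOf g) p} from rfl, closure_le]
        exact fun g hg => hres g hg
      exact hle hk
    · obtain ⟨i, hi⟩ := exists_pow_coprime' hp k
      exact ⟨i, subset_closure hi⟩
  have hne : ¬ ((T₀ : Subgroup ↥N) ⊓ Kc ≤ X.subgroupOf N) := by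
    intro hle
    have h1 : (RX : Subgroup ↥Kc) ≤ (X.subgroupOf N).subgroupOf Kc := fun w hw => hle (hRX.le ⟨w, hw, rfl⟩)
    have h2 : p ∣ ((X.subgroupOf N).subgroupOf Kc).index := by
      have h3 : ((X.subgroupOf N).subgroupOf Kc).index = X.relIndex Xi := by
        show (X.comap N.subtype).relIndex Kc = _
        rw [relIndex_comap]
      rw [h3]; exact hXid
    exact RX.not_dvd_index (h2.trans (index_dvd_of_le h1))
  obtain ⟨t, ht, htX⟩ := SetLike.not_le_iff_exists.1 hne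
  exact htX (hfrat Kc inferInstance hXle hKcL (t : G) (mem_inf.2 ⟨(mem_inf.1 (mem_inf.1 ht).1).1, t.2⟩)
    fun _ => (mem_inf.1 ht).2)

theorem rel_of_conj (n : ℕ) : ∀ A : Subgroup G, n ≤ Nat.card A → A ≤ (P : Subgroup G) → ∀ g : G,
    conjSub g⁻¹ A ≤ (P : Subgroup G) → Rel P A g := by
  suffices key : ∀ d n, Nat.card (P : Subgroup G) + 1 - n = d → ∀ A : Subgroup G, n ≤ Nat.card A →
      A ≤ (P : Subgroup G) → ∀ g : G, conjSub g⁻¹ A ≤ (P : Subgroup G) → Rel P A g from key _ n rfl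
  intro d
  induction d with
  | zero =>
    intro n hn A hA hAP g hg
    have := card_le_of_le hAP
    omega
  | succ d ih =>
    intro n hn A hA hAP g hg
    let Φ : Subgroup G → G → Prop := fun A g => n ≤ Nat.card A → Rel P A g⁻¹
    have h := alperin_over P Φ ⊥
      (fun {A B g} hBA hAg hB => (hAg (hB.trans (card_le_of_le hBA))).le_of_le P hBA)
      (fun {A g h} hg hh hA => by
        rw [mul_inv_rev]
        refine (hg hA).append P ?_
        rw [inv_inv]
        exact hh (by rwa [card_conjSub]))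
      (fun X hX _ hfull x hx hnX => step_local P X hX hfull (fun R hXR hR z hz =>
        ih (n + 1) (by omega) R (by have := card_lt_of_lt hXR; omega) hR z hz) x⁻¹ (inv_mem hx))
      A g⁻¹ bot_le hAP hg hA
    rwa [inv_inv] at h

theorem Ch.exists_fin {B : Subgroup G} {g : G} (h : Ch P B g) :
    ∃ (n : ℕ) (H X : Fin n → Subgroup G) (x : Fin n → G), g = (List.ofFn x).prod ∧
      ∀ i, Step P (H i) (X i) (x i) ∧
        conjSub (((List.ofFn x).take i.val).prod)⁻¹ B ≤ H i := by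
  induction h with
  | nil B => exact ⟨0, Fin.elim0, Fin.elim0, Fin.elim0, by simp, fun i => i.elim0⟩
  | @cons B H₀ X₀ x₀ g hs hle _ ih =>
    obtain ⟨n, H, X, x, hg, hi⟩ := ih
    refine ⟨n + 1, Fin.cons H₀ H, Fin.cons X₀ X, Fin.cons x₀ x, ?_, Fin.cases ?_ fun i => ?_⟩
    · simp [List.ofFn_succ, hg]
    · refine ⟨by simpa using hs, ?_⟩
      simpa [conjSub_one] using hle
    · refine ⟨by simpa using (hi i).1, ?_⟩
      have h2 := (hi i).2
      rw [conjSub_conjSub] at h2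
      simpa [List.ofFn_succ, mul_inv_rev] using h2

end CfsgLib.LocalEven.StrongAlperin
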