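import Cfsg.Agent.Lib.LocalEven.SubnormalSylow
import Cfsg.Agent.Lib.PGroup.Wielandt
import Cfsg.Agent.Lib.Transfer.SubnormalJoin
import Mathlib.GroupTheory.Transfer
import Cfsg.Agent.Lib.LocalEven.Basic

/-!
A Sylow subgroup of a join of subnormal subgroups is generated by its intersections with them.
-/

namespace CfsgLib.LocalEven

open Subgroup

universe u

variable {p : ℕ}

theorem eq_of_le_of_not_dvd_relIndex {G : Type u} [Group G] [Finite G] [hp : Fact p.Prime]
    {Q S : Subgroup G} (hS : IsPGroup p ↥S) (hQS : Q ≤ S) (h : ¬ p ∣ Q.relIndex S) : Q = S := by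
  obtain ⟨n, hn⟩ := hS.exists_card_eq
  obtain ⟨j, -, hj⟩ := (Nat.dvd_prime_pow hp.out).1 (hn ▸ Subgroup.relIndex_dvd_card Q S)
  rcases j with _ | j
  · exact le_antisymm hQS (Subgroup.relIndex_eq_one.1 (by simpa using hj))
  · exact absurd (hj ▸ dvd_pow_self p (Nat.succ_ne_zero j)) h

/-- `|AH : H| = |A : A ∩ H|` for normal `A`. -/
theorem relIndex_sup_of_normal {G : Type u} [Group G] [Finite G] (A H : Subgroup G) [A.Normal] :
    H.relIndex (A ⊔ H) = H.relIndex A := by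
  have e : ∀ K L : Subgroup G, Nat.card ↥(K ⊓ L) * K.relIndex L = Nat.card ↥L := fun K L => by
    rw [← Subgroup.inf_relIndex_right, ← Subgroup.relIndex_bot_left,
      Subgroup.relIndex_mul_relIndex ⊥ _ _ bot_le inf_le_right, Subgroup.relIndex_bot_left]
  have h4 := e A (A ⊔ H)
  rw [inf_eq_left.2 (le_sup_left : A ≤ A ⊔ H), Subgroup.relIndex_sup_left] at h4
  have h5 := e H (A ⊔ H)
  rw [inf_eq_left.2 (le_sup_right : H ≤ A ⊔ H)] at h5
  have h6 := e H A
  have h7 := e A H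
  rw [inf_comm] at h7
  refine Nat.eq_of_mul_eq_mul_left (Nat.card_pos (α := ↥H)) (h5.trans ?_)
  rw [← h4, ← h6, ← h7]
  ring

/-- Two normal subgroups generating the group. -/
theorem sylow_eq_sup_of_normal_pair {G : Type u} [Group G] [Finite G] [hp : Fact p.Prime]
    (S : Sylow p G) {A B : Subgroup G} (hA : A.Normal) (hB : B.Normal) (hAB : A ⊔ B = ⊤) :
    (S : Subgroup G) = ((S : Subgroup G) ⊓ A) ⊔ ((S : Subgroup G) ⊓ B) := by
  set T := ((S : Subgroup G) ⊓ A) ⊔ ((S : Subgroup G) ⊓ B) with hT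
  have hTS : T ≤ (S : Subgroup G) := sup_le inf_le_left inf_le_left
  refine (eq_of_le_of_not_dvd_relIndex S.2 hTS fun hd => ?_).symm
  have hd' : p ∣ T.index := hd.trans (Subgroup.relIndex_dvd_index_of_le hTS |>.trans dvd_rfl)
  rw [← Subgroup.relIndex_mul_index (le_sup_left : T ≤ T ⊔ A), hp.out.dvd_mul] at hd'
  rcases hd' with h | h
  · rw [sup_comm] at h
    rw [relIndex_sup_of_normal A T] at h
    exact not_dvd_relIndex_inf_of_isSubnormal S hA.isSubnormal
      (h.trans (Subgroup.relIndex_dvd_of_le_left A le_sup_left))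
  · have e : (T ⊔ A).index = (T ⊔ A).relIndex B := by
      rw [← relIndex_sup_of_normal B (T ⊔ A), ← Subgroup.relIndex_top_right]
      congr 1
      exact (eq_top_iff.2 (hAB.ge.trans (sup_le (le_sup_right.trans le_sup_right) le_sup_left))).symm
    rw [e] at h
    exact not_dvd_relIndex_inf_of_isSubnormal S hB.isSubnormal
      (h.trans (Subgroup.relIndex_dvd_of_le_left B (le_sup_right.trans le_sup_left)))

theorem sylow_eq_sup_of_subnormal [hp : Fact p.Prime] : ∀ (n : ℕ) (G : Type u) [Group G] [Finite G],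
    Nat.card G = n → ∀ (S : Sylow p G) (A₁ A₂ : Subgroup G), A₁.IsSubnormal → A₂.IsSubnormal →
      A₁ ⊔ A₂ = ⊤ → (S : Subgroup G) = ((S : Subgroup G) ⊓ A₁) ⊔ ((S : Subgroup G) ⊓ A₂) := by
  intro n
  induction n using Nat.strong_induction_on with
  | _ n IH =>
  intro G _ _ hn S A₁ A₂ h₁ h₂ hgen
  set Q := ((S : Subgroup G) ⊓ A₁) ⊔ ((S : Subgroup G) ⊓ A₂) with hQ
  have hQS : Q ≤ (S : Subgroup G) := sup_le inf_le_left inf_le_left
  by_cases hab : commutator G = ⊥
  · have hnorm : ∀ A : Subgroup G, A.Normal := fun A => ⟨fun a ha g => by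
      have h := (Subgroup.mem_bot.1 (hab ▸ Subgroup.commutator_mem_commutator (Subgroup.mem_top g) (Subgroup.mem_top a) :
        g * a * g⁻¹ * a⁻¹ ∈ (⊥ : Subgroup G)))
      rwa [mul_inv_eq_one.1 h]⟩
    exact sylow_eq_sup_of_normal_pair S (hnorm A₁) (hnorm A₂) hgen
  -- a minimal normal subgroup inside `G'`
  obtain ⟨M, ⟨hMn, hM1, hMC⟩, hMmin⟩ := Set.exists_min_image
    {M : Subgroup G | M.Normal ∧ M ≠ ⊥ ∧ M ≤ commutator G} (fun M => Nat.card ↥M) (Set.toFinite _)
    ⟨commutator G, inferInstance, hab, le_rfl⟩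
  haveI := hMn
  have hmin : ∀ L : Subgroup G, L.Normal → L ≤ M → L = ⊥ ∨ L = M := fun L hL hLM =>
    or_iff_not_imp_left.2 fun hne =>
      Subgroup.eq_of_le_of_card_ge hLM (hMmin L ⟨hL, hne, hLM.trans hMC⟩)
  have hN₁ := CfsgLib.PGroup.minimalNormal_le_normalizer hmin h₁
  have hN₂ := CfsgLib.PGroup.minimalNormal_le_normalizer hmin h₂
  -- the quotient
  set π := QuotientGroup.mk' M with hπ
  have hπs := QuotientGroup.mk'_surjective M
  have himg : ∀ A : Subgroup G, A.IsSubnormal →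
      ((S.mapSurjective (f := π) hπs : Sylow p (G ⧸ M)) : Subgroup (G ⧸ M)) ⊓ A.map π =
        ((S : Subgroup G) ⊓ A).map π := by
    intro A hA
    refine le_antisymm ?_ (le_inf (Subgroup.map_mono inf_le_left) (Subgroup.map_mono inf_le_right))
    obtain ⟨R, hR⟩ := exists_sylow_eq_inf_of_isSubnormal S hA
    have hsur := MonoidHom.subgroupMap_surjective π A
    intro q hq
    have hle : ((R.mapSurjective hsur : Sylow p ↥(A.map π)) : Subgroup ↥(A.map π)) ≤
        ((S.mapSurjective (f := π) hπs : Sylow p (G ⧸ M)) : Subgroup (G ⧸ M)).subgroupOf (A.map π) := by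
      rintro _ ⟨a, ha, rfl⟩
      exact ⟨a, (hR.le ha : (a : G) ∈ (S : Subgroup G)), rfl⟩
    have heq := (R.mapSurjective hsur).is_maximal'
      ((S.mapSurjective (f := π) hπs).2.comap_subtype (K := A.map π)) hle
    have hq' : (⟨q, hq.2⟩ : ↥(A.map π)) ∈ ((R.mapSurjective hsur : Sylow p ↥(A.map π)) : Subgroup ↥(A.map π)) :=
      heq.le hq.1
    obtain ⟨a, ha, hae⟩ := hq'
    exact ⟨a, ⟨hR.le ha, a.2⟩, congrArg Subtype.val hae⟩
  have hlt : Nat.card (G ⧸ M) < n := by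
    rw [← hn, Subgroup.card_eq_card_quotient_mul_card_subgroup M]
    exact lt_mul_of_one_lt_right Nat.card_pos ((Subgroup.one_lt_card_iff_ne_bot M).2 hM1)
  have hquot := IH _ hlt (G ⧸ M) rfl (S.mapSurjective (f := π) hπs) (A₁.map π) (A₂.map π)
    (h₁.map hπs) (h₂.map hπs) (by rw [← Subgroup.map_sup, hgen, Subgroup.map_top_of_surjective π hπs])
  rw [himg A₁ h₁, himg A₂ h₂, ← Subgroup.map_sup] at hquot
  have hSQM : ∀ s ∈ (S : Subgroup G), ∃ q ∈ Q, ∃ m ∈ M, q * m = s ∧ m ∈ (S : Subgroup G) := by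
    intro s hs
    obtain ⟨q, hq, hqs⟩ := (show π s ∈ Q.map π from hquot ▸ ⟨s, hs, rfl⟩)
    exact ⟨q, hq, q⁻¹ * s, QuotientGroup.eq.1 hqs, by group,
      mul_mem (inv_mem (hQS hq)) hs⟩
  refine le_antisymm (fun s hs => ?_) hQS
  suffices hSM : (S : Subgroup G) ⊓ M ≤ Q by
    obtain ⟨q, hq, m, hm, rfl, hmS⟩ := hSQM s hs
    exact mul_mem hq (hSM ⟨hmS, hm⟩)
  set M₀ := (M ⊓ A₁) ⊔ (M ⊓ A₂) with hM₀
  have hc : ∀ (A : Subgroup G), M ≤ Subgroup.normalizer (A : Set G) → ∀ a ∈ A, ∀ x ∈ M,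
      a * x * a⁻¹ * x⁻¹ ∈ M ⊓ A := by
    intro A hA a ha x hx
    refine Subgroup.mem_inf.2 ⟨mul_mem (hMn.conj_mem x hx a) (inv_mem hx), ?_⟩
    have := mul_mem ha (conj_mem_of_mem_normalizer (hA hx) (inv_mem ha))
    simpa [mul_assoc] using this
  have hM₀n : M₀.Normal := by
    rw [← Subgroup.normalizer_eq_top_iff, eq_top_iff, ← hgen]
    have key : ∀ (A B : Subgroup G), M ≤ Subgroup.normalizer (A : Set G) → ∀ a ∈ A, ∀ x ∈ M ⊓ B,
        a * x * a⁻¹ ∈ (M ⊓ A) ⊔ (M ⊓ B) := fun A B hA a ha x hx => by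
      rw [show a * x * a⁻¹ = (a * x * a⁻¹ * x⁻¹) * x by group]
      exact mul_mem (Subgroup.mem_sup_left (hc A hA a ha x hx.1)) (Subgroup.mem_sup_right hx)
    refine sup_le ?_ ?_
    · intro a ha
      refine mem_normalizer_of_conj_le ?_
      rw [hM₀, Subgroup.map_sup]
      refine sup_le ?_ ?_
      · rintro _ ⟨x, hx, rfl⟩
        exact Subgroup.mem_sup_left (Subgroup.mem_inf.2 ⟨hMn.conj_mem x hx.1 a, mul_mem (mul_mem ha hx.2) (inv_mem ha)⟩)
      · rintro _ ⟨x, hx, rfl⟩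
        exact key A₁ A₂ hN₁ a ha x hx
    · intro a ha
      refine mem_normalizer_of_conj_le ?_
      rw [hM₀, Subgroup.map_sup]
      refine sup_le ?_ ?_
      · rintro _ ⟨x, hx, rfl⟩
        have := key A₂ A₁ hN₂ a ha x hx
        rwa [sup_comm] at this
      · rintro _ ⟨x, hx, rfl⟩
        exact Subgroup.mem_sup_right (Subgroup.mem_inf.2 ⟨hMn.conj_mem x hx.1 a, mul_mem (mul_mem ha hx.2) (inv_mem ha)⟩)
  rcases hmin M₀ hM₀n (sup_le inf_le_left inf_le_left) with h0 | h0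
  swap
  · -- `M = (M ⊓ A₁)(M ⊓ A₂)`
    obtain ⟨P, hP⟩ := exists_sylow_eq_inf_of_isSubnormal S hMn.isSubnormal
    have hpair := sylow_eq_sup_of_normal_pair P
      (A := A₁.subgroupOf M) (B := A₂.subgroupOf M)
      (Subgroup.normal_subgroupOf_of_le_normalizer hN₁) (Subgroup.normal_subgroupOf_of_le_normalizer hN₂) (by
        refine Subgroup.map_injective M.subtype_injective ?_
        rw [Subgroup.map_sup, Subgroup.subgroupOf_map_subtype, Subgroup.subgroupOf_map_subtype,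
          ← MonoidHom.range_eq_map, Subgroup.range_subtype, inf_comm A₁, inf_comm A₂]
        exact h0)
    have hpair' := congrArg (Subgroup.map M.subtype) hpair
    rw [Subgroup.map_sup, Subgroup.map_inf _ _ _ M.subtype_injective,
      Subgroup.map_inf _ _ _ M.subtype_injective, hP, Subgroup.subgroupOf_map_subtype,
      Subgroup.subgroupOf_map_subtype, Subgroup.subgroupOf_map_subtype] at hpair'
    rw [hpair']
    exact sup_le_sup (inf_le_inf inf_le_left inf_le_left) (inf_le_inf inf_le_left inf_le_left)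
  -- `M` is central of prime order
  rw [hM₀, sup_eq_bot_iff] at h0
  have hcent : M ≤ Subgroup.center G := by
    intro x hx
    refine Subgroup.mem_center_iff.2 fun g => ?_
    have hle : A₁ ⊔ A₂ ≤ Subgroup.centralizer ({x} : Set G) := sup_le
      (fun a ha => Subgroup.mem_centralizer_singleton_iff.2 (mul_inv_eq_iff_eq_mul.1
        (mul_inv_eq_one.1 (Subgroup.mem_bot.1 (h0.1 ▸ hc A₁ hN₁ a ha x hx)))))
      (fun a ha => Subgroup.mem_centralizer_singleton_iff.2 (mul_inv_eq_iff_eq_mul.1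
        (mul_inv_eq_one.1 (Subgroup.mem_bot.1 (h0.2 ▸ hc A₂ hN₂ a ha x hx)))))
    exact Subgroup.mem_centralizer_singleton_iff.1 (hle (hgen ▸ Subgroup.mem_top g))
  intro x ⟨hxS, hxM⟩
  by_contra hxQ
  have hnormal : ∀ L : Subgroup G, L ≤ M → L.Normal := fun L hL => ⟨fun a ha g => by
    rwa [Subgroup.mem_center_iff.1 (hcent (hL ha)) g, mul_inv_cancel_right]⟩
  have hQM : Q ⊓ M = ⊥ := (hmin _ (hnormal _ inf_le_right) inf_le_right).resolve_right fun e =>
    hxQ (e.ge hxM).1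
  haveI : (Q.subgroupOf (S : Subgroup G)).Normal := ⟨fun a ha s => by
    obtain ⟨q, hq, m, hm, hqm, -⟩ := hSQM s s.2
    show (s : G) * a * (s : G)⁻¹ ∈ Q
    rw [← hqm, show q * m * (a : G) * (q * m)⁻¹ = q * (m * a * m⁻¹) * q⁻¹ by group,
      ← Subgroup.mem_center_iff.1 (hcent hm) (a : G), mul_inv_cancel_right]
    exact mul_mem (mul_mem hq ha) (inv_mem hq)⟩
  letI : CommGroup (↥(S : Subgroup G) ⧸ Q.subgroupOf (S : Subgroup G)) :=
    { (inferInstance : Group (↥(S : Subgroup G) ⧸ Q.subgroupOf (S : Subgroup G))) with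
      mul_comm := fun a b => by
        induction a using QuotientGroup.induction_on with
        | H a =>
        induction b using QuotientGroup.induction_on with
        | H b =>
        obtain ⟨q, hq, m, hm, hqm, hmS⟩ := hSQM a a.2
        have e : (a : ↥(S : Subgroup G)) = ⟨q, hQS hq⟩ * ⟨m, hmS⟩ := Subtype.ext hqm.symm
        have hq1 : ((⟨q, hQS hq⟩ : ↥(S : Subgroup G)) : ↥(S : Subgroup G) ⧸ Q.subgroupOf (S : Subgroup G)) = 1 :=
          (QuotientGroup.eq_one_iff _).2 hq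
        have hmc : (⟨m, hmS⟩ : ↥(S : Subgroup G)) * b = b * ⟨m, hmS⟩ :=
          Subtype.ext (Subgroup.mem_center_iff.1 (hcent hm) (b : G)).symm
        rw [e, QuotientGroup.mk_mul, hq1, one_mul, ← QuotientGroup.mk_mul, hmc, QuotientGroup.mk_mul] }
  set φ := QuotientGroup.mk' (Q.subgroupOf (S : Subgroup G)) with hφ
  have hker : commutator G ≤ (MonoidHom.transfer φ).ker := Abelianization.commutator_subset_ker _
  have h1 : MonoidHom.transfer φ x = 1 := hker (hMC hxM)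
  have h2 : ∀ (k : ℕ) (g₀ : G), g₀⁻¹ * x ^ k * g₀ ∈ (S : Subgroup G) → g₀⁻¹ * x ^ k * g₀ = x ^ k := by
    intro k g₀ _
    rw [Subgroup.mem_center_iff.1 (pow_mem (hcent hxM) k) g₀⁻¹, mul_assoc, inv_mul_cancel, mul_one]
  rw [MonoidHom.transfer_eq_pow φ x h2] at h1
  have hxi : x ^ (S : Subgroup G).index ∈ Q := by
    have := (QuotientGroup.eq_one_iff _).1 h1
    exact this
  have hxk : x ^ (S : Subgroup G).index = 1 :=
    Subgroup.mem_bot.1 (hQM ▸ ⟨hxi, pow_mem hxM _⟩)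
  obtain ⟨k, hk⟩ := S.2 ⟨x, hxS⟩
  have hd1 : orderOf x ∣ p ^ k := orderOf_dvd_of_pow_eq_one (congrArg Subtype.val hk)
  have hd2 : orderOf x ∣ (S : Subgroup G).index := orderOf_dvd_of_pow_eq_one hxk
  have hco : (p ^ k).Coprime (S : Subgroup G).index :=
    ((hp.out.coprime_iff_not_dvd).2 S.not_dvd_index).pow_left k
  exact hxQ (by rw [orderOf_eq_one_iff.1 (Nat.eq_one_of_dvd_coprimes hco hd1 hd2)]; exact one_mem _)

end CfsgLib.LocalEven
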