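import Cfsg.Prelude.Def_SylowChains
import Cfsg.Agent.Lib.LocalEven.Basic
import Mathlib.Logic.Relation

/-!
Chains of Sylow subgroups linked through the members of a family of subgroups
(control of Sylow intersections), in the reflexive-transitive-closure form.
-/

namespace CfsgLib.LocalEven.SylowControl

open Subgroup

variable {G : Type*} [Group G] {p : ℕ}

/-- One step of a chain: some `X` in the family meets `U` and `V` in Sylow subgroups of itself,
contains an `x` with `V ^ x = U`, and `D ≤ V ∩ X`. -/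
def Step (p : ℕ) (𝓕 : Set (Subgroup G)) (D : Subgroup G) (U V : Sylow p G) : Prop :=
  ∃ (X : Subgroup G) (x : G), X ∈ Cfsg.sylowMembers p 𝓕 (U : Subgroup G) ∧
    X ∈ Cfsg.sylowMembers p 𝓕 (V : Subgroup G) ∧ x ∈ X ∧
    Cfsg.subgroupConjRight x (V : Subgroup G) = (U : Subgroup G) ∧ D ≤ (V : Subgroup G) ⊓ X

/-- A chain. -/
def Chain (p : ℕ) (𝓕 : Set (Subgroup G)) (D : Subgroup G) : Sylow p G → Sylow p G → Prop :=
  Relation.ReflTransGen (Step p 𝓕 D)

theorem Chain.mono {𝓕 : Set (Subgroup G)} {D D' : Subgroup G} (hD : D ≤ D') {U V : Sylow p G}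
    (h : Chain p 𝓕 D' U V) : Chain p 𝓕 D U V := by
  induction h with
  | refl => exact Relation.ReflTransGen.refl
  | tail _ hs ih =>
    obtain ⟨X, x, h1, h2, h3, h4, h5⟩ := hs
    exact ih.tail ⟨X, x, h1, h2, h3, h4, hD.trans h5⟩

theorem smul_coe (g : G) (P : Sylow p G) :
    ((g • P : Sylow p G) : Subgroup G) = (P : Subgroup G).map (MulAut.conj g).toMonoidHom := rfl

theorem subgroupConjRight_smul (g : G) (P : Sylow p G) :
    Cfsg.subgroupConjRight g ((g • P : Sylow p G) : Subgroup G) = (P : Subgroup G) := by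
  ext u
  simp only [Cfsg.subgroupConjRight, smul_coe, mem_map_conj]
  rw [show g⁻¹ * ((g⁻¹)⁻¹ * u * g⁻¹) * g = u by group]

theorem eq_smul_of_subgroupConjRight {g : G} {U V : Sylow p G}
    (h : Cfsg.subgroupConjRight g (V : Subgroup G) = (U : Subgroup G)) : V = g • U := by
  apply Sylow.ext
  ext u
  rw [smul_coe, ← h]
  simp only [Cfsg.subgroupConjRight, mem_map_conj]
  rw [show (g⁻¹)⁻¹ * (g⁻¹ * u * g) * g⁻¹ = u by group]

theorem mem_sylowMembers_map (g : G) {𝓕 : Set (Subgroup G)} (h𝓕 : Cfsg.IsNormalSet 𝓕) [Finite G]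
    [Fact p.Prime] {X S : Subgroup G} (hX : X ∈ Cfsg.sylowMembers p 𝓕 S) :
    X.map (MulAut.conj g).toMonoidHom ∈
      Cfsg.sylowMembers p 𝓕 (S.map (MulAut.conj g).toMonoidHom) := by
  obtain ⟨hXF, P, hP⟩ := hX
  refine ⟨?_, ?_⟩
  · have := h𝓕 X hXF g⁻¹
    rwa [Cfsg.subgroupConjRight, inv_inv] at this
  set e := X.equivMapOfInjective (MulAut.conj g).toMonoidHom (MulAut.conj g).injective with he
  refine ⟨P.mapSurjective (f := e.toMonoidHom) e.surjective, ?_⟩
  rw [← Subgroup.map_inf _ _ _ (MulAut.conj g).injective, ← hP, Subgroup.map_map]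
  show ((P : Subgroup ↥X).map e.toMonoidHom).map _ = _
  rw [Subgroup.map_map]
  rfl

theorem mem_sylowMembers_smul (g : G) {𝓕 : Set (Subgroup G)} (h𝓕 : Cfsg.IsNormalSet 𝓕) [Finite G]
    [Fact p.Prime] {X : Subgroup G} {S : Sylow p G} (hX : X ∈ Cfsg.sylowMembers p 𝓕 (S : Subgroup G)) :
    X.map (MulAut.conj g).toMonoidHom ∈
      Cfsg.sylowMembers p 𝓕 ((g • S : Sylow p G) : Subgroup G) :=
  mem_sylowMembers_map g h𝓕 hX

theorem Step.smul [Finite G] [Fact p.Prime] (g : G) {𝓕 : Set (Subgroup G)}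
    (h𝓕 : Cfsg.IsNormalSet 𝓕) {D : Subgroup G} {U V : Sylow p G} (h : Step p 𝓕 D U V) :
    Step p 𝓕 (D.map (MulAut.conj g).toMonoidHom) (g • U) (g • V) := by
  obtain ⟨X, x, h1, h2, h3, h4, h5⟩ := h
  refine ⟨_, g * x * g⁻¹, mem_sylowMembers_smul g h𝓕 h1, mem_sylowMembers_smul g h𝓕 h2,
    conj_mem_map_conj h3, ?_, le_inf ((Subgroup.map_mono (h5.trans inf_le_left)).trans le_rfl)
      (Subgroup.map_mono (h5.trans inf_le_right))⟩
  have e : g • x • U = (g * x * g⁻¹) • g • U := by rw [← mul_smul, ← mul_smul]; congr 1; group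
  rw [eq_smul_of_subgroupConjRight h4, e, subgroupConjRight_smul]

theorem Chain.smul [Finite G] [Fact p.Prime] (g : G) {𝓕 : Set (Subgroup G)}
    (h𝓕 : Cfsg.IsNormalSet 𝓕) {D : Subgroup G} {U V : Sylow p G} (h : Chain p 𝓕 D U V) :
    Chain p 𝓕 (D.map (MulAut.conj g).toMonoidHom) (g • U) (g • V) := by
  induction h with
  | refl => exact Relation.ReflTransGen.refl
  | tail _ hs ih => exact ih.tail (hs.smul g h𝓕)

theorem Chain.exists_fin {𝓕 : Set (Subgroup G)} {D : Subgroup G} {U V : Sylow p G}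
    (h : Chain p 𝓕 D U V) :
    ∃ (n : ℕ) (c : Fin (n + 1) → Sylow p G) (X : Fin n → Subgroup G) (x : Fin n → G),
      c 0 = U ∧ c (Fin.last n) = V ∧
      ∀ i : Fin n,
        X i ∈ Cfsg.sylowMembers p 𝓕 (c i.castSucc : Subgroup G) ∧
        X i ∈ Cfsg.sylowMembers p 𝓕 (c i.succ : Subgroup G) ∧
        x i ∈ X i ∧ Cfsg.subgroupConjRight (x i) (c i.succ : Subgroup G) = (c i.castSucc : Subgroup G) ∧
        D ≤ (c i.succ : Subgroup G) ⊓ X i := by
  induction h with
  | refl => exact ⟨0, fun _ => U, fun i => i.elim0, fun i => i.elim0, rfl, rfl, fun i => i.elim0⟩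
  | @tail W W' _ hs ih =>
    obtain ⟨n, c, X, x, h0, hn, hc⟩ := ih
    obtain ⟨Y, y, hy⟩ := hs
    refine ⟨n + 1, Fin.snoc c W', Fin.snoc X Y, Fin.snoc x y, ?_, Fin.snoc_last _ _, ?_⟩
    · rw [← Fin.castSucc_zero, Fin.snoc_castSucc, h0]
    · refine Fin.lastCases ?_ (fun i => ?_)
      · rw [Fin.snoc_last, Fin.snoc_last, Fin.snoc_castSucc, Fin.succ_last, Fin.snoc_last, hn]
        exact hy
      · rw [Fin.snoc_castSucc, Fin.snoc_castSucc, Fin.snoc_castSucc, ← Fin.castSucc_succ,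
          Fin.snoc_castSucc]
        exact hc i

theorem chain_of_fin {𝓕 : Set (Subgroup G)} {D : Subgroup G} {n : ℕ}
    (c : Fin (n + 1) → Sylow p G) (X : Fin n → Subgroup G) (x : Fin n → G)
    (h : ∀ i : Fin n,
        X i ∈ Cfsg.sylowMembers p 𝓕 (c i.castSucc : Subgroup G) ∧
        X i ∈ Cfsg.sylowMembers p 𝓕 (c i.succ : Subgroup G) ∧
        x i ∈ X i ∧ Cfsg.subgroupConjRight (x i) (c i.succ : Subgroup G) = (c i.castSucc : Subgroup G) ∧
        D ≤ (c i.succ : Subgroup G) ⊓ X i) : ∀ i, Chain p 𝓕 D (c 0) (c i) := by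
  intro i
  induction i using Fin.induction with
  | zero => exact Relation.ReflTransGen.refl
  | succ i ih => exact Relation.ReflTransGen.tail ih ⟨X i, x i, h i⟩

theorem controls_iff {𝓕 : Set (Subgroup G)} :
    Cfsg.ControlsSylowIntersections p 𝓕 ↔ ∀ S T : Sylow p G, S ≠ T →
      (S : Subgroup G) ⊓ (T : Subgroup G) ≠ ⊥ →
        Chain p 𝓕 ((S : Subgroup G) ⊓ (T : Subgroup G)) S T := by
  constructor
  · intro h S T hST hD
    obtain ⟨n, c, X, x, h0, hn, hc⟩ := h S T hST hD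
    have := chain_of_fin c X x hc (Fin.last n)
    rwa [h0, hn] at this
  · exact fun h S T hST hD => (h S T hST hD).exists_fin

/-- Chains for every common subgroup of two Sylow subgroups. -/
theorem chain_of_controls {𝓕 : Set (Subgroup G)} (h : Cfsg.ControlsSylowIntersections p 𝓕)
    {D : Subgroup G} (hD : D ≠ ⊥) {S T : Sylow p G} (hS : D ≤ (S : Subgroup G))
    (hT : D ≤ (T : Subgroup G)) : Chain p 𝓕 D S T := by
  by_cases hST : S = T
  · subst hST; exact Relation.ReflTransGen.refl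
  · exact (controls_iff.1 h S T hST (fun e => hD (le_bot_iff.1 (e ▸ le_inf hS hT)))).mono
      (le_inf hS hT)

/-- A Sylow subgroup of `G` inside `X` meets `X` in a Sylow subgroup. -/
theorem mem_sylowMembers_of_le {𝓕 : Set (Subgroup G)} {X : Subgroup G} (hX : X ∈ 𝓕)
    {S : Sylow p G} (hS : (S : Subgroup G) ≤ X) :
    X ∈ Cfsg.sylowMembers p 𝓕 (S : Subgroup G) :=
  ⟨hX, S.subtype hS, by rw [Sylow.coe_subtype, Subgroup.subgroupOf_map_subtype]⟩

/-- If `S ∩ X` is Sylow in `X` and `X` contains a Sylow subgroup of `G`, then `S ≤ X`. -/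
theorem le_of_mem_sylowMembers [Finite G] [Fact p.Prime] {𝓕 : Set (Subgroup G)} {X : Subgroup G}
    {S S₀ : Sylow p G} (hX : X ∈ Cfsg.sylowMembers p 𝓕 (S : Subgroup G))
    (h₀ : (S₀ : Subgroup G) ≤ X) : (S : Subgroup G) ≤ X := by
  obtain ⟨-, P, hP⟩ := hX
  have h1 : Nat.card ↥((S : Subgroup G) ⊓ X) = Nat.card ↥(S : Subgroup G) := by
    rw [← hP, Subgroup.card_map_of_injective X.subtype_injective, P.card_eq_multiplicity,
      ← (S₀.subtype h₀).card_eq_multiplicity, Sylow.coe_subtype,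
      Nat.card_congr (Subgroup.subgroupOfEquivOfLe h₀).toEquiv, S₀.card_eq_multiplicity,
      ← S.card_eq_multiplicity]
  exact inf_eq_left.1 (Subgroup.eq_of_le_of_card_ge inf_le_left h1.ge)

/-- A Sylow subgroup of `M` and a Sylow subgroup of `G` above it. -/
theorem exists_sylow_above [Finite G] [Fact p.Prime] {M Q : Subgroup G} (hQM : Q ≤ M)
    (hQ : IsPGroup p ↥Q) :
    ∃ (P : Sylow p ↥M) (U : Sylow p G), Q ≤ (P : Subgroup ↥M).map M.subtype ∧
      (P : Subgroup ↥M).map M.subtype ≤ (U : Subgroup G) := by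
  obtain ⟨P, hP⟩ := (hQ.of_equiv (Subgroup.subgroupOfEquivOfLe hQM).symm).exists_le_sylow
  obtain ⟨U, hU⟩ := (P.2.map M.subtype).exists_le_sylow
  exact ⟨P, U, fun u hu => ⟨⟨u, hQM hu⟩, hP hu, rfl⟩, hU⟩

theorem inf_eq_of_map_le {M : Subgroup G} {P : Sylow p ↥M} {U : Sylow p G}
    (h : (P : Subgroup ↥M).map M.subtype ≤ (U : Subgroup G)) :
    (P : Subgroup ↥M).map M.subtype = (U : Subgroup G) ⊓ M := by
  refine le_antisymm (le_inf h (Subgroup.map_subtype_le _)) fun u hu => ?_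
  have hle : (P : Subgroup ↥M) ≤ (U : Subgroup G).subgroupOf M := fun v hv => h ⟨v, hv, rfl⟩
  have := P.is_maximal' (U.2.comap_subtype (K := M)) hle
  exact ⟨⟨u, hu.2⟩, this.le hu.1, rfl⟩

theorem card_map_sylow [Finite G] [Fact p.Prime] {M : Subgroup G} (P Q : Sylow p ↥M) :
    Nat.card ↥((P : Subgroup ↥M).map M.subtype) = Nat.card ↥((Q : Subgroup ↥M).map M.subtype) := by
  rw [Subgroup.card_map_of_injective M.subtype_injective,
    Subgroup.card_map_of_injective M.subtype_injective, P.card_eq_multiplicity,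
    Q.card_eq_multiplicity]

end CfsgLib.LocalEven.SylowControl
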