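import Cfsg.Agent.Lib.LocalEven.SylowControl

/-!
The families induced by a normalizer functor.
-/

namespace CfsgLib.LocalEven.SylowControl

open Subgroup

variable {G : Type*} [Group G] {p : ℕ} {f : Subgroup G → Set (Subgroup G)}

theorem top_mapped (P : Sylow p ↥(⊤ : Subgroup G)) [Finite G] [Fact p.Prime] :
    ∃ U : Sylow p G, (U : Subgroup G) = (P : Subgroup ↥(⊤ : Subgroup G)).map (⊤ : Subgroup G).subtype ∧
      U.subtype (le_top : (U : Subgroup G) ≤ ⊤) = P := by
  obtain ⟨U, hU⟩ := (P.2.map (⊤ : Subgroup G).subtype).exists_le_sylow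
  have h := inf_eq_of_map_le hU
  rw [inf_top_eq] at h
  refine ⟨U, h.symm, Sylow.ext ?_⟩
  rw [Sylow.coe_subtype, ← h]
  exact Subgroup.comap_map_eq_self_of_injective (⊤ : Subgroup G).subtype_injective _

theorem mem_functorFamily_top [Finite G] [Fact p.Prime] (U : Sylow p G) {F : Subgroup G}
    (hF : F ∈ f (U : Subgroup G)) :
    Subgroup.normalizer (F : Set G) ∈ Cfsg.functorFamily p f ⊤ := by
  refine ⟨U.subtype le_top, F, ?_, (top_inf_eq _).symm⟩
  rw [Sylow.coe_subtype, Subgroup.subgroupOf_map_subtype, inf_top_eq]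
  exact hF

theorem exists_of_functorFamily_top [Finite G] [Fact p.Prime] {X : Subgroup G}
    (hX : X ∈ Cfsg.functorFamily p f ⊤) :
    ∃ (U : Sylow p G) (F : Subgroup G), F ∈ f (U : Subgroup G) ∧
      X = Subgroup.normalizer (F : Set G) := by
  obtain ⟨P, F, hF, rfl⟩ := hX
  obtain ⟨U, hU, -⟩ := top_mapped P
  exact ⟨U, F, hU ▸ hF, top_inf_eq _⟩

theorem map_normalizer_conj (g : G) (F : Subgroup G) :
    (Subgroup.normalizer (F : Set G)).map (MulAut.conj g).toMonoidHom =
      Subgroup.normalizer ((F.map (MulAut.conj g).toMonoidHom : Subgroup G) : Set G) :=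
  Subgroup.map_equiv_normalizer_eq F (MulAut.conj g)

theorem functorFamily_top_isNormalSet [Finite G] [Fact p.Prime] (hf : Cfsg.IsNormalizerFunctor p f) :
    Cfsg.IsNormalSet (Cfsg.functorFamily p f ⊤) := by
  intro X hX g
  obtain ⟨U, F, hF, rfl⟩ := exists_of_functorFamily_top hX
  rw [Cfsg.subgroupConjRight, map_normalizer_conj]
  refine mem_functorFamily_top (g⁻¹ • U) ?_
  rw [smul_coe, (hf _ U.2).2]
  exact ⟨F, hF, rfl⟩

theorem normalizer_le_of_mem (hf : Cfsg.IsNormalizerFunctor p f) {P F : Subgroup G}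
    (hP : IsPGroup p ↥P) (hF : F ∈ f P) :
    Subgroup.normalizer (P : Set G) ≤ Subgroup.normalizer (F : Set G) :=
  ((hf P hP).1 F hF).2

end CfsgLib.LocalEven.SylowControl
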