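import Cfsg.Agent.Lib.PGroup.Basic
import Cfsg.Agent.Lib.LocalEven.SubnormalSylow

/-!
A normal subgroup of order divisible by `p` meets the centre of a Sylow subgroup.
-/

set_option autoImplicit false

namespace CfsgLib.LocalEven

open Subgroup

variable {G : Type*} [Group G] {p : ℕ}

theorem exists_orderOf_inf_center_sylow [Finite G] [hp : Fact p.Prime] (T : Sylow p G) {K : Subgroup G}
    [K.Normal] (hK : p ∣ Nat.card K) :
    ∃ z ∈ K, z ∈ (T : Subgroup G) ∧ orderOf z = p ∧ ∀ t ∈ (T : Subgroup G), t * z = z * t := by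
  obtain ⟨Q, hQ⟩ := exists_sylow_eq_inf_of_isSubnormal T (K := K) (Subgroup.Normal.isSubnormal ‹_›)
  have hne : (K.subgroupOf (T : Subgroup G)) ≠ ⊥ := by
    intro h
    apply Q.ne_bot_of_dvd_card hK
    rw [hQ, Subgroup.subgroupOf_eq_bot]
    exact (Subgroup.subgroupOf_eq_bot.1 h).symm
  obtain ⟨⟨z, hz⟩, hzp⟩ : ∃ z : ↥(K.subgroupOf (T : Subgroup G) ⊓ center ↥(T : Subgroup G)), orderOf z = p := by
    obtain ⟨x, hx, hxp⟩ := CfsgLib.PGroup.exists_orderOf_eq T.2 (CfsgLib.PGroup.inf_center_ne_bot T.2 _ hne)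
    exact ⟨⟨x, hx⟩, by rwa [← Subgroup.orderOf_coe]⟩
  rw [Subgroup.orderOf_mk] at hzp
  refine ⟨(z : G), hz.1, z.2, by rwa [Subgroup.orderOf_coe], fun t ht => ?_⟩
  exact congrArg Subtype.val (Subgroup.mem_center_iff.1 hz.2 ⟨t, ht⟩)

end CfsgLib.LocalEven
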