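import Mathlib.GroupTheory.Transfer
import Mathlib.GroupTheory.QuotientGroup.Basic
import Mathlib.GroupTheory.SpecificGroups.Cyclic
import Cfsg.Agent.Lib.LocalEven.Basic

/-!
If `H` is normal in `M` with abelian quotient and `M` meets its other conjugates inside `H`, then the transfer
into `M / H` is surjective, so some normal subgroup meets `M` exactly in `H`.
-/

namespace CfsgLib.LocalEven

open Subgroup

variable {G : Type*} [Group G]

/-- `H` normal and maximal in `M` gives a commutative quotient. -/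
theorem quotient_comm_of_normal_coatom [Finite G] {H M : Subgroup G}
    [(H.subgroupOf M).Normal] (hmax : IsCoatom (H.subgroupOf M)) :
    ∀ a b : ↥M ⧸ H.subgroupOf M, a * b = b * a := by
  intro a b
  by_cases ha : a = 1
  · simp [ha]
  obtain ⟨a', rfl⟩ := QuotientGroup.mk'_surjective _ a
  have h1 : H.subgroupOf M ⊔ Subgroup.zpowers a' = ⊤ := by
    refine hmax.2 _ (lt_of_le_of_ne le_sup_left fun h => ha ?_)
    exact (QuotientGroup.eq_one_iff a').2 (h ▸ Subgroup.mem_sup_right (Subgroup.mem_zpowers a'))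
  have h2 := congrArg (Subgroup.map (QuotientGroup.mk' (H.subgroupOf M))) h1
  rw [Subgroup.map_sup, QuotientGroup.map_mk'_self, bot_sup_eq, MonoidHom.map_zpowers,
    Subgroup.map_top_of_surjective _ (QuotientGroup.mk'_surjective _)] at h2
  obtain ⟨n, rfl⟩ := Subgroup.mem_zpowers_iff.1 (h2 ▸ Subgroup.mem_top b)
  exact (Commute.refl _).zpow_right n

theorem exists_hom_of_inf_conj_le [Finite G] {H M : Subgroup G} (hHM : H ≤ M)
    [hn : (H.subgroupOf M).Normal]
    (hab : ∀ a b : ↥M ⧸ H.subgroupOf M, a * b = b * a)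
    (hti : ∀ g : G, g ∉ M → ∀ y ∈ M, g⁻¹ * y * g ∈ M → g⁻¹ * y * g ∈ H) :
    ∃ V : G →* ↥M ⧸ H.subgroupOf M, ∀ m : ↥M, V (m : G) = QuotientGroup.mk m := by
  classical
  letI : CommGroup (↥M ⧸ H.subgroupOf M) :=
    { (inferInstance : Group (↥M ⧸ H.subgroupOf M)) with mul_comm := hab }
  let φ : ↥M →* ↥M ⧸ H.subgroupOf M := QuotientGroup.mk' _
  refine ⟨MonoidHom.transfer φ, fun m => ?_⟩
  haveI : Fintype (Quotient (MulAction.orbitRel (Subgroup.zpowers (m : G)) (G ⧸ M))) :=
    Fintype.ofFinite _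
  rw [MonoidHom.transfer_eq_prod_quotient_orbitRel_zpowers_quot]
  set q₀ : Quotient (MulAction.orbitRel (Subgroup.zpowers (m : G)) (G ⧸ M)) :=
    Quotient.mk'' ((1 : G) : G ⧸ M) with hq₀
  have hfix : ∀ k : Subgroup.zpowers (m : G), k • ((1 : G) : G ⧸ M) = ((1 : G) : G ⧸ M) := by
    rintro ⟨k, hk⟩
    change ((k * 1 : G) : G ⧸ M) = ((1 : G) : G ⧸ M)
    rw [QuotientGroup.eq]
    simpa using Subgroup.zpowers_le.2 m.2 hk
  have hout : q₀.out = ((1 : G) : G ⧸ M) := by
    obtain ⟨k, hk⟩ : q₀.out ∈ MulAction.orbit (Subgroup.zpowers (m : G)) ((1 : G) : G ⧸ M) :=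
      Quotient.exact' (Quotient.out_eq' q₀)
    exact hk.symm.trans (hfix k)
  refine (Fintype.prod_eq_single q₀ ?_).trans ?_
  · intro q hq
    refine (QuotientGroup.eq_one_iff _).2 (Subgroup.mem_subgroupOf.2 ?_)
    refine hti _ ?_ _ ?_ (QuotientGroup.out_conj_pow_minimalPeriod_mem M (m : G) q.out)
    · intro hmem
      apply hq
      have h1 : q.out = ((1 : G) : G ⧸ M) := by
        rw [← QuotientGroup.out_eq' q.out, QuotientGroup.eq]
        simpa using M.inv_mem hmem
      rw [← Quotient.out_eq' q, h1]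
    · exact M.pow_mem m.2 _
  · have hmem : q₀.out.out ∈ M := by
      have h := QuotientGroup.out_eq' q₀.out
      rw [hout, QuotientGroup.eq] at h
      rw [hout]
      simpa using M.inv_mem h
    have hper : Function.minimalPeriod ((m : G) • ·) q₀.out = 1 := by
      rw [Function.minimalPeriod_eq_one_iff_isFixedPt, hout]
      exact hfix ⟨(m : G), Subgroup.mem_zpowers _⟩
    have e : (⟨q₀.out.out⁻¹ * (m : G) ^ Function.minimalPeriod ((m : G) • ·) q₀.out * q₀.out.out,
        M.mul_mem (M.mul_mem (M.inv_mem hmem) (M.pow_mem m.2 _)) hmem⟩ : ↥M) =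
        (⟨q₀.out.out, hmem⟩)⁻¹ * m * ⟨q₀.out.out, hmem⟩ := by
      apply Subtype.ext; simp [hper]
    refine (congrArg φ e).trans ?_
    rw [map_mul, map_mul, map_inv, mul_comm (φ ⟨q₀.out.out, hmem⟩)⁻¹, mul_assoc, inv_mul_cancel, mul_one]
    rfl

end CfsgLib.LocalEven
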