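import Cfsg.Agent.Lib.LocalEven.CoprimeGeneration
import Cfsg.Agent.Lib.LocalEven.SolvableOffender
import Cfsg.Agent.Lib.Cores.Fitting
import Cfsg.Agent.Lib.Solvable.Fitting

/-!
Solvable automorphism groups of an elementary abelian 2-group `U`: offenders are generated by
transvections, and every transvection inverts a rotation of a four-group; rotations in a 3-group commute.
-/

set_option autoImplicit false

namespace CfsgLib.LocalEven.Trv

open Subgroup

variable {U : Type*} [CommGroup U]

/-- `u ↦ u^x · u`. -/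
def mv (x : MulAut U) : U →* U where
  toFun u := x u * u
  map_one' := by simp
  map_mul' u v := by rw [map_mul, mul_mul_mul_comm]

theorem mv_apply (x : MulAut U) (u : U) : mv x u = x u * u := rfl

/-- The fixed points of a group of automorphisms. -/
def fixSub (A : Subgroup (MulAut U)) : Subgroup U where
  carrier := {u | ∀ a ∈ A, a u = u}
  one_mem' _ _ := map_one _
  mul_mem' hu hv a ha := by rw [map_mul, hu a ha, hv a ha]
  inv_mem' hu a ha := by rw [map_inv, hu a ha]

/-- A transvection. -/
def IsTrv (a : MulAut U) : Prop := a * a = 1 ∧ Nat.card ↥(mv a).range = 2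

/-- A rotation of a four-group. -/
def IsRot (d : MulAut U) : Prop := d ^ 3 = 1 ∧ Nat.card ↥(mv d).range = 4

theorem mul_left_self (hU : ∀ u : U, u * u = 1) (u v : U) : u * (u * v) = v := by
  rw [← mul_assoc, hU, one_mul]

theorem mul_right_self (hU : ∀ u : U, u * u = 1) (u v : U) : u * v * v = u := by
  rw [mul_assoc, hU, mul_one]

theorem mv_eq_one_iff (hU : ∀ u : U, u * u = 1) (x : MulAut U) (u : U) : mv x u = 1 ↔ x u = u := by
  rw [mv_apply, mul_eq_one_iff_eq_inv, inv_eq_of_mul_eq_one_right (hU u)]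

theorem apply_eq (hU : ∀ u : U, u * u = 1) (x : MulAut U) (u : U) : x u = mv x u * u := by
  rw [mv_apply, mul_right_self hU]

theorem card_range_mul (x : MulAut U) :
    Nat.card ↥(mv x).range * Nat.card ↥(mv x).ker = Nat.card U := by
  rw [← Nat.card_congr (QuotientGroup.quotientKerEquivRange (mv x)).toEquiv,
    ← card_eq_card_quotient_mul_card_subgroup]

theorem range_conj (x y : MulAut U) :
    (mv (y * x * y⁻¹)).range = (mv x).range.map y.toMonoidHom := by
  ext u
  constructor
  · rintro ⟨v, rfl⟩
    exact ⟨mv x (y⁻¹ v), ⟨_, rfl⟩, by simp [mv_apply]⟩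
  · rintro ⟨_, ⟨v, rfl⟩, rfl⟩
    exact ⟨y v, by simp [mv_apply]⟩

theorem eq_one_of_range_fixed [Finite U] (hU : ∀ u : U, u * u = 1) {x : MulAut U} (hx : Odd (orderOf x))
    (h : ∀ w ∈ (mv x).range, x w = w) : x = 1 := by
  have h2 : x ^ 2 = 1 := by
    ext u
    rw [pow_two, MulAut.mul_apply, MulAut.one_apply, apply_eq hU x u, map_mul, h _ ⟨u, rfl⟩,
      apply_eq hU x u, mul_left_self hU]
  rw [← orderOf_eq_one_iff]
  exact Nat.eq_one_of_dvd_coprimes (Nat.coprime_two_left.2 hx) (orderOf_dvd_of_pow_eq_one h2) dvd_rfl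

theorem eq_one_of_range_le [Finite U] (hU : ∀ u : U, u * u = 1) {x : MulAut U} (hx : Odd (orderOf x))
    (S : Subgroup U) (h1 : (mv x).range ≤ S) (h2 : ∀ w ∈ S, x w = w) : x = 1 :=
  eq_one_of_range_fixed hU hx fun w hw => h2 w (h1 hw)

theorem iterate_fixed {x : MulAut U} {w : U} (h : x w = w) (n : ℕ) : (x ^ n) w = w := by
  induction n with
  | zero => simp
  | succ n ih => rw [pow_succ, MulAut.mul_apply, h, ih]

theorem eq_one_of_fixed_mem_range (hU : ∀ u : U, u * u = 1) {x : MulAut U} {k : ℕ} (hk : Odd k)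
    (hx : x ^ k = 1) {w : U} (hw : w ∈ (mv x).range) (hfix : x w = w) : w = 1 := by
  obtain ⟨v, rfl⟩ := hw
  have h1 : ∀ n : ℕ, mv (x ^ n) v = if Even n then 1 else mv x v := by
    intro n
    induction n with
    | zero => simp [mv_apply, hU]
    | succ n ih =>
      have : mv (x ^ (n + 1)) v = mv x v * mv (x ^ n) v := by
        rw [mv_apply, pow_succ, MulAut.mul_apply, apply_eq hU x v, map_mul, iterate_fixed hfix,
          mul_assoc]
        rfl
      rw [this, ih]
      by_cases hn : Even n
      · rw [if_pos hn, mul_one, if_neg (by simp [Nat.even_add_one, hn])]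
      · rw [if_neg hn, hU, if_pos (by simp [Nat.even_add_one, hn])]
  have := h1 k
  rw [hx, if_neg (Nat.not_even_iff_odd.2 hk)] at this
  rw [← this, mv_apply, MulAut.one_apply, hU]

theorem IsRot.odd {d : MulAut U} (hd : IsRot d) : Odd (orderOf d) := by
  rcases (Nat.dvd_prime Nat.prime_three).1 (orderOf_dvd_of_pow_eq_one hd.1) with h | h <;> rw [h]
  · exact odd_one
  · decide

theorem IsRot.eq_one_of_fixed (hU : ∀ u : U, u * u = 1) {d : MulAut U} (hd : IsRot d) {w : U}
    (hw : w ∈ (mv d).range) (hfix : d w = w) : w = 1 :=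
  eq_one_of_fixed_mem_range hU (k := 3) (by decide) hd.1 hw hfix

theorem apply_mem_range (x : MulAut U) {w : U} (hw : w ∈ (mv x).range) : x w ∈ (mv x).range := by
  obtain ⟨v, rfl⟩ := hw
  exact ⟨x v, by simp [mv_apply]⟩

theorem length_le_card [Finite U] {S : Subgroup U} (l : List U) (hl : l.Nodup) (h : ∀ x ∈ l, x ∈ S) :
    l.length ≤ Nat.card ↥S := by
  classical
  haveI := Fintype.ofFinite ↥S
  have h2 : (l.attach.map fun x => (⟨x.1, h x.1 x.2⟩ : ↥S)).Nodup :=
    (List.nodup_attach.2 hl).map fun a b e => Subtype.ext (congrArg (fun z : ↥S => (z : U)) e)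
  have := h2.length_le_card
  rw [List.length_map, List.length_attach, ← Nat.card_eq_fintype_card] at this
  exact this

theorem IsRot.conj {d : MulAut U} (hd : IsRot d) (y : MulAut U) : IsRot (y * d * y⁻¹) := by
  refine ⟨by rw [conj_pow, hd.1, mul_one, mul_inv_cancel], ?_⟩
  rw [range_conj, Nat.card_congr ((mv d).range.equivMapOfInjective y.toMonoidHom y.injective).toEquiv.symm]
  exact hd.2

/-- The elements of a four-group on which a rotation acts. -/
theorem IsRot.mem_cases [Finite U] (hU : ∀ u : U, u * u = 1) {d : MulAut U} (hd : IsRot d) {w v : U}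
    (hw : w ∈ (mv d).range) (hw1 : w ≠ 1) (hv : v ∈ (mv d).range) :
    v = 1 ∨ v = w ∨ v = d w ∨ v = d (d w) := by
  by_contra h
  simp only [not_or] at h
  obtain ⟨hv1, hvw, hvd, hvdd⟩ := h
  have hdw : d w ≠ w := fun e => hw1 (hd.eq_one_of_fixed hU hw e)
  have hdw1 : d w ≠ 1 := fun e => hw1 (d.injective (by rw [e, map_one]))
  have hddw1 : d (d w) ≠ 1 := fun e => hdw1 (d.injective (by rw [e, map_one]))
  have hddd : d (d w) ≠ d w := fun e => hdw (d.injective e)
  have hdd : d (d w) ≠ w := fun e => by
    have h3 : (d ^ 3) w = w := by rw [hd.1, MulAut.one_apply]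
    rw [pow_succ', pow_two, MulAut.mul_apply, MulAut.mul_apply, e] at h3
    exact hdw h3
  have hlen := length_le_card (S := (mv d).range) [1, w, d w, d (d w), v]
    (by simp [List.nodup_cons, Ne.symm hw1, Ne.symm hdw1, Ne.symm hddw1, Ne.symm hv1, Ne.symm hdw,
      Ne.symm hdd, Ne.symm hvw, Ne.symm hddd, Ne.symm hvd, Ne.symm hvdd])
    (by
      simp only [List.mem_cons, List.not_mem_nil, or_false]
      rintro z (rfl | rfl | rfl | rfl | rfl)
      exacts [one_mem _, hw, apply_mem_range d hw, apply_mem_range d (apply_mem_range d hw), hv])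
  rw [hd.2] at hlen
  simp only [List.length_cons, List.length_nil] at hlen
  omega

theorem IsRot.mem_zpowers_of_range_eq [Finite U] (hU : ∀ u : U, u * u = 1) {P : Subgroup (MulAut U)}
    (hP : Odd (Nat.card ↥P)) {x y : MulAut U} (hx : IsRot x) (hy : IsRot y) (hxP : x ∈ P) (hyP : y ∈ P)
    (h : (mv x).range = (mv y).range) : y ∈ zpowers x := by
  obtain ⟨w, hw, hw1⟩ : ∃ w ∈ (mv x).range, w ≠ 1 := by
    by_contra hcon
    push Not at hcon
    have := Subgroup.card_eq_one.2 (eq_bot_iff.2 fun w hw => by simpa using hcon w hw)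
    rw [hx.2] at this
    omega
  have hyw : y w ≠ w := fun e => hw1 (hy.eq_one_of_fixed hU (h ▸ hw) e)
  have hyw1 : y w ≠ 1 := fun e => hw1 (y.injective (by rw [e, map_one]))
  have hmem : ∀ {v : U}, v ∈ (mv x).range → y v ∈ (mv x).range := fun {v} hv =>
    h ▸ apply_mem_range y (h ▸ hv)
  have key : ∀ x' : MulAut U, IsRot x' → (mv x').range = (mv x).range → x' ∈ P → x' w = y w → y = x' := by
    intro x' hx' hx'r hx'P hw'
    have h2 : x' (x' w) = y (y w) := by
      rcases hx'.mem_cases hU (hx'r ▸ hw) hw1 (hx'r ▸ hmem (hmem hw)) with e | e | e | e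
      · exact absurd (y.injective (e.trans (map_one y).symm)) hyw1
      · exfalso
        have h3 : (y ^ 3) w = w := by rw [hy.1, MulAut.one_apply]
        rw [pow_succ', pow_two, MulAut.mul_apply, MulAut.mul_apply, e] at h3
        exact hyw h3
      · exact absurd (y.injective (e.trans hw')) hyw
      · exact e.symm
    have hall : ∀ v ∈ (mv x).range, x' v = y v := by
      intro v hv
      rcases hx'.mem_cases hU (hx'r ▸ hw) hw1 (hx'r ▸ hv) with rfl | rfl | rfl | rfl
      · rw [map_one, map_one]
      · exact hw'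
      · rw [h2, hw']
      · rw [show x' (x' (x' w)) = (x' ^ 3) w by rw [pow_succ', pow_two]; rfl, hx'.1, MulAut.one_apply,
          h2, show y (y (y w)) = (y ^ 3) w by rw [pow_succ', pow_two]; rfl, hy.1, MulAut.one_apply]
    have hz : y * x'⁻¹ = 1 := by
      refine eq_one_of_range_le hU ?_ ((mv x).range) ?_ ?_
      · exact hP.of_dvd_nat (Subgroup.orderOf_dvd_natCard _ (mul_mem hyP (inv_mem hx'P)))
      · rintro _ ⟨u, rfl⟩
        have e1 : mv (y * x'⁻¹) u = mv y (x'⁻¹ u) * mv x' (x'⁻¹ u) := by
          rw [mv_apply, mv_apply, mv_apply, MulAut.apply_inv_self, mul_mul_mul_comm,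
            mul_comm (x'⁻¹ u) (x'⁻¹ u), hU, mul_one, MulAut.mul_apply]
        rw [e1]
        exact mul_mem (h ▸ ⟨_, rfl⟩) (hx'r ▸ ⟨_, rfl⟩)
      · intro v hv
        have hv' : x'⁻¹ v ∈ (mv x).range := by
          have e : x'⁻¹ = x' * x' := by
            apply inv_eq_of_mul_eq_one_right
            rw [← mul_assoc, ← pow_three', hx'.1]
          rw [e, MulAut.mul_apply]
          exact hx'r ▸ apply_mem_range x' (apply_mem_range x' (hx'r ▸ hv))
        rw [MulAut.mul_apply, ← hall _ hv', MulAut.apply_inv_self]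
    exact mul_inv_eq_one.1 hz
  rcases hx.mem_cases hU hw hw1 (hmem hw) with e | e | e | e
  · exact absurd e hyw1
  · exact absurd e hyw
  · rw [key x hx rfl hxP e.symm]
    exact mem_zpowers x
  · have hsq : IsRot (x * x) := by
      refine ⟨by rw [← pow_two, ← pow_mul, mul_comm 2 3, pow_mul, hx.1, one_pow], ?_⟩
      suffices (mv (x * x)).range = (mv x).range by rw [this]; exact hx.2
      have e : ∀ u, mv (x * x) u = mv x (mv x u) := fun u => by
        simp only [mv_apply, map_mul, MulAut.mul_apply]
        rw [mul_assoc, mul_left_self hU]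
      apply le_antisymm
      · rintro _ ⟨u, rfl⟩
        exact ⟨mv x u, (e u).symm⟩
      · intro u hu
        have hinj : Function.Injective (fun v : ↥(mv x).range => (⟨mv x (v : U), ⟨_, rfl⟩⟩ : ↥(mv x).range)) := by
          intro v₁ v₂ hv
          have hv' : mv x ((v₁ : U) * v₂) = 1 := by
            rw [map_mul, show mv x (v₁ : U) = mv x (v₂ : U) from congrArg Subtype.val hv, hU]
          have := hx.eq_one_of_fixed hU (mul_mem v₁.2 v₂.2) ((mv_eq_one_iff hU _ _).1 hv')
          exact Subtype.ext (by rw [← mul_right_self hU (v₁ : U) v₂, this, one_mul])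
        obtain ⟨⟨v, ⟨u', rfl⟩⟩, hv⟩ := (Finite.injective_iff_surjective.1 hinj) ⟨u, hu⟩
        exact ⟨u', by rw [e]; exact congrArg Subtype.val hv⟩
    have hr : (mv (x * x)).range = (mv x).range := by
      apply Subgroup.eq_of_le_of_card_ge
      · rintro _ ⟨u, rfl⟩
        refine ⟨mv x u, ?_⟩
        simp only [mv_apply, map_mul, MulAut.mul_apply]
        rw [mul_assoc, mul_left_self hU]
      · rw [hsq.2, hx.2]
    rw [key (x * x) hsq hr (mul_mem hxP hxP) e.symm]
    exact mul_mem (mem_zpowers x) (mem_zpowers x)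

theorem IsRot.apply_eq_of_commute [Finite U] (hU : ∀ u : U, u * u = 1) {x y : MulAut U} (hx : IsRot x)
    (hy : IsRot y) (h : x * y = y * x) (hne : (mv x).range ≠ (mv y).range) :
    ∀ w ∈ (mv y).range, x w = w := by
  intro w hw
  by_contra hcon
  have hmv : mv x w ≠ 1 := fun e => hcon ((mv_eq_one_iff hU x w).1 e)
  have hxy : ∀ {v : U}, v ∈ (mv y).range → x v ∈ (mv y).range := by
    rintro v ⟨u, rfl⟩
    refine ⟨x u, ?_⟩
    rw [mv_apply, mv_apply, map_mul, ← MulAut.mul_apply, ← MulAut.mul_apply, h]
  have hm2 : mv x w ∈ (mv y).range := mul_mem (hxy hw) hw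
  refine hne ?_
  have key : ∀ v ∈ (mv y).range, v ∈ (mv x).range := by
    intro v hv
    have hm3 : y (mv x w) = mv x (y w) := by
      simp only [mv_apply, map_mul]
      rw [show y (x w) = (y * x) w from rfl, show y w = y w from rfl, show x (y w) = (x * y) w from rfl, h]
    rcases hy.mem_cases hU hm2 hmv hv with rfl | rfl | rfl | rfl
    · exact one_mem _
    · exact ⟨w, rfl⟩
    · exact ⟨y w, hm3.symm⟩
    · refine ⟨y (y w), ?_⟩
      rw [hm3]
      simp only [mv_apply, map_mul]
      rw [show y (x (y w)) = (y * x) (y w) from rfl, ← h]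
      rfl
  exact (Subgroup.eq_of_le_of_card_ge key (by rw [hx.2, hy.2])).symm

/-- Rotations in a 3-group commute. -/
theorem IsRot.commute [Finite U] (hU : ∀ u : U, u * u = 1) {P : Subgroup (MulAut U)} (hP : IsPGroup 3 ↥P)
    {x y : MulAut U} (hx : IsRot x) (hy : IsRot y) (hxP : x ∈ P) (hyP : y ∈ P) : x * y = y * x := by
  haveI : Fact (Nat.Prime 3) := ⟨Nat.prime_three⟩
  induction h : Nat.card ↥(closure ({x, y} : Set (MulAut U))) using Nat.strong_induction_on generalizing x y with
  | _ n ih =>
  subst h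
  by_contra hne
  set Q := closure ({x, y} : Set (MulAut U)) with hQ
  have hxQ : x ∈ Q := subset_closure (by simp)
  have hyQ : y ∈ Q := subset_closure (by simp)
  have hQP : Q ≤ P := (closure_le _).2 (by simp [Set.insert_subset_iff, hxP, hyP])
  have hQ3 : IsPGroup 3 ↥Q := hP.to_le hQP
  set x' := y * x * y⁻¹ with hx'
  have hlt : Nat.card ↥(closure ({x, x'} : Set (MulAut U))) < Nat.card ↥Q := by
    haveI : Group.IsNilpotent ↥Q := hQ3.isNilpotent
    haveI : Finite ↥Q := inferInstance
    rcases eq_top_or_exists_le_coatom (zpowers (⟨x, hxQ⟩ : ↥Q)) with htop | ⟨M, hM, hle⟩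
    · exfalso
      apply hne
      have : (⟨y, hyQ⟩ : ↥Q) ∈ zpowers (⟨x, hxQ⟩ : ↥Q) := htop ▸ mem_top _
      obtain ⟨i, hi⟩ := mem_zpowers_iff.1 this
      have hi' : x ^ i = y := by simpa using congrArg Subtype.val hi
      rw [← hi']
      exact (Commute.self_zpow x i)
    · haveI : M.Normal := NormalizerCondition.normal_of_coatom M normalizerCondition_of_isNilpotent hM
      have hxM : (⟨x, hxQ⟩ : ↥Q) ∈ M := hle (mem_zpowers _)
      have hx'M : (⟨y, hyQ⟩ * ⟨x, hxQ⟩ * (⟨y, hyQ⟩ : ↥Q)⁻¹) ∈ M :=
        Subgroup.Normal.conj_mem inferInstance _ hxM _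
      have hle' : closure ({x, x'} : Set (MulAut U)) ≤ M.map Q.subtype := by
        rw [closure_le]
        simp only [Set.insert_subset_iff, Set.singleton_subset_iff]
        exact ⟨⟨_, hxM, rfl⟩, ⟨_, hx'M, by simp [x']⟩⟩
      refine lt_of_le_of_lt (Subgroup.card_le_of_le hle') ?_
      rw [Subgroup.card_map_of_injective Q.subtype_injective]
      exact lt_of_le_of_ne (Subgroup.card_le_card_group M) fun e => hM.1 (Subgroup.eq_top_of_card_eq M e)
  have hodd : Odd (Nat.card ↥P) := by
    obtain ⟨k, hk⟩ := IsPGroup.iff_card.1 hP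
    rw [hk]
    exact Odd.pow (by decide)
  have hx'r : IsRot x' := hx.conj y
  have hx'P : x' ∈ P := mul_mem (mul_mem hyP hxP) (inv_mem hyP)
  have hc : x * x' = x' * x := ih _ hlt hx hx'r hxP hx'P rfl
  by_cases hr : (mv x).range = (mv x').range
  · obtain ⟨i, hi⟩ := mem_zpowers_iff.1 (IsRot.mem_zpowers_of_range_eq hU hodd hx hx'r hxP hx'P hr)
    have hi3 : x' = x ∨ x' = x * x := by
      have h3 : x ^ (3 : ℤ) = 1 := by exact_mod_cast hx.1
      have : x ^ i = x ^ (i % 3) := zpow_eq_zpow_emod i h3
      have hcases : i % 3 = 0 ∨ i % 3 = 1 ∨ i % 3 = 2 := by omega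
      rcases hcases with e | e | e <;> rw [e, ← hi.symm] at this
      · exfalso
        rw [zpow_zero] at this
        have hx1 : x' = 1 := this
        have := hx'r.2
        rw [hx1] at this
        have hb : (mv (1 : MulAut U)).range = ⊥ := by
          rw [MonoidHom.range_eq_bot_iff]
          ext u
          simp [mv_apply, hU]
        rw [hb, Subgroup.card_bot] at this
        omega
      · left; simpa using this
      · right; rw [this, zpow_two]
    rcases hi3 with e | e
    · apply hne
      have : y * x = x * y := by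
        calc y * x = (y * x * y⁻¹) * y := by group
          _ = x * y := by rw [← hx', e]
      exact this.symm
    · -- `y` inverts `x`, impossible for an element of order 3
      apply hne
      have e1 : MulAut.conj y x = x * x := e
      have e2 : MulAut.conj y (MulAut.conj y x) = x := by
        rw [e1, map_mul, e1, ← mul_assoc, ← pow_three', hx.1, one_mul]
      have e3 : MulAut.conj y (MulAut.conj y (MulAut.conj y x)) = x := by
        rw [← MulAut.mul_apply, ← MulAut.mul_apply, ← map_mul, ← map_mul, ← pow_three', hy.1, map_one,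
          MulAut.one_apply]
      rw [e2, e1] at e3
      have : x = 1 := by simpa using e3
      subst this
      simp
  · set x'' := y * x' * y⁻¹ with hx''
    have hx''r : IsRot x'' := hx'r.conj y
    have hc' : x' * x'' = x'' * x' := by
      simpa [x', x''] using congrArg (MulAut.conj y) hc
    have hc'' : x'' * (y * x'' * y⁻¹) = (y * x'' * y⁻¹) * x'' := by
      simpa [x', x''] using congrArg (MulAut.conj y) hc'
    have hy3 : y * x'' * y⁻¹ = x := by
      have : MulAut.conj (y ^ 3) x = x := by rw [hy.1, map_one, MulAut.one_apply]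
      rw [pow_succ', pow_two, map_mul, map_mul] at this
      simpa [x', x''] using this
    rw [hy3] at hc''
    have hr' : ∀ v w : MulAut U, (mv v).range = (mv w).range →
        (mv (y * v * y⁻¹)).range = (mv (y * w * y⁻¹)).range := fun v w e => by
      rw [range_conj, range_conj, e]
    have hr2 : (mv x').range ≠ (mv x'').range := by
      intro e
      have := hr' _ _ (hr' _ _ e)
      rw [← hx'', hy3] at this
      exact hr (by rw [this, ← hx'])
    have hr3 : (mv x'').range ≠ (mv x).range := by
      intro e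
      have := hr' _ _ e
      rw [hy3, ← hx'] at this
      exact hr this
    have f1 := hx.apply_eq_of_commute hU hx'r hc hr
    have f2 := hx.apply_eq_of_commute hU hx''r hc''.symm (Ne.symm hr3)
    have f3 := hx''r.apply_eq_of_commute hU hx hc'' hr3
    have f4 := hx''r.apply_eq_of_commute hU hx'r hc'.symm (Ne.symm hr2)
    have hyW : ∀ w ∈ (mv x).range, y w ∈ (mv x').range := fun w hw => by
      rw [hx', range_conj]; exact ⟨w, hw, rfl⟩
    have hyW' : ∀ w ∈ (mv x').range, y w ∈ (mv x'').range := fun w hw => by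
      rw [hx'', range_conj]; exact ⟨w, hw, rfl⟩
    have hker : ∀ a ∈ (mv x).range, ∀ b ∈ (mv x).range, mv y (a * y b) = 1 → a = 1 ∧ b = 1 := by
      intro a haW b hbW h0
      have h1 : y a * y (y b) * (a * y b) = 1 := by rwa [mv_apply, map_mul] at h0
      constructor
      · have e := congrArg x h1
        rw [map_one, map_mul, map_mul, map_mul, f1 _ (hyW a haW), f1 _ (hyW b hbW),
          f2 _ (hyW' _ (hyW b hbW))] at e
        refine hx.eq_one_of_fixed hU haW ?_
        exact mul_right_cancel (mul_left_cancel (e.trans h1.symm))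
      · have e := congrArg x'' h1
        rw [map_one, map_mul, map_mul, map_mul, f3 _ haW, f4 _ (hyW a haW), f4 _ (hyW b hbW)] at e
        have h2 : x'' (y (y b)) = y (y b) :=
          mul_left_cancel (mul_right_cancel (e.trans h1.symm))
        have := hx''r.eq_one_of_fixed hU (hyW' _ (hyW b hbW)) h2
        rwa [map_eq_one_iff _ y.injective, map_eq_one_iff _ y.injective] at this
    have hinj : Function.Injective
        (fun p : ↥(mv x).range × ↥(mv x).range => (⟨mv y ((p.1 : U) * y (p.2 : U)), ⟨_, rfl⟩⟩ : ↥(mv y).range)) := by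
      intro p q hpq
      have he : mv y ((p.1 : U) * y (p.2 : U)) = mv y ((q.1 : U) * y (q.2 : U)) := congrArg Subtype.val hpq
      obtain ⟨h1, h2⟩ := hker _ (mul_mem p.1.2 q.1.2) _ (mul_mem p.2.2 q.2.2)
        (by rw [map_mul y, mul_mul_mul_comm, map_mul, he, hU])
      refine Prod.ext (Subtype.ext ?_) (Subtype.ext ?_)
      · rw [← mul_right_self hU (p.1 : U) (q.1 : U), h1, one_mul]
      · rw [← mul_right_self hU (p.2 : U) (q.2 : U), h2, one_mul]
    have := Nat.card_le_card_of_injective _ hinj
    rw [Nat.card_prod, hx.2, hy.2] at this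
    omega

/-- A product of two transvections of odd order `≠ 1` is a rotation. -/
theorem isRot_mul [Finite U] (hU : ∀ u : U, u * u = 1) {a b : MulAut U} (ha : IsTrv a) (hb : IsTrv b)
    (hodd : Odd (orderOf (a * b))) (hne : a * b ≠ 1) :
    IsRot (a * b) ∧ (mv a).range ≤ (mv (a * b)).range := by
  set e := a * b with he
  set S := (mv a).range ⊔ (mv b).range with hS
  have hle : (mv e).range ≤ S := by
    rintro _ ⟨u, rfl⟩
    have : mv e u = mv a (b u) * mv b u := by
      simp only [mv_apply, e, MulAut.mul_apply]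
      rw [mul_assoc, ← mul_assoc (b u), hU, one_mul]
    rw [this]
    exact Subgroup.mul_mem_sup ⟨_, rfl⟩ ⟨_, rfl⟩
  have hcard : Nat.card ↥S ≤ 4 := by
    have h := Nat.le_of_dvd (by rw [ha.2, hb.2]; norm_num)
      (CfsgLib.Cores.card_sup_dvd_mul (mv a).range (mv b).range)
    rw [ha.2, hb.2] at h
    exact h
  have hW4 : Nat.card ↥(mv e).range ≤ 4 := (Subgroup.card_le_of_le hle).trans hcard
  have hk := pow_orderOf_eq_one e
  obtain ⟨w, hw, hwne⟩ : ∃ w ∈ (mv e).range, e w ≠ w := by
    by_contra hcon
    push Not at hcon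
    exact hne (eq_one_of_range_fixed hU hodd hcon)
  have hfpf : ∀ v ∈ (mv e).range, e v = v → v = 1 := fun v hv hf =>
    eq_one_of_fixed_mem_range hU hodd hk hv hf
  have hw1 : w ≠ 1 := fun h => hwne (by rw [h, map_one])
  have hew1 : e w ≠ 1 := fun h => hw1 (e.injective (by rw [h, map_one]))
  have hee : e (e w) ≠ w := by
    intro h
    obtain ⟨m, hm⟩ := hodd
    have h2 : (e ^ (2 * m)) w = w := by
      rw [pow_mul]
      exact iterate_fixed (by rw [pow_two, MulAut.mul_apply, h]) m
    have : (e ^ (2 * m + 1)) w = e w := by rw [pow_succ', MulAut.mul_apply, h2]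
    rw [← hm, hk, MulAut.one_apply] at this
    exact hwne this.symm
  have hee2 : e (e w) ≠ e w := fun h => hwne (e.injective h)
  have hee1 : e (e w) ≠ 1 := fun h => hew1 (e.injective (by rw [h, map_one]))
  have h4 : Nat.card ↥(mv e).range = 4 := by
    have := length_le_card (S := (mv e).range) [1, w, e w, e (e w)]
      (by simp [List.nodup_cons, Ne.symm hw1, Ne.symm hew1, Ne.symm hee1, Ne.symm hwne, Ne.symm hee,
        Ne.symm hee2])
      (by
        simp only [List.mem_cons, List.not_mem_nil, or_false]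
        rintro z (rfl | rfl | rfl | rfl)
        exacts [one_mem _, hw, apply_mem_range e hw, apply_mem_range e (apply_mem_range e hw)])
    simp only [List.length_cons, List.length_nil] at this
    omega
  have hcases : ∀ v ∈ (mv e).range, v = 1 ∨ v = w ∨ v = e w ∨ v = e (e w) := by
    intro v hv
    by_contra hc
    simp only [not_or] at hc
    obtain ⟨c1, c2, c3, c4⟩ := hc
    have := length_le_card (S := (mv e).range) [1, w, e w, e (e w), v]
      (by simp [List.nodup_cons, Ne.symm hw1, Ne.symm hew1, Ne.symm hee1, Ne.symm hwne, Ne.symm hee,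
        Ne.symm hee2, Ne.symm c1, Ne.symm c2, Ne.symm c3, Ne.symm c4])
      (by
        simp only [List.mem_cons, List.not_mem_nil, or_false]
        rintro z (rfl | rfl | rfl | rfl | rfl)
        exacts [one_mem _, hw, apply_mem_range e hw, apply_mem_range e (apply_mem_range e hw), hv])
    simp only [List.length_cons, List.length_nil] at this
    omega
  have h3w : e (e (e w)) = w := by
    rcases hcases _ (apply_mem_range e (apply_mem_range e (apply_mem_range e hw))) with h | h | h | h
    · exact absurd (e.injective (h.trans (map_one e).symm)) hee1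
    · exact h
    · exact absurd (e.injective h) hee
    · exact absurd (e.injective h) hee2
  have hpow3 : ∀ v, (e ^ 3) v = e (e (e v)) := fun v => by rw [pow_succ', pow_two]; rfl
  have h3 : e ^ 3 = 1 := by
    refine eq_one_of_range_le hU (hodd.of_dvd_nat (orderOf_pow_dvd 3)) (mv e).range ?_ ?_
    · rintro _ ⟨u, rfl⟩
      have : mv (e ^ 3) u = mv e (e (e u)) * mv e (e u) * mv e u := by
        simp only [mv_apply, hpow3]
        rw [mul_assoc (e (e (e u))), ← mul_assoc (e (e u)), hU, one_mul,
          mul_assoc (e (e (e u))), ← mul_assoc (e u), hU, one_mul]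
      rw [this]
      exact mul_mem (mul_mem ⟨_, rfl⟩ ⟨_, rfl⟩) ⟨_, rfl⟩
    · intro v hv
      rcases hcases v hv with rfl | rfl | rfl | rfl
      · rw [map_one]
      · rw [hpow3, h3w]
      · rw [hpow3, h3w]
      · rw [hpow3, h3w]
  refine ⟨⟨h3, h4⟩, ?_⟩
  rw [Subgroup.eq_of_le_of_card_ge hle (by omega)]
  exact le_sup_left

end CfsgLib.LocalEven.Trv
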