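import Cfsg.Prelude.Def_Solvable
import Cfsg.Agent.Lib.LocalEven.Isolated
import Cfsg.Agent.Lib.Solvable.FrobeniusTheorem
import Mathlib.GroupTheory.SchurZassenhaus

/-!
An element of a Sylow `p`-subgroup `S` that is alone in its class inside `S` and centralises every
`p'`-subgroup it normalises is central.
-/

namespace CfsgLib.LocalEven

open Subgroup

universe u

theorem mem_center_of_unique_conjugate {p : ℕ} [hp : Fact p.Prime] :
    ∀ (n : ℕ) (G : Type u) [Group G] [Finite G], Nat.card G = n → ∀ (S : Sylow p G) (x : G),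
      x ∈ (S : Subgroup G) → (∀ g : G, g⁻¹ * x * g ∈ (S : Subgroup G) → g⁻¹ * x * g = x) →
      (∀ H : Subgroup G, (Nat.card H).Coprime p → (∀ h ∈ H, x * h * x⁻¹ ∈ H) →
        ∀ h ∈ H, x * h = h * x) → x ∈ Subgroup.center G := by
  intro n
  induction n using Nat.strong_induction_on with
  | _ n IH =>
  intro G _ _ hn S x hx hU hb
  set M := Subgroup.centralizer ({x} : Set G) with hM
  have hmM : ∀ y, y ∈ M ↔ y * x = x * y := fun y => Subgroup.mem_centralizer_singleton_iff
  have hSM : (S : Subgroup G) ≤ M := fun s hs => by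
    have := hU s (mul_mem (mul_mem (inv_mem hs) hx) hs)
    rw [hmM]
    nth_rewrite 1 [← this]
    group
  have hxS : ∃ k, x ^ p ^ k = 1 := by
    obtain ⟨k, hk⟩ := S.2 ⟨x, hx⟩
    exact ⟨k, congrArg Subtype.val hk⟩
  have hpz : ∀ g : G, IsPGroup p ↥(Subgroup.zpowers (g * x * g⁻¹)) := fun g => by
    rw [← conj_zpowers]
    exact (S.2.to_le (Subgroup.zpowers_le.2 hx)).map _
  -- every subgroup containing `S` sees the conjugates of `x` through `S`
  have hcon : ∀ X : Subgroup G, (S : Subgroup G) ≤ X → ∀ g : G, g * x * g⁻¹ ∈ X →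
      ∃ c ∈ X, c * (g * x * g⁻¹) * c⁻¹ = x := by
    intro X hSX g hg
    obtain ⟨c, hc, R, hR, -, hSR, hxR⟩ := exists_conj_common_pGroup (p := p) hSX
      (Subgroup.zpowers_le.2 hg) S.2 (hpz g)
    obtain rfl := S.is_maximal' hR hSR
    rw [conj_zpowers, Subgroup.zpowers_le] at hxR
    refine ⟨c, hc, ?_⟩
    have e : c * (g * x * g⁻¹) * c⁻¹ = ((c * g)⁻¹)⁻¹ * x * (c * g)⁻¹ := by group
    rw [e] at hxR ⊢
    exact hU _ hxR
  have hiso : ∀ g : G, g * x * g⁻¹ ∈ M → g * x * g⁻¹ = x := by
    intro g hg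
    obtain ⟨c, hc, e⟩ := hcon M hSM g hg
    calc g * x * g⁻¹ = c⁻¹ * (c * (g * x * g⁻¹) * c⁻¹) * c := by group
      _ = c⁻¹ * (x * c) := by rw [e]; group
      _ = x := by rw [← (hmM c).1 hc, inv_mul_cancel_left]
  -- proper subgroups containing `x`
  have hproper : ∀ K : Subgroup G, x ∈ K → K ≠ ⊤ → K ≤ M := by
    intro K hxK hK
    obtain ⟨P, hP⟩ := ((S.2.to_le (Subgroup.zpowers_le.2 hx)).of_equiv
      (Subgroup.subgroupOfEquivOfLe (Subgroup.zpowers_le.2 hxK)).symm).exists_le_sylow
    obtain ⟨R, hR⟩ := (P.2.map K.subtype).exists_le_sylow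
    obtain ⟨c, rfl⟩ := MulAction.exists_smul_eq G S R
    have hxR : x ∈ ((c • S : Sylow p G) : Subgroup G) :=
      hR ⟨⟨x, hxK⟩, hP (Subgroup.mem_zpowers x : x ∈ Subgroup.zpowers x), rfl⟩
    have hcx := hU c (mem_map_conj.1 hxR)
    have hres := IH _ (hn ▸ lt_of_le_of_ne (Subgroup.card_le_card_group K)
      fun e => hK ((Subgroup.card_eq_iff_eq_top K).1 e)) ↥K rfl P ⟨x, hxK⟩
      (hP (Subgroup.mem_zpowers x : x ∈ Subgroup.zpowers x)) (fun g hg => by
        have h1 := hU ((g : G) * c) (by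
          have := mem_map_conj.1 (hR ⟨_, hg, rfl⟩)
          simpa [mul_assoc] using this)
        apply Subtype.ext
        show (g : G)⁻¹ * x * g = x
        calc (g : G)⁻¹ * x * g = c * (((g : G) * c)⁻¹ * x * ((g : G) * c)) * c⁻¹ := by group
          _ = c * (c⁻¹ * x * c) * c⁻¹ := by rw [h1, hcx]
          _ = x := by group) (fun H hH hn' h hh => by
        apply Subtype.ext
        refine hb (H.map K.subtype) (by rwa [Subgroup.card_map_of_injective K.subtype_injective]) ?_
          _ ⟨h, hh, rfl⟩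
        rintro _ ⟨u, hu, rfl⟩
        exact ⟨_, hn' u hu, rfl⟩)
    intro k hk
    rw [hmM]
    exact congrArg Subtype.val (Subgroup.mem_center_iff.1 hres ⟨k, hk⟩)
  by_contra hxZ
  have hMtop : M ≠ ⊤ := fun e => hxZ (Subgroup.mem_center_iff.2 fun g =>
    (hmM g).1 (e ▸ Subgroup.mem_top g))
  -- passing to quotients
  have hquot : ∀ (N : Subgroup G) [N.Normal], N ≠ ⊥ →
      (∀ g : G, ((g⁻¹ * x * g : G) : G ⧸ N) ∈ (S : Subgroup G).map (QuotientGroup.mk' N) →
        ((g⁻¹ * x * g : G) : G ⧸ N) = (x : G ⧸ N)) →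
      (∀ H : Subgroup (G ⧸ N), (Nat.card H).Coprime p →
        (∀ h ∈ H, (x : G ⧸ N) * h * (x : G ⧸ N)⁻¹ ∈ H) → ∀ h ∈ H, (x : G ⧸ N) * h = h * x) →
      ∀ g : G, g * x * g⁻¹ * x⁻¹ ∈ N := by
    intro N _ hN hU' hb' g
    have hres := IH _ (hn ▸ (by
      rw [Subgroup.card_eq_card_quotient_mul_card_subgroup N]
      exact lt_mul_of_one_lt_right Nat.card_pos (Subgroup.one_lt_card_iff_ne_bot N |>.2 hN) :
        Nat.card (G ⧸ N) < Nat.card G))
      (G ⧸ N) rfl (S.mapSurjective (f := QuotientGroup.mk' N) (QuotientGroup.mk'_surjective N))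
      (x : G ⧸ N) ⟨x, hx, rfl⟩ (by
        intro g'
        induction g' using QuotientGroup.induction_on with
        | H g => exact hU' g) hb'
    rw [← QuotientGroup.eq_one_iff]
    have := Subgroup.mem_center_iff.1 hres (g : G ⧸ N)
    simp only [QuotientGroup.mk_mul, QuotientGroup.mk_inv]
    rw [this]; group
  -- no normal `p'`-subgroups
  have hnoN : ∀ (N : Subgroup G) [N.Normal], (Nat.card N).Coprime p → N = ⊥ := by
    intro N _ hNp
    by_contra hN
    have hcent : ∀ z ∈ N, x * z = z * x := hb N hNp fun h hh => (inferInstance : N.Normal).conj_mem h hh x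
    refine hMtop (eq_top_iff.2 fun g _ => ?_)
    have hz := hquot N hN ?_ ?_ g
    · set z := g * x * g⁻¹ * x⁻¹ with hzdef
      obtain ⟨k, hk⟩ := hxS
      have hz1 : z ^ p ^ k = 1 := by
        have hc : Commute z x := (hcent z hz).symm
        have : (z * x) ^ p ^ k = 1 := by
          rw [show z * x = g * x * g⁻¹ by rw [hzdef]; group, conj_pow, hk, mul_one, mul_inv_cancel]
        rwa [hc.mul_pow, hk, mul_one] at this
      have : z = 1 := by
        have h1 : orderOf z ∣ p ^ k := orderOf_dvd_of_pow_eq_one hz1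
        have h2 : orderOf z ∣ Nat.card N := by
          rw [← Subgroup.orderOf_mk z hz]; exact orderOf_dvd_natCard _
        exact orderOf_eq_one_iff.1 (Nat.eq_one_of_dvd_coprimes (Nat.Coprime.pow_right k hNp) h2 h1)
      rw [hmM]
      rw [hzdef] at this
      exact mul_inv_eq_iff_eq_mul.1 (mul_inv_eq_one.1 this)
    · intro g hg
      obtain ⟨s, hs, hsg⟩ := hg
      have hmem : g⁻¹ * x * (g⁻¹)⁻¹ ∈ (S : Subgroup G) ⊔ N := by
        rw [inv_inv, Subgroup.mem_sup_of_normal_right]
        exact ⟨s, hs, s⁻¹ * (g⁻¹ * x * g), QuotientGroup.eq.1 hsg, by group⟩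
      obtain ⟨c, hc, e⟩ := hcon _ le_sup_left g⁻¹ hmem
      rw [inv_inv] at e
      obtain ⟨a, ha, b, hb2, rfl⟩ := Subgroup.mem_sup_of_normal_right.1 hc
      have e2 := congrArg (QuotientGroup.mk (s := N)) e
      rw [QuotientGroup.mk_mul, QuotientGroup.mk_mul, QuotientGroup.mk_inv, QuotientGroup.mk_mul,
        (QuotientGroup.eq_one_iff b).2 hb2, mul_one, mul_inv_eq_iff_eq_mul] at e2
      have e3 : (a : G ⧸ N) * (x : G ⧸ N) = (x : G ⧸ N) * (a : G ⧸ N) := by
        rw [← QuotientGroup.mk_mul, ← QuotientGroup.mk_mul, (hmM a).1 (hSM ha)]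
      rw [← e3] at e2
      exact mul_left_cancel e2
    · intro H hH hnorm h
      induction h using QuotientGroup.induction_on with
      | H a =>
      intro ha
      have hcard : (Nat.card ↥(H.comap (QuotientGroup.mk' N))).Coprime p := by
        have hNL : N ≤ H.comap (QuotientGroup.mk' N) := fun z hz =>
          show (z : G ⧸ N) ∈ H by rw [(QuotientGroup.eq_one_iff z).2 hz]; exact H.one_mem
        rw [Subgroup.card_eq_card_quotient_mul_card_subgroup
          (N.subgroupOf (H.comap (QuotientGroup.mk' N))),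
          Nat.card_congr (Subgroup.subgroupOfEquivOfLe hNL).toEquiv]
        refine Nat.Coprime.mul_left ?_ hNp
        let f : ↥(H.comap (QuotientGroup.mk' N)) →* ↥H :=
          ((QuotientGroup.mk' N).comp (H.comap (QuotientGroup.mk' N)).subtype).codRestrict H fun z => z.2
        have hker : f.ker = N.subgroupOf (H.comap (QuotientGroup.mk' N)) := by
          ext z
          rw [MonoidHom.mem_ker, Subgroup.mem_subgroupOf, ← QuotientGroup.eq_one_iff]
          exact ⟨fun e => congrArg Subtype.val e, fun e => Subtype.ext e⟩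
        rw [← hker, Nat.card_congr (QuotientGroup.quotientKerEquivRange f).toEquiv]
        exact Nat.Coprime.coprime_dvd_left (Subgroup.card_subgroup_dvd_card _) hH
      have := hb _ hcard (fun z hz => by
        have := hnorm _ hz
        simpa using this) a ha
      rw [← QuotientGroup.mk_mul, this, QuotientGroup.mk_mul]
  -- trivial centre
  have hZ : ∀ y : G, y ∈ Subgroup.center G → y = 1 := by
    intro y hy
    by_contra hy1
    obtain ⟨r, hr, hrd⟩ := Nat.exists_prime_and_dvd (mt orderOf_eq_one_iff.1 hy1)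
    haveI := Fact.mk hr
    set z := y ^ (orderOf y / r) with hz
    have hzr : orderOf z = r := orderOf_pow_orderOf_div (orderOf_pos y).ne' hrd
    have hzc : z ∈ Subgroup.center G := pow_mem hy _
    set N := Subgroup.zpowers z with hNdef
    have hNc : N ≤ Subgroup.center G := Subgroup.zpowers_le.2 hzc
    haveI : N.Normal := ⟨fun a ha g => by
      rwa [Subgroup.mem_center_iff.1 (hNc ha) g, mul_inv_cancel_right]⟩
    have hNcard : Nat.card N = r := by rw [Nat.card_zpowers, hzr]
    have hN : N ≠ ⊥ := fun e => hr.ne_one (by rw [← hNcard, e, Subgroup.card_bot])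
    by_cases hrp : r = p
    swap
    · exact hN (hnoN N (hNcard ▸ (Nat.coprime_primes hr hp.out).2 hrp))
    subst hrp
    have hNS : N ≤ (S : Subgroup G) := by
      have h2 : IsPGroup r ↥((S : Subgroup G) ⊔ N) :=
        S.2.to_sup_of_normal_right (IsPGroup.of_card (n := 1) (by rw [hNcard, pow_one]))
      exact le_sup_right.trans_eq (S.is_maximal' h2 le_sup_left)
    refine hMtop (eq_top_iff.2 fun g _ => ?_)
    have hz' := hquot N hN ?_ ?_ g
    · rw [hmM]
      refine mul_inv_eq_iff_eq_mul.1 (hiso g (hSM ?_))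
      have := mul_mem (hNS hz') hx
      simpa using this
    · intro g hg
      obtain ⟨s, hs, hsg⟩ := hg
      rw [hU g]
      have := mul_mem hs (hNS (QuotientGroup.eq.1 hsg))
      rwa [mul_inv_cancel_left] at this
    · intro H hH hnorm h
      induction h using QuotientGroup.induction_on with
      | H a =>
      intro ha
      set L := H.comap (QuotientGroup.mk' N) with hL
      have hNL : N ≤ L := fun w hw =>
        show (w : G ⧸ N) ∈ H by rw [(QuotientGroup.eq_one_iff w).2 hw]; exact H.one_mem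
      have hidx : (N.subgroupOf L).index = Nat.card H := by
        let f : ↥L →* ↥H := ((QuotientGroup.mk' N).comp L.subtype).codRestrict H fun z => z.2
        have hker : f.ker = N.subgroupOf L := by
          ext z
          rw [MonoidHom.mem_ker, Subgroup.mem_subgroupOf, ← QuotientGroup.eq_one_iff]
          exact ⟨fun e => congrArg Subtype.val e, fun e => Subtype.ext e⟩
        rw [← hker, Subgroup.index_ker]
        have hsurj : f.range = ⊤ := eq_top_iff.2 fun w _ => by
          obtain ⟨v, hv⟩ := QuotientGroup.mk'_surjective N (w : G ⧸ N)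
          exact ⟨⟨v, show QuotientGroup.mk' N v ∈ H by rw [hv]; exact w.2⟩, Subtype.ext hv⟩
        rw [hsurj, Subgroup.card_top]
      have hcop : (Nat.card ↥(N.subgroupOf L)).Coprime (N.subgroupOf L).index := by
        rw [hidx, Nat.card_congr (Subgroup.subgroupOfEquivOfLe hNL).toEquiv, hNcard]
        exact hH.symm
      obtain ⟨K, hK⟩ := Subgroup.exists_right_complement'_of_coprime hcop
      have hKcard : Nat.card K = Nat.card H := by
        rw [← hidx, hK.symm.index_eq_card]
      have hKx : ∀ k ∈ K, ∀ hk' : x * (k : G) * x⁻¹ ∈ L, (⟨_, hk'⟩ : ↥L) ∈ K := by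
        intro k hk hk'
        obtain ⟨⟨a', b'⟩, hab⟩ := hK.2 (⟨_, hk'⟩ : ↥L)
        have h1 : ((⟨_, hk'⟩ : ↥L)) ^ Nat.card K = 1 := by
          apply Subtype.ext
          show (x * (k : G) * x⁻¹) ^ Nat.card K = 1
          rw [conj_pow, show (k : G) ^ Nat.card K = 1 from congrArg Subtype.val
            (congrArg Subtype.val (pow_card_eq_one' (x := (⟨k, hk⟩ : ↥K)))), mul_one, mul_inv_cancel]
        have hc : Commute (a' : ↥L) (b' : ↥L) := Subtype.ext
          (Subgroup.mem_center_iff.1 (hNc a'.2) _).symm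
        rw [← hab] at h1 ⊢
        simp only at h1 ⊢
        rw [hc.mul_pow, show (b' : ↥L) ^ Nat.card K = 1 from
          congrArg Subtype.val (pow_card_eq_one' (x := b')), mul_one] at h1
        have : (a' : ↥L) = 1 := by
          have hd1 : orderOf (a' : ↥L) ∣ Nat.card K := orderOf_dvd_of_pow_eq_one h1
          have hd2 : orderOf (a' : ↥L) ∣ Nat.card ↥(N.subgroupOf L) := by
            rw [Subgroup.orderOf_coe]; exact orderOf_dvd_natCard _
          exact orderOf_eq_one_iff.1 (Nat.eq_one_of_dvd_coprimes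
            (by rwa [hKcard, ← hidx]) hd2 hd1)
        rw [this, one_mul]; exact b'.2
      have hxL : ∀ l ∈ L, x * l * x⁻¹ ∈ L := fun l hl => by
        have := hnorm _ hl
        simpa [hL] using this
      have hKc := hb (K.map L.subtype)
        (by rw [Subgroup.card_map_of_injective L.subtype_injective, hKcard]; exact hH) (by
          rintro _ ⟨k, hk, rfl⟩
          exact ⟨⟨_, hxL k k.2⟩, hKx k hk _, rfl⟩)
      obtain ⟨⟨a', b'⟩, hab⟩ := hK.2 (⟨a, ha⟩ : ↥L)
      have e : a = ((a' : ↥L) : G) * ((b' : ↥L) : G) := congrArg Subtype.val hab.symm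
      have ec : x * ((a' : ↥L) : G) = ((a' : ↥L) : G) * x := Subgroup.mem_center_iff.1 (hNc a'.2) x
      have eb : x * ((b' : ↥L) : G) = ((b' : ↥L) : G) * x := hKc _ ⟨b', b'.2, rfl⟩
      rw [← QuotientGroup.mk_mul, ← QuotientGroup.mk_mul, e, ← mul_assoc, ec, mul_assoc, eb, mul_assoc]
  -- `M` is a Frobenius complement
  have hx1 : x ≠ 1 := fun e => hxZ (e ▸ one_mem _)
  have hF : Cfsg.IsFrobeniusComplement M := by
    refine ⟨fun e => hx1 (Subgroup.mem_bot.1 (e ▸ hSM hx)), hMtop, fun g hg => ?_⟩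
    rw [eq_bot_iff]
    rintro y ⟨hy1, hy2⟩
    rw [Subgroup.mem_bot]
    by_contra hne
    apply hg
    have hy2' : g⁻¹ * y * g ∈ M := mem_map_conj.1 hy2
    have hC := hproper (Subgroup.centralizer ({y} : Set G))
      (Subgroup.mem_centralizer_singleton_iff.2 ((hmM y).1 hy1).symm)
      (fun e => hne (hZ y (Subgroup.mem_center_iff.2 fun a =>
        Subgroup.mem_centralizer_singleton_iff.1 (e ▸ Subgroup.mem_top a))))
    have : g * x * g⁻¹ ∈ Subgroup.centralizer ({y} : Set G) := by
      rw [Subgroup.mem_centralizer_singleton_iff]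
      calc g * x * g⁻¹ * y = g * (x * (g⁻¹ * y * g)) * g⁻¹ := by group
        _ = g * ((g⁻¹ * y * g) * x) * g⁻¹ := by rw [(hmM _).1 hy2']
        _ = y * (g * x * g⁻¹) := by group
    rw [hmM]
    exact mul_inv_eq_iff_eq_mul.1 (hiso g (hC this))
  obtain ⟨N, -, hN, hcompl⟩ := CfsgLib.Solvable.frobenius_theorem hF
  have hNM : M.index = Nat.card N := Subgroup.IsComplement'.index_eq_card hcompl
  have hNbot := @hnoN N hN (by
    rw [← hNM, Nat.coprime_comm, hp.out.coprime_iff_not_dvd]
    exact fun hd => S.not_dvd_index (hd.trans (Subgroup.index_dvd_of_le hSM)))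
  exact hMtop (Subgroup.index_eq_one.1 (by rw [hNM, hNbot, Subgroup.card_bot]))

end CfsgLib.LocalEven
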