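import Cfsg.Prelude.Def_LocalStructure
import Cfsg.Agent.Lib.LocalEven.Basic
import Cfsg.Agent.Lib.LocalEven.SylowNormal
import Cfsg.Agent.Lib.LocalEven.CharP
import Cfsg.Agent.Lib.Cores.Coprime
import Cfsg.Agent.Lib.Solvable.CoprimeAction

/-!
Weakly closed subgroups and large subgroups.
-/

set_option autoImplicit false

namespace CfsgLib.LocalEven.WC

open Subgroup Cfsg
open scoped commutatorElement

variable {H : Type*} [Group H]

theorem map_conj_map (Q : Subgroup H) (g h : H) :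
    (Q.map (MulAut.conj h).toMonoidHom).map (MulAut.conj g).toMonoidHom =
      Q.map (MulAut.conj (g * h)).toMonoidHom := by
  rw [Subgroup.map_map]
  congr 1
  ext x
  simp [mul_assoc]

theorem map_conj_one (Q : Subgroup H) : Q.map (MulAut.conj (1 : H)).toMonoidHom = Q := by
  ext x; simp [CfsgLib.LocalEven.mem_map_conj]

theorem map_conj_inv_map (Q : Subgroup H) (g : H) :
    (Q.map (MulAut.conj g).toMonoidHom).map (MulAut.conj g⁻¹).toMonoidHom = Q := by
  rw [map_conj_map, inv_mul_cancel, map_conj_one]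

theorem eq_map_conj_iff {Q R : Subgroup H} {g : H} :
    Q.map (MulAut.conj g).toMonoidHom = R ↔ R.map (MulAut.conj g⁻¹).toMonoidHom = Q := by
  constructor
  · rintro rfl; exact map_conj_inv_map Q g
  · rintro rfl
    rw [map_conj_map, mul_inv_cancel, map_conj_one]

theorem map_conj_eq_of_mem {Q : Subgroup H} {g : H} (hg : g ∈ normalizer (Q : Set H)) :
    Q.map (MulAut.conj g).toMonoidHom = Q :=
  Subgroup.mem_normalizer_iff_map_conj_eq.1 hg

theorem mem_normalizer_of_map_eq {Q : Subgroup H} {g : H}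
    (h : Q.map (MulAut.conj g).toMonoidHom = Q) : g ∈ normalizer (Q : Set H) :=
  Subgroup.mem_normalizer_iff_map_conj_eq.2 h

variable [Finite H] {p : ℕ} [hp : Fact p.Prime] {Q : Subgroup H}

/-- A Sylow subgroup of `H` weakly closing `Q` may be replaced by any other containing `Q`. -/
theorem eq_of_map_le (hwc : IsWeaklyClosedSubgroup p Q) (P : Sylow p H) (hQP : Q ≤ (P : Subgroup H))
    {g : H} (hg : Q.map (MulAut.conj g).toMonoidHom ≤ (P : Subgroup H)) :
    Q.map (MulAut.conj g).toMonoidHom = Q := by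
  obtain ⟨T, hQT, hT⟩ := hwc
  obtain ⟨h, hh⟩ := MulAction.exists_smul_eq H P T
  have hPT : (P : Subgroup H).map (MulAut.conj h).toMonoidHom = (T : Subgroup H) := by rw [← hh]; rfl
  have h1 := hT h (hPT ▸ Subgroup.map_mono hQP)
  have h2 := hT (h * g) (by rw [← map_conj_map, ← hPT]; exact Subgroup.map_mono hg)
  rw [← map_conj_map] at h2
  exact Subgroup.map_injective (MulAut.conj h).injective (h2.trans h1.symm)

theorem eq_of_map_le_pGroup (hwc : IsWeaklyClosedSubgroup p Q) {R : Subgroup H} (hR : IsPGroup p R)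
    (hQR : Q ≤ R) {g : H} (hg : Q.map (MulAut.conj g).toMonoidHom ≤ R) :
    Q.map (MulAut.conj g).toMonoidHom = Q := by
  obtain ⟨P, hP⟩ := hR.exists_le_sylow
  exact eq_of_map_le hwc P (hQR.trans hP) (hg.trans hP)

theorem normalizer_le (hwc : IsWeaklyClosedSubgroup p Q) {R : Subgroup H} (hR : IsPGroup p R)
    (hQR : Q ≤ R) : normalizer (R : Set H) ≤ normalizer (Q : Set H) := fun _n hn =>
  mem_normalizer_of_map_eq
    (eq_of_map_le_pGroup hwc hR hQR ((Subgroup.map_mono hQR).trans (map_conj_eq_of_mem hn).le))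

theorem pGroup_le_normalizer (hwc : IsWeaklyClosedSubgroup p Q) {R : Subgroup H} (hR : IsPGroup p R)
    (hQR : Q ≤ R) : R ≤ normalizer (Q : Set H) :=
  Subgroup.le_normalizer.trans (normalizer_le hwc hR hQR)

/-- A conjugate of `Q` in a subgroup `K ≥ Q` is conjugate to `Q` inside `K`. -/
theorem exists_conj_in (hwc : IsWeaklyClosedSubgroup p Q) (hQp : IsPGroup p Q) {K : Subgroup H}
    (hQK : Q ≤ K) {g : H} (hg : Q.map (MulAut.conj g).toMonoidHom ≤ K) :
    ∃ k ∈ K, Q.map (MulAut.conj g).toMonoidHom = Q.map (MulAut.conj k).toMonoidHom := by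
  obtain ⟨P₁, hP₁⟩ := (hQp.comap_subtype (K := K)).exists_le_sylow
  obtain ⟨P₂, hP₂⟩ := ((hQp.map (MulAut.conj g).toMonoidHom).comap_subtype (K := K)).exists_le_sylow
  obtain ⟨k, hk⟩ := MulAction.exists_smul_eq K P₂ P₁
  refine ⟨(k : H)⁻¹, inv_mem k.2, ?_⟩
  have hsub : ((Q.map (MulAut.conj g).toMonoidHom).map (MulAut.conj (k : H)).toMonoidHom) ≤
      (P₁ : Subgroup K).map K.subtype := by
    rintro _ ⟨x, hx, rfl⟩
    refine ⟨k * ⟨x, hg hx⟩ * k⁻¹, ?_, by simp⟩
    rw [← hk, Sylow.coe_subgroup_smul]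
    exact Subgroup.smul_mem_pointwise_smul _ (MulAut.conj k) _ (hP₂ hx)
  rw [map_conj_map] at hsub
  have h := eq_of_map_le_pGroup hwc (P₁.2.map K.subtype)
    (fun x hx => ⟨⟨x, hQK hx⟩, hP₁ hx, rfl⟩) hsub
  rw [← map_conj_map] at h
  exact (eq_map_conj_iff.1 h).symm

theorem wc_subgroupOf (hwc : IsWeaklyClosedSubgroup p Q) (hQp : IsPGroup p Q) {K : Subgroup H}
    (hQK : Q ≤ K) : IsWeaklyClosedSubgroup p (Q.subgroupOf K) := by
  obtain ⟨P, hP⟩ := (hQp.comap_subtype (K := K)).exists_le_sylow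
  refine ⟨P, hP, fun k hk => ?_⟩
  have hmap : ((Q.subgroupOf K).map (MulAut.conj k).toMonoidHom).map K.subtype =
      Q.map (MulAut.conj (k : H)).toMonoidHom := by
    rw [Subgroup.map_map, show K.subtype.comp (MulAut.conj k).toMonoidHom =
      (MulAut.conj (k : H)).toMonoidHom.comp K.subtype from by ext x; simp, ← Subgroup.map_map,
      Subgroup.map_subgroupOf_eq_of_le hQK]
  have h := eq_of_map_le_pGroup hwc (P.2.map K.subtype) (fun x hx => ⟨⟨x, hQK hx⟩, hP hx, rfl⟩)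
    (hmap ▸ Subgroup.map_mono hk)
  apply Subgroup.map_injective K.subtype_injective
  rw [hmap, h, Subgroup.map_subgroupOf_eq_of_le hQK]

/-- Frattini step: `n = m a` with `m ∈ [N, Q]` and `a ∈ N_N(Q)`, for `N` normalised by `Q`. -/
theorem exists_mul_normalizer (hwc : IsWeaklyClosedSubgroup p Q) (hQp : IsPGroup p Q) {N : Subgroup H}
    (hQN : Q ≤ normalizer (N : Set H)) {n : H} (hn : n ∈ N) :
    ∃ m ∈ ⁅N, Q⁆, ∃ a ∈ N ⊓ normalizer (Q : Set H), n = m * a := by
  set M := ⁅N, Q⁆ with hM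
  have hMN : M ≤ N := CfsgLib.Solvable.commutator_le_of_le_normalizer hQN
  have hQM : Q ≤ normalizer (M : Set H) := CfsgLib.Solvable.le_normalizer_commutator_right hQN
  have hle : Q.map (MulAut.conj n).toMonoidHom ≤ M ⊔ Q := by
    rintro _ ⟨q, hq, rfl⟩
    show n * q * n⁻¹ ∈ M ⊔ Q
    have e : n * q * n⁻¹ = ⁅n, q⁆ * q := by rw [commutatorElement_def]; group
    rw [e]
    exact Subgroup.mul_mem_sup (Subgroup.commutator_mem_commutator hn hq) hq
  obtain ⟨k, hk, hkn⟩ := exists_conj_in hwc hQp le_sup_right hle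
  have hk' : k ∈ ((M ⊔ Q : Subgroup H) : Set H) := hk
  rw [Subgroup.coe_mul_of_right_le_normalizer_left M Q hQM] at hk'
  obtain ⟨m, hm, q, hq, rfl⟩ := hk'
  rw [← map_conj_map Q m q, map_conj_eq_of_mem (Subgroup.le_normalizer hq)] at hkn
  refine ⟨m, hm, m⁻¹ * n, Subgroup.mem_inf.2 ⟨mul_mem (inv_mem (hMN hm)) hn, mem_normalizer_of_map_eq ?_⟩, by group⟩
  rw [← map_conj_map, hkn, map_conj_inv_map]

/-! ### Large subgroups -/

theorem large_conj (hL : IsLarge Q) (g : H) : IsLarge (Q.map (MulAut.conj g).toMonoidHom) := by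
  refine ⟨fun x hx => ?_, fun U hU hU1 => ?_⟩
  · rw [CfsgLib.LocalEven.mem_map_conj]
    refine hL.1 (Subgroup.mem_centralizer_iff.2 fun q hq => ?_)
    have h := Subgroup.mem_centralizer_iff.1 hx _ (CfsgLib.LocalEven.conj_mem_map_conj (g := g) hq)
    calc q * (g⁻¹ * x * g) = g⁻¹ * ((g * q * g⁻¹) * x) * g := by group
      _ = g⁻¹ * (x * (g * q * g⁻¹)) * g := by rw [h]
      _ = g⁻¹ * x * g * q := by group
  · intro n hn
    have h1 : U.map (MulAut.conj g⁻¹).toMonoidHom ≤ centralizer (Q : Set H) := by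
      rintro _ ⟨u, hu, rfl⟩
      refine Subgroup.mem_centralizer_iff.2 fun q hq => ?_
      have h := Subgroup.mem_centralizer_iff.1 (hU hu) _ (CfsgLib.LocalEven.conj_mem_map_conj (g := g) hq)
      show q * (g⁻¹ * u * g⁻¹⁻¹) = g⁻¹ * u * g⁻¹⁻¹ * q
      calc q * (g⁻¹ * u * g⁻¹⁻¹) = g⁻¹ * ((g * q * g⁻¹) * u) * g := by group
        _ = g⁻¹ * (u * (g * q * g⁻¹)) * g := by rw [h]
        _ = g⁻¹ * u * g⁻¹⁻¹ * q := by group
    have h2 : U.map (MulAut.conj g⁻¹).toMonoidHom ≠ ⊥ := fun h =>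
      hU1 ((Subgroup.map_eq_bot_iff_of_injective U (MulAut.conj g⁻¹).injective).1 h)
    have h3 : g⁻¹ * n * g ∈ normalizer (Q : Set H) := by
      refine hL.2 _ h1 h2 (mem_normalizer_of_map_eq ?_)
      rw [map_conj_map, show g⁻¹ * n * g * g⁻¹ = g⁻¹ * n by group, ← map_conj_map,
        map_conj_eq_of_mem hn]
    apply mem_normalizer_of_map_eq
    rw [map_conj_map, show n * g = g * (g⁻¹ * n * g) by group, ← map_conj_map,
      map_conj_eq_of_mem h3]

theorem exists_center_sylow (hQ1 : Q ≠ ⊥) (T : Sylow p H) (hQT : Q ≤ (T : Subgroup H)) :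
    ∃ z : H, z ≠ 1 ∧ z ∈ centralizer (Q : Set H) ∧
      (T : Subgroup H) ≤ normalizer (zpowers z : Set H) ∧
      ∀ t ∈ (T : Subgroup H), t * z = z * t := by
  have hne : (T : Subgroup H) ≠ ⊥ := fun h => hQ1 (le_bot_iff.1 (h ▸ hQT))
  haveI : Nontrivial (T : Subgroup H) := (Subgroup.nontrivial_iff_ne_bot _).2 hne
  haveI : Nontrivial (center (T : Subgroup H)) := T.2.center_nontrivial
  obtain ⟨⟨z, hz⟩, hz1⟩ := exists_ne (1 : center (T : Subgroup H))
  have hzc : ∀ t ∈ (T : Subgroup H), t * (z : H) = z * t := fun t ht =>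
    congrArg Subtype.val (Subgroup.mem_center_iff.1 hz ⟨t, ht⟩)
  refine ⟨z, fun h => hz1 (Subtype.ext (Subtype.ext h)),
    Subgroup.mem_centralizer_iff.2 fun q hq => hzc q (hQT hq), fun t ht => mem_normalizer_of_map_eq ?_, hzc⟩
  rw [MonoidHom.map_zpowers]
  simp [hzc t ht]

theorem large_sylow_le_normalizer (hL : IsLarge Q) (hQ1 : Q ≠ ⊥) (T : Sylow p H)
    (hQT : Q ≤ (T : Subgroup H)) : (T : Subgroup H) ≤ normalizer (Q : Set H) := by
  obtain ⟨z, hz1, hzC, hTz, -⟩ := exists_center_sylow hQ1 T hQT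
  exact hTz.trans (hL.2 _ (Subgroup.zpowers_le.2 hzC) (Subgroup.zpowers_ne_bot.2 hz1))

/-- A nontrivial large `p`-subgroup is weakly closed. -/
theorem large_isWeaklyClosed (hL : IsLarge Q) (hQp : IsPGroup p Q) (hQ1 : Q ≠ ⊥) :
    IsWeaklyClosedSubgroup p Q := by
  obtain ⟨T, hQT⟩ := hQp.exists_le_sylow
  refine ⟨T, hQT, fun g hg => ?_⟩
  set Q' := Q.map (MulAut.conj g).toMonoidHom with hQ'
  have hQ'1 : Q' ≠ ⊥ := fun h => hQ1 ((Subgroup.map_eq_bot_iff_of_injective Q (MulAut.conj g).injective).1 h)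
  have hTN := large_sylow_le_normalizer hL hQ1 T hQT
  have hTN' := large_sylow_le_normalizer (large_conj hL g) hQ'1 T hg
  set T' := g⁻¹ • T with hT'
  have hT'N : (T' : Subgroup H) ≤ normalizer (Q : Set H) := by
    intro x hx
    rw [hT', Sylow.coe_subgroup_smul] at hx
    obtain ⟨t, ht, rfl⟩ := hx
    apply mem_normalizer_of_map_eq
    have h := map_conj_eq_of_mem (hTN' ht)
    show Q.map (MulAut.conj (g⁻¹ * t * g⁻¹⁻¹)).toMonoidHom = Q
    rw [inv_inv, ← map_conj_map, ← map_conj_map, ← hQ', h, map_conj_inv_map]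
  obtain ⟨m, hm⟩ := MulAction.exists_smul_eq (normalizer (Q : Set H)) (T'.subtype hT'N) (T.subtype hTN)
  rw [Sylow.smul_subtype hT'N] at hm
  replace hm := Sylow.subtype_injective hm
  rw [Subgroup.smul_def, hT', smul_smul, Sylow.smul_eq_iff_mem_normalizer] at hm
  obtain ⟨z, hz1, hzC, -, hzc⟩ := exists_center_sylow hQ1 T hQT
  set U := (T : Subgroup H) ⊓ centralizer ((T : Subgroup H) : Set H) with hU
  have hUC : U ≤ centralizer (Q : Set H) := inf_le_right.trans (Subgroup.centralizer_le hQT)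
  have hU1 : U ≠ ⊥ := by
    intro h
    obtain ⟨z', hz', hz'T, hz'o, hz'c⟩ := CfsgLib.LocalEven.exists_orderOf_inf_center_sylow T (K := (⊤ : Subgroup H))
      (by
        rw [Subgroup.card_top]
        obtain ⟨x, hx⟩ := (Subgroup.ne_bot_iff_exists_ne_one.1 hQ1)
        obtain ⟨k, hk⟩ := hQp x
        have hox : orderOf x ∣ p ^ k := orderOf_dvd_of_pow_eq_one hk
        obtain ⟨j, -, hj⟩ := (Nat.dvd_prime_pow hp.out).1 hox
        have hj0 : j ≠ 0 := fun h0 => hx (orderOf_eq_one_iff.1 (by rw [hj, h0, pow_zero]))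
        exact (dvd_pow_self p hj0).trans (hj ▸ (Subgroup.orderOf_coe x ▸ _root_.orderOf_dvd_natCard (x : H))))
    have : z' ∈ U := ⟨hz'T, Subgroup.mem_centralizer_iff.2 fun t ht => hz'c t ht⟩
    rw [h, Subgroup.mem_bot] at this
    rw [this, orderOf_one] at hz'o
    exact hp.out.ne_one hz'o.symm
  have hNT : normalizer ((T : Subgroup H) : Set H) ≤ normalizer (Q : Set H) := by
    refine le_trans (fun n hn => ?_) (hL.2 U hUC hU1)
    refine Subgroup.mem_normalizer_iff.2 fun x => and_congr (Subgroup.mem_normalizer_iff.1 hn x)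
      (Subgroup.mem_normalizer_iff.1 ?_ x)
    refine CfsgLib.LocalEven.mem_normalizer_of_conj_le ?_
    rintro _ ⟨y, hy, rfl⟩
    refine Subgroup.mem_centralizer_iff.2 fun t ht => ?_
    have h4 := Subgroup.mem_centralizer_iff.1 hy (n⁻¹ * t * n) ((Subgroup.mem_normalizer_iff''.1 hn t).1 ht)
    show t * (n * y * n⁻¹) = n * y * n⁻¹ * t
    calc t * (n * y * n⁻¹) = n * ((n⁻¹ * t * n) * y) * n⁻¹ := by group
      _ = n * (y * (n⁻¹ * t * n)) * n⁻¹ := by rw [h4]
      _ = n * y * n⁻¹ * t := by group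
  have hg' : g⁻¹ ∈ normalizer (Q : Set H) := by
    have := mul_mem (inv_mem m.2) (hNT hm)
    rwa [inv_mul_cancel_left] at this
  have := inv_mem hg'
  rw [inv_inv] at this
  exact map_conj_eq_of_mem this

/-- Two conjugates of a weakly closed subgroup that normalize each other are equal. -/
theorem eq_of_normalize (hwc : IsWeaklyClosedSubgroup p Q) (hQp : IsPGroup p Q) {g : H}
    (h : Q.map (MulAut.conj g).toMonoidHom ≤ normalizer (Q : Set H)) :
    Q.map (MulAut.conj g).toMonoidHom = Q :=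
  eq_of_map_le_pGroup hwc (IsPGroup.to_sup_of_normal_left' hQp (hQp.map _) h) le_sup_left le_sup_right

theorem exists_fixed_ne_one {P : Subgroup H} (hP : IsPGroup p P) (hP1 : P ≠ ⊥) {Q : Subgroup H}
    (hQp : IsPGroup p Q) (hQP : Q ≤ normalizer (P : Set H)) :
    P ⊓ centralizer (Q : Set H) ≠ ⊥ := by
  intro hbot
  set J := Q ⊔ P with hJ
  have hJp : IsPGroup p J := IsPGroup.to_sup_of_normal_right' hQp hP hQP
  haveI : (P.subgroupOf J).Normal :=
    Subgroup.normal_subgroupOf_of_le_normalizer (sup_le hQP Subgroup.le_normalizer)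
  have hne : P.subgroupOf J ≠ ⊥ := fun h =>
    hP1 ((Subgroup.subgroupOf_eq_bot.1 h).eq_bot_of_le le_sup_right)
  obtain ⟨⟨z, hz⟩, hz1⟩ := Subgroup.ne_bot_iff_exists_ne_one.1 (CfsgLib.PGroup.inf_center_ne_bot hJp _ hne)
  have hzm : (z : H) ∈ P ⊓ centralizer (Q : Set H) := ⟨hz.1, Subgroup.mem_centralizer_iff.2 fun q hq =>
    congrArg Subtype.val (Subgroup.mem_center_iff.1 hz.2 ⟨q, Subgroup.mem_sup_left hq⟩)⟩
  rw [hbot, Subgroup.mem_bot] at hzm
  exact hz1 (Subtype.ext (Subtype.ext hzm))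

/-- For large `Q` normalizing a nontrivial `p`-subgroup `P`, `C(P)` normalizes `Q`. -/
theorem centralizer_le_normalizer_large (hL : IsLarge Q) (hQp : IsPGroup p Q) {P : Subgroup H}
    (hP : IsPGroup p P) (hP1 : P ≠ ⊥) (hQP : Q ≤ normalizer (P : Set H)) :
    centralizer (P : Set H) ≤ normalizer (Q : Set H) := by
  refine le_trans ?_ (hL.2 _ inf_le_right (exists_fixed_ne_one hP hP1 hQp hQP))
  exact (Subgroup.centralizer_le inf_le_left).trans (Subgroup.centralizer_le_normalizer _)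

/-- If `C(O_p(L))` normalizes `Q ≤ L` and `C(Q) ≤ Q`, then it is a `p`-group. -/
theorem centralizer_pCoreOf_of_le_normalizer (hQp : IsPGroup p Q) (hCQ : centralizer (Q : Set H) ≤ Q)
    {L : Subgroup H} (hQL : Q ≤ L) (hle : centralizer (pCoreOf p L : Set H) ≤ normalizer (Q : Set H)) :
    ⁅Q, centralizer (pCoreOf p L : Set H)⁆ ≤ Q ⊓ pCoreOf p L ∧
      IsPGroup p (centralizer (pCoreOf p L : Set H)) ∧
      Subgroup.centralizer (pCore p ↥L : Set ↥L) ≤ pCore p ↥L := by
  set P := pCoreOf p L with hP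
  set C := centralizer (P : Set H) with hC
  set C₀ := C.subgroupOf L with hC₀
  have hCeq : C₀ = centralizer (pCore p ↥L : Set ↥L) := by
    ext x
    rw [hC₀, Subgroup.mem_subgroupOf, hC, Subgroup.mem_centralizer_iff, Subgroup.mem_centralizer_iff]
    constructor
    · intro h y hy; exact Subtype.ext (h y ⟨y, hy, rfl⟩)
    · rintro h _ ⟨y, hy, rfl⟩; exact congrArg Subtype.val (h y hy)
  haveI : C₀.Normal := hCeq ▸ inferInstance
  -- `Q ⊓ C ≤ O_p(L)`
  have hQC : Q ⊓ C ≤ P := by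
    have h1 : (((Q ⊓ C).subgroupOf L).subgroupOf C₀).Normal := by
      refine ⟨fun d hd c => ?_⟩
      have hc : ((c : ↥L) : H) ∈ C := c.2
      have hd' : ((d : ↥L) : H) ∈ Q ⊓ C := hd
      exact Subgroup.mem_inf.2 ⟨(Subgroup.mem_normalizer_iff.1 (hle hc) _).1 hd'.1, C.mul_mem (C.mul_mem hc hd'.2) (C.inv_mem hc)⟩
    have h2 : ((Q ⊓ C).subgroupOf L).IsSubnormal :=
      Subgroup.IsSubnormal.step _ C₀ (Subgroup.comap_mono inf_le_right) (Subgroup.Normal.isSubnormal inferInstance) h1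
    intro x hx
    exact ⟨⟨x, hQL hx.1⟩, CfsgLib.Cores.le_pCore_of_isSubnormal h2 (hQp.to_le inf_le_left).comap_subtype
      (Subgroup.mem_subgroupOf.2 hx), rfl⟩
  have hLC : L ≤ normalizer (C : Set H) := fun l hl => by
    refine CfsgLib.LocalEven.mem_normalizer_of_conj_le ?_
    rintro _ ⟨c, hc, rfl⟩
    refine Subgroup.mem_centralizer_iff.2 ?_
    rintro _ ⟨x, hx, rfl⟩
    have hx' : (⟨l, hl⟩ : L)⁻¹ * x * ⟨l, hl⟩ ∈ pCore p ↥L :=
      (inferInstance : (pCore p ↥L).Normal).conj_mem' x hx _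
    have h := Subgroup.mem_centralizer_iff.1 hc _ ⟨_, hx', rfl⟩
    simp only [Subgroup.coe_subtype, Subgroup.coe_mul, Subgroup.coe_inv] at h
    show (x : H) * (l * c * l⁻¹) = l * c * l⁻¹ * x
    calc (x : H) * (l * c * l⁻¹) = l * ((l⁻¹ * x * l) * c) * l⁻¹ := by group
      _ = l * (c * (l⁻¹ * x * l)) * l⁻¹ := by rw [h]
      _ = l * c * l⁻¹ * x := by group
  have hcomm : ⁅Q, C⁆ ≤ Q ⊓ C := le_inf (CfsgLib.Solvable.commutator_le_of_le_normalizer hle)
    (by rw [Subgroup.commutator_comm]; exact CfsgLib.Solvable.commutator_le_of_le_normalizer (hQL.trans hLC))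
  have hCp : IsPGroup p C := by
    refine CfsgLib.LocalEven.isPGroup_of_forall_coprime fun x hx hxo => ?_
    have hxQ : x ∈ centralizer (Q : Set H) := Subgroup.mem_centralizer_iff.2 fun v hv => by
      have hd : v⁻¹ * x * v * x⁻¹ ∈ Q ⊓ C := by
        have h := hcomm (Subgroup.commutator_mem_commutator (inv_mem hv) hx)
        rwa [commutatorElement_def, inv_inv] at h
      exact (CfsgLib.LocalEven.commute_of_conj_eq_mul hQp hd.1 hxo (by group)
        (Subgroup.mem_centralizer_iff.1 hx _ (hQC hd)).symm).symm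
    exact CfsgLib.LocalEven.eq_one_of_pow_eq_one_of_pGroup hQp (hCQ hxQ) hxo (pow_orderOf_eq_one x)
  refine ⟨le_inf (hcomm.trans inf_le_left) (hcomm.trans hQC), hCp, ?_⟩
  rw [← hCeq]
  exact CfsgLib.Cores.le_pCore hCp.comap_subtype

end CfsgLib.LocalEven.WC

namespace CfsgLib.LocalEven.WC

open Subgroup Cfsg

variable {H : Type*} [Group H] [Finite H] {p : ℕ} [hp : Fact p.Prime] {Q : Subgroup H}

/-- A subnormal subgroup containing a weakly closed `p`-subgroup contains all its conjugates. -/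
theorem map_conj_le_of_isSubnormal (hwc : IsWeaklyClosedSubgroup p Q) (hQp : IsPGroup p Q)
    {S : Subgroup H} (hS : S.IsSubnormal) :
    Q ≤ S → ∀ g : H, Q.map (MulAut.conj g).toMonoidHom ≤ S := by
  induction hS with
  | top => exact fun _ _ => le_top
  | step S K hle _ hN ih =>
    intro hQS g
    obtain ⟨k, hk, hgk⟩ := exists_conj_in hwc hQp (hQS.trans hle) (ih (hQS.trans hle) g)
    rw [hgk]
    rintro _ ⟨q, hq, rfl⟩
    exact hN.conj_mem ⟨q, hle (hQS hq)⟩ (hQS hq) ⟨k, hk⟩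

/-- The weak closure of `Q` in `K ≥ Q` is the join of its `K`-conjugates. -/
theorem weakClosure_eq (hwc : IsWeaklyClosedSubgroup p Q) (hQp : IsPGroup p Q) {K : Subgroup H}
    (hQK : Q ≤ K) :
    weakClosure Q K = ⨆ k : ↥K, Q.map (MulAut.conj (k : H)).toMonoidHom := by
  apply le_antisymm
  · refine iSup_le fun g => ?_
    obtain ⟨k, hk, hgk⟩ := exists_conj_in hwc hQp hQK g.2
    rw [hgk]
    exact le_iSup (fun k : ↥K => Q.map (MulAut.conj (k : H)).toMonoidHom) ⟨k, hk⟩
  · refine iSup_le fun k => ?_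
    have hle : Q.map (MulAut.conj (k : H)).toMonoidHom ≤ K := by
      rintro _ ⟨q, hq, rfl⟩
      exact K.mul_mem (K.mul_mem k.2 (hQK hq)) (K.inv_mem k.2)
    exact le_iSup (fun g : {g : H // Q.map (MulAut.conj g).toMonoidHom ≤ K} =>
      Q.map (MulAut.conj (g : H)).toMonoidHom) ⟨k, hle⟩

theorem weakClosure_le (Q K : Subgroup H) : weakClosure Q K ≤ K := iSup_le fun g => g.2

theorem map_conj_le_weakClosure (Q : Subgroup H) {K : Subgroup H} {g : H}
    (hg : Q.map (MulAut.conj g).toMonoidHom ≤ K) : Q.map (MulAut.conj g).toMonoidHom ≤ weakClosure Q K :=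
  le_iSup (fun g : {g : H // Q.map (MulAut.conj g).toMonoidHom ≤ K} =>
      Q.map (MulAut.conj (g : H)).toMonoidHom) ⟨g, hg⟩

theorem le_weakClosure {Q K : Subgroup H} (hQK : Q ≤ K) : Q ≤ weakClosure Q K := by
  have h := map_conj_le_weakClosure Q (K := K) (g := 1) (by rwa [map_conj_one])
  rwa [map_conj_one] at h

theorem le_normalizer_weakClosure (Q K : Subgroup H) :
    K ≤ normalizer (weakClosure Q K : Set H) := by
  intro k hk
  refine mem_normalizer_of_map_eq (le_antisymm ?_ ?_)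
  · rw [Subgroup.map_le_iff_le_comap]
    refine iSup_le fun g => ?_
    rw [← Subgroup.map_le_iff_le_comap, map_conj_map]
    refine map_conj_le_weakClosure Q ?_
    rw [← map_conj_map]
    exact (Subgroup.map_mono g.2).trans (map_conj_eq_of_mem (Subgroup.le_normalizer hk)).le
  · refine iSup_le fun g => ?_
    have hle : Q.map (MulAut.conj (k⁻¹ * (g : H))).toMonoidHom ≤ K := by
      rw [← map_conj_map]
      exact (Subgroup.map_mono g.2).trans
        (map_conj_eq_of_mem (Subgroup.le_normalizer (K.inv_mem hk))).le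
    rw [show (g : H) = k * (k⁻¹ * g) by group, ← map_conj_map]
    exact Subgroup.map_mono (map_conj_le_weakClosure Q hle)

end CfsgLib.LocalEven.WC
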