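import Mathlib
import Cfsg.Agent.Lib.Fusion.Yoshida
import Cfsg.Agent.Lib.Techniques.GoodTransfer
import Cfsg.Agent.Lib.PGroup.Basic
import Cfsg.Agent.Lib.PGroup.PrimeIndex
import Cfsg.Agent.Lib.Transfer.Critical

/-!
Products of cocycle values over orbits moved by a normal subgroup `W`, when the `(p-1)`-fold
commutators with elements of `W` avoid the maximal subgroups of `W` outside their Frattini subgroups.
-/

set_option autoImplicit false

namespace CfsgLib.LocalEven.WeakTransfer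

open CfsgLib.Fusion.Yoshida

variable {X : Type*} [Group X] {p : ℕ} [hp : Fact p.Prime] {A : Type*} [CommGroup A]

/-- The commutator map with `z`. -/
abbrev cmap {Z : Type*} [Group Z] (z : Z) : Z → Z := fun y => y⁻¹ * z⁻¹ * y * z

/-- The elements of `W ∖ W₀` reached by iterated commutation die in the Frattini subgroup. -/
def Degenerate (p : ℕ) {Z : Type*} [Group Z] (W : Subgroup Z) (x : Z) : Prop :=
  ∀ z ∈ W, ∀ W₀ : Subgroup ↥W, IsCoatom W₀ → (cmap z)^[p - 1] x ∈ W₀.map W.subtype →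
    (cmap z)^[p - 1] x ∈ ((frattini ↥W₀).map W₀.subtype).map W.subtype

omit hp in
theorem cmap_mem {R : Subgroup X} [R.Normal] (z : X) {y : X} (hy : y ∈ R) : cmap z y ∈ R := by
  show y⁻¹ * z⁻¹ * y * z ∈ R
  have h1 : z⁻¹ * y * z ∈ R := by simpa using (inferInstance : R.Normal).conj_mem y hy z⁻¹
  rw [show y⁻¹ * z⁻¹ * y * z = y⁻¹ * (z⁻¹ * y * z) by group]
  exact R.mul_mem (R.inv_mem hy) h1

omit hp in
theorem cmap_iterate_mem {R : Subgroup X} [R.Normal] (z : X) {y : X} (hy : y ∈ R) (k : ℕ) :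
    (cmap z)^[k] y ∈ R := by
  induction k with
  | zero => simpa using hy
  | succ k ih => rw [Function.iterate_succ_apply']; exact cmap_mem z ih

/-- A hom to a group of exponent `p` sends the `(p-1)`-fold commutator to the product over the
powers of `z`. -/
theorem map_iterate_cmap {R : Subgroup X} [R.Normal] (μ : R →* A) (hA : ∀ a : A, a ^ p = 1) (z : X)
    {x : X} (hx : x ∈ R) (hj : ∀ i : ℕ, (z ^ i)⁻¹ * x * z ^ i ∈ R) :
    μ ⟨(cmap z)^[p - 1] x, cmap_iterate_mem z hx _⟩ =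
      ∏ i ∈ Finset.range p, μ ⟨(z ^ i)⁻¹ * x * z ^ i, hj i⟩ := by
  have hconj : ∀ (j : ℕ) (y : X), y ∈ R → (z ^ j)⁻¹ * y * z ^ j ∈ R := fun j y hy => by
    simpa using (inferInstance : R.Normal).conj_mem y hy (z ^ j)⁻¹
  let b : ℕ → ℕ → Additive A := fun k j =>
    Additive.ofMul (μ ⟨(z ^ j)⁻¹ * (cmap z)^[k] x * z ^ j, hconj j _ (cmap_iterate_mem z hx k)⟩)
  have hstep : ∀ k, b k = (fwdDiff (1 : ℕ))^[k] (b 0) := by
    intro k
    induction k with
    | zero => rfl
    | succ k ih =>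
      funext j
      rw [Function.iterate_succ_apply', ← ih, fwdDiff]
      set y := (cmap z)^[k] x with hy
      have hyR : y ∈ R := cmap_iterate_mem z hx k
      have e : (⟨(z ^ j)⁻¹ * (cmap z)^[k + 1] x * z ^ j, hconj j _ (cmap_iterate_mem z hx (k + 1))⟩ : R) =
          ⟨(z ^ j)⁻¹ * y * z ^ j, hconj j y hyR⟩⁻¹ * ⟨(z ^ (j + 1))⁻¹ * y * z ^ (j + 1), hconj (j + 1) y hyR⟩ := by
        refine Subtype.ext ?_
        simp only [Function.iterate_succ_apply', Subgroup.coe_mul, InvMemClass.coe_inv, cmap, ← hy]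
        rw [pow_succ']
        group
      show Additive.ofMul (μ _) = _
      rw [e, map_mul, map_inv, ofMul_mul, ofMul_inv, neg_add_eq_sub]
  have hsum := congrFun (hstep (p - 1)) 0
  rw [fwdDiff_iter_eq_sum_shift] at hsum
  have hp1 : p - 1 + 1 = p := by have := hp.out.two_le; omega
  rw [hp1] at hsum
  have hz : ∀ (n : ℤ) (a : Additive A), (n : ZMod p) = 1 → n • a = a := by
    intro n a hn
    obtain ⟨m, hm⟩ : (p : ℤ) ∣ n - 1 := by
      rw [← ZMod.intCast_zmod_eq_zero_iff_dvd]; push_cast; rw [hn, sub_self]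
    have hpa : (p : ℤ) • a = 0 := by
      rw [natCast_zsmul]
      exact congrArg Additive.ofMul (hA (Additive.toMul a))
    rw [show n = (p : ℤ) * m + 1 by linarith, add_smul, one_smul, mul_comm, mul_smul, hpa, smul_zero,
      zero_add]
  have e0 : b (p - 1) 0 = Additive.ofMul (μ ⟨(cmap z)^[p - 1] x, cmap_iterate_mem z hx _⟩) := by
    simp only [b, pow_zero, inv_one, one_mul, mul_one]
  have hb : ∀ i, b 0 i = Additive.ofMul (μ ⟨(z ^ i)⁻¹ * x * z ^ i, hj i⟩) := fun i => rfl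
  rw [e0] at hsum
  refine Additive.ofMul.injective (hsum.trans ?_)
  rw [ofMul_prod]
  refine Finset.sum_congr rfl fun i hi => ?_
  have hi' := Finset.mem_range.1 hi
  rw [hz _ _ ?_]
  · simp only [smul_eq_mul, mul_one, zero_add]
    exact hb i
  · push_cast
    have h1 := CfsgLib.Techniques.GoodTransfer.choose_pred_mul_neg_one_pow (p := p) (p - 1 - i) (by omega)
    rwa [Nat.choose_symm (by omega)] at h1

variable [Finite X] {Y : Type*} [MulAction X Y] {c : X → Y → A}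

/-- On an orbit moved by `W` the values of `x` multiply to `1`. -/
theorem prod_eq_one_of_transitive [Fintype Y] [MulAction.IsPretransitive X Y] (hX : IsPGroup p X)
    (hA : ∀ a : A, a ^ p = 1) (hc : IsCocycle c) (W : Subgroup X) [W.Normal] (x : X)
    (hgen : W ⊔ Subgroup.zpowers x = ⊤) (hdeg : Degenerate p W x) (ω₀ : Y) (w : X) (hw : w ∈ W)
    (hwm : w • ω₀ ≠ ω₀)
    (h0 : ∀ (ω : Y) (n : ℕ), p ∣ n → x ^ n • ω = ω → c (x ^ n) ω = 1) :
    ∏ ω, c x ω = 1 := by
  classical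
  obtain ⟨R, hR, hleR⟩ := (eq_top_or_exists_le_coatom (MulAction.stabilizer X ω₀)).resolve_left
    fun h => hwm (show w ∈ MulAction.stabilizer X ω₀ from h ▸ Subgroup.mem_top w)
  have hRn := CfsgLib.PGroup.normal_of_isCoatom hX hR
  have hidx := CfsgLib.PGroup.index_of_isCoatom hX hR
  obtain ⟨k, hk⟩ := hX x
  choose rep hrep using MulAction.exists_smul_eq (α := Y) X ω₀
  let π : Y → X ⧸ R := fun ω => (rep ω : X ⧸ R)
  have hπ : ∀ (g : X) (ω : Y), π (g • ω) = (g : X ⧸ R) * π ω := by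
    intro g ω
    rw [← QuotientGroup.mk_mul]
    refine QuotientGroup.eq.2 (hleR ?_)
    rw [MulAction.mem_stabilizer_iff, mul_smul, inv_smul_eq_iff, hrep, mul_smul, hrep]
  by_cases hxR : x ∈ R
  swap
  · refine prod_eq_one_of_no_fixed hc x hk (fun ω h => hxR ?_) h0
    have := congrArg π h
    rwa [hπ, mul_eq_right, QuotientGroup.eq_one_iff] at this
  obtain ⟨z, hzW, hzR⟩ : ∃ z ∈ W, z ∉ R := by
    by_contra h
    push Not at h
    exact hR.1 (top_le_iff.1 (hgen ▸ sup_le h (Subgroup.zpowers_le.2 hxR)))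
  have : Fintype (X ⧸ R) := Fintype.ofFinite _
  let Fib : X ⧸ R → Finset Y := fun q => Finset.univ.filter fun ω => π ω = q
  have hFmem : ∀ (g : X) (q : X ⧸ R) (ω : Y), ω ∈ Fib q ↔ g • ω ∈ Fib ((g : X ⧸ R) * q) := fun g q ω => by
    simp [Fib, hπ]
  let μ : X ⧸ R → R →* A := fun q =>
    { toFun := fun r => ∏ ω ∈ Fib q, c r ω
      map_one' := Finset.prod_eq_one fun ω _ => by rw [Subgroup.coe_one]; exact cocycle_one hc ω
      map_mul' := fun r s => by
        have hs : (((s : R) : X) : X ⧸ R) = 1 := (QuotientGroup.eq_one_iff _).2 s.2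
        simp only [Subgroup.coe_mul]
        rw [Finset.prod_congr rfl fun ω _ => hc (r : X) (s : X) ω, Finset.prod_mul_distrib]
        congr 1
        refine Finset.prod_equiv (MulAction.toPerm (s : X)) (fun ω => ?_) fun ω _ => rfl
        simpa [hs] using hFmem (s : X) q ω }
  have hμ : ∀ (q : X ⧸ R) (r : R), μ q r = ∏ ω ∈ Fib q, c r ω := fun q r => rfl
  have hμconj : ∀ (g : X) (q : X ⧸ R) (r : R) (h : g * r * g⁻¹ ∈ R),
      μ ((g : X ⧸ R) * q) ⟨g * r * g⁻¹, h⟩ = μ q r := by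
    intro g q r h
    rw [hμ, hμ]
    calc ∏ ω ∈ Fib ((g : X ⧸ R) * q), c (g * r * g⁻¹) ω
        = ∏ ω ∈ Fib q, c (g * r * g⁻¹) (g • ω) :=
          (Finset.prod_equiv (MulAction.toPerm g) (fun ω => hFmem g q ω) fun ω _ => rfl).symm
      _ = ∏ ω ∈ Fib q, (c r ω * (c g ((r : X) • ω) * (c g ω)⁻¹)) := by
          refine Finset.prod_congr rfl fun ω _ => ?_
          have h1 := hc (g * r * g⁻¹) g ω
          rw [inv_mul_cancel_right, hc g (r : X) ω] at h1
          calc c (g * r * g⁻¹) (g • ω) = c (g * r * g⁻¹) (g • ω) * c g ω * (c g ω)⁻¹ :=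
                (mul_inv_cancel_right _ _).symm
            _ = _ := by rw [← h1]; ac_rfl
      _ = ∏ ω ∈ Fib q, c r ω := by
          rw [Finset.prod_mul_distrib, Finset.prod_mul_distrib]
          have hr : (((r : R) : X) : X ⧸ R) = 1 := (QuotientGroup.eq_one_iff _).2 r.2
          have e : ∏ ω ∈ Fib q, c g ((r : X) • ω) = ∏ ω ∈ Fib q, c g ω :=
            Finset.prod_equiv (MulAction.toPerm (r : X))
              (fun ω => by simpa [hr] using hFmem (r : X) q ω) (fun ω _ => rfl)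
          rw [e, Finset.prod_inv_distrib, mul_inv_cancel, mul_one]
  have hzq : (z : X ⧸ R) ≠ 1 := fun h => hzR ((QuotientGroup.eq_one_iff z).1 h)
  have hcard : Nat.card (X ⧸ R) = p := by rw [← Subgroup.index_eq_card, hidx]
  have hord : orderOf (z : X ⧸ R) = p :=
    ((Nat.dvd_prime hp.out).1 (hcard ▸ orderOf_dvd_natCard (z : X ⧸ R))).resolve_left
      (mt orderOf_eq_one_iff.1 hzq)
  have hbij : Function.Bijective (fun i : Fin p => (z : X ⧸ R) ^ (i : ℕ)) := by
    refine (Fintype.bijective_iff_injective_and_card _).2 ⟨fun i j h => ?_, ?_⟩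
    · exact Fin.ext (pow_injOn_Iio_orderOf (by rw [hord]; exact i.2) (by rw [hord]; exact j.2) h)
    · rw [Fintype.card_fin, ← Nat.card_eq_fintype_card, hcard]
  have hcj : ∀ i : ℕ, (z ^ i)⁻¹ * x * z ^ i ∈ R := fun i => by
    simpa using hRn.conj_mem x hxR (z ^ i)⁻¹
  -- `W₀ = W ∩ R`
  set W₀ := R.subgroupOf W with hW₀
  have hW₀co : IsCoatom W₀ := by
    refine CfsgLib.PGroup.isCoatom_of_index_prime ?_
    have e : W₀.index = R.relIndex W := rfl
    have hd : R.relIndex W ∣ R.index := Subgroup.relIndex_dvd_index_of_normal R W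
    rw [hidx] at hd
    rw [e, ((Nat.dvd_prime hp.out).1 hd).resolve_left fun h1 => hzR (Subgroup.relIndex_eq_one.1 h1 hzW)]
    exact hp.out
  have hit : (cmap z)^[p - 1] x ∈ W := by
    have h1 : p - 1 = p - 2 + 1 := by have := hp.out.two_le; omega
    rw [h1, Function.iterate_succ_apply]
    refine cmap_iterate_mem z ?_ _
    show x⁻¹ * z⁻¹ * x * z ∈ W
    exact W.mul_mem (by simpa using (inferInstance : W.Normal).conj_mem z⁻¹ (W.inv_mem hzW) x⁻¹) hzW
  obtain ⟨_, ⟨f, hf, rfl⟩, hfe⟩ := hdeg z hzW W₀ hW₀co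
    ⟨⟨_, hit⟩, cmap_iterate_mem z hxR _, rfl⟩
  have hone : μ 1 ⟨(cmap z)^[p - 1] x, cmap_iterate_mem z hxR _⟩ = 1 := by
    let ι : W₀ →* R := (W.subtype.comp W₀.subtype).codRestrict R fun u => u.2
    have hker : frattini ↥W₀ ≤ ((μ 1).comp ι).ker := by
      set K := ((μ 1).comp ι).ker with hK
      refine CfsgLib.Transfer.frattini_le_of_commutator_pow (p := p) K (fun a b => ?_) (fun a => ?_)
      · rw [MonoidHom.mem_ker, map_commutatorElement, commutatorElement_eq_one_iff_mul_comm]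
        exact mul_comm _ _
      · rw [MonoidHom.mem_ker, map_pow, hA]
    have := MonoidHom.mem_ker.1 (hker hf)
    rw [← this]
    exact congrArg (μ 1) (Subtype.ext hfe.symm)
  calc ∏ ω, c x ω = ∏ q, μ q ⟨x, hxR⟩ := by
        exact (Finset.prod_fiberwise (Finset.univ : Finset Y) π (fun ω => c x ω)).symm
    _ = ∏ i : Fin p, μ ((z : X ⧸ R) ^ (i : ℕ)) ⟨x, hxR⟩ :=
        (Fintype.prod_bijective _ hbij _ _ fun i => rfl).symm
    _ = ∏ i : Fin p, μ 1 ⟨(z ^ (i : ℕ))⁻¹ * x * z ^ (i : ℕ), hcj i⟩ := by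
        refine Finset.prod_congr rfl fun i _ => ?_
        rw [← hμconj (z ^ (i : ℕ)) 1 ⟨_, hcj i⟩ (by simpa [mul_assoc] using hxR)]
        simp [mul_assoc, QuotientGroup.mk_pow]
    _ = ∏ i ∈ Finset.range p, μ 1 ⟨(z ^ i)⁻¹ * x * z ^ i, hcj i⟩ :=
        Fin.prod_univ_eq_prod_range (fun i => μ 1 ⟨(z ^ i)⁻¹ * x * z ^ i, hcj i⟩) p
    _ = 1 := by rw [← map_iterate_cmap (μ 1) hA z hxR hcj, hone]

/-- If `W` fixes no point the values of `x` multiply to `1`. -/
theorem prod_eq_one_of_moved [Fintype Y] (hX : IsPGroup p X) (hA : ∀ a : A, a ^ p = 1) (hc : IsCocycle c)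
    (W : Subgroup X) [W.Normal] (x : X) (hgen : W ⊔ Subgroup.zpowers x = ⊤) (hdeg : Degenerate p W x)
    (hmoved : ∀ ω : Y, ∃ w ∈ W, w • ω ≠ ω)
    (h0 : ∀ (ω : Y) (n : ℕ), p ∣ n → x ^ n • ω = ω → c (x ^ n) ω = 1) :
    ∏ ω, c x ω = 1 := by
  classical
  have := Fintype.ofFinite (MulAction.orbitRel.Quotient X Y)
  let e := MulAction.selfEquivSigmaOrbits' X Y
  rw [← e.symm.prod_comp (fun ω => c x ω), Fintype.prod_sigma]
  refine Finset.prod_eq_one fun q _ => ?_
  have heq : ∀ z : q.orbit, e.symm ⟨q, z⟩ = z.1 := fun z => rfl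
  simp only [heq]
  rcases isEmpty_or_nonempty q.orbit with hq | ⟨⟨ω₀⟩⟩
  · simp
  obtain ⟨w, hw, hwm⟩ := hmoved ω₀.1
  exact prod_eq_one_of_transitive (c := fun u (z' : q.orbit) => c u z') hX hA (fun u v z' => hc u v z')
    W x hgen hdeg ω₀ w hw (fun h => hwm (congrArg Subtype.val h))
    fun z' n hn hz' => h0 z' n hn (congrArg Subtype.val hz')

end CfsgLib.LocalEven.WeakTransfer
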