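import Mathlib
import Cfsg.Prelude.Def_Transfer
import Cfsg.Agent.Lib.LocalEven.WielandtYoshidaCocycle
import Cfsg.Agent.Lib.Fusion.GroupSystem
import Cfsg.Agent.Lib.Fusion.FunctorCore
import Cfsg.Agent.Lib.Fusion.TateApps

/-!
The transfer theorem of Wielandt and Yoshida for a weakly closed subgroup.
-/

set_option autoImplicit false

namespace CfsgLib.LocalEven.WeakTransfer

open CfsgLib.Fusion.Yoshida (IsCocycle)
open scoped commutatorElement

variable {G : Type*} [Group G] {p : ℕ} [hp : Fact p.Prime]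

omit hp in
theorem degenerate_subgroup {X W : Subgroup G} (hWX : W ≤ X) {x : X}
    (h : Degenerate p W (x : G)) : Degenerate p (W.subgroupOf X) x := by
  intro z hz W₀ hW₀ hmem
  let e : ↥(W.subgroupOf X) ≃* ↥W := Subgroup.subgroupOfEquivOfLe hWX
  have he : ∀ u, ((e u : ↥W) : G) = ((u : X) : G) := fun u => rfl
  have hit : ∀ k, (((cmap z)^[k] x : X) : G) = (cmap (z : G))^[k] (x : G) := by
    intro k
    induction k with
    | zero => rfl
    | succ k ih =>
      rw [Function.iterate_succ_apply', Function.iterate_succ_apply', ← ih]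
      rfl
  set W₀' := W₀.map e.toMonoidHom with hW₀'
  have hco : IsCoatom W₀' := (e.mapSubgroup.isCoatom_iff W₀).2 hW₀
  obtain ⟨u, hu, hu'⟩ := hmem
  have h1 : (cmap (z : G))^[p - 1] (x : G) ∈ W₀'.map W.subtype :=
    ⟨e u, ⟨u, hu, rfl⟩, by
      rw [← hit, ← hu']
      exact he u⟩
  obtain ⟨_, ⟨f, hf, rfl⟩, hfe⟩ := h z hz W₀' hco h1
  -- pull the Frattini element back
  let e₀ : ↥W₀ ≃* ↥W₀' := e.subgroupMap W₀
  refine ⟨(e₀.symm f : ↥W₀), ⟨e₀.symm f, ?_, rfl⟩, ?_⟩
  · simp only [frattini, Order.radical, SetLike.mem_coe, Subgroup.mem_iInf] at hf ⊢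
    intro M hM
    have hM' : IsCoatom (M.map e₀.toMonoidHom) := (e₀.mapSubgroup.isCoatom_iff M).2 hM
    obtain ⟨m, hm, hme⟩ := hf _ hM'
    have : e₀.symm f = m := by rw [← hme]; exact e₀.symm_apply_apply m
    rw [this]; exact hm
  · apply Subtype.ext
    rw [hit, ← hfe]
    have : ((e₀ (e₀.symm f) : ↥W₀') : ↥W) = e ((e₀.symm f : ↥W₀) : ↥(W.subgroupOf X)) := rfl
    rw [e₀.apply_symm_apply] at this
    show _ = ((f : ↥W) : G)
    rw [this]
    exact (he _).symm

variable [Finite G]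

theorem le_normalizer_of_weaklyClosed (S : Sylow p G) {W : Subgroup G}
    (hW : Cfsg.IsWeaklyClosed W (S : Subgroup G)) :
    (S : Subgroup G) ≤ Subgroup.normalizer (W : Set G) := by
  intro s hs
  have h := hW.2 s (by
    rintro _ ⟨w, hw, rfl⟩
    exact (S : Subgroup G).mul_mem ((S : Subgroup G).mul_mem hs (hW.1 hw)) ((S : Subgroup G).inv_mem hs))
  rw [Subgroup.mem_normalizer_iff]
  intro x
  constructor
  · intro hx; rw [← h]; exact ⟨x, hx, rfl⟩
  · intro hx
    rw [← h] at hx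
    obtain ⟨y, hy, hyx⟩ := hx
    have : x = y := by simpa [MulAut.conj_apply] using hyx.symm
    exact this ▸ hy

/-- A conjugate of `W` inside its normalizer is `W`. -/
theorem mem_normalizer_of_map_le (S : Sylow p G) {W : Subgroup G}
    (hW : Cfsg.IsWeaklyClosed W (S : Subgroup G)) {g : G}
    (hg : W.map (MulAut.conj g).toMonoidHom ≤ Subgroup.normalizer (W : Set G)) :
    g ∈ Subgroup.normalizer (W : Set G) := by
  set N := Subgroup.normalizer (W : Set G) with hN
  have hSN := le_normalizer_of_weaklyClosed S hW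
  set Q := (W.map (MulAut.conj g).toMonoidHom).subgroupOf N with hQ
  have hQp : IsPGroup p Q := ((S.2.to_le hW.1).map _).comap_subtype
  obtain ⟨P, hP⟩ := hQp.exists_le_sylow
  obtain ⟨n, hn⟩ := MulAction.exists_smul_eq N P (S.subtype hSN)
  have hle : W.map (MulAut.conj ((n : G) * g)).toMonoidHom ≤ (S : Subgroup G) := by
    rintro _ ⟨w, hw, rfl⟩
    have h1 : (⟨_, hg ⟨w, hw, rfl⟩⟩ : N) ∈ (P : Subgroup N) := hP ⟨w, hw, rfl⟩
    have h2 : MulAut.conj n (⟨_, hg ⟨w, hw, rfl⟩⟩ : N) ∈ ((S.subtype hSN : Sylow p N) : Subgroup N) := by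
      rw [← hn, Sylow.coe_subgroup_smul]
      exact ⟨_, h1, rfl⟩
    rw [Sylow.coe_subtype, Subgroup.mem_subgroupOf] at h2
    simpa [MulAut.conj_apply, mul_assoc] using h2
  have h := hW.2 _ hle
  have hng : (n : G) * g ∈ N := by
    show (n : G) * g ∈ Subgroup.normalizer (W : Set G)
    refine Subgroup.mem_normalizer_iff.2 fun x => ?_
    constructor
    · intro hx; rw [← h]; exact ⟨x, hx, rfl⟩
    · intro hx
      rw [← h] at hx
      obtain ⟨y, hy, hyx⟩ := hx
      have : x = y := by simpa [MulAut.conj_apply, mul_assoc] using hyx.symm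
      exact this ▸ hy
  simpa using N.mul_mem (N.inv_mem n.2) hng

/-- The homomorphisms of `N(W)` into groups of exponent `p` are invariant under fusion in `S`. -/
theorem hom_invariant (S : Sylow p G) {W : Subgroup G} (hW : Cfsg.IsWeaklyClosed W (S : Subgroup G))
    (hdeg : ∀ x ∈ (S : Subgroup G), Degenerate p W x) {A : Type*} [CommGroup A]
    (hA : ∀ a : A, a ^ p = 1) {N : Subgroup G} (hN : N = Subgroup.normalizer (W : Set G))
    (hSN : (S : Subgroup G) ≤ N) (φ : ↥N →* A) :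
    ∀ x (hx : x ∈ (S : Subgroup G)) (g : G) (hg : g * x * g⁻¹ ∈ (S : Subgroup G)),
      φ ⟨g * x * g⁻¹, hSN hg⟩ = φ ⟨x, hSN hx⟩ := by
  classical
  haveI : Fintype (G ⧸ N) := Fintype.ofFinite _
  set ω₀ : G ⧸ N := ((1 : G) : G ⧸ N) with hω₀
  let rep : G ⧸ N → G := fun ω => if ω = ω₀ then 1 else Quotient.out ω
  have hrep : ∀ ω, ((rep ω : G) : G ⧸ N) = ω := by
    intro ω
    by_cases h : ω = ω₀
    · simp only [rep, if_pos h]; exact h.symm
    · simp only [rep, if_neg h]; exact QuotientGroup.out_eq' ω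
  have hmem : ∀ (u : G) (ω : G ⧸ N), (rep (u • ω))⁻¹ * u * rep ω ∈ N := by
    intro u ω
    rw [mul_assoc, ← QuotientGroup.eq, hrep]
    conv_lhs => rw [← hrep ω]
    rfl

  let c : G → G ⧸ N → A := fun u ω => φ ⟨_, hmem u ω⟩
  have hc : IsCocycle c := by
    intro u v ω
    show φ _ = φ _ * φ _
    rw [← map_mul]
    congr 1
    refine Subtype.ext ?_
    simp only [Subgroup.coe_mul, mul_smul]
    group
  let V : G → A := fun u => ∏ ω, c u ω
  have hV : ∀ u v, V (u * v) = V u * V v := by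
    intro u v
    show ∏ ω, c (u * v) ω = _
    rw [Finset.prod_congr rfl fun ω _ => hc u v ω, Finset.prod_mul_distrib]
    congr 1
    exact Fintype.prod_equiv (MulAction.toPerm v) _ _ fun ω => rfl
  have hVclass : ∀ g x, V (g * x * g⁻¹) = V x := by
    intro g x
    have h1 : V 1 = 1 := by
      have := hV 1 1
      rw [mul_one] at this
      exact mul_eq_left.1 this.symm
    have h2 : V g * V g⁻¹ = 1 := by rw [← hV, mul_inv_cancel, h1]
    rw [hV, hV, mul_comm (V g) (V x), mul_assoc, h2, mul_one]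
  -- main induction
  suffices key : ∀ (n : ℕ) (x : G) (hx : x ∈ (S : Subgroup G)), orderOf x = n → V x = φ ⟨x, hSN hx⟩ by
    intro x hx g hg
    rw [← key _ x hx rfl, ← key _ _ hg rfl, hVclass]
  intro n
  induction n using Nat.strong_induction_on with
  | _ n ih =>
  intro x hx hn
  have hfix : x • ω₀ = ω₀ := by
    rw [hω₀]
    show ((x * 1 : G) : G ⧸ N) = _
    rw [QuotientGroup.eq]
    simpa using N.inv_mem (hSN hx)
  have hbase : c x ω₀ = φ ⟨x, hSN hx⟩ := by
    show φ _ = _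
    congr 1
    refine Subtype.ext ?_
    simp [hfix, rep]
  show ∏ ω, c x ω = _
  rw [Fintype.prod_eq_mul_prod_subtype_ne (fun ω => c x ω) ω₀, hbase]
  refine mul_eq_left.2 ?_
  rcases eq_or_ne x 1 with rfl | hx1
  · refine Finset.prod_eq_one fun ω _ => ?_
    have h := hc 1 1 (ω : G ⧸ N)
    rw [one_mul, one_smul] at h
    exact mul_eq_left.1 h.symm
  set X := W ⊔ Subgroup.zpowers x with hX
  have hXS : X ≤ (S : Subgroup G) := sup_le hW.1 (Subgroup.zpowers_le.2 hx)
  have hXfix : ∀ u ∈ X, u • ω₀ = ω₀ := by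
    intro u hu
    rw [hω₀]
    show ((u * 1 : G) : G ⧸ N) = _
    rw [QuotientGroup.eq]
    simpa using N.inv_mem (hSN (hXS hu))
  letI : MulAction X {ω : G ⧸ N // ω ≠ ω₀} :=
    { smul := fun u ω => ⟨(u : G) • (ω : G ⧸ N), fun e => ω.2 (MulAction.injective (u : G)
        (e.trans (hXfix u u.2).symm))⟩
      one_smul := fun ω => Subtype.ext (one_smul G (ω : G ⧸ N))
      mul_smul := fun u v ω => Subtype.ext (mul_smul (u : G) (v : G) (ω : G ⧸ N)) }
  let c' : X → {ω : G ⧸ N // ω ≠ ω₀} → A := fun u ω => c u ω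
  have hc' : IsCocycle c' := fun u v ω => hc (u : G) (v : G) (ω : G ⧸ N)
  have hWX : W ≤ X := le_sup_left
  haveI : (W.subgroupOf X).Normal :=
    Subgroup.normal_subgroupOf_of_le_normalizer (hXS.trans (hSN.trans hN.le))
  let x' : X := ⟨x, Subgroup.mem_sup_right (Subgroup.mem_zpowers x)⟩
  have hgen : W.subgroupOf X ⊔ Subgroup.zpowers x' = ⊤ := by
    apply Subgroup.map_injective X.subtype_injective
    rw [Subgroup.map_sup, Subgroup.map_subgroupOf_eq_of_le hWX, MonoidHom.map_zpowers,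
      ← MonoidHom.range_eq_map, Subgroup.range_subtype]
    rfl
  refine prod_eq_one_of_moved (c := c') (S.2.to_le hXS) hA hc' (W.subgroupOf X) x' hgen
    (degenerate_subgroup hWX (hdeg x hx)) (fun ω => ?_) fun ω k hk hfix' => ?_
  · -- `W` fixes only the base coset
    by_contra hcon
    push Not at hcon
    refine ω.2 ?_
    refine (hrep (ω : G ⧸ N)).symm.trans (QuotientGroup.eq.2 ?_)
    rw [mul_one]
    refine hN.ge (mem_normalizer_of_map_le S hW ?_)
    rw [← hN]
    rintro _ ⟨w, hw, rfl⟩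
    have h1 : w • (ω : G ⧸ N) = ω := congrArg Subtype.val (hcon ⟨w, hWX hw⟩ hw)
    have h2 := hmem w ω
    rw [h1] at h2
    simpa [MulAut.conj_apply, mul_assoc] using h2
  · -- induction
    have hfix'' : x ^ k • (ω : G ⧸ N) = ω := by
      have := congrArg Subtype.val hfix'
      exact this
    show c ((x' ^ k : X) : G) (ω : G ⧸ N) = 1
    rw [SubgroupClass.coe_pow]
    show φ _ = 1
    set y := x ^ k with hy
    set r := rep (ω : G ⧸ N) with hr
    have hyN : r⁻¹ * y * r ∈ N := by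
      have := hmem y (ω : G ⧸ N)
      rwa [hfix''] at this
    have e : (⟨_, hmem y (ω : G ⧸ N)⟩ : N) = ⟨r⁻¹ * y * r, hyN⟩ := Subtype.ext (by simp [hfix'', hr])
    rw [e]
    -- conjugate into `S` inside `N`
    have hpy : IsPGroup p (Subgroup.zpowers (⟨r⁻¹ * y * r, hyN⟩ : N)) := by
      obtain ⟨j, hj⟩ := S.2 ⟨y, (S : Subgroup G).pow_mem hx k⟩
      have hj' : y ^ p ^ j = 1 := congrArg Subtype.val hj
      refine fun ⟨u, hu⟩ => ⟨j, Subtype.ext ?_⟩
      obtain ⟨i, rfl⟩ := Subgroup.mem_zpowers_iff.1 hu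
      have hq : (⟨r⁻¹ * y * r, hyN⟩ : N) ^ p ^ j = 1 := Subtype.ext (by
        rw [SubgroupClass.coe_pow]
        show (r⁻¹ * y * r) ^ p ^ j = 1
        calc (r⁻¹ * y * r) ^ p ^ j = (r⁻¹ * y * r⁻¹⁻¹) ^ p ^ j := by rw [inv_inv]
          _ = r⁻¹ * y ^ p ^ j * r⁻¹⁻¹ := conj_pow
          _ = 1 := by rw [hj']; group)
      rw [SubgroupClass.coe_pow, ← zpow_natCast, ← _root_.zpow_mul, mul_comm, _root_.zpow_mul,
        zpow_natCast, hq, _root_.one_zpow]
      rfl
    obtain ⟨P, hP⟩ := hpy.exists_le_sylow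
    obtain ⟨m, hm⟩ := MulAction.exists_smul_eq N P (S.subtype hSN)
    have hs : (m : G) * (r⁻¹ * y * r) * (m : G)⁻¹ ∈ (S : Subgroup G) := by
      have h2 : MulAut.conj m (⟨r⁻¹ * y * r, hyN⟩ : N) ∈ ((S.subtype hSN : Sylow p N) : Subgroup N) := by
        rw [← hm, Sylow.coe_subgroup_smul]
        exact ⟨_, hP (Subgroup.mem_zpowers _), rfl⟩
      rwa [Sylow.coe_subtype, Subgroup.mem_subgroupOf] at h2
    have hφm : φ ⟨r⁻¹ * y * r, hyN⟩ = φ ⟨_, hSN hs⟩ := by
      have h3 : (⟨_, hSN hs⟩ : N) = m * ⟨r⁻¹ * y * r, hyN⟩ * m⁻¹ := rfl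
      rw [h3, map_mul, map_mul, map_inv, mul_comm (φ m), mul_inv_cancel_right]
    rw [hφm]
    have hyS : y ∈ (S : Subgroup G) := (S : Subgroup G).pow_mem hx k
    have hlt : orderOf y < n := by
      rw [← hn, hy, orderOf_pow]
      refine Nat.div_lt_self (orderOf_pos x) ?_
      obtain ⟨j, hj⟩ := IsPGroup.iff_orderOf.1 S.2 ⟨x, hx⟩
      rw [Subgroup.orderOf_mk] at hj
      rcases Nat.eq_zero_or_pos j with rfl | hj0
      · exact absurd (orderOf_eq_one_iff.1 (hj.trans (pow_zero p))) hx1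
      · refine lt_of_lt_of_le hp.out.one_lt (Nat.le_of_dvd (Nat.gcd_pos_of_pos_left _ (orderOf_pos x)) ?_)
        exact Nat.dvd_gcd (hj ▸ dvd_pow_self p hj0.ne') hk
    have heq : (m : G) * (r⁻¹ * y * r) * (m : G)⁻¹ = ((m : G) * r⁻¹) * y * ((m : G) * r⁻¹)⁻¹ := by group
    have h1 := ih _ hlt y hyS rfl
    have h2 := ih _ (show orderOf ((m : G) * (r⁻¹ * y * r) * (m : G)⁻¹) < n by
      rw [heq, ← MulAut.conj_apply, MulEquiv.orderOf_eq]; exact hlt) _ hs rfl
    rw [← h2, heq, hVclass, h1]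
    obtain ⟨t, rfl⟩ := hk
    have hpow : (⟨y, hSN hyS⟩ : N) = (⟨x, hSN hx⟩ ^ t) ^ p := by
      refine Subtype.ext ?_
      rw [SubgroupClass.coe_pow, SubgroupClass.coe_pow, ← pow_mul, mul_comm]
    rw [hpow, map_pow, hA]

/-- The transfer theorem. -/
theorem inf_commutator_eq (S : Sylow p G) {W : Subgroup G} (hW : Cfsg.IsWeaklyClosed W (S : Subgroup G))
    (hdeg : ∀ x ∈ (S : Subgroup G), Degenerate p W x) :
    (S : Subgroup G) ⊓ commutator G =
      (S : Subgroup G) ⊓ ⁅Subgroup.normalizer (W : Set G), Subgroup.normalizer (W : Set G)⁆ := by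
  set N := Subgroup.normalizer (W : Set G) with hN
  have hSN : (S : Subgroup G) ≤ N := le_normalizer_of_weaklyClosed S hW
  refine le_antisymm (le_inf inf_le_left ?_) (inf_le_inf_left _ ?_)
  swap
  · rw [commutator_def]
    exact Subgroup.commutator_mono le_top le_top
  let F := Cfsg.groupFusionSystem (S : Subgroup G)
  have hF : F.IsSaturated p := CfsgLib.Fusion.isSaturated_groupFusion (S := S)
  have hT : (S : Subgroup G) = Cfsg.FusionSystem.normalizerIn (S : Subgroup G) W :=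
    (inf_eq_left.2 hSN).symm
  let H := CfsgLib.Fusion.normSys F W hT hW.1
  have hfull : F.IsFullyNormalized W := by
    refine ⟨hW.1, fun Q _ => ?_⟩
    rw [← hT]
    exact Subgroup.card_le_of_le inf_le_left
  have hkey : ∀ (T : Subgroup G) (hT : T = Cfsg.FusionSystem.normalizerIn (S : Subgroup G) W),
      (CfsgLib.Fusion.normSys F W hT hW.1).IsSaturated p := by
    rintro T rfl
    exact CfsgLib.Fusion.isSaturated_normalizerSystem S.2 hF hfull _ fun _ => rfl
  have hH : H.IsSaturated p := hkey _ hT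
  -- generators of the focal subgroups
  have hgenF : ∀ {M : Subgroup G} (g x : G), x ∈ M → g ∈ M → x⁻¹ * (g * x * g⁻¹) ∈ ⁅M, M⁆ := by
    intro M g x hx hg
    have := Subgroup.commutator_mem_commutator (M.inv_mem hx) hg
    simpa [commutatorElement_def, mul_assoc] using this
  have hHle : H.focalSubgroup ≤ ⁅N, N⁆ := by
    refine (Subgroup.closure_le _).2 ?_
    rintro _ ⟨P, φ, x, ⟨-, hP, -, ψ, ⟨-, -, g, hg⟩, hψe, hψW⟩, rfl⟩
    have hWim : W.map (MulAut.conj g).toMonoidHom ≤ W := by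
      rintro _ ⟨w, hw, rfl⟩
      have : ψ ⟨w, (le_sup_right : W ≤ P ⊔ W) hw⟩ ∈ W := hψW.le ⟨_, hw, rfl⟩
      rwa [hg] at this
    have hgN : g ∈ N := mem_normalizer_of_map_le S hW (hWim.trans Subgroup.le_normalizer)
    show (x : G)⁻¹ * φ x ∈ ⁅N, N⁆
    rw [← hψe, hg]
    exact hgenF g x (hSN (hP x.2).1) hgN
  have hSNle : (S : Subgroup G) ⊓ ⁅N, N⁆ ≤ H.focalSubgroup := by
    have h := Subgroup.commutator_inf_eq_focalSubgroup (S.subtype hSN)
    rintro y ⟨hyS, hyN⟩
    rw [← Subgroup.map_subtype_commutator N] at hyN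
    obtain ⟨y', hy', rfl⟩ := hyN
    have h2 : y' ∈ _ ⊓ ((S.subtype hSN : Sylow p N) : Subgroup N) := ⟨hy', hyS⟩
    rw [h, Subgroup.focalSubgroup_def] at h2
    refine (Subgroup.closure_le (K := H.focalSubgroup.comap N.subtype)).2 ?_ h2
    rintro _ ⟨hmem, a, ha, u, rfl⟩
    have hux : (u : G) * (a : G)⁻¹ * (u : G)⁻¹ ∈ (S : Subgroup G) := by
      have := ((S.subtype hSN : Sylow p N) : Subgroup N).mul_mem (Subgroup.inv_mem _ ha) hmem
      have h3 : ((a⁻¹ * ⁅a, u⁆ : N) : G) ∈ (S : Subgroup G) := by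
        rw [Sylow.coe_subtype, Subgroup.mem_subgroupOf] at this
        exact this
      simpa [commutatorElement_def, mul_assoc] using h3
    have hle : Subgroup.zpowers (a : G)⁻¹ ≤ (S : Subgroup G) :=
      Subgroup.zpowers_le.2 (Subgroup.inv_mem _ ha)
    have hmap : ∀ z : (Subgroup.zpowers (a : G)⁻¹ : Subgroup G), (u : G) * z * (u : G)⁻¹ ∈ (S : Subgroup G) := by
      rintro ⟨z, hz⟩
      obtain ⟨n, rfl⟩ := Subgroup.mem_zpowers_iff.1 hz
      show (u : G) * (a : G)⁻¹ ^ n * (u : G)⁻¹ ∈ (S : Subgroup G)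
      rw [← conj_zpow]
      exact Subgroup.zpow_mem _ hux n
    refine Subgroup.subset_closure ⟨Subgroup.zpowers (a : G)⁻¹,
      Cfsg.conjHom (Subgroup.zpowers (a : G)⁻¹) (u : G),
      ⟨(a : G)⁻¹, Subgroup.mem_zpowers _⟩,
      ⟨⟨hle, hmap, (u : G), fun _ => rfl⟩, hle.trans hT.le, fun z => hT.le (hmap z),
        Cfsg.conjHom _ (u : G), ⟨sup_le hle hW.1, ?_, (u : G), fun _ => rfl⟩, fun z => rfl,
        CfsgLib.Fusion.conj_img_eq u.2 le_sup_right⟩, ?_⟩
    · rintro ⟨z, hz⟩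
      have hle' : Subgroup.zpowers (a : G)⁻¹ ⊔ W ≤
          ((S : Subgroup G)).comap (MulAut.conj (u : G)).toMonoidHom := by
        refine sup_le (fun z hz => hmap ⟨z, hz⟩) fun w hw => ?_
        exact hW.1 ((Subgroup.mem_normalizer_iff.1 u.2 w).1 hw)
      exact hle' hz
    · show _ = ((a : G)⁻¹)⁻¹ * ((u : G) * (a : G)⁻¹ * (u : G)⁻¹)
      simp [commutatorElement_def, mul_assoc]
  -- the invariant homomorphism
  let B := Abelianization N
  let A := B ⧸ (powMonoidHom p : B →* B).range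
  have hA : ∀ a : A, a ^ p = 1 := by
    intro a
    induction a using QuotientGroup.induction_on with
    | _ b => exact (QuotientGroup.eq_one_iff _).2 ⟨b, rfl⟩
  let φ : N →* A := (QuotientGroup.mk' _).comp Abelianization.of
  have hinv := hom_invariant S hW hdeg hA hN hSN φ
  have hFle : F.focalSubgroup ≤ (frattini ↥(S : Subgroup G)).map (S : Subgroup G).subtype ⊔ H.focalSubgroup := by
    refine (Subgroup.closure_le _).2 ?_
    rintro _ ⟨P, ψ, x, ⟨hPS, hψS, g, hg⟩, rfl⟩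
    have hxS : (x : G) ∈ (S : Subgroup G) := hPS x.2
    have hgS : g * x * g⁻¹ ∈ (S : Subgroup G) := hg x ▸ hψS x
    rw [hg]
    set y := (x : G)⁻¹ * (g * x * g⁻¹) with hy
    have hyS : y ∈ (S : Subgroup G) := Subgroup.mul_mem _ (Subgroup.inv_mem _ hxS) hgS
    have hφy : φ ⟨y, hSN hyS⟩ = 1 := by
      have : (⟨y, hSN hyS⟩ : N) = (⟨x, hSN hxS⟩ : N)⁻¹ * ⟨g * x * g⁻¹, hSN hgS⟩ := rfl
      rw [this, map_mul, map_inv, hinv _ hxS g hgS, inv_mul_cancel]
    obtain ⟨b, hb⟩ := (QuotientGroup.eq_one_iff _).1 hφy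
    -- replace `b` by an element of `S`
    obtain ⟨n₀, rfl⟩ := QuotientGroup.mk_surjective b
    set yb : B := Abelianization.of (⟨y, hSN hyS⟩ : N) with hyb
    change (Abelianization.of n₀ : B) ^ p = yb at hb
    have hord : IsPGroup p (Subgroup.zpowers (Abelianization.of n₀ : B)) := by
      refine IsPGroup.iff_orderOf.2 fun ⟨u, hu⟩ => ?_
      obtain ⟨j, hj⟩ := IsPGroup.iff_orderOf.1 S.2 ⟨y, hyS⟩
      have h1 : (Abelianization.of n₀ : B) ^ p ^ (j + 1) = 1 := by
        rw [pow_succ', pow_mul, hb, hyb, ← map_pow]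
        have : (⟨y, hSN hyS⟩ : N) ^ p ^ j = 1 := by
          refine Subtype.ext ?_
          have := pow_orderOf_eq_one y
          rw [Subgroup.orderOf_mk] at hj
          rw [SubgroupClass.coe_pow, ← hj]
          exact this
        rw [this, map_one]
      have h2 : orderOf (Abelianization.of n₀ : B) ∣ p ^ (j + 1) := orderOf_dvd_of_pow_eq_one h1
      obtain ⟨i, -, hi⟩ := (Nat.dvd_prime_pow hp.out).1
        ((Subgroup.orderOf_mk u hu) ▸ (orderOf_dvd_of_mem_zpowers hu).trans h2 :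
          orderOf (⟨u, hu⟩ : Subgroup.zpowers (Abelianization.of n₀ : B)) ∣ p ^ (j + 1))
      exact ⟨i, hi⟩
    set im := ((S.subtype hSN : Sylow p N) : Subgroup N).map (Abelianization.of : N →* B) with him
    obtain ⟨Q, hQ⟩ := hord.exists_le_sylow
    have hQim : (Q : Subgroup B) = im := by
      have hS' : ((S.subtype hSN).mapSurjective (f := (Abelianization.of : N →* B))
          QuotientGroup.mk_surjective : Subgroup B) = im := Sylow.coe_mapSurjective _ _
      rw [← hS']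
      obtain ⟨t, ht⟩ := MulAction.exists_smul_eq B Q
        ((S.subtype hSN).mapSurjective (f := (Abelianization.of : N →* B)) QuotientGroup.mk_surjective)
      rw [← ht, Sylow.coe_subgroup_smul]
      ext u
      rw [Subgroup.mem_pointwise_smul_iff_inv_smul_mem]
      simp
    obtain ⟨s, hs, hsn⟩ : (Abelianization.of n₀ : B) ∈ im := hQim ▸ hQ (Subgroup.mem_zpowers _)
    have hsS : (s : G) ∈ (S : Subgroup G) := by
      rwa [Sylow.coe_subtype] at hs
    have h1 : (⟨y, hSN hyS⟩ : N) * (s ^ p)⁻¹ ∈ commutator N := by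
      rw [← Abelianization.ker_of, MonoidHom.mem_ker, map_mul, map_inv, map_pow, hsn, hb, mul_inv_eq_one]
    have h2 : y * ((s : G) ^ p)⁻¹ ∈ H.focalSubgroup := by
      refine hSNle ⟨Subgroup.mul_mem _ hyS (Subgroup.inv_mem _ (Subgroup.pow_mem _ hsS p)), ?_⟩
      rw [← Subgroup.map_subtype_commutator N]
      exact ⟨_, h1, rfl⟩
    have h3 : (s : G) ^ p ∈ (frattini ↥(S : Subgroup G)).map (S : Subgroup G).subtype :=
      ⟨⟨s, hsS⟩ ^ p, CfsgLib.PGroup.pow_mem_frattini S.2 _, rfl⟩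
    have h4 := Subgroup.mul_mem _ (Subgroup.mem_sup_right h2 : _ ∈
      (frattini ↥(S : Subgroup G)).map (S : Subgroup G).subtype ⊔ H.focalSubgroup) (Subgroup.mem_sup_left h3)
    rwa [inv_mul_cancel_right] at h4
  have hsub : H.IsSubsystemOf F := fun _ _ h => h.1
  have hfoc : F.focalSubgroup = H.focalSubgroup := by
    rw [CfsgLib.Fusion.focalSubgroup_eq S.2 hF, CfsgLib.Fusion.focalSubgroup_eq S.2 hH,
      CfsgLib.Fusion.hyperfocalSubgroup_eq_of_frattini S.2 hF hH hsub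
        (le_antisymm (sup_le le_sup_left hFle) (sup_le_sup_left ?_ _))]
    refine Subgroup.closure_mono ?_
    rintro _ ⟨P, ψ, x, hψ, rfl⟩
    exact ⟨P, ψ, x, hψ.1, rfl⟩
  have h1 : (S : Subgroup G) ⊓ commutator G ≤ F.focalSubgroup := by
    rw [inf_comm, Subgroup.commutator_inf_eq_focalSubgroup, Subgroup.focalSubgroup_def,
      Subgroup.closure_le]
    rintro _ ⟨hmem, x, hx, u, rfl⟩
    have hux : u * x⁻¹ * u⁻¹ ∈ (S : Subgroup G) := by
      have := Subgroup.mul_mem _ (Subgroup.inv_mem _ hx) hmem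
      simpa [commutatorElement_def, mul_assoc] using this
    have hle : Subgroup.zpowers x⁻¹ ≤ (S : Subgroup G) :=
      Subgroup.zpowers_le.2 (Subgroup.inv_mem _ hx)
    refine Subgroup.subset_closure ⟨Subgroup.zpowers x⁻¹,
      Cfsg.conjHom (Subgroup.zpowers x⁻¹) u,
      ⟨x⁻¹, Subgroup.mem_zpowers _⟩, ⟨hle, ?_, u, fun _ => rfl⟩, ?_⟩
    · rintro ⟨y, hy⟩
      obtain ⟨n, rfl⟩ := Subgroup.mem_zpowers_iff.1 hy
      show u * x⁻¹ ^ n * u⁻¹ ∈ (S : Subgroup G)
      rw [← conj_zpow]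
      exact Subgroup.zpow_mem _ hux n
    · show _ = (x⁻¹)⁻¹ * (u * x⁻¹ * u⁻¹)
      rw [commutatorElement_def]
      group
  exact h1.trans (hfoc ▸ hHle)

end CfsgLib.LocalEven.WeakTransfer
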